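/-
Transvections as pairs (a, φ) with φ ⬝ᵥ a = 0, and generation of the special linear group by them.
-/
import Mathlib
import Cfsg.Prelude.Def_GeometricClasses

set_option autoImplicit false

namespace Cfsg.Agent.H95

open scoped MatrixGroups Matrix
open Matrix

variable {ι : Type} [Fintype ι] [DecidableEq ι] {F : Type*} [Field F]

/-- The matrix of `x ↦ x + (φ ⬝ᵥ x) • a`. -/
def tvMat (a φ : ι → F) : Matrix ι ι F := 1 + vecMulVec a φ

lemma tvMat_mulVec (a φ x : ι → F) : tvMat a φ *ᵥ x = x + (φ ⬝ᵥ x) • a := by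
  rw [tvMat, add_mulVec, one_mulVec]
  congr 1
  ext i
  simp [mulVec, dotProduct, vecMulVec_apply, Finset.mul_sum, mul_comm, mul_left_comm]

lemma mat_ext {A B : Matrix ι ι F} (h : ∀ x, A *ᵥ x = B *ᵥ x) : A = B := by
  ext i j
  have := congrFun (h (Pi.single j 1)) i
  simpa using this

lemma tvMat_mul_neg (a φ : ι → F) (h : φ ⬝ᵥ a = 0) : tvMat a φ * tvMat a (-φ) = 1 := by
  refine mat_ext fun x => ?_
  rw [← mulVec_mulVec, tvMat_mulVec, tvMat_mulVec, one_mulVec, dotProduct_add, dotProduct_smul, h]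
  simp

lemma tvMat_neg_mul (a φ : ι → F) (h : φ ⬝ᵥ a = 0) : tvMat a (-φ) * tvMat a φ = 1 := by
  simpa using tvMat_mul_neg a (-φ) (by simp [h])

/-- The transvection `x ↦ x + (φ ⬝ᵥ x) • a` as an element of `GL`. -/
def tv (a φ : ι → F) (h : φ ⬝ᵥ a = 0) : GL ι F :=
  ⟨tvMat a φ, tvMat a (-φ), tvMat_mul_neg a φ h, tvMat_neg_mul a φ h⟩

@[simp] lemma tv_val (a φ : ι → F) (h : φ ⬝ᵥ a = 0) : (tv a φ h : Matrix ι ι F) = tvMat a φ := rfl

lemma tv_mulVec (a φ : ι → F) (h : φ ⬝ᵥ a = 0) (x : ι → F) :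
    (tv a φ h : Matrix ι ι F) *ᵥ x = x + (φ ⬝ᵥ x) • a := tvMat_mulVec a φ x

lemma tv_mem_specialLinear (a φ : ι → F) (h : φ ⬝ᵥ a = 0) :
    tv a φ h ∈ Geo.specialLinear ι F := by
  rw [Geo.specialLinear, MonoidHom.mem_ker]
  refine Units.ext ?_
  rw [Matrix.GeneralLinearGroup.val_det_apply, tv_val, tvMat,
    vecMulVec_eq Unit, det_one_add_replicateCol_mul_replicateRow]
  simp [h]

/-- `H` contains the transvection given by the pair `(a, φ)`. -/
def InTv (H : Subgroup (GL ι F)) (a φ : ι → F) : Prop :=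
  ∃ h : φ ⬝ᵥ a = 0, tv a φ h ∈ H

lemma InTv.mono {H K : Subgroup (GL ι F)} (hHK : H ≤ K) {a φ : ι → F} (h : InTv H a φ) :
    InTv K a φ := ⟨h.1, hHK h.2⟩

lemma inTv_zero_right (H : Subgroup (GL ι F)) (a : ι → F) : InTv H a 0 := by
  refine ⟨by simp, ?_⟩
  convert H.one_mem
  exact Units.ext (mat_ext fun x => by rw [tv_mulVec]; simp)

lemma inTv_zero_left (H : Subgroup (GL ι F)) (φ : ι → F) : InTv H 0 φ := by
  refine ⟨by simp, ?_⟩
  convert H.one_mem
  exact Units.ext (mat_ext fun x => by rw [tv_mulVec]; simp)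

lemma InTv.conj {H : Subgroup (GL ι F)} {a φ : ι → F} (h : InTv H a φ) {g : GL ι F} (hg : g ∈ H) :
    InTv H ((g : Matrix ι ι F) *ᵥ a) (φ ᵥ* ((g⁻¹ : GL ι F) : Matrix ι ι F)) := by
  obtain ⟨h0, h1⟩ := h
  refine ⟨?_, ?_⟩
  · rw [← dotProduct_mulVec, mulVec_mulVec, ← Units.val_mul, inv_mul_cancel, Units.val_one,
      one_mulVec, h0]
  · convert H.mul_mem (H.mul_mem hg h1) (H.inv_mem hg) using 1
    refine Units.ext (mat_ext fun x => ?_)
    rw [tv_mulVec, Units.val_mul, Units.val_mul, ← mulVec_mulVec, ← mulVec_mulVec, tv_mulVec,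
      mulVec_add, mulVec_smul, mulVec_mulVec _ (g : Matrix ι ι F), ← Units.val_mul, mul_inv_cancel,
      Units.val_one, one_mulVec, ← dotProduct_mulVec]

lemma InTv.add_right {H : Subgroup (GL ι F)} {a φ ψ : ι → F} (h : InTv H a φ) (h' : InTv H a ψ) :
    InTv H a (φ + ψ) := by
  refine ⟨by simp [add_dotProduct, h.1, h'.1], ?_⟩
  convert H.mul_mem h.2 h'.2 using 1
  refine Units.ext (mat_ext fun x => ?_)
  rw [tv_mulVec, Units.val_mul, ← mulVec_mulVec, tv_mulVec, tv_mulVec, dotProduct_add,
    dotProduct_smul, h.1, add_dotProduct]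
  simp only [smul_zero, add_zero, add_smul]
  abel

lemma InTv.add_left {H : Subgroup (GL ι F)} {a b φ : ι → F} (h : InTv H a φ) (h' : InTv H b φ) :
    InTv H (a + b) φ := by
  refine ⟨by simp [dotProduct_add, h.1, h'.1], ?_⟩
  convert H.mul_mem h.2 h'.2 using 1
  refine Units.ext (mat_ext fun x => ?_)
  rw [tv_mulVec, Units.val_mul, ← mulVec_mulVec, tv_mulVec, tv_mulVec, dotProduct_add,
    dotProduct_smul, h'.1]
  simp only [smul_zero, add_zero, smul_add]
  abel

lemma tvMat_smul_left (c : F) (a φ : ι → F) : tvMat (c • a) φ = tvMat a (c • φ) := by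
  refine mat_ext fun x => ?_
  rw [tvMat_mulVec, tvMat_mulVec, smul_dotProduct, smul_eq_mul, smul_smul, mul_comm c]

lemma inTv_smul_left {H : Subgroup (GL ι F)} {c : F} {a φ : ι → F} (h : InTv H a (c • φ))
    (h0 : φ ⬝ᵥ a = 0) : InTv H (c • a) φ := by
  refine ⟨by simp [h0], ?_⟩
  convert h.2 using 1
  exact Units.ext (tvMat_smul_left c a φ)

lemma single_mulVec_apply (i j : ι) (c : F) (x : ι → F) (k : ι) :
    (Matrix.single i j c *ᵥ x) k = if k = i then c * x j else 0 := by
  rcases eq_or_ne k i with rfl | h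
  · simp [mulVec, dotProduct, Matrix.single_apply]
  · simp [mulVec, dotProduct, Ne.symm h, h]

/-- A subgroup containing every transvection contains the special linear group. -/
lemma specialLinear_le {H : Subgroup (GL ι F)}
    (hall : ∀ a φ : ι → F, φ ⬝ᵥ a = 0 → InTv H a φ) : Geo.specialLinear ι F ≤ H := by
  intro g hg
  have hdet : (g : Matrix ι ι F).det = 1 := by
    rw [Geo.specialLinear, MonoidHom.mem_ker] at hg
    simpa using congrArg Units.val hg
  rcases subsingleton_or_nontrivial ι with hι | hι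
  · convert H.one_mem
    refine Units.ext ?_
    ext i j
    have hd := Matrix.det_eq_elem_of_subsingleton (g : Matrix ι ι F) i
    rw [Subsingleton.elim j i, Units.val_one, one_apply_eq, ← hd, hdet]
  suffices ∀ A : SpecialLinearGroup ι F, SpecialLinearGroup.toGL A ∈ H by
    convert this ⟨(g : Matrix ι ι F), hdet⟩
    exact Units.ext rfl
  have htr : ∀ (i j : ι) (hij : i ≠ j) (c : F),
      SpecialLinearGroup.toGL (SpecialLinearGroup.transvection hij c) ∈ H := by
    intro i j hij c
    obtain ⟨h0, hm⟩ := hall (Pi.single i 1) (Pi.single j c) (by simp [hij])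
    convert hm using 1
    refine Units.ext (mat_ext fun x => ?_)
    rw [tv_mulVec]
    ext k
    simp [SpecialLinearGroup.transvection_coe, add_mulVec, single_mulVec_apply, Pi.single_apply]
  intro A
  refine SpecialLinearGroup.diagonal_transvection_induction'
    (fun B => SpecialLinearGroup.toGL B ∈ H) A ?_ htr ?_
  · intro i j hij c hc
    have key : SpecialLinearGroup.diag2n hij c hc =
        SpecialLinearGroup.transvection hij c * SpecialLinearGroup.transvection hij.symm (-c⁻¹) *
        SpecialLinearGroup.transvection hij c * SpecialLinearGroup.transvection hij (-1) *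
        SpecialLinearGroup.transvection hij.symm 1 * SpecialLinearGroup.transvection hij (-1) := by
      refine SpecialLinearGroup.coeMonoidHom_injective (mat_ext fun x => ?_)
      simp only [map_mul, SpecialLinearGroup.coeMonoidHom_apply, ← mulVec_mulVec,
        SpecialLinearGroup.transvection_coe]
      ext k
      simp only [SpecialLinearGroup.diag2n_coe, mulVec_diagonal, add_mulVec,
        one_mulVec, Pi.add_apply, single_mulVec_apply]
      rcases eq_or_ne k i with rfl | hki
      · simp [hij, hij.symm]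
        field_simp
        ring
      · rcases eq_or_ne k j with rfl | hkj
        · simp [hij, hij.symm]
          field_simp
          ring
        · simp [hki, hkj]
    rw [key]
    simp only [map_mul]
    exact H.mul_mem (H.mul_mem (H.mul_mem (H.mul_mem (H.mul_mem (htr _ _ _ _) (htr _ _ _ _))
      (htr _ _ _ _)) (htr _ _ _ _)) (htr _ _ _ _)) (htr _ _ _ _)
  · intro A B hA hB
    rw [map_mul]
    exact H.mul_mem hA hB

end Cfsg.Agent.H95
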