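/-
Symplectic forms on F^ι as functions: root groups, transvection generation of the isometry group,
transitivity lemmas, swaps of orthogonal non-degenerate subspaces.
-/
import Cfsg.Agent.H95.Trans

set_option autoImplicit false

namespace Cfsg.Agent.H95

open scoped MatrixGroups Matrix
open Matrix Module

variable {ι : Type} [Fintype ι] [DecidableEq ι] {F : Type*} [Field F]

/-- The isometry group of a two-argument form, as in `spGL` and `GU`. -/
abbrev isoGrp (f : (ι → F) → (ι → F) → F) : Subgroup (GL ι F) :=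
  Cfsg.preserving (Cfsg.glToMat ι F) f

lemma mem_isoGrp {f : (ι → F) → (ι → F) → F} {g : GL ι F} :
    g ∈ isoGrp f ↔ ∀ u v, f ((g : Matrix ι ι F) *ᵥ u) ((g : Matrix ι ι F) *ᵥ v) = f u v :=
  Iff.rfl

lemma inv_mulVec_mulVec (g : GL ι F) (x : ι → F) :
    ((g⁻¹ : GL ι F) : Matrix ι ι F) *ᵥ ((g : Matrix ι ι F) *ᵥ x) = x := by
  rw [mulVec_mulVec, ← Units.val_mul, inv_mul_cancel, Units.val_one, one_mulVec]

lemma mulVec_inv_mulVec (g : GL ι F) (x : ι → F) :
    (g : Matrix ι ι F) *ᵥ (((g⁻¹ : GL ι F) : Matrix ι ι F) *ᵥ x) = x := by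
  rw [mulVec_mulVec, ← Units.val_mul, mul_inv_cancel, Units.val_one, one_mulVec]

lemma gl_mulVec_injective (g : GL ι F) :
    Function.Injective fun x => (g : Matrix ι ι F) *ᵥ x :=
  Function.LeftInverse.injective (inv_mulVec_mulVec g)

lemma mul_mulVec (g h : GL ι F) (x : ι → F) :
    ((g * h : GL ι F) : Matrix ι ι F) *ᵥ x = (g : Matrix ι ι F) *ᵥ ((h : Matrix ι ι F) *ᵥ x) := by
  rw [Units.val_mul, mulVec_mulVec]

lemma gl_ext {g h : GL ι F}
    (e : ∀ x, (g : Matrix ι ι F) *ᵥ x = (h : Matrix ι ι F) *ᵥ x) : g = h :=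
  Units.ext (mat_ext e)

/-- Coefficient vector of the linear map `x ↦ f x a`. -/
def dv (f : (ι → F) → (ι → F) → F) (a : ι → F) : ι → F := fun j => f (Pi.single j 1) a

/-- The subspace `U` is non-degenerate for `f` (with scaled witness). -/
def NdOn (f : (ι → F) → (ι → F) → F) (U : Submodule F (ι → F)) : Prop :=
  ∀ x ∈ U, x ≠ 0 → ∃ y ∈ U, f x y = 1

section SympForm

variable {f : (ι → F) → (ι → F) → F} (hf : Geo.IsSymplecticForm f)
include hf

lemma f_add_left (x y v : ι → F) : f (x + y) v = f x v + f y v := hf.bilinear.add_left x y v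
lemma f_add_right (v x y : ι → F) : f v (x + y) = f v x + f v y := hf.bilinear.add_right v x y
lemma f_smul_left (c : F) (x v : ι → F) : f (c • x) v = c * f x v := hf.bilinear.smul_left c x v
lemma f_smul_right (c : F) (v x : ι → F) : f v (c • x) = c * f v x := hf.bilinear.smul_right c v x
lemma f_self (v : ι → F) : f v v = 0 := hf.alternating v
lemma f_zero_left (v : ι → F) : f 0 v = 0 := by
  simpa using f_smul_left hf 0 0 v
lemma f_zero_right (v : ι → F) : f v 0 = 0 := by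
  simpa using f_smul_right hf 0 v 0
lemma f_neg_left (x v : ι → F) : f (-x) v = -f x v := by
  simpa using f_smul_left hf (-1) x v
lemma f_neg_right (v x : ι → F) : f v (-x) = -f v x := by
  simpa using f_smul_right hf (-1) v x
lemma f_sub_left (x y v : ι → F) : f (x - y) v = f x v - f y v := by
  rw [sub_eq_add_neg, f_add_left hf, f_neg_left hf, ← sub_eq_add_neg]
lemma f_sub_right (v x y : ι → F) : f v (x - y) = f v x - f v y := by
  rw [sub_eq_add_neg, f_add_right hf, f_neg_right hf, ← sub_eq_add_neg]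
lemma f_skew (v w : ι → F) : f v w = -f w v := hf.skew v w
lemma f_symm_zero {v w : ι → F} (h : f v w = 0) : f w v = 0 := by
  rw [f_skew hf, h, neg_zero]
lemma f_symm_ne {v w : ι → F} (h : f v w ≠ 0) : f w v ≠ 0 := fun h' => h (f_symm_zero hf h')

lemma dv_dot (a x : ι → F) : dv f a ⬝ᵥ x = f x a := by
  let L : (ι → F) →ₗ[F] F :=
    { toFun := fun y => f y a
      map_add' := fun y z => f_add_left hf y z a
      map_smul' := fun c y => f_smul_left hf c y a }
  calc dv f a ⬝ᵥ x = ∑ j, x j • L (Pi.single j 1) := by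
        simp [dotProduct, dv, L, mul_comm]
    _ = L (∑ j, x j • Pi.single j 1) := by rw [map_sum]; simp only [map_smul]
    _ = L x := by rw [← pi_eq_sum_univ']
    _ = f x a := rfl

lemma dv_smul (c : F) (a : ι → F) : dv f (c • a) = c • dv f a := by
  ext j; simp [dv, f_smul_right hf]

lemma dv_add (a b : ι → F) : dv f (a + b) = dv f a + dv f b := by
  ext j; simp [dv, f_add_right hf]

lemma exists_dv (φ : ι → F) : ∃ c, dv f c = φ := by
  let L : (ι → F) →ₗ[F] (ι → F) :=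
    { toFun := dv f, map_add' := dv_add hf, map_smul' := dv_smul hf }
  have hinj : Function.Injective L := by
    rw [← LinearMap.ker_eq_bot, LinearMap.ker_eq_bot']
    intro c hc
    by_contra h
    obtain ⟨⟨x, hx⟩, -⟩ := hf.nondegenerate c h
    apply hx
    rw [← dv_dot hf c x, show dv f c = 0 from hc, zero_dotProduct]
  exact LinearMap.surjective_of_injective hinj φ

lemma exists_f_eq_one {a : ι → F} (ha : a ≠ 0) : ∃ x, f a x = 1 := by
  obtain ⟨-, x, hx⟩ := hf.nondegenerate a ha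
  exact ⟨(f a x)⁻¹ • x, by rw [f_smul_right hf]; exact inv_mul_cancel₀ hx⟩

lemma exists_common_nonorth {a b : ι → F} (ha : a ≠ 0) (hb : b ≠ 0) :
    ∃ x, f a x ≠ 0 ∧ f b x ≠ 0 := by
  obtain ⟨x, hx⟩ := exists_f_eq_one hf ha
  obtain ⟨y, hy⟩ := exists_f_eq_one hf hb
  by_cases h1 : f b x = 0
  · by_cases h2 : f a y = 0
    · exact ⟨x + y, by rw [f_add_right hf, hx, h2]; simp, by rw [f_add_right hf, hy, h1]; simp⟩
    · exact ⟨y, h2, by rw [hy]; exact one_ne_zero⟩
  · exact ⟨x, by rw [hx]; exact one_ne_zero, h1⟩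

lemma exists_perp_nonorth {a c : ι → F} (hc : ∀ t : F, c ≠ t • a) :
    ∃ z, f a z = 0 ∧ f c z = 1 := by
  have hc0 : c ≠ 0 := by simpa using hc 0
  suffices ∃ z, f a z = 0 ∧ f c z ≠ 0 by
    obtain ⟨z, h1, h2⟩ := this
    exact ⟨(f c z)⁻¹ • z, by rw [f_smul_right hf, h1, mul_zero],
      by rw [f_smul_right hf]; exact inv_mul_cancel₀ h2⟩
  rcases eq_or_ne a 0 with rfl | ha
  · obtain ⟨z, hz⟩ := exists_f_eq_one hf hc0
    exact ⟨z, f_zero_left hf z, by rw [hz]; exact one_ne_zero⟩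
  by_contra hcon
  push Not at hcon
  obtain ⟨w, hw⟩ := exists_f_eq_one hf ha
  apply hc (f c w)
  rw [← sub_eq_zero]
  by_contra hne
  obtain ⟨-, z, hz⟩ := hf.nondegenerate _ hne
  apply hz
  have h1 : f a (z - f a z • w) = 0 := by rw [f_sub_right hf, f_smul_right hf, hw]; ring
  have h2 := hcon _ h1
  rw [f_sub_right hf, f_smul_right hf] at h2
  rw [f_sub_left hf, f_smul_left hf]
  linear_combination h2

lemma vecMul_inv_dv {g : GL ι F} (hg : g ∈ isoGrp f) (a : ι → F) :
    dv f a ᵥ* ((g⁻¹ : GL ι F) : Matrix ι ι F) = dv f ((g : Matrix ι ι F) *ᵥ a) := by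
  refine dotProduct_eq _ _ fun x => ?_
  rw [← dotProduct_mulVec, dv_dot hf, dv_dot hf, ← (mem_isoGrp.1 hg) _ a, mulVec_inv_mulVec]

/-- The symplectic transvection `x ↦ x + l f(x, u) u`. -/
def rt (u : ι → F) (l : F) : GL ι F :=
  tv u (l • dv f u) (by rw [smul_dotProduct, dv_dot hf, f_self hf, smul_zero])

lemma rt_mulVec (u : ι → F) (l : F) (x : ι → F) :
    (rt hf u l : Matrix ι ι F) *ᵥ x = x + (l * f x u) • u := by
  rw [rt, tv_mulVec, smul_dotProduct, dv_dot hf, smul_eq_mul]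

lemma rt_mem_iso (u : ι → F) (l : F) : rt hf u l ∈ isoGrp f := by
  rw [mem_isoGrp]
  intro x y
  rw [rt_mulVec hf, rt_mulVec hf, f_add_left hf, f_add_right hf, f_add_right hf, f_smul_left hf,
    f_smul_left hf, f_smul_right hf, f_smul_right hf, f_self hf, f_skew hf u y]
  ring

lemma rt_mem_sl (u : ι → F) (l : F) : rt hf u l ∈ Geo.specialLinear ι F :=
  tv_mem_specialLinear _ _ _

lemma conj_rt {g : GL ι F} (hg : g ∈ isoGrp f) (u : ι → F) (l : F) :
    g * rt hf u l * g⁻¹ = rt hf ((g : Matrix ι ι F) *ᵥ u) l := by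
  refine gl_ext fun x => ?_
  rw [mul_mulVec, mul_mulVec, rt_mulVec hf, rt_mulVec hf, mulVec_add, mulVec_smul,
    mulVec_inv_mulVec]
  congr 2
  conv_rhs => rw [← mulVec_inv_mulVec g x]
  rw [mem_isoGrp.1 hg]

lemma rt_smul_vec (c : F) (u : ι → F) (l : F) :
    rt hf (c • u) l = rt hf u (l * c ^ 2) := by
  refine gl_ext fun x => ?_
  rw [rt_mulVec hf, rt_mulVec hf, f_smul_right hf, smul_smul]
  congr 2
  ring

/-- `M` contains the whole root group at `u`. -/
def RootIn (M : Subgroup (GL ι F)) (u : ι → F) : Prop := ∀ l : F, rt hf u l ∈ M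

lemma rootIn_zero (M : Subgroup (GL ι F)) : RootIn hf M 0 := by
  intro l
  convert M.one_mem
  refine gl_ext fun x => ?_
  rw [rt_mulVec hf]
  simp

lemma RootIn.smul {M : Subgroup (GL ι F)} {u : ι → F} (h : RootIn hf M u) (c : F) :
    RootIn hf M (c • u) := fun l => by rw [rt_smul_vec hf]; exact h _

lemma RootIn.conj {M : Subgroup (GL ι F)} {u : ι → F} (h : RootIn hf M u) {g : GL ι F}
    (hg : g ∈ M) (hgi : g ∈ isoGrp f) : RootIn hf M ((g : Matrix ι ι F) *ᵥ u) := fun l => by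
  rw [← conj_rt hf hgi]
  exact M.mul_mem (M.mul_mem hg (h l)) (M.inv_mem hg)

lemma RootIn.step {M : Subgroup (GL ι F)} {u v : ι → F} (hu : RootIn hf M u)
    (hv : RootIn hf M v) (l : F) : RootIn hf M (u + (l * f u v) • v) := by
  have := hu.conj hf (hv l) (rt_mem_iso hf v l)
  rwa [rt_mulVec hf] at this

/-- Root transvection taking `w` to `w'` when they are not orthogonal. -/
lemma rt_move {w w' : ι → F} (h : f w w' ≠ 0) :
    (rt hf (w' - w) (f w w')⁻¹ : Matrix ι ι F) *ᵥ w = w' := by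
  rw [rt_mulVec hf, f_sub_right hf, f_self hf, sub_zero, inv_mul_cancel₀ h, one_smul]
  abel

lemma rt_fix {w u : ι → F} (h : f w u = 0) (l : F) : (rt hf u l : Matrix ι ι F) *ᵥ w = w := by
  rw [rt_mulVec hf, h]; simp

lemma ndOn_of_isNondegenerateOn {U : Submodule F (ι → F)} (h : Geo.IsNondegenerateOn f U) :
    NdOn f U := by
  intro x hx hx0
  obtain ⟨-, y, hy, hxy⟩ := h x hx hx0
  exact ⟨(f x y)⁻¹ • y, U.smul_mem _ hy, by rw [f_smul_right hf]; exact inv_mul_cancel₀ hxy⟩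

lemma ndOn_top : NdOn f (⊤ : Submodule F (ι → F)) := fun x _ hx =>
  let ⟨y, hy⟩ := exists_f_eq_one hf hx
  ⟨y, trivial, hy⟩

lemma NdOn.exists_common {U : Submodule F (ι → F)} (hU : NdOn f U) {a b : ι → F} (haU : a ∈ U)
    (hbU : b ∈ U) (ha : a ≠ 0) (hb : b ≠ 0) : ∃ x ∈ U, f a x ≠ 0 ∧ f b x ≠ 0 := by
  obtain ⟨x, hxU, hx⟩ := hU a haU ha
  obtain ⟨y, hyU, hy⟩ := hU b hbU hb
  by_cases h1 : f b x = 0
  · by_cases h2 : f a y = 0
    · exact ⟨x + y, U.add_mem hxU hyU, by rw [f_add_right hf, hx, h2]; simp,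
        by rw [f_add_right hf, hy, h1]; simp⟩
    · exact ⟨y, hyU, h2, by rw [hy]; exact one_ne_zero⟩
  · exact ⟨x, hxU, by rw [hx]; exact one_ne_zero, h1⟩

/-- `K` moves `w` to `w'` using roots in `U`. -/
lemma exists_move {U : Submodule F (ι → F)} (hU : NdOn f U) {w w' : ι → F} (hw : w ∈ U)
    (hw' : w' ∈ U) (h0 : w ≠ 0) (h0' : w' ≠ 0) :
    ∃ g ∈ Subgroup.closure {g | ∃ u ∈ U, ∃ l, g = rt hf u l},
      (g : Matrix ι ι F) *ᵥ w = w' := by
  have key : ∀ a ∈ U, ∀ b ∈ U, f a b ≠ 0 →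
      rt hf (b - a) (f a b)⁻¹ ∈ Subgroup.closure {g | ∃ u ∈ U, ∃ l, g = rt hf u l} :=
    fun a ha b hb _ => Subgroup.subset_closure ⟨b - a, U.sub_mem hb ha, _, rfl⟩
  by_cases h : f w w' = 0
  · obtain ⟨z, hz, h1, h2⟩ := hU.exists_common hf hw hw' h0 h0'
    have h3 : f z w' ≠ 0 := f_symm_ne hf h2
    refine ⟨rt hf (w' - z) (f z w')⁻¹ * rt hf (z - w) (f w z)⁻¹,
      Subgroup.mul_mem _ (key z hz w' hw' h3) (key w hw z hz h1), ?_⟩
    rw [mul_mulVec, rt_move hf h1, rt_move hf h3]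
  · exact ⟨_, key w hw w' hw' h, rt_move hf h⟩

lemma closure_roots_le_iso (U : Submodule F (ι → F)) :
    Subgroup.closure {g | ∃ u ∈ U, ∃ l, g = rt hf u l} ≤ isoGrp f := by
  rw [Subgroup.closure_le]
  rintro _ ⟨u, -, l, rfl⟩
  exact rt_mem_iso hf u l

lemma closure_roots_fix (U : Submodule F (ι → F)) {x : ι → F} (hx : ∀ u ∈ U, f x u = 0)
    {g : GL ι F} (hg : g ∈ Subgroup.closure {g | ∃ u ∈ U, ∃ l, g = rt hf u l}) :
    (g : Matrix ι ι F) *ᵥ x = x := by
  induction hg using Subgroup.closure_induction with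
  | mem g hg => obtain ⟨u, hu, l, rfl⟩ := hg; exact rt_fix hf (hx u hu) l
  | one => simp
  | mul g h _ _ ih1 ih2 => rw [mul_mulVec, ih2, ih1]
  | inv g _ ih => conv_lhs => rw [← ih, inv_mulVec_mulVec]

/-- The subspace of vectors orthogonal to both `e` and `e'`. -/
def perp2 (e e' : ι → F) : Submodule F (ι → F) where
  carrier := {x | f x e = 0 ∧ f x e' = 0}
  add_mem' {a b} ha hb := ⟨by rw [f_add_left hf, ha.1, hb.1, add_zero],
    by rw [f_add_left hf, ha.2, hb.2, add_zero]⟩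
  zero_mem' := ⟨f_zero_left hf e, f_zero_left hf e'⟩
  smul_mem' c a ha := ⟨by rw [f_smul_left hf, ha.1, mul_zero],
    by rw [f_smul_left hf, ha.2, mul_zero]⟩

lemma proj2_perp {e e' : ι → F} (he : f e e' = 1) (x : ι → F) :
    x - (f x e' • e - f x e • e') ∈ perp2 hf e e' := by
  constructor
  · rw [f_sub_left hf, f_sub_left hf, f_smul_left hf, f_smul_left hf, f_self hf, f_skew hf e' e, he]
    ring
  · rw [f_sub_left hf, f_sub_left hf, f_smul_left hf, f_smul_left hf, f_self hf, he]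
    ring

lemma ndOn_inf_perp2 {U : Submodule F (ι → F)} (hU : NdOn f U) {e e' : ι → F} (heU : e ∈ U)
    (heU' : e' ∈ U) (he : f e e' = 1) : NdOn f (U ⊓ perp2 hf e e') := by
  rintro x ⟨hxU, hx⟩ hx0
  obtain ⟨y, hyU, hy⟩ := hU x hxU hx0
  refine ⟨y - (f y e' • e - f y e • e'),
    ⟨U.sub_mem hyU (U.sub_mem (U.smul_mem _ heU) (U.smul_mem _ heU')), proj2_perp hf he y⟩, ?_⟩
  rw [f_sub_right hf, f_sub_right hf, f_smul_right hf, f_smul_right hf, hx.1, hx.2, hy]
  ring

lemma NdOn.perp_lt {U : Submodule F (ι → F)} {e e' : ι → F} (heU : e ∈ U) (he : f e e' = 1) :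
    U ⊓ perp2 hf e e' < U := by
  refine lt_of_le_of_ne inf_le_left fun hEq => ?_
  have : e ∈ U ⊓ perp2 hf e e' := hEq.symm ▸ heU
  exact one_ne_zero (he.symm.trans this.2.2)

/-- Orthogonal projection onto a non-degenerate subspace. -/
lemma exists_proj {V : Submodule F (ι → F)} (hV : NdOn f V) (x : ι → F) :
    ∃ y ∈ V, ∀ u ∈ V, f (x - y) u = 0 := by
  induction V using WellFoundedLT.induction generalizing x with
  | _ V ihV =>
    by_cases hVb : V = ⊥
    · refine ⟨0, V.zero_mem, fun u hu => ?_⟩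
      rw [hVb, Submodule.mem_bot] at hu
      rw [hu, f_zero_right hf]
    obtain ⟨a, haV, ha0⟩ := V.ne_bot_iff.1 hVb
    obtain ⟨a', haV', ha⟩ := hV a haV ha0
    set p := f x a' • a - f x a • a' with hp
    obtain ⟨y, hy, hyo⟩ := ihV _ (NdOn.perp_lt hf haV ha) (ndOn_inf_perp2 hf hV haV haV' ha) (x - p)
    refine ⟨p + y, V.add_mem (V.sub_mem (V.smul_mem _ haV) (V.smul_mem _ haV')) hy.1,
      fun u hu => ?_⟩
    set q := f u a' • a - f u a • a' with hq
    have hu1 : u - q ∈ V ⊓ perp2 hf a a' :=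
      ⟨V.sub_mem hu (V.sub_mem (V.smul_mem _ haV) (V.smul_mem _ haV')), proj2_perp hf ha u⟩
    have hxp : x - p ∈ perp2 hf a a' := proj2_perp hf ha x
    have h1 := hyo _ hu1
    have h2 : f (x - (p + y)) q = 0 := by
      rw [hq, f_sub_right hf, f_smul_right hf, f_smul_right hf, ← sub_sub,
        f_sub_left hf (x - p) y, f_sub_left hf (x - p) y, hxp.1, hxp.2, hy.2.1, hy.2.2]
      ring
    rw [← sub_sub, ← sub_add_cancel u q, f_add_right hf, h1, zero_add, sub_sub]
    exact h2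

/-- Isometries fixing everything orthogonal to a non-degenerate `U` are generated by roots in `U`. -/
lemma mem_closure_roots (U : Submodule F (ι → F)) (hU : NdOn f U) (g : GL ι F)
    (hg : g ∈ isoGrp f)
    (hfix : ∀ x, (∀ u ∈ U, f x u = 0) → (g : Matrix ι ι F) *ᵥ x = x) :
    g ∈ Subgroup.closure {g | ∃ u ∈ U, ∃ l, g = rt hf u l} := by
  induction U using WellFoundedLT.induction generalizing g with
  | _ U ih =>
    set K := Subgroup.closure {g | ∃ u ∈ U, ∃ l, g = rt hf u l} with hK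
    by_cases hUb : U = ⊥
    · convert K.one_mem
      refine gl_ext fun x => ?_
      rw [Units.val_one, one_mulVec]
      refine hfix x fun u hu => ?_
      rw [hUb, Submodule.mem_bot] at hu
      rw [hu, f_zero_right hf]
    obtain ⟨e, heU, he0⟩ := U.ne_bot_iff.1 hUb
    obtain ⟨e', heU', he⟩ := hU e heU he0
    -- U is invariant under isometries fixing its orthogonal space
    have hUinv : ∀ h : GL ι F, h ∈ isoGrp f →
        (∀ x, (∀ u ∈ U, f x u = 0) → (h : Matrix ι ι F) *ᵥ x = x) →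
        ∀ u ∈ U, (h : Matrix ι ι F) *ᵥ u ∈ U := by
      intro h hh hhf
      intro u hu
      obtain ⟨y, hy, hyo⟩ := exists_proj hf hU ((h : Matrix ι ι F) *ᵥ u)
      suffices hz : (h : Matrix ι ι F) *ᵥ u - y = 0 by
        rw [sub_eq_zero] at hz; rw [hz]; exact hy
      by_contra hz
      obtain ⟨⟨w, hw⟩, -⟩ := hf.nondegenerate _ hz
      obtain ⟨w1, hw1, hw1o⟩ := exists_proj hf hU w
      apply hw
      have e1 : f w1 ((h : Matrix ι ι F) *ᵥ u - y) = 0 := f_symm_zero hf (hyo w1 hw1)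
      have e2 : f (w - w1) ((h : Matrix ι ι F) *ᵥ u) = 0 := by
        conv_lhs => rw [← hhf _ hw1o]
        rw [mem_isoGrp.1 hh, hw1o u hu]
      calc f w ((h : Matrix ι ι F) *ᵥ u - y)
          = f (w - w1) ((h : Matrix ι ι F) *ᵥ u - y) + f w1 ((h : Matrix ι ι F) *ᵥ u - y) := by
            rw [← f_add_left hf, sub_add_cancel]
        _ = 0 := by rw [e1, f_sub_right hf, e2, hw1o y hy]; ring
    have hge : (g : Matrix ι ι F) *ᵥ e ∈ U := hUinv g hg hfix e heU
    have hge0 : (g : Matrix ι ι F) *ᵥ e ≠ 0 := by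
      intro h
      apply he0
      rw [← inv_mulVec_mulVec g e, h, mulVec_zero]
    obtain ⟨k, hk, hke⟩ := exists_move hf hU hge heU hge0 he0
    have hkK : k ∈ K := hk
    set g₁ := k * g with hg₁
    have hg₁i : g₁ ∈ isoGrp f := Subgroup.mul_mem _ (closure_roots_le_iso hf U hk) hg
    have hg₁f : ∀ x, (∀ u ∈ U, f x u = 0) → (g₁ : Matrix ι ι F) *ᵥ x = x := fun x hx => by
      rw [hg₁, mul_mulVec, hfix x hx, closure_roots_fix hf U hx hk]
    have hg₁e : (g₁ : Matrix ι ι F) *ᵥ e = e := by rw [hg₁, mul_mulVec, hke]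
    set w := (g₁ : Matrix ι ι F) *ᵥ e' with hw
    have hwU : w ∈ U := hUinv g₁ hg₁i hg₁f e' heU'
    have hew : f e w = 1 := by
      conv_lhs => rw [← hg₁e]
      rw [hw, mem_isoGrp.1 hg₁i, he]
    -- move w back to e' fixing e
    obtain ⟨k2, hk2, hk2e, hk2w⟩ : ∃ k2 ∈ K,
        (k2 : Matrix ι ι F) *ᵥ e = e ∧ (k2 : Matrix ι ι F) *ᵥ w = e' := by
      by_cases hww : f w e' = 0
      · have h1 : f w (e + e') ≠ 0 := by
          rw [f_add_right hf, hww, f_skew hf w e, hew]; simp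
        have h2 : f (e + e') e' ≠ 0 := by rw [f_add_left hf, he, f_self hf]; simp
        refine ⟨rt hf (e' - (e + e')) (f (e + e') e')⁻¹ * rt hf (e + e' - w) (f w (e + e'))⁻¹,
          K.mul_mem (Subgroup.subset_closure ⟨_, U.sub_mem heU' (U.add_mem heU heU'), _, rfl⟩)
            (Subgroup.subset_closure ⟨_, U.sub_mem (U.add_mem heU heU') hwU, _, rfl⟩), ?_, ?_⟩
        · have a1 : f e (e + e' - w) = 0 := by
            rw [f_sub_right hf, f_add_right hf, f_self hf, hew, he]; ring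
          have a2 : f e (e' - (e + e')) = 0 := by
            rw [f_sub_right hf, f_add_right hf, f_self hf, he]; ring
          rw [mul_mulVec, rt_fix hf a1, rt_fix hf a2]
        · rw [mul_mulVec, rt_move hf h1, rt_move hf h2]
      · exact ⟨rt hf (e' - w) (f w e')⁻¹, Subgroup.subset_closure ⟨_, U.sub_mem heU' hwU, _, rfl⟩,
          rt_fix hf (by rw [f_sub_right hf, he, hew, sub_self]) _, rt_move hf hww⟩
    set g₂ := k2 * g₁ with hg₂
    have hg₂i : g₂ ∈ isoGrp f := Subgroup.mul_mem _ (closure_roots_le_iso hf U hk2) hg₁i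
    have hlt : U ⊓ perp2 hf e e' < U := NdOn.perp_lt hf heU he
    have h2 := ih _ hlt (ndOn_inf_perp2 hf hU heU heU' he) g₂ hg₂i (fun x hx => by
      set p := f x e' • e - f x e • e' with hp
      have hgp : (g₂ : Matrix ι ι F) *ᵥ p = p := by
        rw [hp, mulVec_sub, mulVec_smul, mulVec_smul, hg₂, mul_mulVec k2 g₁, mul_mulVec k2 g₁,
          hg₁e, hk2e, ← hw, hk2w]
      have hxp : ∀ u ∈ U, f (x - p) u = 0 := by
        intro u hu
        have hxp' : x - p ∈ perp2 hf e e' := proj2_perp hf he x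
        set q := f u e' • e - f u e • e' with hq
        have hu1 : u - q ∈ U ⊓ perp2 hf e e' :=
          ⟨U.sub_mem hu (U.sub_mem (U.smul_mem _ heU) (U.smul_mem _ heU')), proj2_perp hf he u⟩
        have a1 : f p (u - q) = 0 := by
          rw [hp, f_sub_left hf, f_smul_left hf, f_smul_left hf, f_symm_zero hf hu1.2.1,
            f_symm_zero hf hu1.2.2]
          ring
        rw [← sub_add_cancel u q, f_add_right hf, f_sub_left hf, hx _ hu1, a1, hq, f_sub_right hf,
          f_smul_right hf, f_smul_right hf, hxp'.1, hxp'.2]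
        ring
      have hgx : (g₂ : Matrix ι ι F) *ᵥ (x - p) = x - p := by
        rw [hg₂, mul_mulVec, hg₁f _ hxp, closure_roots_fix hf U hxp hk2]
      rw [← sub_add_cancel x p, mulVec_add, hgx, hgp])
    have hle : Subgroup.closure {g | ∃ u ∈ U ⊓ perp2 hf e e', ∃ l, g = rt hf u l} ≤ K :=
      Subgroup.closure_mono fun x ⟨u, hu, l, hl⟩ => ⟨u, hu.1, l, hl⟩
    have hgK : k2 * (k * g) ∈ K := hle h2
    exact (K.mul_mem_cancel_left hkK).1 ((K.mul_mem_cancel_left hk2).1 hgK)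

/-- The symplectic group is generated by its root groups. -/
lemma iso_le_of_roots {M : Subgroup (GL ι F)} (h : ∀ u, RootIn hf M u) : isoGrp f ≤ M := by
  intro g hg
  have := mem_closure_roots hf ⊤ (ndOn_top hf) g hg (fun x hx => by
    by_cases hx0 : x = 0
    · simp [hx0]
    · obtain ⟨y, hy⟩ := exists_f_eq_one hf hx0
      exact absurd (hx y trivial) (by rw [hy]; exact one_ne_zero))
  refine (Subgroup.closure_le M).2 ?_ this
  rintro _ ⟨u, -, l, rfl⟩
  exact h u l

end SympForm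

lemma sympForm_eq (m : ℕ) (u v : Fin m ⊕ Fin m → F) :
    Cfsg.sympForm m F u v = ∑ i, (u (.inr i) * v (.inl i) - u (.inl i) * v (.inr i)) := by
  rw [Cfsg.sympForm, Matrix.J, Finset.sum_sub_distrib]
  simp [dotProduct, fromBlocks_mulVec, Fintype.sum_sum_type, neg_mulVec]
  ring

lemma isSymplecticForm_sympForm (m : ℕ) : Geo.IsSymplecticForm (Cfsg.sympForm m F) := by
  have hsk : ∀ u v : Fin m ⊕ Fin m → F, Cfsg.sympForm m F u v = -Cfsg.sympForm m F v u := by
    intro u v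
    rw [sympForm_eq, sympForm_eq, ← Finset.sum_neg_distrib]
    exact Finset.sum_congr rfl fun i _ => by ring
  refine ⟨⟨?_, ?_, ?_, ?_⟩, hsk, ?_, ?_⟩
  · intro x y v; simp only [Cfsg.sympForm, add_dotProduct]
  · intro c x v; simp only [Cfsg.sympForm, smul_dotProduct, smul_eq_mul]
  · intro v x y; simp only [Cfsg.sympForm, mulVec_add, dotProduct_add]
  · intro c v x; simp only [Cfsg.sympForm, mulVec_smul, dotProduct_smul, smul_eq_mul]
  · intro v; rw [sympForm_eq]; exact Finset.sum_eq_zero fun i _ => by ring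
  · intro v hv
    obtain ⟨j, hj⟩ : ∃ j, v j ≠ 0 := by
      by_contra h; push Not at h; exact hv (funext h)
    obtain ⟨x, hx⟩ : ∃ x, Cfsg.sympForm m F v x ≠ 0 := by
      rcases j with i | i
      · exact ⟨Pi.single (.inr i) 1, by simp [sympForm_eq, Pi.single_apply, hj]⟩
      · exact ⟨Pi.single (.inl i) 1, by simp [sympForm_eq, Pi.single_apply, hj]⟩
    exact ⟨⟨x, fun h => hx (by rw [hsk, h, neg_zero])⟩, x, hx⟩

lemma spGL_eq_isoGrp (m : ℕ) : Cfsg.spGL m F = isoGrp (Cfsg.sympForm m F) := rfl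

end Cfsg.Agent.H95
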