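/-
Stabilisers of subspaces inside the special linear group.
-/
import Cfsg.Agent.H95.Symp

set_option autoImplicit false

namespace Cfsg.Agent.H95

open scoped MatrixGroups Matrix
open Matrix

variable {ι : Type} [Fintype ι] [DecidableEq ι] {F : Type*} [Field F]

lemma mem_subspaceStabilizer {W : Submodule F (ι → F)} {g : GL ι F} :
    g ∈ Geo.subspaceStabilizer W ↔ ∀ v, v ∈ W ↔ (g : Matrix ι ι F) *ᵥ v ∈ W :=
  Iff.rfl

lemma mem_stab_of_forward {W : Submodule F (ι → F)} {g : GL ι F}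
    (h : ∀ v ∈ W, (g : Matrix ι ι F) *ᵥ v ∈ W) : g ∈ Geo.subspaceStabilizer W := by
  have hmap : W.map (Matrix.toLin' (g : Matrix ι ι F)) = W := by
    refine Submodule.eq_of_le_of_finrank_eq ?_ ?_
    · rintro _ ⟨v, hv, rfl⟩
      simpa using h v hv
    · refine LinearEquiv.finrank_eq (Submodule.equivMapOfInjective _ ?_ W).symm
      intro x y hxy
      simp only [Matrix.toLin'_apply] at hxy
      exact gl_mulVec_injective g hxy
  intro v
  refine ⟨h v, fun hv => ?_⟩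
  have hv' : (g : Matrix ι ι F) *ᵥ v ∈ W.map (Matrix.toLin' (g : Matrix ι ι F)) := hmap.symm ▸ hv
  obtain ⟨w, hw, hwv⟩ := hv'
  have : w = v := gl_mulVec_injective g ((Matrix.toLin'_apply _ w).symm.trans hwv)
  rwa [← this]

lemma tv_mem_stab_left {W : Submodule F (ι → F)} {a φ : ι → F} (h : φ ⬝ᵥ a = 0) (ha : a ∈ W) :
    tv a φ h ∈ Geo.subspaceStabilizer W :=
  mem_stab_of_forward fun v hv => by rw [tv_mulVec]; exact W.add_mem hv (W.smul_mem _ ha)

lemma tv_mem_stab_right {W : Submodule F (ι → F)} {a φ : ι → F} (h : φ ⬝ᵥ a = 0)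
    (hφ : ∀ v ∈ W, φ ⬝ᵥ v = 0) : tv a φ h ∈ Geo.subspaceStabilizer W :=
  mem_stab_of_forward fun v hv => by rw [tv_mulVec, hφ v hv]; simpa using hv

/-- A vector killing `W` and `φ`-normalised at `v ∉ W`. -/
lemma exists_covec (W : Submodule F (ι → F)) {v : ι → F} (hv : v ∉ W) :
    ∃ φ : ι → F, φ ⬝ᵥ v = 1 ∧ ∀ w ∈ W, φ ⬝ᵥ w = 0 := by
  obtain ⟨L, hL1, hL2⟩ := Submodule.exists_dual_map_eq_bot_of_notMem hv inferInstance
  refine ⟨fun j => (L v)⁻¹ * L (Pi.single j 1), ?_, ?_⟩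
  all_goals
    have key : ∀ x, (fun j => (L v)⁻¹ * L (Pi.single j 1)) ⬝ᵥ x = (L v)⁻¹ * L x := by
      intro x
      conv_rhs => rw [pi_eq_sum_univ' x, map_sum, Finset.mul_sum]
      simp [dotProduct, mul_comm, mul_assoc]
  · rw [key, inv_mul_cancel₀ hL1]
  · intro w hw
    have : L w = 0 := by
      rw [← Submodule.mem_bot F (x := L w), ← hL2]
      exact Submodule.mem_map_of_mem hw
    rw [key, this, mul_zero]

end Cfsg.Agent.H95
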