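/-
Direct sum decompositions of F^ι: adapted bases, coordinates, number of non-zero components.
-/
import Cfsg.Agent.H95.SubspaceStab

set_option autoImplicit false

namespace Cfsg.Agent.H95

open scoped MatrixGroups Matrix DirectSum
open Matrix Module

variable {ι : Type} [Fintype ι] [DecidableEq ι] {F : Type*} [Field F]

/-- A basis adapted to a decomposition. -/
noncomputable def blockBasis {t m : ℕ} (D : Fin t → Submodule F (ι → F))
    (hD : Geo.IsMDecomposition m D) : Basis (Σ _i : Fin t, Fin m) F (ι → F) :=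
  ((DirectSum.isInternal_submodule_iff_iSupIndep_and_iSup_eq_top D).2
    ⟨hD.indep, hD.iSup_eq_top⟩).collectedBasis
    (fun i => Module.finBasisOfFinrankEq F (D i) (hD.finrank_eq i))

variable {t m : ℕ} {D : Fin t → Submodule F (ι → F)} (hD : Geo.IsMDecomposition m D)

lemma blockBasis_mem (p : Σ _i : Fin t, Fin m) : blockBasis D hD p ∈ D p.1 :=
  DirectSum.IsInternal.collectedBasis_mem _ _ p

lemma blockBasis_repr_ne {i : Fin t} {x : ι → F} (hx : x ∈ D i) (p : Σ _i : Fin t, Fin m)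
    (hp : p.1 ≠ i) : (blockBasis D hD).repr x p = 0 := by
  obtain ⟨j, k⟩ := p
  exact DirectSum.IsInternal.collectedBasis_repr_of_mem_ne _ _ (Ne.symm hp) hx

/-- Coordinates in the adapted basis. -/
noncomputable def crd (x : ι → F) (p : Σ _i : Fin t, Fin m) : F := (blockBasis D hD).repr x p

/-- The coordinate functional as a vector. -/
noncomputable def crdVec (p : Σ _i : Fin t, Fin m) : ι → F :=
  fun j => crd hD (Pi.single j 1) p

lemma crd_add (x y : ι → F) (p : Σ _i : Fin t, Fin m) :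
    crd hD (x + y) p = crd hD x p + crd hD y p := by simp [crd]

lemma crd_smul (c : F) (x : ι → F) (p : Σ _i : Fin t, Fin m) :
    crd hD (c • x) p = c * crd hD x p := by simp [crd]

lemma crd_sum {κ : Type*} (s : Finset κ) (x : κ → ι → F) (p : Σ _i : Fin t, Fin m) :
    crd hD (∑ i ∈ s, x i) p = ∑ i ∈ s, crd hD (x i) p := by simp [crd]

lemma crdVec_dot (p : Σ _i : Fin t, Fin m) (x : ι → F) : crdVec hD p ⬝ᵥ x = crd hD x p := by
  conv_rhs => rw [pi_eq_sum_univ' x, crd_sum]
  exact Finset.sum_congr rfl fun j _ => by rw [crd_smul, crdVec, mul_comm]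

lemma crd_basis (p q : Σ _i : Fin t, Fin m) :
    crd hD (blockBasis D hD q) p = if q = p then 1 else 0 := by
  rw [crd, Basis.repr_self, Finsupp.single_apply]

/-- The component in the `i`-th member. -/
noncomputable def blockComp (x : ι → F) (i : Fin t) : ι → F :=
  ∑ j, crd hD x ⟨i, j⟩ • blockBasis D hD ⟨i, j⟩

lemma blockComp_mem (x : ι → F) (i : Fin t) : blockComp hD x i ∈ D i :=
  (D i).sum_mem fun j _ => (D i).smul_mem _ (blockBasis_mem hD ⟨i, j⟩)

lemma sum_blockComp (x : ι → F) : ∑ i, blockComp hD x i = x := by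
  conv_rhs => rw [← (blockBasis D hD).sum_repr x]
  rw [Fintype.sum_sigma]
  rfl

lemma eq_zero_of_crd {i : Fin t} {x : ι → F} (hx : x ∈ D i) (h : ∀ j, crd hD x ⟨i, j⟩ = 0) :
    x = 0 := by
  refine (blockBasis D hD).repr.map_eq_zero_iff.1 (Finsupp.ext ?_)
  rintro ⟨k, j⟩
  rcases eq_or_ne k i with rfl | hk
  · exact h j
  · exact blockBasis_repr_ne hD hx ⟨k, j⟩ hk

/-- The number of non-zero components. -/
noncomputable def nzCount (x : ι → F) : ℕ :=
  haveI := Classical.decPred fun i : Fin t => ∃ j, crd hD x ⟨i, j⟩ ≠ 0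
  (Finset.univ.filter fun i : Fin t => ∃ j, crd hD x ⟨i, j⟩ ≠ 0).card

lemma nzCount_mulVec {g : GL ι F} {σ : Equiv.Perm (Fin t)}
    (hσ : ∀ i, ∀ x ∈ D i, (g : Matrix ι ι F) *ᵥ x ∈ D (σ i)) (x : ι → F) :
    nzCount hD ((g : Matrix ι ι F) *ᵥ x) = nzCount hD x := by
  classical
  have key : ∀ i j, crd hD ((g : Matrix ι ι F) *ᵥ x) ⟨σ i, j⟩ =
      crd hD ((g : Matrix ι ι F) *ᵥ blockComp hD x i) ⟨σ i, j⟩ := by
    intro i j
    conv_lhs => rw [← sum_blockComp hD x, Matrix.mulVec_sum, crd_sum]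
    refine Finset.sum_eq_single i (fun k _ hk => ?_) fun h => absurd (Finset.mem_univ i) h
    exact blockBasis_repr_ne hD (hσ k _ (blockComp_mem hD x k)) ⟨σ i, j⟩
      (σ.injective.ne (Ne.symm hk))
  have key2 : ∀ i, (∃ j, crd hD x ⟨i, j⟩ ≠ 0) ↔
      ∃ j, crd hD ((g : Matrix ι ι F) *ᵥ x) ⟨σ i, j⟩ ≠ 0 := by
    intro i
    constructor
    · rintro ⟨j, hj⟩
      by_contra hcon
      push Not at hcon
      have h0 := eq_zero_of_crd hD (hσ i _ (blockComp_mem hD x i)) fun j => by
        rw [← key]; exact hcon j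
      have h1 : blockComp hD x i = 0 := by
        rw [← inv_mulVec_mulVec g (blockComp hD x i), h0, mulVec_zero]
      refine hj ?_
      have h2 : crd hD (blockComp hD x i) ⟨i, j⟩ = 0 := by rw [h1]; simp [crd]
      rw [blockComp, crd_sum] at h2
      simpa [crd_smul, crd_basis] using h2
    · rintro ⟨j, hj⟩
      by_contra hcon
      push Not at hcon
      refine hj ?_
      rw [key, show blockComp hD x i = 0 from Finset.sum_eq_zero fun j _ => by
        rw [hcon j, zero_smul], mulVec_zero]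
      simp [crd]
  unfold nzCount
  refine Finset.card_bij' (fun i _ => σ.symm i) (fun i _ => σ i) ?_ ?_ ?_ ?_
  · intro i hi
    simp only [Finset.mem_filter, Finset.mem_univ, true_and] at hi ⊢
    exact (key2 _).2 (by simpa using hi)
  · intro i hi
    simp only [Finset.mem_filter, Finset.mem_univ, true_and] at hi ⊢
    exact (key2 _).1 hi
  · intro i _; simp
  · intro i _; simp

/-- The subgroup of matrices preserving a function on vectors. -/
def fixFun {β : Type*} (Q : (ι → F) → β) : Subgroup (GL ι F) where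
  carrier := {g | ∀ x, Q ((g : Matrix ι ι F) *ᵥ x) = Q x}
  mul_mem' {a b} ha hb x := by rw [mul_mulVec, ha, hb]
  one_mem' x := by simp
  inv_mem' {a} ha x := by rw [← ha, mulVec_inv_mulVec]

lemma mem_decompositionStabilizer_iff {g : GL ι F} :
    g ∈ Geo.decompositionStabilizer D → ∃ σ : Equiv.Perm (Fin t),
      ∀ i, ∀ x ∈ D i, (g : Matrix ι ι F) *ᵥ x ∈ D (σ i) := by
  rintro ⟨σ, hσ⟩
  exact ⟨σ, fun i x hx => hσ i ▸ ⟨x, hx, by simp⟩⟩

/-- An element with an image of a member having components in two members is not in the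
stabiliser. -/
lemma not_mem_decompositionStabilizer {g : GL ι F} {i a b : Fin t} {x : ι → F} (hx : x ∈ D i)
    (hab : a ≠ b) {ja jb : Fin m} (ha : crd hD ((g : Matrix ι ι F) *ᵥ x) ⟨a, ja⟩ ≠ 0)
    (hb : crd hD ((g : Matrix ι ι F) *ᵥ x) ⟨b, jb⟩ ≠ 0) :
    g ∉ Geo.decompositionStabilizer D := by
  intro hg
  obtain ⟨σ, hσ⟩ := mem_decompositionStabilizer_iff hg
  have h := hσ i x hx
  rcases eq_or_ne a (σ i) with rfl | hne
  · exact hb (blockBasis_repr_ne hD h ⟨b, jb⟩ hab.symm)
  · exact ha (blockBasis_repr_ne hD h ⟨a, ja⟩ hne)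

end Cfsg.Agent.H95
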