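import Cfsg.Agent.H95.PermIso
import Cfsg.Agent.H92.LeechFrames
import Cfsg.Agent.Golay.Crosses

/-!
A pointwise stabiliser in Co0 as the permutation group it induces on a certified orbit.
-/

set_option autoImplicit false

namespace Cfsg.Agent.H95.LeechPermIso

open Cfsg Cfsg.Agent.Golay Cfsg.Agent.H92.LeechOrbit
open scoped Pointwise

variable {C : Cert}

/-- An element of the fixer induces a permutation on the listed vectors. -/
def Induces (C : Cert) (g : fixer C) (σ : Equiv.Perm (Fin C.N)) : Prop :=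
  ∀ i : Fin C.N, (g : Co0) • vecAt C i = vecAt C (σ i)

theorem vecAt_coe (hok : certOK C = true) (i : Fin C.N) : (vecAt C i).1 = dec (C.code i) := by
  obtain ⟨v, hv, -⟩ := (cert_spec hok).1 i i.2
  rw [vecAt, dif_pos (hv ▸ v.2)]

theorem vecAt_inj (hok : certOK C = true) : Function.Injective fun i : Fin C.N => vecAt C i := by
  intro i j h
  have h' := congrArg Subtype.val h
  simp only [vecAt_coe hok] at h'
  exact Fin.ext ((cert_spec hok).2 i.2 j.2 (dec_injOn_of (code_lt C i) (code_lt C j) h'))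

theorem word_mem (hok : certOK C = true) {w : List Atom} (hw : w ∈ C.gens) :
    wordEl w ∈ fixer C ∧ w.all atomOK = true := by
  simp only [certOK, Bool.and_eq_true, List.all_eq_true] at hok
  obtain ⟨⟨⟨-, hgens⟩, -⟩, -⟩ := hok
  have hall : w.all atomOK = true := List.all_eq_true.2 (hgens w hw).1
  refine ⟨fun v hv => ?_, hall⟩
  obtain ⟨r, hr, hvr⟩ := hv
  exact Subtype.ext ((chk_sound hall ((hgens w hw).2 r hr) hvr).trans hvr.symm)

theorem fixer_iso (hok : certOK C = true) (P : Subgroup (Equiv.Perm (Fin C.N)))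
    {s : Set (Equiv.Perm (Fin C.N))} (hP : P ≤ Subgroup.closure s)
    (hs : ∀ σ ∈ s, ∃ w ∈ C.gens, ∀ i : Fin C.N, chk w (C.code i) (C.code (σ i)) = true)
    (hcard : Nat.card (fixer C) ≤ Nat.card P) : Nonempty (fixer C ≃* P) := by
  have := finite_co0
  obtain ⟨e⟩ := PermIso.quotient_iso (⊥ : Subgroup (fixer C)) (Induces C)
    (fun i => one_smul _ _)
    (fun g h σ τ hg hh i => by rw [Subgroup.coe_mul, mul_smul, hh i, hg (τ i)]; rfl)
    (fun g σ τ hg hg' => Equiv.ext fun i => vecAt_inj hok ((hg i).symm.trans (hg' i)))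
    P hP
    (fun σ hσ => by
      obtain ⟨w, hw, hc⟩ := hs σ hσ
      obtain ⟨hm, hall⟩ := word_mem hok hw
      refine ⟨⟨wordEl w, hm⟩, fun i => Subtype.ext ?_⟩
      rw [vecAt_coe hok (σ i)]
      exact chk_sound hall (hc i) (vecAt_coe hok i))
    (fun z hz i => by rw [Subgroup.mem_bot.1 hz]; exact one_smul _ _)
    (by rwa [Subgroup.index_bot])
  exact ⟨QuotientGroup.quotientBot.symm.trans e⟩

/-- An element of the fixer induces a permutation on blocks of listed vectors. -/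
def InducesBlocks (C : Cert) {M : ℕ} (b : Fin C.N → Fin M) (g : fixer C)
    (σ : Equiv.Perm (Fin M)) : Prop :=
  ∃ τ : Equiv.Perm (Fin C.N), Induces C g τ ∧ ∀ i, b (τ i) = σ (b i)

theorem fixer_iso_blocks (hok : certOK C = true) {M : ℕ} (b : Fin C.N → Fin M)
    (hb : Function.Surjective b) (P : Subgroup (Equiv.Perm (Fin M)))
    {s : Set (Equiv.Perm (Fin M))} (hP : P ≤ Subgroup.closure s)
    (hs : ∀ σ ∈ s, ∃ w ∈ C.gens, ∃ τ : Equiv.Perm (Fin C.N),
      (∀ i : Fin C.N, chk w (C.code i) (C.code (τ i)) = true) ∧ ∀ i, b (τ i) = σ (b i))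
    (hcard : Nat.card (fixer C) ≤ Nat.card P) : Nonempty (fixer C ≃* P) := by
  have := finite_co0
  obtain ⟨e⟩ := PermIso.quotient_iso (⊥ : Subgroup (fixer C)) (InducesBlocks C b)
    ⟨1, fun i => one_smul _ _, fun i => rfl⟩
    (fun g h σ σ' ⟨τ, hg, hgb⟩ ⟨τ', hh, hhb⟩ => ⟨τ * τ',
      fun i => by rw [Subgroup.coe_mul, mul_smul, hh i, hg (τ' i)]; rfl,
      fun i => by rw [Equiv.Perm.mul_apply, hgb, hhb]; rfl⟩)
    (fun g σ σ' ⟨τ, hg, hgb⟩ ⟨τ', hg', hgb'⟩ => Equiv.ext fun y => by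
      obtain ⟨i, rfl⟩ := hb y
      rw [← hgb i, ← hgb' i, vecAt_inj hok ((hg i).symm.trans (hg' i))])
    P hP
    (fun σ hσ => by
      obtain ⟨w, hw, τ, hc, hcb⟩ := hs σ hσ
      obtain ⟨hm, hall⟩ := word_mem hok hw
      refine ⟨⟨wordEl w, hm⟩, τ, fun i => Subtype.ext ?_, hcb⟩
      rw [vecAt_coe hok (τ i)]
      exact chk_sound hall (hc i) (vecAt_coe hok i))
    (fun z hz => ⟨1, fun i => by rw [Subgroup.mem_bot.1 hz]; exact one_smul _ _, fun i => rfl⟩)
    (by rwa [Subgroup.index_bot])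
  exact ⟨QuotientGroup.quotientBot.symm.trans e⟩

/-- The joint stabiliser of a configuration is conjugate to the fixer of the certificate. -/
theorem stab_equiv {us : List (leechLattice × ℤ)} {k : Co0} (hF : Frame C us k)
    {H : Subgroup Co0} (hH : ∀ g : Co0, g ∈ H ↔ ∀ p ∈ us, g • p.1 = p.1) :
    Nonempty (H ≃* fixer C) := by
  have e : H.map (MulAut.conj k).toMonoidHom = fixer C := by
    ext g
    constructor
    · rintro ⟨a, ha, rfl⟩
      rw [hF.fix_iff]
      intro p hp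
      rw [show k⁻¹ * (MulAut.conj k).toMonoidHom a * k = a by
        show k⁻¹ * (k * a * k⁻¹) * k = a
        group]
      exact (hH a).1 ha p hp
    · intro hg
      refine ⟨k⁻¹ * g * k, (hH _).2 ((hF.fix_iff g).1 hg), ?_⟩
      show k * (k⁻¹ * g * k) * k⁻¹ = g
      group
  exact ⟨(Subgroup.equivMapOfInjective H _ (MulAut.conj k).injective).trans
    (MulEquiv.subgroupCongr e)⟩

end Cfsg.Agent.H95.LeechPermIso
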