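import Cfsg.Agent.H95.UFourThreeData
import Cfsg.Agent.Compute.PermRep

/-!
Kernel check of the stabiliser chain on 112 points.
-/

set_option autoImplicit false
set_option Elab.async false
set_option maxRecDepth 100000

namespace Cfsg.Agent.H95.UFourThree

open Cfsg.Agent.Compute

theorem chain_ok : checkChain (permOps 7 112) u43Chain = true := by decide +kernel

end Cfsg.Agent.H95.UFourThree
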