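import Cfsg.Agent.H95.UFourThreeCheck
import Cfsg.Agent.H95.UFourThreeChain
import Cfsg.Agent.H95.LeechPermIso
import Cfsg.Agent.Unitary.Order
import Cfsg.Agent.Golay.ConwaySimple

/-!
The point stabiliser of the McLaughlin group is U4(3).
-/

set_option autoImplicit false

namespace Cfsg.Agent.H95.UFourThree

open Cfsg Cfsg.Agent.Compute Cfsg.Agent.H67.U33 Cfsg.Agent.H92.LeechOrbit
open scoped Pointwise

attribute [local irreducible] checkChain PermIso.slpOK chk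

theorem two_pow_seven : (112 : ℕ) ≤ 2 ^ 7 := by norm_num

/-- The permutation group on 112 points. -/
noncomputable def chainGrp : Subgroup (Equiv.Perm (Fin 112)) :=
  (permSound 7 112 two_pow_seven).grp u43Chain

theorem card_chainGrp : Nat.card chainGrp = 3265920 := by
  rw [chainGrp, (checkChain_sound _ chain_ok).card, order_eq]

theorem pCode_spec {g : ℕ} (hg : g < 5) (i : Fin 112) :
    (permDen 7 112 (pCode g) i : ℕ) = getP 7 (pCode g) i := by
  have h := (allN_iff _ _).1 gen_perm_ok g hg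
  obtain ⟨o, -, -⟩ := (permSound 7 112 two_pow_seven).okInv_sound h
  exact permDen_apply o i

theorem sound_ops : fOps.Sound dK := by
  refine ⟨by norm_num [fOps], rfl, ?_, ?_, ?_, ?_, ?_⟩ <;> intro a ha b hb
  · exact (ops_ok ⟨a, ha⟩ ⟨b, hb⟩).1
  · exact (ops_ok ⟨a, ha⟩ ⟨b, hb⟩).2.1
  · exact (ops_ok ⟨a, ha⟩ ⟨b, hb⟩).2.2.1
  · exact (ops_ok ⟨a, ha⟩ ⟨b, hb⟩).2.2.2.1
  · intro h
    exact congrArg Fin.val ((ops_ok ⟨a, ha⟩ ⟨b, hb⟩).2.2.2.2 h)

theorem lines_ok : lines.OK := PSUCoded.family_ok sound_ops bound_ok dist_ok unit_ok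

section
variable {F : Type} [Field F] [Fintype F]

theorem card_psu_four (hF : Fintype.card F = 9) : Nat.card (Cfsg.PSU 4 F 3) = 3265920 := by
  have hF' : Fintype.card F = 3 ^ 2 := hF
  have h1 := Unitary.card_PSU (n := 4) hF' (by norm_num)
  have h2 := Unitary.card_GU_eq_mul_card_SU (n := 4) hF' (by norm_num)
  rw [Unitary.card_GU hF'] at h2
  norm_num [Finset.prod_range_succ, Unitary.guFactor] at h1 h2
  omega

theorem psu_chain (hF : Fintype.card F = 9) : Nonempty (Cfsg.PSU 4 F 3 ≃* chainGrp) := by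
  obtain ⟨φ, hφ⟩ := exists_equiv hF
  refine PSUModel.psu_iso (q := 3) hF (by norm_num) φ hφ.injective lines lines_ok chainGrp
    (PermIso.grp_le two_pow_seven slp_ok) ?_ (by rw [card_psu_four hF, card_chainGrp])
  rintro σ ⟨g, hg, rfl⟩
  obtain ⟨hform, hdet⟩ := form_ok ⟨g, hg⟩
  exact ⟨mat4 g, hform, hdet, fun i s =>
    PSUCoded.maps_of_check sound_ops bound_ok ((allN_iff _ _).1 maps_ok g hg)
      (pCode_spec hg) i s⟩

end

theorem fixer_chain (hcard : Nat.card (fixer mclNearCert) = 3265920) :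
    Nonempty (fixer mclNearCert ≃* chainGrp) := by
  refine LeechPermIso.fixer_iso mclNearCert_ok chainGrp (PermIso.grp_le two_pow_seven slp_ok) ?_
    (le_of_eq (hcard.trans card_chainGrp.symm))
  rintro σ ⟨g, hg, rfl⟩
  refine ⟨nth [] mclNearCert.gens g, nth_mem _ _ _ (leech_gens.2 ▸ hg), fun i => ?_⟩
  have h := (allN_iff _ _).1 ((allN_iff _ _).1 chk_ok g hg) i i.2
  have e : getP 7 (nth ((0, 0), 0, 0) u43Slp g).1.1 i =
      (permDen 7 112 (nth ((0, 0), 0, 0) u43Slp g).1.1 i : ℕ) := (pCode_spec hg i).symm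
  rw [pCode, e] at h
  exact h

theorem stabiliser_iso (u v x : ↥Cfsg.leechLattice)
    (hu : Cfsg.sqNorm (u : Cfsg.GolayPt → ℤ) = 48)
    (hv : Cfsg.sqNorm (v : Cfsg.GolayPt → ℤ) = 32 ∧
      Cfsg.sqNorm ((u - v) : Cfsg.GolayPt → ℤ) = 32)
    (hx : Cfsg.sqNorm (x : Cfsg.GolayPt → ℤ) = 32 ∧
      Cfsg.sqNorm ((u - x) : Cfsg.GolayPt → ℤ) = 32 ∧
      Cfsg.dotInt (v : Cfsg.GolayPt → ℤ) (x : Cfsg.GolayPt → ℤ) = 16)
    (F : Type) [Field F] [Fintype F] (hF : Fintype.card F = 9) :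
    Nonempty (↥(MulAction.stabilizer ↥Cfsg.Co0 u ⊓ MulAction.stabilizer ↥Cfsg.Co0 v ⊓
      MulAction.stabilizer ↥Cfsg.Co0 x) ≃* Cfsg.PSU 4 F 3) := by
  have := Golay.finite_co0
  obtain ⟨k, hu', hv'⟩ := exists_move_edge u v hu hv
  have hFr : Frame mclCert [(u, 24), (v, 16)] k := by
    show [((k • u : Cfsg.leechLattice).1, (24 : ℤ)), ((k • v : Cfsg.leechLattice).1, (16 : ℤ))] = _
    rw [hu', hv']
    rfl
  have hx' : x ∈ atSet [(u, 24), (v, 16)] := by
    obtain ⟨h1, h2, h3⟩ := hx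
    rw [sqNorm_diff, hu, h1] at h2
    exact ⟨h1, by simp [show Cfsg.dotInt u.1 x.1 = 24 by omega, h3]⟩
  have hroot : Nat.beq (mclCert.code mclCert.root) 62062060636173731114942777480 = true := by
    decide +kernel
  obtain ⟨k1, hN⟩ := hFr.extend mclCert_ok mclCert_cover (C' := mclNearCert) (d := 8) hroot rfl hx'
  set H2 := MulAction.stabilizer Cfsg.Co0 u ⊓ MulAction.stabilizer Cfsg.Co0 v
  set H3 := H2 ⊓ MulAction.stabilizer Cfsg.Co0 x
  have hH2 : ∀ g : Cfsg.Co0, g ∈ H2 ↔ ∀ p ∈ ([(u, 24), (v, 16)] : List (leechLattice × ℤ)),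
      g • p.1 = p.1 := fun g => by simp [H2, Subgroup.mem_inf, MulAction.mem_stabilizer_iff]
  have hH3 : ∀ g : Cfsg.Co0, g ∈ H3 ↔
      ∀ p ∈ ([(u, 24), (v, 16)] ++ [(x, 8)] : List (leechLattice × ℤ)), g • p.1 = p.1 := fun g => by
    simp [H3, H2, Subgroup.mem_inf, MulAction.mem_stabilizer_iff, and_assoc]
  have hvn := hv.2
  rw [sqNorm_diff, hu, hv.1] at hvn
  have hdot : Cfsg.dotInt (u - v).1 v.1 = -8 := by
    have e : Cfsg.dotInt (u - v).1 v.1 = Cfsg.dotInt u.1 v.1 - Cfsg.dotInt v.1 v.1 := by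
      show Cfsg.dotInt ((u : Cfsg.GolayPt → ℤ) - (v : Cfsg.GolayPt → ℤ)) (v : Cfsg.GolayPt → ℤ) = _
      simp [Cfsg.dotInt, sub_mul, Finset.sum_sub_distrib]
    rw [e, dotInt_self, hv.1]
    omega
  have heq : MulAction.stabilizer Cfsg.Co0 (u - v) ⊓ MulAction.stabilizer Cfsg.Co0 v = H2 := by
    ext g
    simp only [H2, Subgroup.mem_inf, MulAction.mem_stabilizer_iff, Golay.co0_smul_sub]
    constructor
    · rintro ⟨h1, h2⟩
      exact ⟨by rwa [h2, sub_left_inj] at h1, h2⟩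
    · rintro ⟨h1, h2⟩
      exact ⟨by rw [h1, h2], h2⟩
  have hc2 : Nat.card H2 = 898128000 := by
    have h := (Golay.isMcL_stabilizer (v := u - v) (w := v) hv.2 hv.1 hdot).2
    rwa [heq] at h
  have horb : (MulAction.orbit H2 x).ncard = 275 := by
    rw [hFr.orbit mclCert_ok mclCert_cover hH2 hx', hFr.ncard mclCert_ok mclCert_cover]
    rfl
  have hc3 : Nat.card H3 = 3265920 := by
    have h := Golay.card_eq_orbit_mul H2 x
    rw [hc2, horb] at h
    show Nat.card (H2 ⊓ MulAction.stabilizer Cfsg.Co0 x : Subgroup Cfsg.Co0) = _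
    omega
  obtain ⟨e1⟩ := LeechPermIso.stab_equiv hN hH3
  obtain ⟨e2⟩ := fixer_chain (by rw [← Nat.card_congr e1.toEquiv, hc3])
  obtain ⟨e3⟩ := psu_chain hF
  exact ⟨(e1.trans e2).trans e3.symm⟩

end Cfsg.Agent.H95.UFourThree
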