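/-
Projective planes of order four as Steiner systems S(2,5,21): lines, hyperovals, and coordinates
of the points by a hyperoval (duads and synthemes).
-/
import Mathlib
import Cfsg.Prelude.Def_Sporadic_a

set_option autoImplicit false

namespace Cfsg.Agent.H95.Plane21

open Finset

variable {α : Type*} [Fintype α] [DecidableEq α] {L : Set (Finset α)}

/-- No three points of `S` are collinear. -/
def Ind (L : Set (Finset α)) (S : Finset α) : Prop := ∀ l ∈ L, (l ∩ S).card ≤ 2

section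
variable (hL : Cfsg.IsSteinerSystem 2 5 L)
include hL

lemma exists_line {p q : α} (h : p ≠ q) : ∃ l ∈ L, p ∈ l ∧ q ∈ l := by
  obtain ⟨l, ⟨hl, hpq⟩, -⟩ := hL.2 {p, q} (card_pair h)
  exact ⟨l, hl, hpq (mem_insert_self _ _), hpq (mem_insert_of_mem (mem_singleton_self q))⟩

lemma line_eq {p q : α} (h : p ≠ q) {l l' : Finset α} (hl : l ∈ L) (hl' : l' ∈ L) (hp : p ∈ l)
    (hq : q ∈ l) (hp' : p ∈ l') (hq' : q ∈ l') : l = l' := by
  obtain ⟨m, -, hu⟩ := hL.2 {p, q} (card_pair h)
  have h1 : ({p, q} : Finset α) ⊆ l := by simp [insert_subset_iff, hp, hq]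
  have h2 : ({p, q} : Finset α) ⊆ l' := by simp [insert_subset_iff, hp', hq']
  exact (hu l ⟨hl, h1⟩).trans (hu l' ⟨hl', h2⟩).symm

open Classical in
/-- The line through two points. -/
noncomputable def ln (p q : α) : Finset α :=
  if h : p ≠ q then (exists_line hL h).choose else ∅

lemma ln_mem {p q : α} (h : p ≠ q) : ln hL p q ∈ L := by
  rw [ln, dif_pos h]; exact (exists_line hL h).choose_spec.1

lemma left_mem_ln {p q : α} (h : p ≠ q) : p ∈ ln hL p q := by
  rw [ln, dif_pos h]; exact (exists_line hL h).choose_spec.2.1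

lemma right_mem_ln {p q : α} (h : p ≠ q) : q ∈ ln hL p q := by
  rw [ln, dif_pos h]; exact (exists_line hL h).choose_spec.2.2

lemma eq_ln {p q : α} (h : p ≠ q) {l : Finset α} (hl : l ∈ L) (hp : p ∈ l) (hq : q ∈ l) :
    l = ln hL p q :=
  line_eq hL h hl (ln_mem hL h) hp hq (left_mem_ln hL h) (right_mem_ln hL h)

lemma inter_le_one {l l' : Finset α} (hl : l ∈ L) (hl' : l' ∈ L) (hne : l ≠ l') :
    (l ∩ l').card ≤ 1 := by
  refine card_le_one.2 fun x hx y hy => ?_
  by_contra hxy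
  rw [mem_inter] at hx hy
  exact hne (line_eq hL hxy hl hl' hx.1 hy.1 hx.2 hy.2)

omit hL in
/-- The lines through a point. -/
noncomputable def pencil (L : Set (Finset α)) (p : α) : Finset (Finset α) :=
  haveI := Classical.decPred fun l : Finset α => l ∈ L
  univ.filter fun l => l ∈ L ∧ p ∈ l

omit hL in
lemma mem_pencil {p : α} {l : Finset α} : l ∈ pencil L p ↔ l ∈ L ∧ p ∈ l := by
  simp [pencil]

variable (hα : Fintype.card α = 21)
include hα

lemma card_pencil (p : α) : (pencil L p).card = 5 := by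
  have h1 : (univ : Finset α).erase p = (pencil L p).biUnion fun l => l.erase p := by
    ext x
    simp only [mem_erase, mem_univ, and_true, mem_biUnion, mem_pencil]
    refine ⟨fun hx => ⟨ln hL x p, ⟨ln_mem hL hx, right_mem_ln hL hx⟩, hx, left_mem_ln hL hx⟩, ?_⟩
    rintro ⟨l, -, hx, -⟩
    exact hx
  have h2 : ((univ : Finset α).erase p).card = 20 := by
    rw [card_erase_of_mem (mem_univ p), card_univ, hα]
  rw [h1, card_biUnion, sum_const_nat (m := 4)] at h2
  · omega
  · intro l hl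
    rw [mem_pencil] at hl
    rw [card_erase_of_mem hl.2, hL.1 l hl.1]
  · intro l hl l' hl' hne
    rw [Function.onFun, disjoint_left]
    intro x hx hx'
    rw [mem_erase] at hx hx'
    rw [mem_coe, mem_pencil] at hl hl'
    exact hne (line_eq hL hx.1 hl.1 hl'.1 hx.2 hl.2 hx'.2 hl'.2)

/-- Two lines meet. -/
lemma inter_nonempty {l l' : Finset α} (hl : l ∈ L) (hl' : l' ∈ L) : (l ∩ l').Nonempty := by
  obtain ⟨p, hp⟩ : l.Nonempty := card_pos.1 (by rw [hL.1 l hl]; omega)
  by_cases hp' : p ∈ l'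
  · exact ⟨p, mem_inter.2 ⟨hp, hp'⟩⟩
  have hne : ∀ x ∈ l', x ≠ p := fun x hx e => hp' (e ▸ hx)
  have hinj : Set.InjOn (fun x => ln hL x p) l' := by
    intro x hx y hy hxy
    by_contra hne'
    have h1 : y ∈ ln hL x p := by
      have := left_mem_ln hL (hne y hy)
      rwa [show ln hL y p = ln hL x p from hxy.symm] at this
    have h2 := line_eq hL hne' hl' (ln_mem hL (hne x hx)) hx hy (left_mem_ln hL (hne x hx)) h1
    exact hp' (h2 ▸ right_mem_ln hL (hne x hx))
  have h5 : (l'.image fun x => ln hL x p) = pencil L p := by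
    refine eq_of_subset_of_card_le ?_ ?_
    · intro m hm
      obtain ⟨x, hx, rfl⟩ := mem_image.1 hm
      exact mem_pencil.2 ⟨ln_mem hL (hne x hx), right_mem_ln hL (hne x hx)⟩
    · rw [card_pencil hL hα, card_image_of_injOn hinj, hL.1 l' hl']
  obtain ⟨x, hx, hxl⟩ := mem_image.1 (h5.symm ▸ mem_pencil.2 ⟨hl, hp⟩ : l ∈ _)
  exact ⟨x, mem_inter.2 ⟨hxl ▸ left_mem_ln hL (hne x hx), hx⟩⟩

lemma card_inter {l l' : Finset α} (hl : l ∈ L) (hl' : l' ∈ L) (hne : l ≠ l') :
    (l ∩ l').card = 1 :=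
  le_antisymm (inter_le_one hL hl hl' hne) (card_pos.2 (inter_nonempty hL hα hl hl'))

end

/-- A hyperoval with labelled points. -/
structure Oval (L : Set (Finset α)) where
  pt : Fin 6 → α
  inj : Function.Injective pt
  ind : ∀ l ∈ L, ∀ i j k, i ≠ j → i ≠ k → j ≠ k → pt i ∈ l → pt j ∈ l → pt k ∉ l

/-- The fifteen fixed-point-free involutions of six letters. -/
def syn : Fin 15 → Fin 6 → Fin 6 :=
  ![![1, 0, 3, 2, 5, 4], ![1, 0, 4, 5, 2, 3], ![1, 0, 5, 4, 3, 2],
    ![2, 3, 0, 1, 5, 4], ![2, 4, 0, 5, 1, 3], ![2, 5, 0, 4, 3, 1],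
    ![3, 2, 1, 0, 5, 4], ![3, 4, 5, 0, 1, 2], ![3, 5, 4, 0, 2, 1],
    ![4, 2, 1, 5, 0, 3], ![4, 3, 5, 1, 0, 2], ![4, 5, 3, 2, 0, 1],
    ![5, 2, 1, 4, 3, 0], ![5, 3, 4, 1, 2, 0], ![5, 4, 3, 2, 1, 0]]

set_option synthInstance.maxSize 4000 in
set_option maxRecDepth 4000 in
lemma syn_cases : ∀ a : Fin 6, a ≠ 0 → ∀ b : Fin 6, b ≠ 1 → (a = 1 ↔ b = 0) →
    ∀ c : Fin 6, c ≠ 2 → (a = 2 ↔ c = 0) → (b = 2 ↔ c = 1) →
    ∀ d : Fin 6, d ≠ 3 → (a = 3 ↔ d = 0) → (b = 3 ↔ d = 1) → (c = 3 ↔ d = 2) →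
    ∀ e : Fin 6, e ≠ 4 → (a = 4 ↔ e = 0) → (b = 4 ↔ e = 1) → (c = 4 ↔ e = 2) → (d = 4 ↔ e = 3) →
    ∀ g : Fin 6, g ≠ 5 → (a = 5 ↔ g = 0) → (b = 5 ↔ g = 1) → (c = 5 ↔ g = 2) → (d = 5 ↔ g = 3) →
      (e = 5 ↔ g = 4) → ∃ k : Fin 15, syn k 0 = a ∧ syn k 1 = b ∧ syn k 2 = c ∧ syn k 3 = d ∧
        syn k 4 = e ∧ syn k 5 = g := by decide +kernel

lemma exists_syn (σ : Fin 6 → Fin 6) (h2 : ∀ i, σ (σ i) = i) (h1 : ∀ i, σ i ≠ i) :
    ∃ k, syn k = σ := by
  have hs : ∀ i j, σ i = j ↔ σ j = i := fun i j =>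
    ⟨fun h => by rw [← h, h2], fun h => by rw [← h, h2]⟩
  obtain ⟨k, a, b, c, d, e, g⟩ := syn_cases _ (h1 0) _ (h1 1) (hs 0 1) _ (h1 2) (hs 0 2) (hs 1 2)
    _ (h1 3) (hs 0 3) (hs 1 3) (hs 2 3) _ (h1 4) (hs 0 4) (hs 1 4) (hs 2 4) (hs 3 4)
    _ (h1 5) (hs 0 5) (hs 1 5) (hs 2 5) (hs 3 5) (hs 4 5)
  exact ⟨k, funext fun i => by fin_cases i <;> assumption⟩

lemma syn_injective : Function.Injective syn := by decide +kernel

lemma syn_ne : ∀ k i, syn k i ≠ i := by decide +kernel

/-- Synthemes without a common duad. -/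
def Diff (k k' : Fin 15) : Prop := ∀ i, syn k i ≠ syn k' i

instance instDecidableDiff (k k' : Fin 15) : Decidable (Diff k k') :=
  inferInstanceAs (Decidable (∀ i, syn k i ≠ syn k' i))

/-- The synthemes of the total through two disjoint synthemes. -/
def total (k k' : Fin 15) : Finset (Fin 15) :=
  univ.filter fun r => r = k ∨ r = k' ∨
    ((Diff r k ∧ Diff r k') ∧ ∃ s, (Diff s k ∧ Diff s k') ∧ Diff r s)

lemma card_total : ∀ k k', Diff k k' → (total k k').card = 5 := by decide +kernel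

variable (hL : Cfsg.IsSteinerSystem 2 5 L) (hα : Fintype.card α = 21) (O : Oval L)
include hL hα

/-- A line through a point of the hyperoval meets it in a second one. -/
lemma exists_second {l : Finset α} (hl : l ∈ L) {i : Fin 6} (hi : O.pt i ∈ l) :
    ∃ j, j ≠ i ∧ O.pt j ∈ l := by
  have hne : ∀ j, j ≠ i → O.pt i ≠ O.pt j := fun j hj e => hj (O.inj e).symm
  have h : ((univ.erase i).image fun j => ln hL (O.pt i) (O.pt j)) = pencil L (O.pt i) := by
    refine eq_of_subset_of_card_le ?_ ?_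
    · intro m hm
      obtain ⟨j, hj, rfl⟩ := mem_image.1 hm
      have hj' := hne j (mem_erase.1 hj).1
      exact mem_pencil.2 ⟨ln_mem hL hj', left_mem_ln hL hj'⟩
    · rw [card_pencil hL hα, card_image_of_injOn, card_erase_of_mem (mem_univ i), card_univ,
        Fintype.card_fin]
      intro j hj k hk hjk
      by_contra hne'
      have hj' : j ≠ i := (mem_erase.1 hj).1
      have hk' : k ≠ i := (mem_erase.1 hk).1
      refine O.ind _ (ln_mem hL (hne j hj')) i j k hj'.symm hk'.symm hne'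
        (left_mem_ln hL (hne j hj')) (right_mem_ln hL (hne j hj')) ?_
      rw [show ln hL (O.pt i) (O.pt j) = ln hL (O.pt i) (O.pt k) from hjk]
      exact right_mem_ln hL (hne k hk')
  obtain ⟨j, hj, hjl⟩ := mem_image.1 (h.symm ▸ mem_pencil.2 ⟨hl, hi⟩ : l ∈ _)
  exact ⟨j, (mem_erase.1 hj).1, hjl ▸ right_mem_ln hL (hne j (mem_erase.1 hj).1)⟩

/-- The partner of `i` seen from the point `p`. -/
lemma exists_syn_of_point {p : α} (hp : ∀ i, O.pt i ≠ p) :
    ∃ k, ∀ i, ∀ l ∈ L, p ∈ l → O.pt i ∈ l → O.pt (syn k i) ∈ l := by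
  choose σ h1 h2 using fun i =>
    exists_second hL hα O (ln_mem hL (hp i)) (left_mem_ln hL (hp i))
  have key : ∀ i, ∀ l ∈ L, p ∈ l → O.pt i ∈ l → O.pt (σ i) ∈ l := fun i l hl hpl hil => by
    rw [eq_ln hL (hp i) hl hil hpl]; exact h2 i
  have hinv : ∀ i, σ (σ i) = i := by
    intro i
    by_contra hne
    exact O.ind _ (ln_mem hL (hp i)) i (σ i) (σ (σ i)) (h1 i).symm (Ne.symm hne) (h1 (σ i)).symm
      (left_mem_ln hL (hp i)) (h2 i)
      (key (σ i) _ (ln_mem hL (hp i)) (right_mem_ln hL (hp i)) (h2 i))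
  obtain ⟨k, rfl⟩ := exists_syn σ hinv h1
  exact ⟨k, key⟩

/-- The syntheme of a point off the hyperoval. -/
noncomputable def idx (p : {p : α // ∀ i, O.pt i ≠ p}) : Fin 15 :=
  (exists_syn_of_point hL hα O p.2).choose

lemma idx_spec (p : {p : α // ∀ i, O.pt i ≠ p}) {i : Fin 6} {l : Finset α} (hl : l ∈ L)
    (hp : (p : α) ∈ l) (hi : O.pt i ∈ l) : O.pt (syn (idx hL hα O p) i) ∈ l :=
  (exists_syn_of_point hL hα O p.2).choose_spec i l hl hp hi

lemma idx_eq_iff (p : {p : α // ∀ i, O.pt i ≠ p}) (i j : Fin 6) :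
    syn (idx hL hα O p) i = j ↔ j ≠ i ∧ O.pt j ∈ ln hL (O.pt i) (p : α) := by
  have hne : O.pt i ≠ (p : α) := p.2 i
  have hmem := idx_spec hL hα O p (ln_mem hL hne) (right_mem_ln hL hne) (left_mem_ln hL hne)
  constructor
  · rintro rfl
    exact ⟨syn_ne _ _, hmem⟩
  · rintro ⟨hji, hj⟩
    by_contra h
    exact O.ind _ (ln_mem hL hne) i (syn (idx hL hα O p) i) j (syn_ne _ _).symm hji.symm h
      (left_mem_ln hL hne) hmem hj

lemma mem_secant (p : {p : α // ∀ i, O.pt i ≠ p}) {i j : Fin 6} {l : Finset α} (hl : l ∈ L)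
    (hij : i ≠ j) (hi : O.pt i ∈ l) (hj : O.pt j ∈ l) :
    (p : α) ∈ l ↔ syn (idx hL hα O p) i = j := by
  have hne : O.pt i ≠ (p : α) := p.2 i
  rw [idx_eq_iff]
  constructor
  · intro hp
    exact ⟨hij.symm, eq_ln hL hne hl hi hp ▸ hj⟩
  · rintro ⟨-, h⟩
    have hij' : O.pt i ≠ O.pt j := fun e => hij (O.inj e)
    rw [line_eq hL hij' hl (ln_mem hL hne) hi hj (left_mem_ln hL hne) h]
    exact right_mem_ln hL hne

lemma idx_injective : Function.Injective (idx hL hα O) := by
  intro p q hpq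
  by_contra hne
  have hne' : (p : α) ≠ (q : α) := fun e => hne (Subtype.ext e)
  have key : ∀ i, O.pt i ∈ ln hL (p : α) (q : α) := by
    intro i
    set j := syn (idx hL hα O p) i with hj
    have hij : i ≠ j := (syn_ne _ _).symm
    have hij' : O.pt i ≠ O.pt j := fun e => hij (O.inj e)
    have hm := ln_mem hL hij'
    have h1 : (p : α) ∈ ln hL (O.pt i) (O.pt j) :=
      (mem_secant hL hα O p hm hij (left_mem_ln hL hij') (right_mem_ln hL hij')).2 hj.symm
    have h2 : (q : α) ∈ ln hL (O.pt i) (O.pt j) :=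
      (mem_secant hL hα O q hm hij (left_mem_ln hL hij') (right_mem_ln hL hij')).2 (hpq ▸ hj.symm)
    rw [← eq_ln hL hne' hm h1 h2]
    exact left_mem_ln hL hij'
  exact O.ind _ (ln_mem hL hne') 0 1 2 (by decide) (by decide) (by decide) (key 0) (key 1) (key 2)

lemma idx_bijective : Function.Bijective (idx hL hα O) := by
  refine (Fintype.bijective_iff_injective_and_card _).2 ⟨idx_injective hL hα O, ?_⟩
  rw [Fintype.card_subtype]
  have : (univ.filter fun p => ∀ i, O.pt i ≠ p) = univ \ univ.image O.pt := by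
    ext p; simp
  rw [this, card_univ_sdiff, hα, card_image_of_injective _ O.inj, card_univ, Fintype.card_fin,
    Fintype.card_fin]

/-- Coordinates of all 21 points. -/
noncomputable def coordEquiv : Fin 6 ⊕ Fin 15 ≃ α :=
  Equiv.ofBijective
    (Sum.elim O.pt fun k => ((Equiv.ofBijective _ (idx_bijective hL hα O)).symm k : α)) (by
    constructor
    · refine Function.Injective.sumElim O.inj
        (Subtype.val_injective.comp (Equiv.injective _)) fun i k => ?_
      exact ((Equiv.ofBijective _ (idx_bijective hL hα O)).symm k).2 i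
    · intro p
      by_cases hp : ∀ i, O.pt i ≠ p
      · exact ⟨.inr (idx hL hα O ⟨p, hp⟩), by
          simp [Equiv.ofBijective_symm_apply_apply]⟩
      · push Not at hp
        obtain ⟨i, hi⟩ := hp
        exact ⟨.inl i, hi⟩)

lemma coord_inl (i : Fin 6) : coordEquiv hL hα O (.inl i) = O.pt i := rfl

lemma coord_inr (k : Fin 15) :
    ∃ p : {p : α // ∀ i, O.pt i ≠ p}, (p : α) = coordEquiv hL hα O (.inr k) ∧
      idx hL hα O p = k :=
  ⟨_, rfl, Equiv.ofBijective_apply_symm_apply _ (idx_bijective hL hα O) k⟩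

lemma coord_idx (p : {p : α // ∀ i, O.pt i ≠ p}) :
    coordEquiv hL hα O (.inr (idx hL hα O p)) = p := by
  obtain ⟨q, hq, hqi⟩ := coord_inr hL hα O (idx hL hα O p)
  rw [← hq, idx_injective hL hα O hqi]

/-- An external line is a total. -/
lemma mem_external {l : Finset α} (hl : l ∈ L) (hext : ∀ i, O.pt i ∉ l) {k k' : Fin 15}
    (hne : k ≠ k') (hk : coordEquiv hL hα O (.inr k) ∈ l)
    (hk' : coordEquiv hL hα O (.inr k') ∈ l) (r : Fin 15) :
    coordEquiv hL hα O (.inr r) ∈ l ↔ r ∈ total k k' := by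
  have hd : ∀ {a b : Fin 15}, a ≠ b → coordEquiv hL hα O (.inr a) ∈ l →
      coordEquiv hL hα O (.inr b) ∈ l → Diff a b := by
    intro a b hab ha hb i e
    obtain ⟨p, hp, rfl⟩ := coord_inr hL hα O a
    obtain ⟨q, hq, rfl⟩ := coord_inr hL hα O b
    rw [← hp] at ha
    rw [← hq] at hb
    set j := syn (idx hL hα O p) i with hj
    have hij : i ≠ j := (syn_ne _ _).symm
    have hij' : O.pt i ≠ O.pt j := fun e => hij (O.inj e)
    have hm := ln_mem hL hij'
    have h1 := (mem_secant hL hα O p hm hij (left_mem_ln hL hij') (right_mem_ln hL hij')).2 hj.symm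
    have h2 := (mem_secant hL hα O q hm hij (left_mem_ln hL hij') (right_mem_ln hL hij')).2 e.symm
    have hpq : (p : α) ≠ q := fun h => hab (congrArg _ (Subtype.ext h))
    exact hext i (line_eq hL hpq hl hm ha hb h1 h2 ▸ left_mem_ln hL hij')
  have hall : ∀ x ∈ l, ∃ a, coordEquiv hL hα O (.inr a) = x := by
    intro x hx
    obtain ⟨c, rfl⟩ := (coordEquiv hL hα O).surjective x
    rcases c with i | a
    · exact absurd hx (hext i)
    · exact ⟨a, rfl⟩
  set A := univ.filter fun a => coordEquiv hL hα O (.inr a) ∈ l with hA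
  have hAcard : A.card = 5 := by
    rw [← hL.1 l hl, ← card_image_of_injective A
      ((coordEquiv hL hα O).injective.comp Sum.inr_injective)]
    congr 1
    ext x
    simp only [hA, mem_image, mem_filter, mem_univ, true_and, Function.comp]
    constructor
    · rintro ⟨a, ha, rfl⟩; exact ha
    · intro hx
      obtain ⟨a, rfl⟩ := hall x hx
      exact ⟨a, hx, rfl⟩
  have hsub : A ⊆ total k k' := by
    intro a ha
    rw [hA, mem_filter] at ha
    refine mem_filter.2 ⟨mem_univ _, ?_⟩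
    by_cases h1 : a = k
    · exact Or.inl h1
    by_cases h2 : a = k'
    · exact Or.inr (Or.inl h2)
    obtain ⟨s, hs⟩ : (A \ {a, k, k'}).Nonempty := by
      rw [← card_pos]
      have h3 := le_card_sdiff {a, k, k'} A
      have h4 := card_le_three (a := a) (b := k) (c := k')
      omega
    rw [mem_sdiff, hA, mem_filter] at hs
    simp only [mem_insert, mem_singleton, not_or] at hs
    obtain ⟨⟨-, hsl⟩, hsa, hsk, hsk'⟩ := hs
    exact Or.inr (Or.inr ⟨⟨hd h1 ha.2 hk, hd h2 ha.2 hk'⟩, s,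
      ⟨hd hsk hsl hk, hd hsk' hsl hk'⟩, hd (Ne.symm hsa) ha.2 hsl⟩)
  have heq := eq_of_subset_of_card_le hsub (by rw [card_total k k' (hd hne hk hk'), hAcard])
  rw [← heq, hA, mem_filter]
  simp

/-- Equal coordinates give an isomorphism onto any other plane with a hyperoval. -/
lemma exists_iso {β : Type*} [Fintype β] [DecidableEq β] {L' : Set (Finset β)}
    (hL' : Cfsg.IsSteinerSystem 2 5 L') (hβ : Fintype.card β = 21) (O' : Oval L') :
    ∃ e : α ≃ β, (fun b => b.image e) '' L = L' ∧ ∀ i, e (O.pt i) = O'.pt i := by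
  set c := coordEquiv hL hα O
  set c' := coordEquiv hL' hβ O'
  set e := c.symm.trans c' with he
  have hec : ∀ x, e (c x) = c' x := fun x => by simp [he]
  have himg : ∀ l ∈ L, l.image e ∈ L' := by
    intro l hl
    suffices ∃ l' ∈ L', ∀ x, c x ∈ l → c' x ∈ l' by
      obtain ⟨l', hl', h⟩ := this
      have hsub : l.image e ⊆ l' := by
        intro y hy
        obtain ⟨x, hx, rfl⟩ := mem_image.1 hy
        obtain ⟨z, rfl⟩ := c.surjective x
        rw [hec]
        exact h z hx
      rwa [eq_of_subset_of_card_le hsub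
        (by rw [card_image_of_injective _ e.injective, hL.1 l hl, hL'.1 l' hl'])]
    by_cases hext : ∀ i, O.pt i ∉ l
    · -- external line
      have hin : ∀ z ∈ l, ∃ k, c (.inr k) = z := by
        intro z hz
        obtain ⟨x, rfl⟩ := c.surjective z
        rcases x with i | k
        · exact absurd hz (hext i)
        · exact ⟨k, rfl⟩
      obtain ⟨a, ha, b, hb, hab⟩ := one_lt_card.1 (show 1 < l.card by rw [hL.1 l hl]; omega)
      obtain ⟨k, rfl⟩ := hin a ha
      obtain ⟨k', rfl⟩ := hin b hb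
      have hkk : k ≠ k' := fun e => hab (by rw [e])
      have hne' : c' (.inr k) ≠ c' (.inr k') := fun e => hkk (Sum.inr_injective (c'.injective e))
      have hm := ln_mem hL' hne'
      -- the synthemes are disjoint
      have hdiff : ∀ i, syn k i ≠ syn k' i := by
        intro i e
        obtain ⟨p, hp, hpi⟩ := coord_inr hL hα O k
        obtain ⟨q, hq, hqi⟩ := coord_inr hL hα O k'
        set j := syn k i with hj
        have hij : i ≠ j := (syn_ne _ _).symm
        have hij' : O.pt i ≠ O.pt j := fun e => hij (O.inj e)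
        have hs := ln_mem hL hij'
        have h1 := (mem_secant hL hα O p hs hij (left_mem_ln hL hij') (right_mem_ln hL hij')).2
          (by rw [hpi])
        have h2 := (mem_secant hL hα O q hs hij (left_mem_ln hL hij') (right_mem_ln hL hij')).2
          (by rw [hqi, e])
        rw [hp] at h1
        rw [hq] at h2
        exact hext i (line_eq hL hab hl hs ha hb h1 h2 ▸ left_mem_ln hL hij')
      have hext' : ∀ i, O'.pt i ∉ ln hL' (c' (.inr k)) (c' (.inr k')) := by
        intro i hi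
        obtain ⟨j, hji, hj⟩ := exists_second hL' hβ O' hm hi
        obtain ⟨p, hp, hpi⟩ := coord_inr hL' hβ O' k
        obtain ⟨q, hq, hqi⟩ := coord_inr hL' hβ O' k'
        have h1 := (mem_secant hL' hβ O' p hm hji.symm hi hj).1 (by
          rw [hp]; exact left_mem_ln hL' hne')
        have h2 := (mem_secant hL' hβ O' q hm hji.symm hi hj).1 (by
          rw [hq]; exact right_mem_ln hL' hne')
        rw [hpi] at h1
        rw [hqi] at h2
        exact hdiff i (h1.trans h2.symm)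
      refine ⟨_, hm, ?_⟩
      rintro (i | r) hx
      · exact absurd hx (hext i)
      · exact (mem_external hL' hβ O' hm hext' hkk (left_mem_ln hL' hne') (right_mem_ln hL' hne')
          r).2 ((mem_external hL hα O hl hext hkk ha hb r).1 hx)
    · -- secant
      push Not at hext
      obtain ⟨i, hi⟩ := hext
      obtain ⟨j, hji, hj⟩ := exists_second hL hα O hl hi
      have hne' : O'.pt i ≠ O'.pt j := fun e => hji (O'.inj e).symm
      refine ⟨_, ln_mem hL' hne', ?_⟩
      rintro (a | r) hx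
      · rcases eq_or_ne a i with rfl | hai
        · exact left_mem_ln hL' hne'
        rcases eq_or_ne a j with rfl | haj
        · exact right_mem_ln hL' hne'
        exact absurd hx (O.ind l hl i j a hji.symm hai.symm haj.symm hi hj)
      · obtain ⟨p, hp, hpi⟩ := coord_inr hL hα O r
        obtain ⟨q, hq, hqi⟩ := coord_inr hL' hβ O' r
        have h1 := (mem_secant hL hα O p hl hji.symm hi hj).1 (hp.symm ▸ hx)
        have h2 := (mem_secant hL' hβ O' q (ln_mem hL' hne') hji.symm (left_mem_ln hL' hne')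
          (right_mem_ln hL' hne')).2 (by rw [hqi, ← h1, hpi])
        rwa [hq] at h2
  refine ⟨e, Set.Subset.antisymm (Set.image_subset_iff.2 himg) fun l' hl' => ?_,
    fun i => hec (.inl i)⟩
  obtain ⟨a, ha, b, hb, hab⟩ := one_lt_card.1 (show 1 < l'.card by rw [hL'.1 l' hl']; omega)
  have hne : e.symm a ≠ e.symm b := fun h => hab (e.symm.injective h)
  refine ⟨_, ln_mem hL hne, line_eq hL' hab (himg _ (ln_mem hL hne)) hl' ?_ ?_ ha hb⟩
  · exact mem_image.2 ⟨_, left_mem_ln hL hne, e.apply_symm_apply a⟩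
  · exact mem_image.2 ⟨_, right_mem_ln hL hne, e.apply_symm_apply b⟩

/-- An automorphism is determined by its values on a hyperoval. -/
lemma aut_ext {g : α ≃ α} (hg : ∀ l ∈ L, l.image g ∈ L) (hfix : ∀ i, g (O.pt i) = O.pt i) :
    ∀ p, g p = p := by
  intro p
  by_cases hp : ∀ i, O.pt i ≠ p
  · have hgp : ∀ i, O.pt i ≠ g p := fun i e => hp i (g.injective ((hfix i).trans e))
    suffices idx hL hα O ⟨g p, hgp⟩ = idx hL hα O ⟨p, hp⟩ from
      congrArg Subtype.val (idx_injective hL hα O this)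
    refine syn_injective (funext fun i => ?_)
    set j := syn (idx hL hα O ⟨p, hp⟩) i with hj
    rw [idx_eq_iff]
    refine ⟨syn_ne _ _, ?_⟩
    obtain ⟨-, hjl⟩ := (idx_eq_iff hL hα O ⟨p, hp⟩ i j).1 hj.symm
    rw [← eq_ln hL (hgp i) (hg _ (ln_mem hL (hp i)))
      (mem_image.2 ⟨_, left_mem_ln hL (hp i), hfix i⟩)
      (mem_image.2 ⟨_, right_mem_ln hL (hp i), rfl⟩)]
    exact mem_image.2 ⟨_, hjl, hfix j⟩
  · push Not at hp
    obtain ⟨i, rfl⟩ := hp
    exact hfix i

end Cfsg.Agent.H95.Plane21
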