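/-
Independent sets and hyperovals in a plane of order four.
-/
import Cfsg.Agent.H95.Plane21

set_option autoImplicit false

namespace Cfsg.Agent.H95.Plane21

open Finset

variable {α : Type*} [Fintype α] [DecidableEq α] {L : Set (Finset α)}
  (hL : Cfsg.IsSteinerSystem 2 5 L) (hα : Fintype.card α = 21)

lemma Ind.mono {S T : Finset α} (h : Ind L T) (hST : S ⊆ T) : Ind L S := fun l hl =>
  (card_le_card (inter_subset_inter_left hST)).trans (h l hl)

include hL

lemma ind_of_card_le {S : Finset α} (h : S.card ≤ 2) : Ind L S := fun _ _ =>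
  (card_le_card inter_subset_right).trans h

lemma ind_insert_iff {S : Finset α} {x : α} (hS : Ind L S) (hx : x ∉ S) :
    Ind L (insert x S) ↔ ∀ a ∈ S, ∀ b ∈ S, a ≠ b → x ∉ ln hL a b := by
  constructor
  · intro h a ha b hb hab hxl
    have h1 : ({x, a, b} : Finset α) ⊆ ln hL a b ∩ insert x S := by
      intro y hy
      simp only [mem_insert, mem_singleton] at hy
      rcases hy with rfl | rfl | rfl
      · exact mem_inter.2 ⟨hxl, mem_insert_self _ _⟩
      · exact mem_inter.2 ⟨left_mem_ln hL hab, mem_insert_of_mem ha⟩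
      · exact mem_inter.2 ⟨right_mem_ln hL hab, mem_insert_of_mem hb⟩
    have hxa : x ≠ a := fun e => hx (e ▸ ha)
    have hxb : x ≠ b := fun e => hx (e ▸ hb)
    have h2 := (card_le_card h1).trans (h _ (ln_mem hL hab))
    rw [card_eq_three.2 ⟨x, a, b, hxa, hxb, hab, rfl⟩] at h2
    omega
  · intro h l hl
    by_cases hxl : x ∈ l
    · rw [inter_insert_of_mem hxl, card_insert_of_notMem (by simp [hx])]
      suffices (l ∩ S).card ≤ 1 by omega
      refine card_le_one.2 fun a ha b hb => ?_
      by_contra hab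
      rw [mem_inter] at ha hb
      exact h a ha.2 b hb.2 hab (eq_ln hL hab hl ha.1 hb.1 ▸ hxl)
    · rw [inter_insert_of_notMem hxl]
      exact hS l hl

lemma not_mem_ln {S : Finset α} (hS : Ind L S) {a b c : α} (ha : a ∈ S) (hb : b ∈ S) (hc : c ∈ S)
    (hab : a ≠ b) (hca : c ≠ a) (hcb : c ≠ b) : c ∉ ln hL a b :=
  (ind_insert_iff hL (hS.mono (erase_subset c S)) (notMem_erase c S)).1
    (by rwa [insert_erase hc]) a (mem_erase.2 ⟨hca.symm, ha⟩) b (mem_erase.2 ⟨hcb.symm, hb⟩) hab

omit hL in
open Classical in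
/-- The points extending an independent set. -/
noncomputable def ext1 (L : Set (Finset α)) (S : Finset α) : Finset α :=
  univ.filter fun x => x ∉ S ∧ Ind L (insert x S)

omit hL in
lemma mem_ext1 {S : Finset α} {x : α} : x ∈ ext1 L S ↔ x ∉ S ∧ Ind L (insert x S) := by
  simp [ext1]

omit hL in
open Classical in
/-- Independent sets of a given size. -/
noncomputable def indSets (L : Set (Finset α)) (k : ℕ) : Finset (Finset α) :=
  univ.filter fun S => S.card = k ∧ Ind L S

omit hL in
lemma mem_indSets {k : ℕ} {S : Finset α} : S ∈ indSets L k ↔ S.card = k ∧ Ind L S := by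
  simp [indSets]

omit hL in
lemma count_step (k e : ℕ) (h : ∀ S ∈ indSets L k, (ext1 L S).card = e) :
    (indSets L (k + 1)).card * (k + 1) = (indSets L k).card * e := by
  have h1 : ((indSets L k).sigma fun S => ext1 L S).card = (indSets L k).card * e := by
    rw [card_sigma, sum_const_nat h]
  have h2 : ((indSets L (k + 1)).sigma fun U => U).card = (indSets L (k + 1)).card * (k + 1) := by
    rw [card_sigma, sum_const_nat fun U hU => (mem_indSets.1 hU).1]
  rw [← h1, ← h2]
  refine card_bij' (fun p _ => ⟨p.1.erase p.2, p.2⟩) (fun p _ => ⟨insert p.2 p.1, p.2⟩) ?_ ?_ ?_ ?_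
  · rintro ⟨U, x⟩ hp
    simp only [mem_sigma, mem_indSets] at hp
    simp only [mem_sigma, mem_indSets, mem_ext1, insert_erase hp.2, notMem_erase, not_false_eq_true,
      card_erase_of_mem hp.2, hp.1.1]
    exact ⟨⟨by omega, hp.1.2.mono (erase_subset _ _)⟩, trivial, hp.1.2⟩
  · rintro ⟨S, x⟩ hp
    simp only [mem_sigma, mem_indSets, mem_ext1] at hp
    simp only [mem_sigma, mem_indSets, card_insert_of_notMem hp.2.1, hp.1.1, mem_insert_self]
    exact ⟨⟨trivial, hp.2.2⟩, trivial⟩
  · rintro ⟨U, x⟩ hp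
    simp only [mem_sigma, mem_indSets] at hp
    simp [insert_erase hp.2]
  · rintro ⟨S, x⟩ hp
    simp only [mem_sigma, mem_indSets, mem_ext1] at hp
    simp [erase_insert hp.2.1]

/-- Lines through two pairs of an independent set meet only where the pairs meet. -/
lemma ln_inter_eq {a b c : α} (hab : a ≠ b) (hac : a ≠ c) (hc : c ∉ ln hL a b) {x : α}
    (h1 : x ∈ ln hL a b) (h2 : x ∈ ln hL a c) : x = a := by
  by_contra hxa
  exact hc (line_eq hL hxa (ln_mem hL hab) (ln_mem hL hac) h1 (left_mem_ln hL hab) h2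
    (left_mem_ln hL hac) ▸ right_mem_ln hL hac)

lemma ln_comm {a b : α} (hab : a ≠ b) : ln hL a b = ln hL b a :=
  eq_ln hL hab.symm (ln_mem hL hab) (right_mem_ln hL hab) (left_mem_ln hL hab)

include hα

lemma card_ext1_two {S : Finset α} (hS : S ∈ indSets L 2) : (ext1 L S).card = 16 := by
  obtain ⟨h2, -⟩ := mem_indSets.1 hS
  obtain ⟨a, b, hab, rfl⟩ := card_eq_two.1 h2
  have : ext1 L {a, b} = univ \ ln hL a b := by
    ext x
    simp only [mem_ext1, mem_sdiff, mem_univ, true_and]
    constructor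
    · rintro ⟨hx, h⟩
      exact (ind_insert_iff hL (ind_of_card_le hL h2.le) hx).1 h a (by simp) b (by simp) hab
    · intro hx
      have hx' : x ∉ ({a, b} : Finset α) := by
        simp only [mem_insert, mem_singleton, not_or]
        exact ⟨(ne_of_mem_of_not_mem (left_mem_ln hL hab) hx).symm, (ne_of_mem_of_not_mem (right_mem_ln hL hab) hx).symm⟩
      refine ⟨hx', (ind_insert_iff hL (ind_of_card_le hL h2.le) hx').2 ?_⟩
      intro p hp q hq hpq
      simp only [mem_insert, mem_singleton] at hp hq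
      rcases hp with rfl | rfl <;> rcases hq with rfl | rfl
      · exact absurd rfl hpq
      · exact hx
      · rwa [ln_comm hL hpq]
      · exact absurd rfl hpq
  rw [this, card_univ_sdiff, hα, hL.1 _ (ln_mem hL hab)]

lemma card_ext1_three {S : Finset α} (hS : S ∈ indSets L 3) : (ext1 L S).card = 9 := by
  obtain ⟨h3, hind⟩ := mem_indSets.1 hS
  obtain ⟨a, b, c, hab, hac, hbc, rfl⟩ := card_eq_three.1 h3
  have na : a ∈ ({a, b, c} : Finset α) := by simp
  have nb : b ∈ ({a, b, c} : Finset α) := by simp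
  have nc : c ∈ ({a, b, c} : Finset α) := by simp
  set U := (ln hL a b ∪ ln hL a c) ∪ ln hL b c with hU
  have : ext1 L {a, b, c} = univ \ U := by
    ext x
    simp only [mem_ext1, mem_sdiff, mem_univ, true_and, hU, mem_union, not_or]
    constructor
    · rintro ⟨hx, h⟩
      have := (ind_insert_iff hL hind hx).1 h
      exact ⟨⟨this a na b nb hab, this a na c nc hac⟩, this b nb c nc hbc⟩
    · rintro ⟨⟨x1, x2⟩, x3⟩
      have hx : x ∉ ({a, b, c} : Finset α) := by
        simp only [mem_insert, mem_singleton, not_or]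
        exact ⟨(ne_of_mem_of_not_mem (left_mem_ln hL hab) x1).symm, (ne_of_mem_of_not_mem (right_mem_ln hL hab) x1).symm,
          (ne_of_mem_of_not_mem (right_mem_ln hL hac) x2).symm⟩
      refine ⟨hx, (ind_insert_iff hL hind hx).2 ?_⟩
      intro p hp q hq hpq
      simp only [mem_insert, mem_singleton] at hp hq
      rcases hp with rfl | rfl | rfl <;> rcases hq with rfl | rfl | rfl <;>
        first
          | exact absurd rfl hpq
          | assumption
          | (rw [ln_comm hL hpq]; assumption)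
  have e1 : ln hL a b ∩ ln hL a c = {a} := by
    ext x
    simp only [mem_inter, mem_singleton]
    exact ⟨fun h => ln_inter_eq hL hab hac (not_mem_ln hL hind na nb nc hab hac.symm hbc.symm)
      h.1 h.2, by rintro rfl; exact ⟨left_mem_ln hL hab, left_mem_ln hL hac⟩⟩
  have e2 : (ln hL a b ∪ ln hL a c) ∩ ln hL b c = {b, c} := by
    ext x
    simp only [mem_inter, mem_union, mem_insert, mem_singleton]
    constructor
    · rintro ⟨h | h, h'⟩
      · left
        rw [ln_comm hL hab] at h
        refine ln_inter_eq hL hab.symm hbc ?_ h h'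
        exact not_mem_ln hL hind nb na nc hab.symm hbc.symm hac.symm
      · right
        rw [ln_comm hL hac] at h
        rw [ln_comm hL hbc] at h'
        refine ln_inter_eq hL hac.symm hbc.symm ?_ h h'
        exact not_mem_ln hL hind nc na nb hac.symm hbc hab.symm
    · rintro (rfl | rfl)
      · exact ⟨Or.inl (right_mem_ln hL hab), left_mem_ln hL hbc⟩
      · exact ⟨Or.inr (right_mem_ln hL hac), right_mem_ln hL hbc⟩
  have h1 := card_union_add_card_inter (ln hL a b) (ln hL a c)
  have h2 := card_union_add_card_inter (ln hL a b ∪ ln hL a c) (ln hL b c)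
  rw [e1, card_singleton, hL.1 _ (ln_mem hL hab), hL.1 _ (ln_mem hL hac)] at h1
  rw [e2, card_pair hbc, hL.1 _ (ln_mem hL hbc)] at h2
  rw [this, card_univ_sdiff, hα, hU]
  omega

lemma card_ext1_four {S : Finset α} (hS : S ∈ indSets L 4) : (ext1 L S).card = 2 := by
  obtain ⟨h4, hind⟩ := mem_indSets.1 hS
  obtain ⟨a, b, c, d, hab, hac, had, hbc, hbd, hcd, rfl⟩ := card_eq_four.1 h4
  have na : a ∈ ({a, b, c, d} : Finset α) := by simp
  have nb : b ∈ ({a, b, c, d} : Finset α) := by simp
  have nc : c ∈ ({a, b, c, d} : Finset α) := by simp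
  have nd : d ∈ ({a, b, c, d} : Finset α) := by simp
  have nm := @not_mem_ln _ _ _ _ hL _ hind
  set U1 := ln hL a b ∪ ln hL c d with hU1
  set U2 := ln hL a c ∪ ln hL b d with hU2
  set U3 := ln hL a d ∪ ln hL b c with hU3
  have hext : ext1 L {a, b, c, d} = univ \ (U1 ∪ U2 ∪ U3) := by
    ext x
    simp only [mem_ext1, mem_sdiff, mem_univ, true_and, hU1, hU2, hU3, mem_union, not_or]
    constructor
    · rintro ⟨hx, h⟩
      have := (ind_insert_iff hL hind hx).1 h
      exact ⟨⟨⟨this a na b nb hab, this c nc d nd hcd⟩, this a na c nc hac, this b nb d nd hbd⟩,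
        this a na d nd had, this b nb c nc hbc⟩
    · rintro ⟨⟨⟨x1, x2⟩, x3, x4⟩, x5, x6⟩
      have hx : x ∉ ({a, b, c, d} : Finset α) := by
        simp only [mem_insert, mem_singleton, not_or]
        exact ⟨(ne_of_mem_of_not_mem (left_mem_ln hL hab) x1).symm, (ne_of_mem_of_not_mem (right_mem_ln hL hab) x1).symm,
          (ne_of_mem_of_not_mem (left_mem_ln hL hcd) x2).symm, (ne_of_mem_of_not_mem (right_mem_ln hL hcd) x2).symm⟩
      refine ⟨hx, (ind_insert_iff hL hind hx).2 ?_⟩
      intro p hp q hq hpq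
      simp only [mem_insert, mem_singleton] at hp hq
      rcases hp with rfl | rfl | rfl | rfl <;> rcases hq with rfl | rfl | rfl | rfl <;>
        first
          | exact absurd rfl hpq
          | assumption
          | (rw [ln_comm hL hpq]; assumption)
  -- the union of two opposite lines
  have hopp : ∀ p q r s : α, p ∈ ({a, b, c, d} : Finset α) → q ∈ ({a, b, c, d} : Finset α) →
      r ∈ ({a, b, c, d} : Finset α) → p ≠ q → r ≠ p → r ≠ q → r ≠ s →
      (ln hL p q ∪ ln hL r s).card = 9 := by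
    intro p q r s hp hq hr hpq hrp hrq hrs
    have hne : ln hL p q ≠ ln hL r s := fun e =>
      nm hp hq hr hpq hrp hrq (e.symm ▸ left_mem_ln hL hrs)
    have h1 := card_union_add_card_inter (ln hL p q) (ln hL r s)
    rw [card_inter hL hα (ln_mem hL hpq) (ln_mem hL hrs) hne, hL.1 _ (ln_mem hL hpq),
      hL.1 _ (ln_mem hL hrs)] at h1
    omega
  -- two of the unions meet in the four points only
  have hadj : ∀ p q r : α, p ∈ ({a, b, c, d} : Finset α) → q ∈ ({a, b, c, d} : Finset α) →
      r ∈ ({a, b, c, d} : Finset α) → p ≠ q → r ≠ p → r ≠ q → ∀ x, x ∈ ln hL p q →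
      x ∈ ln hL p r → x = p := fun p q r hp hq hr hpq hrp hrq x h1 h2 =>
    ln_inter_eq hL hpq hrp.symm (nm hp hq hr hpq hrp hrq) h1 h2
  have i12 : U1 ∩ U2 = {a, b, c, d} := by
    ext x
    simp only [hU1, hU2, mem_inter, mem_union, mem_insert, mem_singleton]
    constructor
    · rintro ⟨h1 | h1, h2 | h2⟩
      · exact Or.inl (hadj a b c na nb nc hab hac.symm hbc.symm x h1 h2)
      · rw [ln_comm hL hab] at h1
        exact Or.inr (Or.inl (hadj b a d nb na nd hab.symm hbd.symm had.symm x h1 h2))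
      · rw [ln_comm hL hac] at h2
        exact Or.inr (Or.inr (Or.inl (hadj c d a nc nd na hcd hac had x h1 h2)))
      · rw [ln_comm hL hcd] at h1
        rw [ln_comm hL hbd] at h2
        exact Or.inr (Or.inr (Or.inr (hadj d c b nd nc nb hcd.symm hbd hbc x h1 h2)))
    · rintro (rfl | rfl | rfl | rfl)
      · exact ⟨Or.inl (left_mem_ln hL hab), Or.inl (left_mem_ln hL hac)⟩
      · exact ⟨Or.inl (right_mem_ln hL hab), Or.inr (left_mem_ln hL hbd)⟩
      · exact ⟨Or.inr (left_mem_ln hL hcd), Or.inl (right_mem_ln hL hac)⟩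
      · exact ⟨Or.inr (right_mem_ln hL hcd), Or.inr (right_mem_ln hL hbd)⟩
  have i123 : (U1 ∪ U2) ∩ U3 = {a, b, c, d} := by
    ext x
    simp only [hU1, hU2, hU3, mem_inter, mem_union, mem_insert, mem_singleton]
    constructor
    · rintro ⟨(h1 | h1) | (h1 | h1), h2 | h2⟩
      · exact Or.inl (hadj a b d na nb nd hab had.symm hbd.symm x h1 h2)
      · rw [ln_comm hL hab] at h1
        exact Or.inr (Or.inl (hadj b a c nb na nc hab.symm hbc.symm hac.symm x h1 h2))
      · rw [ln_comm hL hcd] at h1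
        rw [ln_comm hL had] at h2
        exact Or.inr (Or.inr (Or.inr (hadj d c a nd nc na hcd.symm had hac x h1 h2)))
      · rw [ln_comm hL hbc] at h2
        exact Or.inr (Or.inr (Or.inl (hadj c d b nc nd nb hcd hbc hbd x h1 h2)))
      · exact Or.inl (hadj a c d na nc nd hac had.symm hcd.symm x h1 h2)
      · rw [ln_comm hL hac] at h1
        rw [ln_comm hL hbc] at h2
        exact Or.inr (Or.inr (Or.inl (hadj c a b nc na nb hac.symm hbc hab.symm x h1 h2)))
      · rw [ln_comm hL hbd] at h1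
        rw [ln_comm hL had] at h2
        exact Or.inr (Or.inr (Or.inr (hadj d b a nd nb na hbd.symm had hab x h1 h2)))
      · exact Or.inr (Or.inl (hadj b d c nb nd nc hbd hbc.symm hcd x h1 h2))
    · rintro (rfl | rfl | rfl | rfl)
      · exact ⟨Or.inl (Or.inl (left_mem_ln hL hab)), Or.inl (left_mem_ln hL had)⟩
      · exact ⟨Or.inl (Or.inl (right_mem_ln hL hab)), Or.inr (left_mem_ln hL hbc)⟩
      · exact ⟨Or.inl (Or.inr (left_mem_ln hL hcd)), Or.inr (right_mem_ln hL hbc)⟩
      · exact ⟨Or.inl (Or.inr (right_mem_ln hL hcd)), Or.inl (right_mem_ln hL had)⟩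
  have c1 : U1.card = 9 := hopp a b c d na nb nc hab hac.symm hbc.symm hcd
  have c2 : U2.card = 9 := hopp a c b d na nc nb hac hab.symm hbc hbd
  have c3 : U3.card = 9 := hopp a d b c na nd nb had hab.symm hbd hbc
  have h1 := card_union_add_card_inter U1 U2
  have h2 := card_union_add_card_inter (U1 ∪ U2) U3
  rw [i12] at h1
  rw [i123] at h2
  rw [hext, card_univ_sdiff, hα]
  omega

lemma card_indSets_four : (indSets L 4).card = 2520 := by
  have h2 : (indSets L 2).card = 210 := by
    have : indSets L 2 = powersetCard 2 univ := by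
      ext S
      rw [mem_indSets, mem_powersetCard]
      exact ⟨fun h => ⟨subset_univ S, h.1⟩, fun h => ⟨h.2, ind_of_card_le hL h.2.le⟩⟩
    rw [this, card_powersetCard, card_univ, hα]
    decide
  have e2 := count_step 2 16 fun S => card_ext1_two hL hα (S := S)
  have e3 := count_step 3 9 fun S => card_ext1_three hL hα (S := S)
  norm_num at e2 e3
  omega

/-- An independent 4-set lies in exactly one hyperoval. -/
lemma existsUnique_oval {S : Finset α} (hS : S ∈ indSets L 4) :
    ∃! H, (H.card = 6 ∧ Ind L H) ∧ S ⊆ H := by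
  obtain ⟨h4, hind⟩ := mem_indSets.1 hS
  have h2 := card_ext1_four hL hα hS
  have hd : Disjoint S (ext1 L S) := disjoint_left.2 fun x hx hx' => (mem_ext1.1 hx').1 hx
  refine ⟨S ∪ ext1 L S, ⟨⟨by rw [card_union_of_disjoint hd]; omega, ?_⟩, subset_union_left⟩, ?_⟩
  · obtain ⟨p, q, hpq, he⟩ := card_eq_two.1 h2
    obtain ⟨hpS, hp⟩ := mem_ext1.1 (show p ∈ ext1 L S by rw [he]; simp)
    obtain ⟨hqS, hq⟩ := mem_ext1.1 (show q ∈ ext1 L S by rw [he]; simp)
    rw [he, show S ∪ {p, q} = insert q (insert p S) by ext x; simp; tauto]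
    have hqp : q ∉ insert p S := by simp [hpq.symm, hqS]
    refine (ind_insert_iff hL hp hqp).2 ?_
    have hpS' := (ind_insert_iff hL hind hpS).1 hp
    have hqS' := (ind_insert_iff hL hind hqS).1 hq
    -- no line through p, q and a point of S
    have key : ∀ a ∈ S, q ∉ ln hL p a := by
      intro a ha hqa
      have hpa : p ≠ a := fun e => hpS (e ▸ ha)
      set l := ln hL p a with hl
      have hlm : l ∈ L := ln_mem hL hpa
      obtain ⟨b, c, d, hbc, hbd, hcd, he3⟩ : ∃ b c d, b ≠ c ∧ b ≠ d ∧ c ≠ d ∧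
          S.erase a = {b, c, d} :=
        card_eq_three.1 (by rw [card_erase_of_mem ha, h4])
      have hmem : ∀ x ∈ ({b, c, d} : Finset α), x ∈ S ∧ x ≠ a ∧ x ∉ l := by
        intro x hx
        rw [← he3, mem_erase] at hx
        refine ⟨hx.2, hx.1, fun hxl => ?_⟩
        exact hpS' a ha x hx.2 hx.1.symm
          (eq_ln hL hx.1.symm hlm (right_mem_ln hL hpa) hxl ▸ left_mem_ln hL hpa)
      obtain ⟨hb, hba, hbl⟩ := hmem b (by simp)
      obtain ⟨hc, hca, hcl⟩ := hmem c (by simp)
      obtain ⟨hd', hda, hdl⟩ := hmem d (by simp)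
      -- the three points where l meets the sides of the triangle
      have hcl' : ∀ x y, x ∈ S → y ∈ S → x ≠ y → x ∉ l → ∃ z, z ∈ l ∧ z ∈ ln hL x y ∧
          z ≠ p ∧ z ≠ q := by
        intro x y hx hy hxy _
        obtain ⟨z, hz⟩ := inter_nonempty hL hα hlm (ln_mem hL hxy)
        rw [mem_inter] at hz
        exact ⟨z, hz.1, hz.2, fun e => hpS' x hx y hy hxy (e ▸ hz.2),
          fun e => hqS' x hx y hy hxy (e ▸ hz.2)⟩
      obtain ⟨z1, l1, m1, p1, q1⟩ := hcl' b c hb hc hbc hbl
      obtain ⟨z2, l2, m2, p2, q2⟩ := hcl' b d hb hd' hbd hbl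
      obtain ⟨z3, l3, m3, p3, q3⟩ := hcl' c d hc hd' hcd hcl
      have ha1 : ∀ x y, x ∈ S → y ∈ S → x ≠ y → x ≠ a → y ≠ a → ∀ z ∈ ln hL x y, z ≠ a :=
        fun x y hx hy hxy hxa hya z hz e =>
          not_mem_ln hL hind hx hy ha hxy hxa.symm hya.symm (e ▸ hz)
      have d12 : z1 ≠ z2 := fun e => hbl (ln_inter_eq hL hbc hbd
        (not_mem_ln hL hind hb hc hd' hbc hbd.symm hcd.symm) m1 (e ▸ m2) ▸ l1)
      have d13 : z1 ≠ z3 := fun e => hcl (ln_inter_eq hL hbc.symm hcd
        (not_mem_ln hL hind hc hb hd' hbc.symm hcd.symm hbd.symm)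
        (ln_comm hL hbc ▸ m1) (e ▸ m3) ▸ l1)
      have d23 : z2 ≠ z3 := fun e => hdl (ln_inter_eq hL hbd.symm hcd.symm
        (not_mem_ln hL hind hd' hb hc hbd.symm hcd hbc.symm)
        (ln_comm hL hbd ▸ m2) (ln_comm hL hcd ▸ e ▸ m3) ▸ l2)
      have hsub : ({p, q, a, z1, z2, z3} : Finset α) ⊆ l := by
        simp only [insert_subset_iff, singleton_subset_iff]
        exact ⟨left_mem_ln hL hpa, hqa, right_mem_ln hL hpa, l1, l2, l3⟩
      have hcard : ({p, q, a, z1, z2, z3} : Finset α).card = 6 := by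
        have hqa' : q ≠ a := fun e => hqS (e ▸ ha)
        rw [card_insert_of_notMem, card_insert_of_notMem, card_insert_of_notMem,
          card_eq_three.2 ⟨z1, z2, z3, d12, d13, d23, rfl⟩]
        · simp only [mem_insert, mem_singleton, not_or]
          exact ⟨(ha1 b c hb hc hbc hba hca z1 m1).symm, (ha1 b d hb hd' hbd hba hda z2 m2).symm,
            (ha1 c d hc hd' hcd hca hda z3 m3).symm⟩
        · simp only [mem_insert, mem_singleton, not_or]
          exact ⟨hqa', q1.symm, q2.symm, q3.symm⟩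
        · simp only [mem_insert, mem_singleton, not_or]
          exact ⟨hpq, hpa, p1.symm, p2.symm, p3.symm⟩
      have := card_le_card hsub
      rw [hcard, hL.1 l hlm] at this
      omega
    intro a ha b hb hab
    rw [mem_insert] at ha hb
    rcases ha with rfl | ha <;> rcases hb with rfl | hb
    · exact absurd rfl hab
    · exact key b hb
    · rw [ln_comm hL hab]; exact key a ha
    · exact hqS' a ha b hb hab
  · rintro H ⟨⟨h6, hH⟩, hSH⟩
    refine (eq_of_subset_of_card_le (fun x hx => ?_) ?_)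
    · rw [mem_union]
      by_cases hxS : x ∈ S
      · exact Or.inl hxS
      · exact Or.inr (mem_ext1.2 ⟨hxS, hH.mono (insert_subset hx hSH)⟩)
    · rw [card_union_of_disjoint hd]; omega

lemma card_indSets_six : (indSets L 6).card = 168 := by
  have h1 : ∑ H ∈ indSets L 6, ((powersetCard 4 H)).card = (indSets L 6).card * 15 := by
    refine sum_const_nat fun H hH => ?_
    rw [card_powersetCard, (mem_indSets.1 hH).1]
    decide
  have h2 : (indSets L 4) = (indSets L 6).biUnion fun H => powersetCard 4 H := by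
    ext S
    simp only [mem_biUnion, mem_powersetCard]
    constructor
    · intro hS
      obtain ⟨H, ⟨h6, hSH⟩, -⟩ := existsUnique_oval hL hα hS
      exact ⟨H, mem_indSets.2 h6, hSH, (mem_indSets.1 hS).1⟩
    · rintro ⟨H, hH, hSH, h4⟩
      exact mem_indSets.2 ⟨h4, (mem_indSets.1 hH).2.mono hSH⟩
  have h3 := card_indSets_four hL hα
  rw [h2, card_biUnion] at h3
  · omega
  · intro H hH H' hH' hne
    rw [Function.onFun, disjoint_left]
    intro S hS hS'
    rw [mem_powersetCard] at hS hS'
    have hS4 : S ∈ indSets L 4 := mem_indSets.2 ⟨hS.2, (mem_indSets.1 hH).2.mono hS.1⟩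
    obtain ⟨K, -, hu⟩ := existsUnique_oval hL hα hS4
    exact hne ((hu H ⟨mem_indSets.1 hH, hS.1⟩).trans (hu H' ⟨mem_indSets.1 hH', hS'.1⟩).symm)

omit hL hα in
/-- Label the points of a hyperoval. -/
lemma exists_label {H : Finset α} (hH : Ind L H) (f : Fin 6 ≃ H) :
    ∃ O : Oval L, ∀ i, O.pt i = f i := by
  refine ⟨⟨fun i => f i, Subtype.val_injective.comp f.injective, ?_⟩, fun i => rfl⟩
  intro l hl i j k hij hik hjk hi hj hk
  have hne : ∀ {a b : Fin 6}, a ≠ b → (f a : α) ≠ f b := fun h e =>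
    h (f.injective (Subtype.ext e))
  have h3 : ({(f i : α), (f j : α), (f k : α)} : Finset α) ⊆ l ∩ H := by
    simp only [insert_subset_iff, singleton_subset_iff, mem_inter]
    exact ⟨⟨hi, (f i).2⟩, ⟨hj, (f j).2⟩, hk, (f k).2⟩
  have := (card_le_card h3).trans (hH l hl)
  rw [card_eq_three.2 ⟨_, _, _, hne hij, hne hik, hne hjk, rfl⟩] at this
  omega

lemma exists_oval : Nonempty (Oval L) := by
  have h := card_indSets_six hL hα
  obtain ⟨H, hH⟩ : (indSets L 6).Nonempty := card_pos.1 (by omega)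
  obtain ⟨h6, hind⟩ := mem_indSets.1 hH
  obtain ⟨O, -⟩ := exists_label hind (H.equivFinOfCardEq h6).symm
  exact ⟨O⟩

end Cfsg.Agent.H95.Plane21
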