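/-
Vectors all of whose transvections lie in a subgroup.
-/
import Cfsg.Agent.H95.SubspaceStab

set_option autoImplicit false

namespace Cfsg.Agent.H95

open scoped MatrixGroups Matrix
open Matrix

variable {ι : Type} [Fintype ι] [DecidableEq ι] {F : Type*} [Field F]

/-- The vectors all of whose transvections lie in `M`; this is a subspace invariant under `M`. -/
def fan (M : Subgroup (GL ι F)) : Submodule F (ι → F) where
  carrier := {a | ∀ φ, φ ⬝ᵥ a = 0 → InTv M a φ}
  zero_mem' φ _ := inTv_zero_left M φ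
  smul_mem' c a ha φ hφ := by
    rcases eq_or_ne c 0 with rfl | hc
    · rw [zero_smul]; exact inTv_zero_left M φ
    · rw [dotProduct_smul, smul_eq_mul, mul_eq_zero] at hφ
      have hφ' := hφ.resolve_left hc
      exact inTv_smul_left (ha _ (by simp [hφ'])) hφ'
  add_mem' {a b} ha hb φ hφ := by
    by_cases hab : b ∈ Submodule.span F {a}
    · obtain ⟨c, rfl⟩ := Submodule.mem_span_singleton.1 hab
      have e : a + c • a = (1 + c) • a := by rw [add_smul, one_smul]
      rcases eq_or_ne (1 + c) 0 with h | h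
      · rw [e, h, zero_smul]; exact inTv_zero_left M φ
      · rw [e, dotProduct_smul, smul_eq_mul, mul_eq_zero] at hφ
        have hφ' := hφ.resolve_left h
        rw [e]
        exact inTv_smul_left (ha _ (by simp [hφ'])) hφ'
    · -- conjugate the transvections at `b` by one at `a`
      obtain ⟨ψ, hψb, hψ⟩ := exists_covec (Submodule.span F {a}) hab
      have h0 := hψ a (Submodule.mem_span_singleton_self a)
      obtain ⟨h0', hg⟩ := ha ψ h0
      have hgb : (tv a ψ h0' : Matrix ι ι F) *ᵥ b = a + b := by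
        rw [tv_mulVec, hψb, one_smul, add_comm]
      have h1 := (hb (φ ᵥ* (tv a ψ h0' : Matrix ι ι F))
        (by rw [← dotProduct_mulVec, hgb, hφ])).conj hg
      rwa [hgb, vecMul_vecMul, ← Units.val_mul, mul_inv_cancel, Units.val_one, vecMul_one] at h1

lemma mem_fan {M : Subgroup (GL ι F)} {a : ι → F} :
    a ∈ fan M ↔ ∀ φ, φ ⬝ᵥ a = 0 → InTv M a φ := Iff.rfl

lemma mulVec_mem_fan {M : Subgroup (GL ι F)} {g : GL ι F} (hg : g ∈ M) {a : ι → F}
    (ha : a ∈ fan M) : (g : Matrix ι ι F) *ᵥ a ∈ fan M := by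
  intro φ hφ
  have h1 := (ha (φ ᵥ* (g : Matrix ι ι F)) (by rwa [← dotProduct_mulVec])).conj hg
  rwa [vecMul_vecMul, ← Units.val_mul, mul_inv_cancel, Units.val_one, vecMul_one] at h1

/-- If all vectors are in the fan, `M` contains the special linear group. -/
lemma specialLinear_le_of_fan {M : Subgroup (GL ι F)} (h : fan M = ⊤) :
    Geo.specialLinear ι F ≤ M :=
  specialLinear_le fun a φ h0 => (h.symm ▸ Submodule.mem_top : a ∈ fan M) φ h0

end Cfsg.Agent.H95
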