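/-
Dilatations, monomial matrices and small lemmas on transvection pairs.
-/
import Cfsg.Agent.H95.Fan

set_option autoImplicit false

namespace Cfsg.Agent.H95

open scoped MatrixGroups Matrix
open Matrix

variable {ι : Type} [Fintype ι] [DecidableEq ι] {F : Type*} [Field F]

set_option linter.unusedSectionVars false

lemma InTv.neg_right {H : Subgroup (GL ι F)} {a φ : ι → F} (h : InTv H a φ) : InTv H a (-φ) :=
  ⟨by rw [neg_dotProduct, h.1, neg_zero], by
    convert H.inv_mem h.2 using 1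
    exact Units.ext rfl⟩

lemma InTv.neg_left {H : Subgroup (GL ι F)} {a φ : ι → F} (h : InTv H a φ) : InTv H (-a) φ := by
  have h1 : InTv H a ((-1 : F) • φ) := by rw [neg_one_smul]; exact h.neg_right
  simpa using inTv_smul_left h1 h.1

lemma InTv.sub_left {H : Subgroup (GL ι F)} {a b φ : ι → F} (h : InTv H a φ) (h' : InTv H b φ) :
    InTv H (a - b) φ := by
  rw [sub_eq_add_neg]; exact h.add_left h'.neg_left

lemma InTv.sub_right {H : Subgroup (GL ι F)} {a φ ψ : ι → F} (h : InTv H a φ) (h' : InTv H a ψ) :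
    InTv H a (φ - ψ) := by
  rw [sub_eq_add_neg]; exact h.add_right h'.neg_right

lemma inTv_smul_right {H : Subgroup (GL ι F)} {c : F} {a φ : ι → F} (h : InTv H (c • a) φ)
    (h0 : φ ⬝ᵥ a = 0) : InTv H a (c • φ) := by
  refine ⟨by simp [h0], ?_⟩
  convert h.2 using 1
  exact Units.ext (tvMat_smul_left c a φ).symm

/-- Recognise `φ ᵥ* g⁻¹`. -/
lemma vecMul_inv_eq {g : GL ι F} {φ ψ : ι → F}
    (h : ∀ x, ψ ⬝ᵥ ((g : Matrix ι ι F) *ᵥ x) = φ ⬝ᵥ x) :
    φ ᵥ* ((g⁻¹ : GL ι F) : Matrix ι ι F) = ψ := by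
  refine dotProduct_eq _ _ fun y => ?_
  rw [← dotProduct_mulVec, ← h, mulVec_inv_mulVec]

/-! ### Dilatations -/

lemma tvMat_smul_mul {a φ : ι → F} (h : φ ⬝ᵥ a = 1) {c d : F} (hcd : c + d + c * d = 0) :
    tvMat (c • a) φ * tvMat (d • a) φ = 1 := by
  refine mat_ext fun x => ?_
  rw [← mulVec_mulVec, tvMat_mulVec, tvMat_mulVec, one_mulVec, dotProduct_add, dotProduct_smul,
    dotProduct_smul, h, smul_eq_mul, smul_eq_mul, mul_one, add_assoc, smul_smul, smul_smul,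
    ← add_smul]
  rw [show φ ⬝ᵥ x * d + (φ ⬝ᵥ x + φ ⬝ᵥ x * d) * c = 0 by linear_combination (φ ⬝ᵥ x) * hcd,
    zero_smul, add_zero]

/-- The dilatation `x ↦ x + (ν - 1) (φ ⬝ᵥ x) • a` for `φ ⬝ᵥ a = 1`. -/
def dl (a φ : ι → F) (ν : Fˣ) (h : φ ⬝ᵥ a = 1) : GL ι F :=
  ⟨tvMat (((ν : F) - 1) • a) φ, tvMat ((((ν⁻¹ : Fˣ) : F) - 1) • a) φ,
    tvMat_smul_mul h (by linear_combination ν.mul_inv),
    tvMat_smul_mul h (by linear_combination ν.inv_mul)⟩

lemma dl_mulVec (a φ : ι → F) (ν : Fˣ) (h : φ ⬝ᵥ a = 1) (x : ι → F) :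
    (dl a φ ν h : Matrix ι ι F) *ᵥ x = x + (((ν : F) - 1) * (φ ⬝ᵥ x)) • a := by
  show tvMat _ φ *ᵥ x = _
  rw [tvMat_mulVec, smul_smul, mul_comm]

lemma dl_inv (a φ : ι → F) (ν : Fˣ) (h : φ ⬝ᵥ a = 1) : (dl a φ ν h)⁻¹ = dl a φ ν⁻¹ h :=
  Units.ext rfl

lemma dl_det (a φ : ι → F) (ν : Fˣ) (h : φ ⬝ᵥ a = 1) :
    (dl a φ ν h : Matrix ι ι F).det = ν := by
  show (tvMat _ φ).det = _
  rw [tvMat, vecMulVec_eq Unit, det_one_add_replicateCol_mul_replicateRow, dotProduct_smul, h,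
    smul_eq_mul, mul_one, add_sub_cancel]

/-- `H` contains the dilatation given by `(a, φ, ν)`. -/
def InDl (H : Subgroup (GL ι F)) (a φ : ι → F) (ν : Fˣ) : Prop :=
  ∃ h : φ ⬝ᵥ a = 1, dl a φ ν h ∈ H

lemma InDl.inv {H : Subgroup (GL ι F)} {a φ : ι → F} {ν : Fˣ} (h : InDl H a φ ν) :
    InDl H a φ ν⁻¹ := ⟨h.1, by rw [← dl_inv]; exact H.inv_mem h.2⟩

lemma InDl.conj {H : Subgroup (GL ι F)} {a φ : ι → F} {ν : Fˣ} (h : InDl H a φ ν) {g : GL ι F}
    (hg : g ∈ H) :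
    InDl H ((g : Matrix ι ι F) *ᵥ a) (φ ᵥ* ((g⁻¹ : GL ι F) : Matrix ι ι F)) ν := by
  obtain ⟨h0, h1⟩ := h
  refine ⟨?_, ?_⟩
  · rw [← dotProduct_mulVec, inv_mulVec_mulVec, h0]
  · convert H.mul_mem (H.mul_mem hg h1) (H.inv_mem hg) using 1
    refine gl_ext fun x => ?_
    rw [dl_mulVec, mul_mulVec, mul_mulVec, dl_mulVec, mulVec_add, mulVec_smul, mulVec_inv_mulVec,
      ← dotProduct_mulVec]

/-- Two dilatations with the same functional give a transvection. -/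
lemma InDl.tv_left {H : Subgroup (GL ι F)} {a b φ : ι → F} {ν : Fˣ} (h : InDl H a φ ν)
    (h' : InDl H b φ ν) : InTv H ((((ν⁻¹ : Fˣ) : F) - 1) • (a - b)) φ := by
  refine ⟨by rw [dotProduct_smul, dotProduct_sub, h.1, h'.1, sub_self, smul_zero], ?_⟩
  convert H.mul_mem h'.2 h.inv.2 using 1
  refine gl_ext fun x => ?_
  rw [mul_mulVec, tv_mulVec, dl_mulVec, dl_mulVec, dotProduct_add, dotProduct_smul, h.1]
  ext i
  simp only [Pi.add_apply, Pi.smul_apply, Pi.sub_apply, smul_eq_mul]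
  linear_combination -(φ ⬝ᵥ x) * b i * ν.mul_inv

/-- Two dilatations with the same centre give a transvection. -/
lemma InDl.tv_right {H : Subgroup (GL ι F)} {a φ ψ : ι → F} {ν : Fˣ} (h : InDl H a φ ν)
    (h' : InDl H a ψ ν) : InTv H (((ν : F) - 1) • a) (ψ - φ) := by
  refine ⟨by rw [dotProduct_smul, sub_dotProduct, h.1, h'.1, sub_self, smul_zero], ?_⟩
  convert H.mul_mem h'.2 h.inv.2 using 1
  refine gl_ext fun x => ?_
  rw [mul_mulVec, tv_mulVec, dl_mulVec, dl_mulVec, dotProduct_add, dotProduct_smul, h'.1,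
    sub_dotProduct]
  ext i
  simp only [Pi.add_apply, Pi.smul_apply, smul_eq_mul]
  linear_combination -(φ ⬝ᵥ x) * a i * ν.mul_inv

/-! ### Monomial matrices -/

/-- The monomial matrix `x ↦ (c i * x (σ i))`. -/
def mp (σ : Equiv.Perm ι) (c : ι → Fˣ) : GL ι F :=
  Matrix.GeneralLinearGroup.mkOfDetNeZero
    (Matrix.diagonal (fun i => (c i : F)) * σ.permMatrix F)
    (by
      rw [det_mul, det_diagonal, det_permutation]
      refine mul_ne_zero (Finset.prod_ne_zero_iff.2 fun i _ => (c i).ne_zero) ?_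
      rcases Int.units_eq_one_or (Equiv.Perm.sign σ) with h | h <;> simp [h])

lemma mp_apply (σ : Equiv.Perm ι) (c : ι → Fˣ) (x : ι → F) (i : ι) :
    ((mp σ c : Matrix ι ι F) *ᵥ x) i = c i * x (σ i) := by
  show ((Matrix.diagonal (fun i => (c i : F)) * σ.permMatrix F) *ᵥ x) i = _
  rw [← mulVec_mulVec, permMatrix_mulVec, mulVec_diagonal]
  rfl

lemma mp_single (σ : Equiv.Perm ι) (c : ι → Fˣ) {i j : ι} (h : σ i = j) (x : F) :
    (mp σ c : Matrix ι ι F) *ᵥ Pi.single j x = ((c i : F) * x) • Pi.single i 1 := by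
  ext k
  rw [mp_apply]
  by_cases hk : k = i
  · subst hk; simp [h]
  · have : σ k ≠ j := fun e => hk (σ.injective (e.trans h.symm))
    simp [this, hk]

lemma mp_det (σ : Equiv.Perm ι) (c : ι → Fˣ) :
    (mp σ c : Matrix ι ι F).det = (∏ i, (c i : F)) * ((Equiv.Perm.sign σ : ℤ) : F) := by
  show (Matrix.diagonal (fun i => (c i : F)) * σ.permMatrix F).det = _
  rw [det_mul, det_diagonal, det_permutation]

lemma vecMul_mp_inv (σ : Equiv.Perm ι) (c : ι → Fˣ) (φ : ι → F) :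
    φ ᵥ* (((mp σ c)⁻¹ : GL ι F) : Matrix ι ι F) = fun i => φ (σ i) / c i := by
  refine vecMul_inv_eq fun x => ?_
  simp only [dotProduct, mp_apply]
  refine Fintype.sum_equiv σ _ _ fun i => ?_
  field_simp

lemma mem_specialLinear_iff {g : GL ι F} :
    g ∈ Geo.specialLinear ι F ↔ (g : Matrix ι ι F).det = 1 := by
  rw [Geo.specialLinear, MonoidHom.mem_ker, Units.ext_iff, Matrix.GeneralLinearGroup.val_det_apply]
  rfl

lemma mulVec_single_one_apply (A : Matrix ι ι F) (i r : ι) :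
    (A *ᵥ Pi.single i (1 : F)) r = A r i := by simp

lemma single_dotProduct_one (i : ι) (x : ι → F) : Pi.single i (1 : F) ⬝ᵥ x = x i := by simp

lemma gl_entry_sum (g : GL ι F) (a b : ι) :
    ∑ j, (g : Matrix ι ι F) a j * ((g⁻¹ : GL ι F) : Matrix ι ι F) j b =
      if a = b then 1 else 0 := by
  rw [← Matrix.mul_apply, ← Units.val_mul, mul_inv_cancel, Units.val_one, one_apply]

lemma gl_cols_independent (g : GL ι F) :
    LinearIndependent F fun j => (g : Matrix ι ι F) *ᵥ Pi.single j (1 : F) := by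
  refine Fintype.linearIndependent_iff.2 fun c hc j => ?_
  have h : (g : Matrix ι ι F) *ᵥ c = 0 := by
    conv_lhs => rw [pi_eq_sum_univ' c]
    rw [Matrix.mulVec_sum]
    simp only [Matrix.mulVec_smul]
    exact hc
  rw [← inv_mulVec_mulVec g c, h, mulVec_zero, Pi.zero_apply]

end Cfsg.Agent.H95
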