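/-
A subgroup of GL with all monomial matrices and one more element contains an elementary
transvection (fields with at least five elements, dimension at least three).
-/
import Cfsg.Agent.H95.Dil

set_option autoImplicit false

namespace Cfsg.Agent.H95

open scoped MatrixGroups Matrix
open Matrix

variable {ι : Type} [Fintype ι] [DecidableEq ι] {F : Type*} [Field F]

set_option linter.unusedSectionVars false

attribute [-simp] Matrix.coe_units_inv

/-- Each column has at most one non-zero entry. -/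
def IsMono (g : GL ι F) : Prop := ∀ i, ∃ j, ∀ r, r ≠ j → (g : Matrix ι ι F) r i = 0

lemma isMono_mp (σ : Equiv.Perm ι) (c : ι → Fˣ) : IsMono (mp σ c) := by
  intro i
  refine ⟨σ.symm i, fun r hr => ?_⟩
  rw [← mulVec_single_one_apply (mp σ c : Matrix ι ι F) i r, mp_apply]
  have : σ r ≠ i := fun e => hr (by rw [← e, σ.symm_apply_apply])
  simp [this]

lemma exists_two_of_not_isMono {g : GL ι F} (h : ¬ IsMono g) :
    ∃ i a b, a ≠ b ∧ (g : Matrix ι ι F) a i ≠ 0 ∧ (g : Matrix ι ι F) b i ≠ 0 := by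
  simp only [IsMono, not_forall, not_exists] at h
  obtain ⟨i, hi⟩ := h
  obtain ⟨a, -, ha⟩ := hi i
  obtain ⟨b, hb, hb'⟩ := hi a
  exact ⟨i, a, b, Ne.symm hb, ha, hb'⟩

lemma isMono_inv {g : GL ι F} (h : IsMono g) : IsMono g⁻¹ := by
  choose j hj using h
  have hcol : ∀ i, (g : Matrix ι ι F) *ᵥ Pi.single i 1 =
      (g : Matrix ι ι F) (j i) i • Pi.single (j i) 1 := by
    intro i
    ext r
    rw [mulVec_single_one_apply]
    by_cases hr : r = j i
    · subst hr; simp
    · simp [hr, hj i r hr]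
  have hne : ∀ i, (g : Matrix ι ι F) (j i) i ≠ 0 := by
    intro i h0
    have h1 := hcol i
    rw [h0, zero_smul] at h1
    have h2 := congrArg (fun v => ((g⁻¹ : GL ι F) : Matrix ι ι F) *ᵥ v) h1
    simp only [inv_mulVec_mulVec, mulVec_zero] at h2
    simpa using congrFun h2 i
  have hinj : Function.Injective j := by
    intro a b hab
    by_contra hne'
    have h1 : (g : Matrix ι ι F) *ᵥ Pi.single a ((g : Matrix ι ι F) (j b) b) =
        (g : Matrix ι ι F) *ᵥ Pi.single b ((g : Matrix ι ι F) (j a) a) := by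
      have e : ∀ (i : ι) (x : F), Pi.single i x = x • (Pi.single i (1 : F) : ι → F) := by
        intro i x; ext r; simp [Pi.single_apply]
      rw [e a, e b, mulVec_smul, mulVec_smul, hcol, hcol, hab, smul_smul, smul_smul, mul_comm]
    have h2 := congrFun (gl_mulVec_injective g h1) a
    simp [hne'] at h2
    exact hne b h2
  obtain ⟨k, hk⟩ := Function.bijective_iff_has_inverse.1 (Finite.injective_iff_bijective.1 hinj)
  intro r
  refine ⟨k r, fun s hs => ?_⟩
  have h1 := hcol (k r)
  rw [hk.2 r] at h1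
  have h2 := congrArg (fun v => ((g⁻¹ : GL ι F) : Matrix ι ι F) *ᵥ v) h1
  simp only [inv_mulVec_mulVec, mulVec_smul] at h2
  have h3 := congrFun h2 s
  rw [Pi.smul_apply, mulVec_single_one_apply, smul_eq_mul, Pi.single_apply, if_neg hs] at h3
  have h4 := hne (k r)
  rw [hk.2 r] at h4
  exact (mul_eq_zero.1 h3.symm).resolve_left h4

lemma isMono_eq_mp {g : GL ι F} (h : IsMono g) : ∃ σ c, g = mp σ c := by
  have h' := isMono_inv h
  choose j hj using h
  choose k hk using h'
  have key : ∀ r, j (k r) = r ∧ (g : Matrix ι ι F) r (k r) ≠ 0 := by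
    intro r
    have h1 := gl_entry_sum g r r
    rw [if_pos rfl, Finset.sum_eq_single (k r) (fun t _ ht => by rw [hk r t ht, mul_zero])
      (fun h0 => absurd (Finset.mem_univ _) h0)] at h1
    have h2 : (g : Matrix ι ι F) r (k r) ≠ 0 := left_ne_zero_of_mul_eq_one h1
    refine ⟨?_, h2⟩
    by_contra hne
    exact h2 (hj (k r) r (Ne.symm hne))
  have hb : Function.Bijective k :=
    Finite.injective_iff_bijective.1 (Function.LeftInverse.injective fun r => (key r).1)
  refine ⟨Equiv.ofBijective k hb, fun r => Units.mk0 _ (key r).2, ?_⟩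
  refine Units.ext (Matrix.ext fun r t => ?_)
  refine Eq.trans ?_ (mulVec_single_one_apply _ t r)
  rw [mp_apply]
  simp only [Equiv.ofBijective_apply, Units.val_mk0, Pi.single_apply, mul_ite, mul_one, mul_zero]
  split_ifs with hrt
  · rw [← hrt]
  · by_contra hne
    obtain ⟨r', rfl⟩ := hb.2 t
    rcases eq_or_ne r r' with rfl | hr
    · exact hrt rfl
    · exact hne (hj (k r') r (by rw [(key r').1]; exact hr))

/-- An elementary transvection. -/
def HasElem (M : Subgroup (GL ι F)) : Prop :=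
  ∃ a b : ι, a ≠ b ∧ ∃ s : F, s ≠ 0 ∧ InTv M (s • Pi.single a 1) (Pi.single b 1)

lemma inDl_of_mp {M : Subgroup (GL ι F)} (hmp : ∀ σ c, mp σ c ∈ M) (i : ι) (ν : Fˣ) :
    InDl M (Pi.single i 1) (Pi.single i 1) ν := by
  refine ⟨by simp, ?_⟩
  convert hmp 1 (Function.update 1 i ν) using 1
  refine gl_ext fun x => ?_
  ext r
  rw [dl_mulVec, mp_apply]
  rcases eq_or_ne r i with rfl | h
  · simp; ring
  · simp [h]

lemma mp_one_single (c : ι → Fˣ) (r : ι) (x : ι → F) :
    (mp 1 (Function.update 1 r (c r)) : Matrix ι ι F) *ᵥ x =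
      x + (((c r : F) - 1) * x r) • Pi.single r 1 := by
  ext k
  rw [mp_apply]
  rcases eq_or_ne k r with rfl | h
  · simp; ring
  · simp [h]

section

variable {M : Subgroup (GL ι F)} (hmp : ∀ σ c, mp σ c ∈ M) {ν : Fˣ} (hν : (ν : F) ≠ 1)
include hmp hν

lemma hasElem_of_left {u φ : ι → F} (h : InTv M u φ) {r : ι} (hu : u r ≠ 0) (hφr : φ r = 0)
    (hφ : φ ≠ 0) : HasElem M := by
  have h1 := h.conj (hmp 1 (Function.update 1 r ν))
  have e1 : φ ᵥ* (((mp 1 (Function.update 1 r ν))⁻¹ : GL ι F) : Matrix ι ι F) = φ := by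
    rw [vecMul_mp_inv]
    ext k
    rcases eq_or_ne k r with rfl | hk
    · simp [hφr]
    · simp [hk]
  rw [e1] at h1
  have e2 : (mp 1 (Function.update 1 r ν) : Matrix ι ι F) *ᵥ u - u =
      (((ν : F) - 1) * u r) • Pi.single r 1 := by
    have := mp_one_single (fun _ => ν) r u
    rw [this, add_sub_cancel_left]
  have h2 := h1.sub_left h
  rw [e2] at h2
  obtain ⟨m, hm⟩ := Function.ne_iff.1 hφ
  rw [Pi.zero_apply] at hm
  have hmr : m ≠ r := by rintro rfl; exact hm hφr
  have h3 := h2.conj (hmp 1 (Function.update 1 m ν))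
  have e3 : (mp 1 (Function.update 1 m ν) : Matrix ι ι F) *ᵥ
      ((((ν : F) - 1) * u r) • Pi.single r 1) = (((ν : F) - 1) * u r) • Pi.single r 1 := by
    rw [mp_one_single (fun _ => ν) m]
    simp [hmr]
  rw [e3] at h3
  have h4 := h3.sub_right h2
  have e4 : φ ᵥ* (((mp 1 (Function.update 1 m ν))⁻¹ : GL ι F) : Matrix ι ι F) - φ =
      (φ m / (ν : F) - φ m) • Pi.single m 1 := by
    rw [vecMul_mp_inv]
    ext k
    rcases eq_or_ne k m with rfl | hk
    · simp
    · simp [hk]
  rw [e4] at h4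
  have h5 := inTv_smul_left h4 (by simp [hmr])
  rw [smul_smul] at h5
  refine ⟨r, m, hmr.symm, _, ?_, h5⟩
  refine mul_ne_zero (fun h0 => hν ?_) (mul_ne_zero (sub_ne_zero.2 hν) hu)
  rw [sub_eq_zero, div_eq_iff ν.ne_zero] at h0
  exact (mul_right_eq_self₀.1 h0.symm).resolve_right hm

lemma hasElem_of_right {u φ : ι → F} (h : InTv M u φ) {r : ι} (hφ : φ r ≠ 0) (hur : u r = 0)
    (hu : u ≠ 0) : HasElem M := by
  have h1 := h.conj (hmp 1 (Function.update 1 r ν))
  have e1 : (mp 1 (Function.update 1 r ν) : Matrix ι ι F) *ᵥ u = u := by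
    rw [mp_one_single (fun _ => ν) r, hur, mul_zero, zero_smul, add_zero]
  rw [e1] at h1
  have h4 := h1.sub_right h
  have e4 : φ ᵥ* (((mp 1 (Function.update 1 r ν))⁻¹ : GL ι F) : Matrix ι ι F) - φ =
      (φ r / (ν : F) - φ r) • Pi.single r 1 := by
    rw [vecMul_mp_inv]
    ext k
    rcases eq_or_ne k r with rfl | hk
    · simp
    · simp [hk]
  rw [e4] at h4
  have h5 := inTv_smul_left h4 (by simp [hur])
  have hk : φ r / (ν : F) - φ r ≠ 0 := by
    intro h0
    rw [sub_eq_zero, div_eq_iff ν.ne_zero] at h0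
    exact hν ((mul_right_eq_self₀.1 h0.symm).resolve_right hφ)
  obtain ⟨m, hm⟩ := Function.ne_iff.1 hu
  have hmr : m ≠ r := by rintro rfl; exact hm hur
  exact hasElem_of_left hmp hν h5 (r := m)
    (by rw [Pi.smul_apply, smul_eq_mul]; exact mul_ne_zero hk hm)
    (by simp [hmr]) (by simp)

end

lemma exists_unit_ne_one [Fintype F] (hq : 5 ≤ Fintype.card F) : ∃ ν : Fˣ, (ν : F) ≠ 1 := by
  classical
  obtain ⟨x, hx⟩ := Finset.exists_mem_notMem_of_card_lt_card
    (s := ({0, 1} : Finset F)) (t := Finset.univ)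
    (lt_of_le_of_lt Finset.card_le_two (by rw [Finset.card_univ]; omega))
  simp at hx
  exact ⟨Units.mk0 x hx.1, hx.2⟩

lemma exists_good_scalar [Fintype F] (hq : 5 ≤ Fintype.card F) {k : F} (hk : k ≠ 0) (hk2 : k ≠ 2) :
    ∃ ν : Fˣ, (ν : F) ≠ 1 ∧ (ν : F) ≠ 1 - k ∧ (ν : F) + ((ν⁻¹ : Fˣ) : F) ≠ 2 - k := by
  classical
  rcases hq.eq_or_lt with h5 | h6
  · have hcast : (5 : F) = 0 := by
      have := Nat.cast_card_eq_zero F
      rw [← h5] at this
      exact_mod_cast this
    have h20 : (2 : F) ≠ 0 := fun h => one_ne_zero (α := F) (by linear_combination hcast - 2 * h)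
    have h30 : (3 : F) ≠ 0 := fun h => one_ne_zero (α := F) (by linear_combination 2 * h - hcast)
    have h23 : (2 : F)⁻¹ = 3 := inv_eq_of_mul_eq_one_right (by linear_combination hcast)
    have h32 : (3 : F)⁻¹ = 2 := inv_eq_of_mul_eq_one_right (by linear_combination hcast)
    by_cases h : (2 : F) = 1 - k
    · refine ⟨Units.mk0 3 h30, ?_, ?_, ?_⟩
      · exact fun e => h20 (by rw [Units.val_mk0] at e; linear_combination e)
      · rw [Units.val_mk0, ← h]; exact fun e => one_ne_zero (α := F) (by linear_combination e)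
      · rw [Units.val_inv_eq_inv_val, Units.val_mk0, h32]
        exact fun e => hk2 (by linear_combination e - hcast)
    · refine ⟨Units.mk0 2 h20, ?_, h, ?_⟩
      · exact fun e => one_ne_zero (α := F) (by rw [Units.val_mk0] at e; linear_combination e)
      · rw [Units.val_inv_eq_inv_val, Units.val_mk0, h23]
        exact fun e => hk2 (by linear_combination e - hcast)
  · let p : Polynomial F := (Polynomial.X - Polynomial.C 1) * (Polynomial.X - Polynomial.C (1 - k))
      * (Polynomial.X ^ 2 + (Polynomial.C (k - 2) * Polynomial.X + Polynomial.C 1))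
    have h2 : (Polynomial.X ^ 2 + (Polynomial.C (k - 2) * Polynomial.X + Polynomial.C 1) :
        Polynomial F).Monic :=
      Polynomial.monic_X_pow_add (lt_of_le_of_lt Polynomial.degree_linear_le (by decide))
    have hp : p.Monic :=
      ((Polynomial.monic_X_sub_C _).mul (Polynomial.monic_X_sub_C _)).mul h2
    have hdeg : p.natDegree ≤ 4 := by
      simp only [p]
      compute_degree
    by_contra hcon
    push Not at hcon
    refine hp.ne_zero (Polynomial.eq_zero_of_natDegree_lt_card_of_eval_eq_zero p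
      (f := fun ν : Fˣ => (ν : F)) (fun a b h => Units.ext h) (fun ν => ?_) ?_)
    · simp only [p, Polynomial.eval_mul, Polynomial.eval_sub, Polynomial.eval_add,
        Polynomial.eval_pow, Polynomial.eval_X, Polynomial.eval_C]
      by_cases a1 : (ν : F) = 1
      · rw [a1]; ring
      by_cases a2 : (ν : F) = 1 - k
      · rw [a2]; ring
      have a3 := hcon ν a1 a2
      have : (ν : F) ^ 2 + ((k - 2) * (ν : F) + 1) = 0 := by
        linear_combination (ν : F) * a3 - ν.mul_inv
      rw [this, mul_zero]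
    · rw [Fintype.card_units]; omega

open Classical in
/-- Main result of this file. -/
theorem hasElem_of_not_isMono [Fintype F] (hq : 5 ≤ Fintype.card F) (hn : 3 ≤ Fintype.card ι)
    {M : Subgroup (GL ι F)} (hmp : ∀ σ c, mp σ c ∈ M) {g : GL ι F} (hg : g ∈ M)
    (hmono : ¬ IsMono g) : HasElem M := by
  obtain ⟨ν0, hν0⟩ := exists_unit_ne_one hq
  by_contra hno
  have href : ∀ h ∈ M, ∀ (i : ι) (ν : Fˣ), InDl M (fun r => (h : Matrix ι ι F) r i)
      (fun r => ((h⁻¹ : GL ι F) : Matrix ι ι F) i r) ν := by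
    intro h hh i ν
    have h1 := (inDl_of_mp hmp i ν).conj hh
    convert h1 using 1
    · ext r; simp
    · ext r; simp
  have hu0 : ((ν0⁻¹ : Fˣ) : F) - 1 ≠ 0 := by
    rw [sub_ne_zero, Units.val_inv_eq_inv_val]
    simpa using hν0
  -- supports of a column and of the inverse row agree
  have hsymm : ∀ h ∈ M, ∀ r i, (h : Matrix ι ι F) r i ≠ 0 ↔
      ((h⁻¹ : GL ι F) : Matrix ι ι F) i r ≠ 0 := by
    intro h hh r i
    have h1 := href h hh i ν0
    obtain ⟨h10, -⟩ := id h1
    constructor
    · intro hr hα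
      have h2 := h1.conj (hmp 1 (Function.update 1 r ν0))
      have e1 : (fun s => ((h⁻¹ : GL ι F) : Matrix ι ι F) i s) ᵥ*
          (((mp 1 (Function.update 1 r ν0))⁻¹ : GL ι F) : Matrix ι ι F) =
          fun s => ((h⁻¹ : GL ι F) : Matrix ι ι F) i s := by
        rw [vecMul_mp_inv]
        ext k
        rcases eq_or_ne k r with rfl | hk
        · simp [hα]
        · simp [hk]
      rw [e1, mp_one_single (fun _ => ν0) r] at h2
      have h3 := h2.tv_left h1
      rw [add_sub_cancel_left, smul_smul] at h3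
      refine hno (hasElem_of_left hmp hν0 h3 (r := r) ?_ hα fun e => ?_)
      · simp only [Pi.smul_apply, Pi.single_eq_same, smul_eq_mul, mul_one]
        exact mul_ne_zero hu0 (mul_ne_zero (sub_ne_zero.2 hν0) hr)
      · rw [e, zero_dotProduct] at h10; exact zero_ne_one h10
    · intro hα hr
      have h2 := h1.conj (hmp 1 (Function.update 1 r ν0))
      rw [mp_one_single (fun _ => ν0) r] at h2
      simp only [hr, mul_zero, zero_smul, add_zero] at h2
      have h3 := h1.tv_right h2
      refine hno (hasElem_of_right hmp hν0 h3 (r := r) ?_ ?_ fun e => ?_)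
      · rw [vecMul_mp_inv]
        simp only [Pi.sub_apply, Equiv.Perm.coe_one, id_eq, Function.update_self]
        rw [sub_ne_zero, Ne, div_eq_iff ν0.ne_zero]
        exact fun e => hν0 ((mul_right_eq_self₀.1 e.symm).resolve_right hα)
      · simp [hr]
      · rw [smul_eq_zero] at e
        rcases e with e | e
        · exact hν0 (sub_eq_zero.1 e)
        · rw [e, dotProduct_zero] at h10; exact zero_ne_one h10
  -- the products are constant on supports of size at least three
  have hconst : ∀ h ∈ M, ∀ i a b k, a ≠ b → k ≠ a → k ≠ b → (h : Matrix ι ι F) a i ≠ 0 →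
      (h : Matrix ι ι F) b i ≠ 0 → (h : Matrix ι ι F) k i ≠ 0 →
      (h : Matrix ι ι F) a i * ((h⁻¹ : GL ι F) : Matrix ι ι F) i a =
      (h : Matrix ι ι F) b i * ((h⁻¹ : GL ι F) : Matrix ι ι F) i b := by
    intro h hh i a b k hab hka hkb ha hb hk
    by_contra hne
    have h1 := href h hh i ν0
    set c : ι → Fˣ := Function.update (Function.update 1 a (Units.mk0 _ (div_ne_zero ha hb))) b
      (Units.mk0 _ (div_ne_zero hb ha)) with hc
    have h2 := h1.conj (hmp (Equiv.swap a b) c)
    have e1 : (mp (Equiv.swap a b) c : Matrix ι ι F) *ᵥ (fun r => (h : Matrix ι ι F) r i) =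
        fun r => (h : Matrix ι ι F) r i := by
      ext r
      rw [mp_apply, hc]
      by_cases hra : r = a
      · subst hra; simp [hab]; field_simp
      by_cases hrb : r = b
      · subst hrb; simp; field_simp
      · simp [hra, hrb, Equiv.swap_apply_of_ne_of_ne]
    rw [e1] at h2
    have h3 := h1.tv_right h2
    refine hno (hasElem_of_left hmp hν0 h3 (r := k) ?_ ?_ fun e => hne ?_)
    · simp only [Pi.smul_apply, smul_eq_mul]
      exact mul_ne_zero (sub_ne_zero.2 hν0) hk
    · rw [vecMul_mp_inv, hc]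
      simp [hka, hkb, Equiv.swap_apply_of_ne_of_ne hka hkb]
    · have := congrFun e a
      rw [vecMul_mp_inv, hc] at this
      simp [hab, sub_eq_zero] at this
      rw [← this]
      field_simp
  -- a column with at least three non-zero entries
  obtain ⟨h, hh, i, hK⟩ : ∃ h ∈ M, ∃ i,
      2 < (Finset.univ.filter fun r => (h : Matrix ι ι F) r i ≠ 0).card := by
    by_contra hcon
    push Not at hcon
    obtain ⟨i, a, b, hab, ha, hb⟩ := exists_two_of_not_isMono hmono
    obtain ⟨r, hra, hrb⟩ : ∃ r, r ≠ a ∧ r ≠ b := by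
      obtain ⟨r, -, hr⟩ := Finset.exists_mem_notMem_of_card_lt_card
        (s := ({a, b} : Finset ι)) (t := Finset.univ)
        (lt_of_le_of_lt Finset.card_le_two (by rw [Finset.card_univ]; omega))
      simp at hr
      exact ⟨r, hr⟩
    have hsupp : ∀ s, s ≠ a → s ≠ b → (g : Matrix ι ι F) s i = 0 := by
      intro s hsa hsb
      by_contra hs
      refine absurd (hcon g hg i) (not_le.2 ?_)
      rw [Finset.two_lt_card]
      exact ⟨a, by simp [ha], b, by simp [hb], s, by simp [hs], hab, Ne.symm hsa, Ne.symm hsb⟩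
    have hαa := (hsymm g hg a i).1 ha
    have hαb := (hsymm g hg b i).1 hb
    set ua := (g : Matrix ι ι F) a i
    set ub := (g : Matrix ι ι F) b i
    set αa := ((g⁻¹ : GL ι F) : Matrix ι ι F) i a
    obtain ⟨ν, hν1, hνz⟩ : ∃ ν : Fˣ, (ν : F) ≠ 1 ∧ 1 + ((ν : F) - 1) * αa * ua ≠ 0 := by
      obtain ⟨x, -, hx⟩ := Finset.exists_mem_notMem_of_card_lt_card
        (s := ({0, 1, 1 - (αa * ua)⁻¹} : Finset F)) (t := Finset.univ)
        (lt_of_le_of_lt Finset.card_le_three (by rw [Finset.card_univ]; omega))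
      simp at hx
      refine ⟨Units.mk0 x hx.1, hx.2.1, fun e => hx.2.2 ?_⟩
      rw [Units.val_mk0] at e
      have : αa * ua ≠ 0 := mul_ne_zero hαa ha
      field_simp
      linear_combination e
    obtain ⟨h0, hd⟩ := href g hg i ν
    set σ : Equiv.Perm ι := Equiv.swap a r * Equiv.swap a b with hσ
    have hpb : σ b = r := by simp [hσ]
    obtain ⟨h0', hd'⟩ := InDl.conj ⟨h0, hd⟩ (hmp σ⁻¹ 1)
    refine absurd (hcon _ (M.mul_mem hd' hd) a) (not_le.2 ?_)
    rw [Finset.two_lt_card]
    have hval : ∀ s, ((dl _ _ ν h0' * dl _ _ ν h0 : GL ι F) : Matrix ι ι F) s a =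
        ((Pi.single a 1 : ι → F) + (((ν : F) - 1) * αa) • fun t => (g : Matrix ι ι F) t i) s +
        (((ν : F) - 1) * ((((ν : F) - 1) * αa) * ub * αa)) * (g : Matrix ι ι F) (σ⁻¹ s) i := by
      intro s
      refine (mulVec_single_one_apply _ a s).symm.trans ?_
      rw [mul_mulVec, dl_mulVec, dl_mulVec]
      have e2 : (fun t => ((g⁻¹ : GL ι F) : Matrix ι ι F) i t) ⬝ᵥ Pi.single a 1 = αa := by simp [αa]
      rw [e2, Pi.add_apply]
      congr 1
      rw [Pi.smul_apply, smul_eq_mul, mp_apply, Pi.one_apply, Units.val_one, one_mul]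
      congr 2
      rw [vecMul_mp_inv, dotProduct_add, dotProduct_smul]
      have q1 : (fun t => (fun t => ((g⁻¹ : GL ι F) : Matrix ι ι F) i t) (σ⁻¹ t) /
          (((1 : ι → Fˣ) t : Fˣ) : F)) ⬝ᵥ Pi.single a 1 =
          ((g⁻¹ : GL ι F) : Matrix ι ι F) i (σ⁻¹ a) := by simp
      have hσa : σ⁻¹ a ≠ a ∧ σ⁻¹ a ≠ b := by
        constructor <;> intro e <;> rw [Equiv.Perm.inv_eq_iff_eq] at e
        · rw [hσ] at e; simp [Equiv.swap_apply_of_ne_of_ne hab.symm hrb.symm] at e
          exact hab e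
        · rw [hpb] at e; exact hra e.symm
      have z1 : ((g⁻¹ : GL ι F) : Matrix ι ι F) i (σ⁻¹ a) = 0 := by
        by_contra hne
        exact (hsymm g hg _ i).2 hne (hsupp _ hσa.1 hσa.2)
      rw [q1, z1, zero_add]
      have q2 : (fun t => (fun t => ((g⁻¹ : GL ι F) : Matrix ι ι F) i t) (σ⁻¹ t) /
          (((1 : ι → Fˣ) t : Fˣ) : F)) ⬝ᵥ (fun t => (g : Matrix ι ι F) t i) = αa * ub := by
        rw [dotProduct, Finset.sum_eq_single b]
        · have : σ⁻¹ b = a := by
            rw [Equiv.Perm.inv_eq_iff_eq, hσ]; simp [Equiv.swap_apply_of_ne_of_ne hab.symm hrb.symm]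
          simp [this, αa, ub]
        · intro t _ htb
          by_cases hta : t = a
          · subst hta
            show ((g⁻¹ : GL ι F) : Matrix ι ι F) i (σ⁻¹ t) / _ * _ = (0 : F)
            rw [z1, zero_div, zero_mul]
          · simp [hsupp t hta htb]
        · simp
      rw [q2, smul_eq_mul]
      ring
    refine ⟨a, ?_, b, ?_, r, ?_, hab, hra.symm, hrb.symm⟩ <;>
      simp only [Finset.mem_filter, Finset.mem_univ, true_and] <;> rw [hval]
    · have : σ⁻¹ a ≠ a ∧ σ⁻¹ a ≠ b := by
        constructor <;> intro e <;> rw [Equiv.Perm.inv_eq_iff_eq] at e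
        · rw [hσ] at e; simp [Equiv.swap_apply_of_ne_of_ne hab.symm hrb.symm] at e
          exact hab e
        · rw [hpb] at e; exact hra e.symm
      rw [hsupp _ this.1 this.2]
      simpa [ua, mul_comm, mul_left_comm, mul_assoc] using hνz
    · have : σ⁻¹ b = a := by
        rw [Equiv.Perm.inv_eq_iff_eq, hσ]; simp [Equiv.swap_apply_of_ne_of_ne hab.symm hrb.symm]
      rw [this]
      simp only [Pi.add_apply, Pi.smul_apply, Pi.single_eq_of_ne hab.symm, smul_eq_mul, zero_add]
      have e : ((ν : F) - 1) * αa * ub + ((ν : F) - 1) * (((ν : F) - 1) * αa * ub * αa) * ua =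
          ((ν : F) - 1) * αa * ub * (1 + ((ν : F) - 1) * αa * ua) := by ring
      rw [e]
      exact mul_ne_zero (mul_ne_zero (mul_ne_zero (sub_ne_zero.2 hν1) hαa) hb) hνz
    · have : σ⁻¹ r = b := by rw [Equiv.Perm.inv_eq_iff_eq, hpb]
      rw [this]
      simp only [Pi.add_apply, Pi.smul_apply, Pi.single_eq_of_ne hra, smul_eq_mul, zero_add,
        hsupp r hra hrb, mul_zero]
      exact mul_ne_zero (mul_ne_zero (sub_ne_zero.2 hν1)
        (mul_ne_zero (mul_ne_zero (mul_ne_zero (sub_ne_zero.2 hν1) hαa) hb) hαa)) hb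
  -- such a column is impossible
  have hsize : ∀ h ∈ M, ∀ i, 2 < (Finset.univ.filter fun r => (h : Matrix ι ι F) r i ≠ 0).card →
      ((Finset.univ.filter fun r => (h : Matrix ι ι F) r i ≠ 0).card : F) ≠ 0 ∧
      ∀ r, (h : Matrix ι ι F) r i ≠ 0 → (h : Matrix ι ι F) r i *
        ((h⁻¹ : GL ι F) : Matrix ι ι F) i r =
        ((Finset.univ.filter fun r => (h : Matrix ι ι F) r i ≠ 0).card : F)⁻¹ := by
    intro h hh i hK
    set K := Finset.univ.filter fun r => (h : Matrix ι ι F) r i ≠ 0 with hKdef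
    obtain ⟨a, ha⟩ : K.Nonempty := Finset.card_pos.1 (by omega)
    set P := fun r => (h : Matrix ι ι F) r i * ((h⁻¹ : GL ι F) : Matrix ι ι F) i r with hP
    have hmem : ∀ r ∈ K, (h : Matrix ι ι F) r i ≠ 0 := fun r hr => by simpa [K] using hr
    have hc : ∀ r ∈ K, P r = P a := by
      intro r hr
      rcases eq_or_ne r a with rfl | hne
      · rfl
      obtain ⟨k, hk, hk'⟩ := Finset.exists_mem_notMem_of_card_lt_card
        (s := ({r, a} : Finset ι)) (t := K) (lt_of_le_of_lt Finset.card_le_two hK)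
      simp at hk'
      exact hconst h hh i r a k hne hk'.1 hk'.2 (hmem r hr) (hmem a ha) (hmem k hk)
    have hsum : (K.card : F) * P a = 1 := by
      have h1 := gl_entry_sum h⁻¹ i i
      rw [inv_inv, if_pos rfl, ← Finset.sum_subset (Finset.subset_univ K)
        (fun r _ hr => by
          have : (h : Matrix ι ι F) r i = 0 := by simpa [K] using hr
          rw [this, mul_zero])] at h1
      rw [← h1, Finset.sum_congr rfl fun r hr => (mul_comm _ _).trans (hc r hr),
        Finset.sum_const, nsmul_eq_mul]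
    refine ⟨fun e => by rw [e, zero_mul] at hsum; exact zero_ne_one hsum, fun r hr => ?_⟩
    have := hc r (by simpa [K] using hr)
    rw [show (h : Matrix ι ι F) r i * ((h⁻¹ : GL ι F) : Matrix ι ι F) i r = P r from rfl, this]
    exact (inv_eq_of_mul_eq_one_right hsum).symm
  -- entries of a conjugate dilatation
  have hent : ∀ h ∈ M, ∀ (i : ι) (ν : Fˣ), ∃ d ∈ M, ∀ r l,
      ((d : GL ι F) : Matrix ι ι F) r l = (if r = l then 1 else 0) +
        ((ν : F) - 1) * (h : Matrix ι ι F) r i * ((h⁻¹ : GL ι F) : Matrix ι ι F) i l ∧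
      ((d⁻¹ : GL ι F) : Matrix ι ι F) r l = (if r = l then 1 else 0) +
        (((ν⁻¹ : Fˣ) : F) - 1) * (h : Matrix ι ι F) r i * ((h⁻¹ : GL ι F) : Matrix ι ι F) i l := by
    intro h hh i ν
    obtain ⟨h0, hd⟩ := href h hh i ν
    refine ⟨_, hd, fun r l => ⟨?_, ?_⟩⟩
    · refine (mulVec_single_one_apply _ l r).symm.trans ?_
      rw [dl_mulVec]
      simp [Pi.single_apply]
      ring
    · refine (mulVec_single_one_apply _ l r).symm.trans ?_
      rw [dl_inv, dl_mulVec]
      simp [Pi.single_apply]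
      ring
  obtain ⟨h, hh, i, hK, hk2⟩ : ∃ h ∈ M, ∃ i,
      2 < (Finset.univ.filter fun r => (h : Matrix ι ι F) r i ≠ 0).card ∧
      ((Finset.univ.filter fun r => (h : Matrix ι ι F) r i ≠ 0).card : F) ≠ 2 := by
    by_contra hcon
    push Not at hcon
    have hk := hcon h hh i hK
    obtain ⟨hk0, hP⟩ := hsize h hh i hK
    rw [hk] at hk0 hP
    set K := Finset.univ.filter fun r => (h : Matrix ι ι F) r i ≠ 0 with hKdef
    obtain ⟨l, hl⟩ : K.Nonempty := Finset.card_pos.1 (by omega)
    have hl' : (h : Matrix ι ι F) l i ≠ 0 := by simpa [K] using hl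
    obtain ⟨d, hd, hde⟩ := hent h hh i (-1)
    have hsupp : (Finset.univ.filter fun r => ((d : GL ι F) : Matrix ι ι F) r l ≠ 0) =
        K.erase l := by
      ext r
      simp only [Finset.mem_filter, Finset.mem_univ, true_and, Finset.mem_erase, K, (hde r l).1]
      rcases eq_or_ne r l with rfl | hrl
      · simp only [ne_eq, not_true_eq_false, false_and, iff_false, not_not, ↓reduceIte]
        rw [mul_assoc, hP r hl', Units.val_neg, Units.val_one]
        field_simp
        ring
      · have h2 : ((h⁻¹ : GL ι F) : Matrix ι ι F) i l ≠ 0 := (hsymm h hh l i).1 hl'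
        have h3 : (-1 : F) - 1 ≠ 0 := fun e => hk0 (by linear_combination -e)
        simp [hrl, h2, h3]
    have hcard : (K.erase l).card + 1 = K.card := Finset.card_erase_add_one hl
    have h3 : 3 < K.card := by
      rcases (Nat.succ_le_of_lt hK).eq_or_lt with e | e
      · exfalso
        rw [← e] at hk
        exact one_ne_zero (α := F) (by push_cast at hk; linear_combination hk)
      · exact e
    have h4 := hcon d hd l (by rw [hsupp]; omega)
    rw [hsupp] at h4
    have h5 : ((K.erase l).card : F) + 1 = (K.card : F) := by rw [← hcard, Nat.cast_succ]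
    rw [h4, hk] at h5
    exact one_ne_zero (α := F) (by linear_combination h5)
  obtain ⟨hk0, hP⟩ := hsize h hh i hK
  set K := Finset.univ.filter fun r => (h : Matrix ι ι F) r i ≠ 0 with hKdef
  set k := (K.card : F)
  obtain ⟨ν, hν1, hν2, hν3⟩ := exists_good_scalar hq hk0 hk2
  obtain ⟨l, hl⟩ : K.Nonempty := Finset.card_pos.1 (by omega)
  have hmem : ∀ r ∈ K, (h : Matrix ι ι F) r i ≠ 0 := fun r hr => by simpa [K] using hr
  obtain ⟨d, hd, hde⟩ := hent h hh i ν
  have hαl : ((h⁻¹ : GL ι F) : Matrix ι ι F) i l ≠ 0 := (hsymm h hh l i).1 (hmem l hl)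
  have hdl : ((d : GL ι F) : Matrix ι ι F) l l ≠ 0 := by
    rw [(hde l l).1, if_pos rfl, mul_assoc, hP l (hmem l hl)]
    intro e
    apply hν2
    field_simp at e
    linear_combination e
  have hdr : ∀ r ∈ K, r ≠ l → ((d : GL ι F) : Matrix ι ι F) r l ≠ 0 := by
    intro r hr hrl
    rw [(hde r l).1, if_neg hrl, zero_add]
    exact mul_ne_zero (mul_ne_zero (sub_ne_zero.2 hν1) (hmem r hr)) hαl
  obtain ⟨r, hr, hrl⟩ := Finset.exists_mem_notMem_of_card_lt_card (s := ({l} : Finset ι)) (t := K)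
    (by simp; omega)
  rw [Finset.mem_singleton] at hrl
  obtain ⟨s, hs, hs'⟩ := Finset.exists_mem_notMem_of_card_lt_card (s := ({l, r} : Finset ι))
    (t := K) (lt_of_le_of_lt Finset.card_le_two hK)
  simp at hs'
  have heq := hconst d hd l l r s (Ne.symm hrl) hs'.1 hs'.2 hdl (hdr r hr hrl) (hdr s hs hs'.1)
  rw [(hde l l).1, (hde l l).2, (hde r l).1, (hde l r).2, if_pos rfl, if_neg hrl,
    if_neg (Ne.symm hrl)] at heq
  have pl := hP l (hmem l hl)
  have pr := hP r (hmem r hr)
  apply hν3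
  have hν' : (ν : F) * ((ν⁻¹ : Fˣ) : F) = 1 := ν.mul_inv
  set a := (h : Matrix ι ι F) l i
  set a' := ((h⁻¹ : GL ι F) : Matrix ι ι F) i l
  set b := (h : Matrix ι ι F) r i
  set b' := ((h⁻¹ : GL ι F) : Matrix ι ι F) i r
  set w := ((ν⁻¹ : Fˣ) : F)
  have heq' : (1 + ((ν : F) - 1) * k⁻¹) * (1 + (w - 1) * k⁻¹) =
      ((ν : F) - 1) * (w - 1) * k⁻¹ * k⁻¹ := by
    rw [← pl]
    have : ((ν : F) - 1) * b * a' * ((w - 1) * a * b') =
        ((ν : F) - 1) * (w - 1) * (a * a') * (b * b') := by ring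
    rw [pr, ← pl] at this
    linear_combination heq + this
  have hmul : k * k⁻¹ = 1 := mul_inv_cancel₀ hk0
  linear_combination k * heq' + (2 - (ν : F) - w) * hmul

end Cfsg.Agent.H95
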