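/-
A subgroup of SL containing the determinant-one monomial matrices and one more element is SL
(fields with at least five elements, dimension at least five).
-/
import Cfsg.Agent.H95.MonoGL

set_option autoImplicit false

namespace Cfsg.Agent.H95

open scoped MatrixGroups Matrix
open Matrix

variable {ι : Type} [Fintype ι] [DecidableEq ι] {F : Type*} [Field F]

set_option linter.unusedSectionVars false

attribute [-simp] Matrix.coe_units_inv

/-- `diag (ν at i, ν⁻¹ at j)`. -/
def pr (i j : ι) (ν : Fˣ) : GL ι F := mp 1 (Function.update (Function.update 1 i ν) j ν⁻¹)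

lemma pr_mulVec {i j : ι} (hij : i ≠ j) (ν : Fˣ) (x : ι → F) :
    (pr i j ν : Matrix ι ι F) *ᵥ x =
      x + (((ν : F) - 1) * x i) • Pi.single i 1 + ((((ν⁻¹ : Fˣ) : F) - 1) * x j) • Pi.single j 1 := by
  ext k
  rw [pr, mp_apply]
  by_cases hki : k = i
  · subst hki; simp [hij]; ring
  by_cases hkj : k = j
  · subst hkj; simp [Ne.symm hij]; ring
  · simp [hki, hkj]

lemma pr_det {i j : ι} (hij : i ≠ j) (ν : Fˣ) : (pr i j ν : Matrix ι ι F).det = 1 := by
  rw [pr, mp_det, Equiv.Perm.sign_one, Finset.prod_eq_mul i j hij]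
  · simp [hij]
  · intro k _ hk; simp [hk.1, hk.2]
  · simp
  · simp

lemma vecMul_pr_inv (i j : ι) (ν : Fˣ) (φ : ι → F) :
    φ ᵥ* (((pr i j ν)⁻¹ : GL ι F) : Matrix ι ι F) =
      fun k => φ k / (Function.update (Function.update (1 : ι → Fˣ) i ν) j ν⁻¹ k : F) := by
  rw [pr, vecMul_mp_inv]; rfl

lemma not_isMono_of {g : GL ι F} {i a b : ι} (hab : a ≠ b) (ha : (g : Matrix ι ι F) a i ≠ 0)
    (hb : (g : Matrix ι ι F) b i ≠ 0) : ¬ IsMono g := by
  intro h
  obtain ⟨j, hj⟩ := h i
  rcases eq_or_ne a j with rfl | haj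
  · exact hb (hj b hab.symm)
  · exact ha (hj a haj)

/-- There is an element outside the monomial group fixing a basis vector. -/
def HasFix (M : Subgroup (GL ι F)) : Prop :=
  ∃ h ∈ M, ∃ l, ¬ IsMono h ∧ (h : Matrix ι ι F) *ᵥ Pi.single l 1 = Pi.single l 1

section

variable [Fintype F] {M : Subgroup (GL ι F)}
  (hmp : ∀ σ c, (mp σ c : Matrix ι ι F).det = 1 → mp σ c ∈ M)
include hmp

lemma pr_mem {i j : ι} (hij : i ≠ j) (ν : Fˣ) : pr i j ν ∈ M := hmp _ _ (pr_det hij ν)

lemma hasFix_of_zeros (hq : 5 ≤ Fintype.card F) {g : GL ι F} (hg : g ∈ M) {l m i j s : ι}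
    (hij : i ≠ j) (hi : ((g⁻¹ : GL ι F) : Matrix ι ι F) i l = 0)
    (hj : ((g⁻¹ : GL ι F) : Matrix ι ι F) j l = 0)
    (hy : ((g⁻¹ : GL ι F) : Matrix ι ι F) i m ≠ 0)
    (hs : ((g⁻¹ : GL ι F) : Matrix ι ι F) s m ≠ 0) (hsi : s ≠ i) (hsj : s ≠ j) : HasFix M := by
  classical
  set g' := ((g⁻¹ : GL ι F) : Matrix ι ι F) with hg'
  have hfix : ∀ ν : Fˣ, ((g * pr i j ν * g⁻¹ : GL ι F) : Matrix ι ι F) *ᵥ Pi.single l 1 =
      Pi.single l 1 := by
    intro ν
    rw [mul_mulVec, mul_mulVec, pr_mulVec hij]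
    simp only [mulVec_single_one_apply]
    simp only [hg'] at hi hj
    rw [hi, hj, mul_zero, mul_zero, zero_smul, zero_smul, add_zero, add_zero, mulVec_inv_mulVec]
  by_contra hno
  have hmono : ∀ ν : Fˣ, IsMono (g * pr i j ν * g⁻¹) := by
    intro ν
    by_contra hn
    exact hno ⟨_, M.mul_mem (M.mul_mem hg (pr_mem hmp hij ν)) (M.inv_mem hg), l, hn, hfix ν⟩
  have hcol : ∀ ν : Fˣ, ∃ m' : ι, ∃ κ : F, (pr i j ν : Matrix ι ι F) *ᵥ (g' *ᵥ Pi.single m 1) =
      κ • (g' *ᵥ Pi.single m' 1) := by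
    intro ν
    obtain ⟨m', hm'⟩ := hmono ν m
    refine ⟨m', ((g * pr i j ν * g⁻¹ : GL ι F) : Matrix ι ι F) m' m, ?_⟩
    have e : ((g * pr i j ν * g⁻¹ : GL ι F) : Matrix ι ι F) *ᵥ Pi.single m 1 =
        ((g * pr i j ν * g⁻¹ : GL ι F) : Matrix ι ι F) m' m • Pi.single m' 1 := by
      ext r
      rw [mulVec_single_one_apply]
      rcases eq_or_ne r m' with rfl | hr
      · simp
      · simp [hr, hm' r hr]
    have e2 := congrArg (fun v => g' *ᵥ v) e
    simp only [mulVec_smul] at e2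
    rw [← e2, mul_mulVec, mul_mulVec, hg', inv_mulVec_mulVec]
  choose π κ hπ using hcol
  have hinj : Function.Injective π := by
    intro ν μ hνμ
    have h1 := hπ ν
    have h2 := hπ μ
    rw [hνμ] at h1
    have p : ∀ (θ : Fˣ) (k : ι), ((pr i j θ : Matrix ι ι F) *ᵥ (g' *ᵥ Pi.single m 1)) k =
        (Function.update (Function.update (1 : ι → Fˣ) i θ) j θ⁻¹ k : F) * g' k m := by
      intro θ k; rw [pr, mp_apply, mulVec_single_one_apply]; rfl
    have a1 := congrFun h1 s
    have a2 := congrFun h2 s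
    have b1 := congrFun h1 i
    have b2 := congrFun h2 i
    rw [p, Pi.smul_apply, smul_eq_mul] at a1 a2 b1 b2
    simp [hsi, hsj] at a1 a2
    simp [hij] at b1 b2
    have hw : g' s (π μ) ≠ 0 := by
      intro h0; rw [h0, mul_zero] at a2; exact hs a2
    have hk : κ ν = κ μ := mul_right_cancel₀ hw (a1.symm.trans a2)
    rw [hk, ← b2] at b1
    exact Units.ext (mul_right_cancel₀ hy b1)
  let V : Submodule F (ι → F) :=
    Submodule.span F (Set.range ![g' *ᵥ Pi.single m 1, Pi.single i 1, Pi.single j 1])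
  have hV : ∀ ν : Fˣ, g' *ᵥ Pi.single (π ν) 1 ∈ V := by
    intro ν
    have hκ : κ ν ≠ 0 := by
      intro h0
      have h1 := hπ ν
      rw [h0, zero_smul] at h1
      have h2 := congrArg (fun v => ((pr i j ν)⁻¹ : GL ι F).1 *ᵥ v) h1
      simp only [inv_mulVec_mulVec, mulVec_zero] at h2
      exact hy (by rw [← mulVec_single_one_apply g' m i, h2]; rfl)
    have hmem : (pr i j ν : Matrix ι ι F) *ᵥ (g' *ᵥ Pi.single m 1) ∈ V := by
      rw [pr_mulVec hij]
      exact V.add_mem (V.add_mem (Submodule.subset_span ⟨0, rfl⟩)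
        (V.smul_mem _ (Submodule.subset_span ⟨1, rfl⟩))) (V.smul_mem _ (Submodule.subset_span ⟨2, rfl⟩))
    rw [hπ ν] at hmem
    have := V.smul_mem (κ ν)⁻¹ hmem
    rwa [smul_smul, inv_mul_cancel₀ hκ, one_smul] at this
  have hli : LinearIndependent F fun ν : Fˣ => (⟨_, hV ν⟩ : V) :=
    LinearIndependent.of_comp V.subtype ((gl_cols_independent g⁻¹).comp π hinj)
  have h1 := hli.fintype_card_le_finrank
  have h2 : Module.finrank F V ≤ 3 :=
    (finrank_range_le_card _).trans (by simp)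
  rw [Fintype.card_units] at h1
  omega

lemma hasFix_of_two_zeros (hq : 5 ≤ Fintype.card F) (hn : 5 ≤ Fintype.card ι) {g : GL ι F}
    (hg : g ∈ M) (hmono : ¬ IsMono g) {l a b : ι} (hab : a ≠ b)
    (ha : ((g⁻¹ : GL ι F) : Matrix ι ι F) a l = 0) (hb : ((g⁻¹ : GL ι F) : Matrix ι ι F) b l = 0) :
    HasFix M := by
  classical
  set g' := ((g⁻¹ : GL ι F) : Matrix ι ι F) with hg'
  -- three zeros suffice
  have h3 : ∀ l' m i s z1 z2 : ι, z1 ≠ z2 → z1 ≠ i → z2 ≠ i → g' i l' = 0 → g' z1 l' = 0 →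
      g' z2 l' = 0 → g' i m ≠ 0 → g' s m ≠ 0 → s ≠ i → HasFix M := by
    intro l' m i s z1 z2 h12 h1i h2i hi h1 h2 hy hs hsi
    rcases eq_or_ne s z1 with rfl | hne
    · exact hasFix_of_zeros hmp hq hg (Ne.symm h2i) hi h2 hy hs hsi h12
    · exact hasFix_of_zeros hmp hq hg (Ne.symm h1i) hi h1 hy hs hsi hne
  have hsmall : ∀ l', ∀ T : Finset ι, T.card ≤ 2 → (∀ r, r ∉ T → g' r l' = 0) → HasFix M := by
    intro l' T hT hsupp
    have hmono' : ¬ IsMono g⁻¹ := fun h => hmono (inv_inv g ▸ isMono_inv h)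
    obtain ⟨m, p, q, hpq, hp, hq'⟩ := exists_two_of_not_isMono hmono'
    have hpick : ∀ i, i ∉ T → ∃ z1 z2, z1 ≠ z2 ∧ z1 ≠ i ∧ z2 ≠ i ∧ z1 ∉ T ∧ z2 ∉ T := by
      intro i _
      have hc : 1 < (Finset.univ \ insert i T).card := by
        have h1 := Finset.le_card_sdiff (insert i T) (Finset.univ : Finset ι)
        rw [Finset.card_univ] at h1
        have h2 := Finset.card_insert_le i T
        omega
      obtain ⟨z1, hz1, z2, hz2, h12⟩ := Finset.one_lt_card.1 hc
      simp at hz1 hz2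
      exact ⟨z1, z2, h12, hz1.1, hz2.1, hz1.2, hz2.2⟩
    by_cases hbad : ∃ i, i ∉ T ∧ g' i m ≠ 0
    · obtain ⟨i, hiT, hi⟩ := hbad
      obtain ⟨z1, z2, h12, h1, h2, h1T, h2T⟩ := hpick i hiT
      rcases eq_or_ne p i with rfl | hpi
      · exact h3 l' m p q z1 z2 h12 h1 h2 (hsupp p hiT) (hsupp z1 h1T) (hsupp z2 h2T) hi hq'
          hpq.symm
      · exact h3 l' m i p z1 z2 h12 h1 h2 (hsupp i hiT) (hsupp z1 h1T) (hsupp z2 h2T) hi hp hpi
    · push Not at hbad
      -- use the two zeros of the column `m` instead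
      have hsm : ∀ r, r ∉ T → g' r m = 0 := hbad
      by_contra hno
      have hout : ∀ (i m' s : ι), i ∉ T → g' i m' ≠ 0 → g' s m' ≠ 0 → s = i := by
        intro i m' s hiT hi hs
        by_contra hsi
        obtain ⟨z1, z2, h12, h1, h2, h1T, h2T⟩ := hpick i hiT
        exact hno (h3 l' m' i s z1 z2 h12 h1 h2 (hsupp i hiT) (hsupp z1 h1T) (hsupp z2 h2T) hi hs
          hsi)
      obtain ⟨i, -, hiT⟩ := Finset.exists_mem_notMem_of_card_lt_card (s := T) (t := Finset.univ)
        (by rw [Finset.card_univ]; omega)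
      obtain ⟨m', hm'⟩ : ∃ m', g' i m' ≠ 0 := by
        by_contra hcon
        push Not at hcon
        have h1 := gl_entry_sum g⁻¹ i i
        rw [if_pos rfl, Finset.sum_eq_zero fun t _ => by rw [← hg', hcon t, zero_mul]] at h1
        exact zero_ne_one h1
      have hzero : ∀ r, r ≠ i → g' r m' = 0 := fun r hr => by
        by_contra h; exact hr (hout i m' r hiT hm' h)
      obtain ⟨z1, z2, h12, h1, h2, -, -⟩ :
          ∃ z1 z2, z1 ≠ z2 ∧ z1 ≠ p ∧ z2 ≠ p ∧ z1 ≠ i ∧ z2 ≠ i := by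
        have hc : 1 < (Finset.univ \ ({p, i} : Finset ι)).card := by
          have h1 := Finset.le_card_sdiff ({p, i} : Finset ι) Finset.univ
          rw [Finset.card_univ] at h1
          have h2 := Finset.card_le_two (a := p) (b := i)
          omega
        obtain ⟨z1, hz1, z2, hz2, h12⟩ := Finset.one_lt_card.1 hc
        simp at hz1 hz2
        exact ⟨z1, z2, h12, hz1.1, hz2.1, hz1.2, hz2.2⟩
      have hpi : p ≠ i := fun e => by rw [e] at hp; exact hp (hsm i hiT)
      have hqi : q ≠ i := fun e => by rw [e] at hq'; exact hq' (hsm i hiT)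
      obtain ⟨z1, z2, h12, h1, h2, h1i, h2i⟩ :
          ∃ z1 z2, z1 ≠ z2 ∧ z1 ≠ p ∧ z2 ≠ p ∧ z1 ≠ i ∧ z2 ≠ i := by
        have hc : 1 < (Finset.univ \ ({p, i} : Finset ι)).card := by
          have h1 := Finset.le_card_sdiff ({p, i} : Finset ι) Finset.univ
          rw [Finset.card_univ] at h1
          have h2 := Finset.card_le_two (a := p) (b := i)
          omega
        obtain ⟨z1, hz1, z2, hz2, h12⟩ := Finset.one_lt_card.1 hc
        simp at hz1 hz2
        exact ⟨z1, z2, h12, hz1.1, hz2.1, hz1.2, hz2.2⟩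
      exact hno (h3 m' m p q z1 z2 h12 h1 h2 (hzero p hpi) (hzero z1 h1i) (hzero z2 h2i) hp hq'
        hpq.symm)
  by_contra hno
  obtain ⟨m, hm⟩ : ∃ m, g' a m ≠ 0 := by
    by_contra hcon
    push Not at hcon
    have h1 := gl_entry_sum g⁻¹ a a
    rw [if_pos rfl, Finset.sum_eq_zero fun t _ => by rw [← hg', hcon t, zero_mul]] at h1
    exact zero_ne_one h1
  by_cases hs : ∃ s, s ≠ a ∧ s ≠ b ∧ g' s m ≠ 0
  · obtain ⟨s, h1, h2, h3'⟩ := hs
    exact hno (hasFix_of_zeros hmp hq hg hab ha hb hm h3' h1 h2)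
  · push Not at hs
    exact hno (hsmall m {a, b} Finset.card_le_two fun r hr => by
      simp at hr; exact hs r hr.1 hr.2)

lemma hasFix_of_full (hn : 5 ≤ Fintype.card ι) {g : GL ι F} (hg : g ∈ M) {l : ι}
    (hfull : ∀ r, ((g⁻¹ : GL ι F) : Matrix ι ι F) r l ≠ 0) : HasFix M := by
  classical
  haveI : Nontrivial ι := Fintype.one_lt_card_iff_nontrivial.1 (by omega)
  set g' := ((g⁻¹ : GL ι F) : Matrix ι ι F) with hg'
  set x : ι → Fˣ := fun r => Units.mk0 _ (hfull r) with hx
  -- the rescaled permutation matrices fix the column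
  let S : Equiv.Perm ι → GL ι F := fun σ => mp σ⁻¹ fun r => x r / x (σ⁻¹ r)
  have hS : ∀ σ z r, ((S σ : Matrix ι ι F) *ᵥ z) r = x r * (z (σ⁻¹ r) / x (σ⁻¹ r)) := by
    intro σ z r
    rw [mp_apply, Units.val_div_eq_div_val]
    ring
  have hSx : ∀ σ, (S σ : Matrix ι ι F) *ᵥ (g' *ᵥ Pi.single l 1) = g' *ᵥ Pi.single l 1 := by
    intro σ
    ext r
    rw [hS, mulVec_single_one_apply, mulVec_single_one_apply]
    show (x r : F) * ((x (σ⁻¹ r) : F) / x (σ⁻¹ r)) = _
    rw [div_self (x (σ⁻¹ r)).ne_zero, mul_one]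
    rfl
  have hSmem : ∀ σ : alternatingGroup ι, S σ.1 ∈ M := by
    intro σ
    refine hmp _ _ ?_
    rw [mp_det, map_inv, Equiv.Perm.mem_alternatingGroup.1 σ.2, inv_one, Units.val_one,
      Int.cast_one, mul_one]
    simp only [Units.val_div_eq_div_val]
    rw [Finset.prod_div_distrib, Equiv.prod_comp σ.1⁻¹ (fun r => (x r : F)),
      div_self (Finset.prod_ne_zero_iff.2 fun r _ => (x r).ne_zero)]
  by_contra hno
  have hcol : ∀ (σ : alternatingGroup ι) (m : ι), ∃ (m' : ι) (κ : F), (S σ.1 : Matrix ι ι F) *ᵥ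
      (g' *ᵥ Pi.single m 1) = κ • (g' *ᵥ Pi.single m' 1) := by
    intro σ m
    have hmono : IsMono (g * S σ.1 * g⁻¹) := by
      by_contra hn
      refine hno ⟨_, M.mul_mem (M.mul_mem hg (hSmem σ)) (M.inv_mem hg), l, hn, ?_⟩
      rw [mul_mulVec, mul_mulVec, hSx, hg', mulVec_inv_mulVec]
    obtain ⟨m', hm'⟩ := hmono m
    refine ⟨m', ((g * S σ.1 * g⁻¹ : GL ι F) : Matrix ι ι F) m' m, ?_⟩
    have e : ((g * S σ.1 * g⁻¹ : GL ι F) : Matrix ι ι F) *ᵥ Pi.single m 1 =
        ((g * S σ.1 * g⁻¹ : GL ι F) : Matrix ι ι F) m' m • Pi.single m' 1 := by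
      ext r
      rw [mulVec_single_one_apply]
      rcases eq_or_ne r m' with rfl | hr
      · simp
      · simp [hr, hm' r hr]
    have e2 := congrArg (fun v => g' *ᵥ v) e
    simp only [mulVec_smul] at e2
    rw [← e2, mul_mulVec, mul_mulVec, hg', inv_mulVec_mulVec]
  choose π κ hπ using hcol
  have hne : ∀ m, g' *ᵥ Pi.single m 1 ≠ 0 := fun m => (gl_cols_independent g⁻¹).ne_zero m
  have hκ : ∀ σ m, κ σ m ≠ 0 := by
    intro σ m h0
    have h1 := hπ σ m
    rw [h0, zero_smul] at h1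
    apply hne m
    rw [← inv_mulVec_mulVec (S σ.1) (g' *ᵥ Pi.single m 1), h1, mulVec_zero]
  have huniq : ∀ (m m' : ι) (c c' : F), c ≠ 0 → c • (g' *ᵥ Pi.single m 1) =
      c' • (g' *ᵥ Pi.single m' 1) → m = m' := by
    intro m m' c c' hc h
    rw [← mulVec_smul, ← mulVec_smul] at h
    have h2 := congrFun (gl_mulVec_injective g⁻¹ h) m
    by_contra hmm
    simp [hmm] at h2
    exact hc h2
  have hmul : ∀ σ τ : Equiv.Perm ι, ∀ z, (S (σ * τ) : Matrix ι ι F) *ᵥ z =
      (S σ : Matrix ι ι F) *ᵥ ((S τ : Matrix ι ι F) *ᵥ z) := by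
    intro σ τ z
    ext r
    rw [hS, hS, hS, _root_.mul_inv_rev, Equiv.Perm.mul_apply]
    field_simp
  have hπmul : ∀ σ τ m, π (σ * τ) m = π σ (π τ m) := by
    intro σ τ m
    refine huniq _ _ (κ (σ * τ) m) (κ τ m * κ σ (π τ m)) (hκ _ _) ?_
    rw [← hπ, Subgroup.coe_mul, hmul, hπ τ m, mulVec_smul, hπ σ, smul_smul]
  have hπ1 : ∀ m, π 1 m = m := by
    intro m
    refine huniq _ _ (κ 1 m) 1 (hκ _ _) ?_
    rw [← hπ, one_smul]
    ext r
    rw [hS, Subgroup.coe_one, inv_one, Equiv.Perm.one_apply]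
    field_simp
  have hπl : ∀ σ m, m ≠ l → π σ m ≠ l := by
    intro σ m hm h
    apply hm
    have h1 : π σ⁻¹ l = l := huniq _ _ (κ σ⁻¹ l) 1 (hκ _ _) (by rw [← hπ, one_smul, hSx])
    rw [← h, ← hπmul, inv_mul_cancel, hπ1] at h1
    rw [h1]; exact h
  let act : alternatingGroup ι →* Equiv.Perm {m // m ≠ l} :=
    MonoidHom.mk'
      (fun σ =>
        { toFun := fun m => ⟨π σ m.1, hπl σ m.1 m.2⟩
          invFun := fun m => ⟨π σ⁻¹ m.1, hπl σ⁻¹ m.1 m.2⟩
          left_inv := fun m => Subtype.ext (by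
            show π σ⁻¹ (π σ m.1) = m.1
            rw [← hπmul, inv_mul_cancel, hπ1])
          right_inv := fun m => Subtype.ext (by
            show π σ (π σ⁻¹ m.1) = m.1
            rw [← hπmul, mul_inv_cancel, hπ1]) })
      fun σ τ => Equiv.ext fun m => Subtype.ext (hπmul σ τ m.1)
  haveI : IsSimpleGroup (alternatingGroup ι) :=
    alternatingGroup.isSimpleGroup (by rw [Nat.card_eq_fintype_card]; omega)
  rcases IsSimpleGroup.eq_bot_or_eq_top_of_normal act.ker inferInstance with hk | hk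
  · have h1 := Fintype.card_le_of_injective act ((MonoidHom.ker_eq_bot_iff act).1 hk)
    rw [Fintype.card_perm, Fintype.card_subtype_compl, Fintype.card_subtype_eq] at h1
    have h2 := two_mul_card_alternatingGroup (α := ι)
    rw [Fintype.card_perm] at h2
    have h3 : (Fintype.card ι).factorial = Fintype.card ι * (Fintype.card ι - 1).factorial :=
      (Nat.mul_factorial_pred (by omega)).symm
    have h4 := Nat.factorial_pos (Fintype.card ι - 1)
    nlinarith [h1, h2, h3, h4, hn]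
  obtain ⟨m, hml⟩ := exists_ne l
  -- the column `m` is then proportional to the column `l`
  set z : ι → F := fun r => g' r m / x r with hz
  have hact : ∀ σ : alternatingGroup ι, ∀ r, z (σ.1⁻¹ r) = κ σ m * z r := by
    intro σ r
    have h1 : π σ m = m := by
      have hmem : σ ∈ act.ker := hk ▸ Subgroup.mem_top σ
      exact congrArg Subtype.val (Equiv.ext_iff.1 (MonoidHom.mem_ker.1 hmem) ⟨m, hml⟩)
    have h2 := congrFun (hπ σ m) r
    rw [h1, hS, Pi.smul_apply, mulVec_single_one_apply, mulVec_single_one_apply, smul_eq_mul] at h2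
    simp only [hz]
    field_simp at h2 ⊢
    linear_combination h2
  have hconst : ∀ i₀, z i₀ ≠ 0 → ∀ a b, a ≠ i₀ → b ≠ i₀ → z a = z b := by
    intro i₀ hi₀ a b ha hb
    rcases eq_or_ne a b with rfl | hab
    · rfl
    obtain ⟨c, -, hc⟩ := Finset.exists_mem_notMem_of_card_lt_card
      (s := ({a, b, i₀} : Finset ι)) (t := Finset.univ)
      (lt_of_le_of_lt Finset.card_le_three (by rw [Finset.card_univ]; omega))
    simp at hc
    have hτ : (Equiv.swap a b * Equiv.swap b c) ∈ alternatingGroup ι := by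
      rw [Equiv.Perm.mem_alternatingGroup, map_mul, Equiv.Perm.sign_swap hab,
        Equiv.Perm.sign_swap (Ne.symm hc.2.1)]
      decide
    have h0 := hact ⟨_, hτ⟩
    have e0 : (Equiv.swap a b * Equiv.swap b c)⁻¹ i₀ = i₀ := by
      rw [Equiv.Perm.inv_eq_iff_eq]
      simp [Equiv.swap_apply_of_ne_of_ne hb.symm (Ne.symm hc.2.2),
        Equiv.swap_apply_of_ne_of_ne ha.symm hb.symm]
    have h1 := h0 i₀
    simp only at h1
    rw [e0] at h1
    have hk1 : κ ⟨_, hτ⟩ m = 1 := mul_right_cancel₀ hi₀ (h1.symm.trans (one_mul _).symm)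
    have h2 := h0 b
    simp only at h2
    have e1 : (Equiv.swap a b * Equiv.swap b c)⁻¹ b = a := by
      rw [Equiv.Perm.inv_eq_iff_eq]
      simp [Equiv.swap_apply_of_ne_of_ne hab (Ne.symm hc.1)]
    rw [e1, hk1, one_mul] at h2
    exact h2
  obtain ⟨i₀, hi₀⟩ : ∃ r, z r ≠ 0 := by
    by_contra hcon
    push Not at hcon
    apply hne m
    ext r
    rw [mulVec_single_one_apply, Pi.zero_apply]
    have := hcon r
    rw [hz, div_eq_zero_iff] at this
    exact this.resolve_right (x r).ne_zero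
  obtain ⟨a, ha⟩ := exists_ne i₀
  obtain ⟨b, -, hb⟩ := Finset.exists_mem_notMem_of_card_lt_card
    (s := ({a, i₀} : Finset ι)) (t := Finset.univ)
    (lt_of_le_of_lt Finset.card_le_two (by rw [Finset.card_univ]; omega))
  simp at hb
  by_cases hza : z a = 0
  · -- an even permutation moving `i₀`
    have hτ : (Equiv.swap i₀ a * Equiv.swap a b) ∈ alternatingGroup ι := by
      rw [Equiv.Perm.mem_alternatingGroup, map_mul, Equiv.Perm.sign_swap ha.symm,
        Equiv.Perm.sign_swap (Ne.symm hb.1)]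
      decide
    have h1 := hact ⟨_, hτ⟩ a
    simp only at h1
    have e : (Equiv.swap i₀ a * Equiv.swap a b)⁻¹ a = b ∨
        (Equiv.swap i₀ a * Equiv.swap a b)⁻¹ a = i₀ := by
      right
      rw [Equiv.Perm.inv_eq_iff_eq]
      simp [Equiv.swap_apply_of_ne_of_ne ha.symm (Ne.symm hb.2)]
    rcases e with e | e
    · have h2 := hact ⟨_, hτ⟩ i₀
      simp only at h2
      have e' : (Equiv.swap i₀ a * Equiv.swap a b)⁻¹ i₀ = b := by
        rw [Equiv.Perm.inv_eq_iff_eq]
        simp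
      rw [e'] at h2
      have hzb : z b = 0 := by rw [hconst i₀ hi₀ b a hb.2 ha, hza]
      rw [hzb] at h2
      exact hi₀ ((mul_eq_zero.1 h2.symm).resolve_left (hκ _ _))
    · rw [e, hza, mul_zero] at h1
      exact hi₀ h1
  · have hall : ∀ r, z r = z a := by
      intro r
      rcases eq_or_ne r i₀ with rfl | hr
      · rw [hconst a hza r b ha.symm hb.1, hconst r hi₀ b a hb.2 ha]
      · exact hconst i₀ hi₀ r a hr ha
    apply hml
    refine huniq m l 1 (z a) one_ne_zero ?_
    ext r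
    rw [one_smul, Pi.smul_apply, mulVec_single_one_apply, mulVec_single_one_apply, ← hall r, hz,
      smul_eq_mul]
    show _ = _ / (x r : F) * _
    rw [show (x r : F) = g' r l from rfl, div_mul_cancel₀ _ (hfull r)]

/-- Stage one. -/
theorem hasFix_of_not_isMono (hq : 5 ≤ Fintype.card F) (hn : 5 ≤ Fintype.card ι)
    {g : GL ι F} (hg : g ∈ M) (hmono : ¬ IsMono g) : HasFix M := by
  classical
  by_contra hno
  have hone : ∀ h ∈ M, ¬ IsMono h → ∀ l, ∃ z, (h : Matrix ι ι F) z l = 0 ∧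
      ∀ r, r ≠ z → (h : Matrix ι ι F) r l ≠ 0 := by
    intro h hh hm l
    obtain ⟨z, hz⟩ : ∃ z, (h : Matrix ι ι F) z l = 0 := by
      by_contra hcon
      push Not at hcon
      exact hno (hasFix_of_full hmp hn (M.inv_mem hh) (l := l) (by simpa using hcon))
    refine ⟨z, hz, fun r hr hr0 => hno ?_⟩
    exact hasFix_of_two_zeros hmp hq hn (M.inv_mem hh)
      (fun hm' => hm (inv_inv h ▸ isMono_inv hm')) (l := l) hr
      (by simpa using hr0) (by simpa using hz)
  have hmono' : ¬ IsMono g⁻¹ := fun h => hmono (inv_inv g ▸ isMono_inv h)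
  -- entries of conjugates of diagonal pairs
  have hent : ∀ h : GL ι F, ∀ i j, i ≠ j → ∀ (ν : Fˣ) r l,
      ((h * pr i j ν * h⁻¹ : GL ι F) : Matrix ι ι F) r l = (if r = l then 1 else 0) +
        ((ν : F) - 1) * (h : Matrix ι ι F) r i * ((h⁻¹ : GL ι F) : Matrix ι ι F) i l +
        (((ν⁻¹ : Fˣ) : F) - 1) * (h : Matrix ι ι F) r j * ((h⁻¹ : GL ι F) : Matrix ι ι F) j l := by
    intro h i j hij ν r l
    refine (mulVec_single_one_apply _ l r).symm.trans ?_
    rw [mul_mulVec, mul_mulVec, pr_mulVec hij, mulVec_add, mulVec_add, mulVec_smul, mulVec_smul,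
      mulVec_inv_mulVec]
    simp [Pi.single_apply]
    ring
  -- products of entries are zero or one
  have hP : ∀ h ∈ M, ¬ IsMono h → ∀ l j,
      (h : Matrix ι ι F) l j * ((h⁻¹ : GL ι F) : Matrix ι ι F) j l = 0 ∨
      (h : Matrix ι ι F) l j * ((h⁻¹ : GL ι F) : Matrix ι ι F) j l = 1 := by
    intro h hh hm l j
    by_contra hcon
    push Not at hcon
    set P := (h : Matrix ι ι F) l j * ((h⁻¹ : GL ι F) : Matrix ι ι F) j l with hPdef
    obtain ⟨z, hz, hz'⟩ := hone _ (M.inv_mem hh) (fun hm' => hm (inv_inv h ▸ isMono_inv hm')) l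
    obtain ⟨z', hz2, hz2'⟩ := hone h hh hm j
    have hzj : z ≠ j := by rintro rfl; exact hcon.1 (by rw [hPdef, hz, mul_zero])
    have hl : l ≠ z' := by rintro rfl; exact hcon.1 (by rw [hPdef, hz2, zero_mul])
    have hx : ((h⁻¹ : GL ι F) : Matrix ι ι F) j l ≠ 0 := hz' j hzj.symm
    have hμ0 : (1 : F) - 1 / P ≠ 0 := by
      rw [sub_ne_zero]
      intro e
      field_simp [hcon.1] at e
      exact hcon.2 e
    -- `pr z j μ` has `μ⁻¹` at `j`
    obtain ⟨μ, hμ⟩ : ∃ μ : Fˣ, ((μ⁻¹ : Fˣ) : F) = 1 - 1 / P :=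
      ⟨(Units.mk0 _ hμ0)⁻¹, by rw [inv_inv, Units.val_mk0]⟩
    have hd := M.mul_mem (M.mul_mem hh (pr_mem hmp hzj μ)) (M.inv_mem hh)
    have hcol : ∀ r, ((h * pr z j μ * h⁻¹ : GL ι F) : Matrix ι ι F) r l =
        (if r = l then 1 else 0) - (1 / P) * (h : Matrix ι ι F) r j *
          ((h⁻¹ : GL ι F) : Matrix ι ι F) j l := by
      intro r
      rw [hent h z j hzj, hz, hμ]
      ring
    have hll : ((h * pr z j μ * h⁻¹ : GL ι F) : Matrix ι ι F) l l = 0 := by
      rw [hcol, if_pos rfl, mul_assoc, ← hPdef, one_div, inv_mul_cancel₀ hcon.1, sub_self]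
    have hz'z : ((h * pr z j μ * h⁻¹ : GL ι F) : Matrix ι ι F) z' l = 0 := by
      rw [hcol, if_neg hl.symm, hz2]
      ring
    have hnz : ∀ r, r ≠ l → r ≠ z' → ((h * pr z j μ * h⁻¹ : GL ι F) : Matrix ι ι F) r l ≠ 0 := by
      intro r hr hr'
      rw [hcol, if_neg hr, zero_sub, neg_ne_zero]
      exact mul_ne_zero (mul_ne_zero (one_div_ne_zero hcon.1) (hz2' r hr')) hx
    obtain ⟨a, b, hab, hal, haz, hbl, hbz⟩ :
        ∃ a b, a ≠ b ∧ a ≠ l ∧ a ≠ z' ∧ b ≠ l ∧ b ≠ z' := by
      have hc : 1 < (Finset.univ \ ({l, z'} : Finset ι)).card := by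
        have h1 := Finset.le_card_sdiff ({l, z'} : Finset ι) Finset.univ
        rw [Finset.card_univ] at h1
        have h2 := Finset.card_le_two (a := l) (b := z')
        omega
      obtain ⟨a, ha, b, hb, hab⟩ := Finset.one_lt_card.1 hc
      simp at ha hb
      exact ⟨a, b, hab, ha.1, ha.2, hb.1, hb.2⟩
    obtain ⟨w, -, hw⟩ := hone _ hd (not_isMono_of hab (hnz a hal haz) (hnz b hbl hbz)) l
    rcases eq_or_ne z' w with rfl | hne
    · exact hw l hl hll
    · exact hw z' hne hz'z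
  -- a row with at most one zero
  choose zz hzz hzz' using hone g hg hmono
  obtain ⟨l, hl⟩ : ∃ l, (Finset.univ.filter fun j => zz j = l).card ≤ 1 := by
    by_contra hcon
    push Not at hcon
    have h1 := Finset.card_eq_sum_card_fiberwise (s := (Finset.univ : Finset ι))
      (t := (Finset.univ : Finset ι)) (f := zz) (fun j _ => Finset.mem_univ _)
    have h2 : ∑ _b : ι, 2 ≤ ∑ b : ι, (Finset.univ.filter fun j => zz j = b).card :=
      Finset.sum_le_sum fun b _ => hcon b
    simp [Finset.card_univ] at h1 h2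
    omega
  obtain ⟨zx, hzx, hzx'⟩ := hone _ (M.inv_mem hg) hmono' l
  have hones : ∀ j, zz j ≠ l → j ≠ zx →
      (g : Matrix ι ι F) l j * ((g⁻¹ : GL ι F) : Matrix ι ι F) j l = 1 := by
    intro j h1 h2
    refine (hP g hg hmono l j).resolve_left ?_
    exact mul_ne_zero (hzz' j l (Ne.symm h1)) (hzx' j h2)
  obtain ⟨i, j, hij, hi, hi', hj, hj'⟩ :
      ∃ i j, i ≠ j ∧ zz i ≠ l ∧ i ≠ zx ∧ zz j ≠ l ∧ j ≠ zx := by
    have hc : 1 < (Finset.univ \ insert zx (Finset.univ.filter fun j => zz j = l)).card := by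
      have h1 := Finset.le_card_sdiff (insert zx (Finset.univ.filter fun j => zz j = l))
        (Finset.univ : Finset ι)
      rw [Finset.card_univ] at h1
      have h2 := Finset.card_insert_le zx (Finset.univ.filter fun j => zz j = l)
      omega
    obtain ⟨a, ha, b, hb, hab⟩ := Finset.one_lt_card.1 hc
    simp at ha hb
    exact ⟨a, b, hab, ha.2, ha.1, hb.2, hb.1⟩
  obtain ⟨ν, hν⟩ : ∃ ν : Fˣ, ((ν : F) + ((ν⁻¹ : Fˣ) : F) - 1) ^ 2 ≠ 1 ∧
      (ν : F) + ((ν⁻¹ : Fˣ) : F) - 1 ≠ 0 := by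
    rcases le_or_gt 7 (Fintype.card F) with h7 | h7
    · let p : Polynomial F := (Polynomial.X - Polynomial.C 1) * (Polynomial.X ^ 2 + Polynomial.C 1)
        * (Polynomial.X ^ 2 + (Polynomial.C (-1) * Polynomial.X + Polynomial.C 1))
      have hm : p.Monic :=
        ((Polynomial.monic_X_sub_C _).mul (Polynomial.monic_X_pow_add_C _ two_ne_zero)).mul
          (Polynomial.monic_X_pow_add (lt_of_le_of_lt Polynomial.degree_linear_le (by decide)))
      have hdeg : p.natDegree ≤ 5 := by simp only [p]; compute_degree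
      by_contra hcon
      push Not at hcon
      refine hm.ne_zero (Polynomial.eq_zero_of_natDegree_lt_card_of_eval_eq_zero p
        (f := fun ν : Fˣ => (ν : F)) (fun a b h => Units.ext h) (fun ν => ?_) ?_)
      · simp only [p, Polynomial.eval_mul, Polynomial.eval_sub, Polynomial.eval_add,
          Polynomial.eval_pow, Polynomial.eval_X, Polynomial.eval_C]
        have hv := ν.mul_inv
        by_cases h0 : ((ν : F) + ((ν⁻¹ : Fˣ) : F) - 1) ^ 2 = 1
        · have h1 : ((ν : F) + ((ν⁻¹ : Fˣ) : F) - 2) * ((ν : F) + ((ν⁻¹ : Fˣ) : F)) = 0 := by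
            linear_combination h0
          rcases mul_eq_zero.1 h1 with h2 | h2
          · have : ((ν : F) - 1) ^ 2 = 0 := by linear_combination (ν : F) * h2 - hv
            rw [pow_eq_zero_iff two_ne_zero] at this
            rw [this]; ring
          · rw [show (ν : F) ^ 2 + 1 = 0 by linear_combination (ν : F) * h2 - hv]; ring
        · rw [show (ν : F) ^ 2 + (-1 * (ν : F) + 1) = 0 by
            linear_combination (ν : F) * hcon ν h0 - hv]
          ring
      · rw [Fintype.card_units]; omega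
    · -- five elements
      have h5 : Fintype.card F = 5 := by
        obtain ⟨p, k, hp, -, hpk⟩ := (isPrimePow_nat_iff _).1 (FiniteField.isPrimePow_card F)
        rcases eq_or_ne (Fintype.card F) 6 with h6 | h6
        · exfalso
          rw [h6] at hpk
          have h2 : p = 2 := ((Nat.prime_dvd_prime_iff_eq Nat.prime_two hp).1
            (Nat.Prime.dvd_of_dvd_pow Nat.prime_two (by rw [hpk]; norm_num))).symm
          have h3 : p = 3 := ((Nat.prime_dvd_prime_iff_eq Nat.prime_three hp).1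
            (Nat.Prime.dvd_of_dvd_pow Nat.prime_three (by rw [hpk]; norm_num))).symm
          omega
        · omega
      have hcast : (5 : F) = 0 := by
        have := Nat.cast_card_eq_zero F
        rw [h5] at this
        exact_mod_cast this
      refine ⟨-1, ?_, ?_⟩
      · rw [inv_neg, inv_one, Units.val_neg, Units.val_one]
        intro e
        have h3 : (3 : F) = 0 := by linear_combination e - hcast
        exact one_ne_zero (α := F) (by linear_combination 2 * h3 - hcast)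
      · rw [inv_neg, inv_one, Units.val_neg, Units.val_one]
        intro e
        exact one_ne_zero (α := F) (by linear_combination -2 * e - hcast)
  have hd := M.mul_mem (M.mul_mem hg (pr_mem hmp hij ν)) (M.inv_mem hg)
  set d := g * pr i j ν * g⁻¹ with hddef
  set V := (ν : F) + ((ν⁻¹ : Fˣ) : F) - 1 with hV
  have hdll : (d : Matrix ι ι F) l l = V := by
    rw [hddef, hent g i j hij, if_pos rfl, mul_assoc, mul_assoc, hones i hi hi', hones j hj hj', hV]
    ring
  have hdinv : d⁻¹ = g * pr j i ν * g⁻¹ := by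
    have : (pr i j ν)⁻¹ = pr j i ν := by
      refine inv_eq_of_mul_eq_one_right (gl_ext fun x => ?_)
      ext r
      rw [mul_mulVec, Units.val_one, one_mulVec, pr, pr, mp_apply, mp_apply]
      by_cases hri : r = i
      · subst hri; simp [hij, ← mul_assoc]
      by_cases hrj : r = j
      · subst hrj; simp [Ne.symm hij, ← mul_assoc]
      · simp [hri, hrj]
    rw [hddef, _root_.mul_inv_rev, _root_.mul_inv_rev, inv_inv, this, mul_assoc]
  have hdll' : ((d⁻¹ : GL ι F) : Matrix ι ι F) l l = V := by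
    rw [hdinv, hent g j i hij.symm, if_pos rfl, mul_assoc, mul_assoc, hones i hi hi',
      hones j hj hj', hV]
    ring
  by_cases hdm : IsMono d
  · obtain ⟨w, hw⟩ := hdm l
    have h1 := gl_entry_sum d⁻¹ l l
    rw [inv_inv, if_pos rfl, Finset.sum_eq_single l ?_ (by simp)] at h1
    · rw [hdll, hdll'] at h1
      exact hν.1 (by rw [sq]; exact h1)
    · intro t _ ht
      rcases eq_or_ne l w with rfl | hlw
      · rw [hw t ht, mul_zero]
      · exact absurd (hdll ▸ hw l hlw) hν.2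
  · have := hP d hd hdm l l
    rw [hdll, hdll', ← sq] at this
    rcases this with h | h
    · exact hν.2 (pow_eq_zero_iff two_ne_zero |>.1 h)
    · exact hν.1 h

end

end Cfsg.Agent.H95
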