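/-
Second stage: from an element fixing a basis vector to an elementary transvection and to SL.
-/
import Cfsg.Agent.H95.MonoSL

set_option autoImplicit false

namespace Cfsg.Agent.H95

open scoped MatrixGroups Matrix
open Matrix

variable {ι : Type} [Fintype ι] [DecidableEq ι] {F : Type*} [Field F]

set_option linter.unusedSectionVars false

attribute [-simp] Matrix.coe_units_inv

/-- The elements of `M` mapping the line of `e_l` to itself. -/
def lineFix (M : Subgroup (GL ι F)) (l : ι) : Subgroup (GL ι F) where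
  carrier := {g | g ∈ M ∧ ∀ a, a ≠ l → (g : Matrix ι ι F) a l = 0}
  one_mem' := ⟨M.one_mem, fun a ha => by simp [ha]⟩
  mul_mem' := fun {g h} hg hh => ⟨M.mul_mem hg.1 hh.1, fun a ha => by
    rw [Units.val_mul, Matrix.mul_apply]
    refine Finset.sum_eq_zero fun c _ => ?_
    rcases eq_or_ne c l with rfl | hc
    · rw [hg.2 a ha, zero_mul]
    · rw [hh.2 c hc, mul_zero]⟩
  inv_mem' := fun {g} hg => ⟨M.inv_mem hg.1, fun a ha => by
    have h1 : ((1 : Matrix ι ι F)) a l = 0 := one_apply_ne ha
    rw [← Units.val_one, ← inv_mul_cancel g, Units.val_mul, Matrix.mul_apply,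
      Finset.sum_eq_single l (fun c _ hc => by rw [hg.2 c hc, mul_zero])
        (fun h => absurd (Finset.mem_univ l) h)] at h1
    refine (mul_eq_zero.1 h1).resolve_right fun h0 => ?_
    have h2 := gl_entry_sum g⁻¹ l l
    rw [inv_inv, if_pos rfl, Finset.sum_eq_zero fun c _ => ?_] at h2
    · exact zero_ne_one h2
    · rcases eq_or_ne c l with rfl | hc
      · rw [h0, mul_zero]
      · rw [hg.2 c hc, mul_zero]⟩

lemma lineFix_sub_mul {M : Subgroup (GL ι F)} {l : ι} (g h : GL ι F) (hg : g ∈ lineFix M l) :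
    ((g : Matrix ι ι F) * (h : Matrix ι ι F)).submatrix (Subtype.val : {m // m ≠ l} → ι)
        (Subtype.val : {m // m ≠ l} → ι) =
      (g : Matrix ι ι F).submatrix (Subtype.val : {m // m ≠ l} → ι)
          (Subtype.val : {m // m ≠ l} → ι) *
        (h : Matrix ι ι F).submatrix (Subtype.val : {m // m ≠ l} → ι)
          (Subtype.val : {m // m ≠ l} → ι) := by
  ext a b
  rw [submatrix_apply, Matrix.mul_apply, Matrix.mul_apply,
    Fintype.sum_eq_add_sum_subtype_ne _ l, hg.2 a.1 a.2, zero_mul, zero_add]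
  rfl

/-- The action on the quotient by the line of `e_l`. -/
def quotMap (M : Subgroup (GL ι F)) (l : ι) : lineFix M l →* GL {m // m ≠ l} F :=
  MonoidHom.mk'
    (fun g =>
      { val := (g.1 : Matrix ι ι F).submatrix Subtype.val Subtype.val
        inv := ((g.1⁻¹ : GL ι F) : Matrix ι ι F).submatrix Subtype.val Subtype.val
        val_inv := by
          rw [← lineFix_sub_mul g.1 g.1⁻¹ g.2, ← Units.val_mul, mul_inv_cancel, Units.val_one,
            submatrix_one _ Subtype.val_injective]
        inv_val := by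
          rw [← lineFix_sub_mul g.1⁻¹ g.1 ((lineFix M l).inv_mem g.2), ← Units.val_mul,
            inv_mul_cancel, Units.val_one, submatrix_one _ Subtype.val_injective] })
    (fun g h => Units.ext (lineFix_sub_mul g.1 h.1 g.2))

lemma quotMap_apply {M : Subgroup (GL ι F)} {l : ι} (g : lineFix M l) (a b : {m // m ≠ l}) :
    (quotMap M l g : Matrix {m // m ≠ l} {m // m ≠ l} F) a b = (g.1 : Matrix ι ι F) a.1 b.1 := rfl

section

variable [Fintype F] {M : Subgroup (GL ι F)}
  (hmp : ∀ σ c, (mp σ c : Matrix ι ι F).det = 1 → mp σ c ∈ M)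
include hmp

lemma quot_mp (l : ι) (σ : Equiv.Perm {m // m ≠ l}) (c : {m // m ≠ l} → Fˣ) :
    ∃ g : lineFix M l, quotMap M l g = mp σ c ∧ IsMono g.1 := by
  classical
  set z : Fˣ := ((∏ i, c i) * Units.map (Int.castRingHom F).toMonoidHom (Equiv.Perm.sign σ))⁻¹
    with hz
  set c' : ι → Fˣ := fun i => if h : i = l then z else c ⟨i, h⟩ with hc'
  set τ := Equiv.Perm.ofSubtype σ with hτ
  have hτl : τ l = l := Equiv.Perm.ofSubtype_apply_of_not_mem σ (by simp)
  have hdet : (mp τ c' : Matrix ι ι F).det = 1 := by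
    rw [mp_det, hτ, Equiv.Perm.sign_ofSubtype, Fintype.prod_eq_mul_prod_subtype_ne _ l]
    have e : ∀ i : {m // m ≠ l}, c' i.1 = c i := fun i => by simp [hc', i.2]
    simp only [e]
    rw [show c' l = z from dif_pos rfl, hz, Units.val_inv_eq_inv_val, Units.val_mul,
      Units.coe_prod]
    simp only [Units.coe_map, RingHom.toMonoidHom_eq_coe, MonoidHom.coe_coe, eq_intCast]
    rw [mul_assoc, inv_mul_cancel₀]
    refine mul_ne_zero (Finset.prod_ne_zero_iff.2 fun i _ => (c i).ne_zero) ?_
    rcases Int.units_eq_one_or (Equiv.Perm.sign σ) with h | h <;> simp [h]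
  refine ⟨⟨mp τ c', hmp _ _ hdet, fun a ha => ?_⟩, ?_, isMono_mp _ _⟩
  · rw [← mulVec_single_one_apply (mp τ c' : Matrix ι ι F) l a, mp_apply]
    have : τ a ≠ l := fun e => ha (τ.injective (e.trans hτl.symm))
    simp [this]
  · refine Units.ext (Matrix.ext fun a b => ?_)
    rw [quotMap_apply]
    refine Eq.trans (Eq.symm (mulVec_single_one_apply _ b.1 a.1)) ?_
    refine Eq.trans ?_ (mulVec_single_one_apply _ b a)
    rw [mp_apply, mp_apply, hτ, Equiv.Perm.ofSubtype_apply_coe]
    simp [hc', a.2, Pi.single_apply, Subtype.val_inj]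

lemma inTv_row_isolate {l : ι} {w : ι → F} {ν : Fˣ} (hn : 4 ≤ Fintype.card ι)
    (hν : (ν : F) ≠ 1) (h : InTv M (Pi.single l 1) w) {m : ι} (hm : w m ≠ 0) :
    ∃ s : F, s ≠ 0 ∧ m ≠ l ∧ InTv M (Pi.single l 1) (s • Pi.single m 1) := by
  classical
  have hwl : w l = 0 := by simpa using h.1
  have hml : m ≠ l := fun e => hm (e ▸ hwl)
  obtain ⟨j, -, hj⟩ := Finset.exists_mem_notMem_of_card_lt_card
    (s := ({l, m} : Finset ι)) (t := Finset.univ)
    (lt_of_le_of_lt Finset.card_le_two (by rw [Finset.card_univ]; omega))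
  simp at hj
  obtain ⟨j', -, hj'⟩ := Finset.exists_mem_notMem_of_card_lt_card
    (s := ({l, m, j} : Finset ι)) (t := Finset.univ)
    (lt_of_le_of_lt Finset.card_le_three (by rw [Finset.card_univ]; omega))
  simp at hj'
  have step : ∀ k, k ≠ l → k ≠ m → ∀ v, InTv M (Pi.single l 1) v → InTv M (Pi.single l 1)
      (fun r => v r / (Function.update (Function.update (1 : ι → Fˣ) m ν) k ν⁻¹ r : F) - v r) := by
    intro k hkl hkm v hv
    have h1 := hv.conj (pr_mem hmp (Ne.symm hkm) ν)
    rw [vecMul_pr_inv, pr_mulVec (Ne.symm hkm)] at h1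
    simp [hkl, hml] at h1
    exact h1.sub_right hv
  have h2 := step j' hj'.1 hj'.2.1 _ (step j hj.1 hj.2 w h)
  have hk : 1 / (ν : F) - 1 ≠ 0 := by
    rw [sub_ne_zero, one_div]
    simpa using hν
  refine ⟨(1 / (ν : F) - 1) * ((1 / (ν : F) - 1) * w m), mul_ne_zero hk (mul_ne_zero hk hm), hml, ?_⟩
  convert h2 using 1
  ext r
  by_cases hrm : r = m
  · subst hrm
    simp [Ne.symm hj.2, Ne.symm hj'.2.1]
    ring
  by_cases hrj : r = j
  · subst hrj
    simp [hrm, Ne.symm hj'.2.2]
  · simp [hrm, hrj]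

theorem hasElem_of_hasFix (hq : 5 ≤ Fintype.card F) (hn : 5 ≤ Fintype.card ι)
    (hSL : M ≤ Geo.specialLinear ι F) (h : HasFix M) : HasElem M := by
  classical
  obtain ⟨g1, hg1, l, hg1m, hg1l⟩ := h
  obtain ⟨ν, hν⟩ := exists_unit_ne_one hq
  have hg1P : g1 ∈ lineFix M l := ⟨hg1, fun a ha => by
    rw [← mulVec_single_one_apply (g1 : Matrix ι ι F) l a, hg1l, Pi.single_eq_of_ne ha]⟩
  have hrow : ∀ w, w ≠ 0 → InTv M (Pi.single l 1) w → HasElem M := by
    intro w hw hwM
    obtain ⟨m, hm⟩ := Function.ne_iff.1 hw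
    obtain ⟨s, hs, hml, hs'⟩ := inTv_row_isolate hmp (by omega) hν hwM hm
    exact ⟨l, m, hml.symm, s, hs, inTv_smul_left hs' (by simp [hml])⟩
  -- elements inducing an elementary transvection or the identity on the quotient
  have key : ∀ g : lineFix M l, ¬ IsMono g.1 → ∀ (a b : {m // m ≠ l}) (s : F), a ≠ b →
      (∀ x y, (quotMap M l g : Matrix {m // m ≠ l} {m // m ≠ l} F) x y =
        (if x = y then 1 else 0) + if x = a ∧ y = b then s else 0) → HasElem M := by
    intro g hgm a b s hab hgq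
    have hab' : a.1 ≠ b.1 := fun e => hab (Subtype.ext e)
    have h0 : Pi.single b.1 (1 : F) ⬝ᵥ (s • Pi.single a.1 1 : ι → F) = 0 := by
      simp [Ne.symm hab']
    set E := tv (s • Pi.single a.1 1) (Pi.single b.1 1) h0 with hE
    -- the row of `g`
    set w : ι → F := fun r => ((g.1 * E⁻¹ : GL ι F) : Matrix ι ι F) l r - if r = l then 1 else 0
      with hw
    have hEinv : ∀ x, ((E⁻¹ : GL ι F) : Matrix ι ι F) *ᵥ x =
        x - (Pi.single b.1 1 ⬝ᵥ x) • (s • Pi.single a.1 1) := by
      intro x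
      show tvMat _ _ *ᵥ x = _
      rw [tvMat_mulVec, neg_dotProduct, neg_smul, sub_eq_add_neg]
    have hN : ∀ r c, r ≠ l →
        ((g.1 * E⁻¹ : GL ι F) : Matrix ι ι F) r c = if r = c then 1 else 0 := by
      intro r c hr
      refine (mulVec_single_one_apply _ c r).symm.trans ?_
      rw [mul_mulVec, hEinv, mulVec_sub, mulVec_smul, mulVec_smul]
      simp only [Pi.sub_apply, Pi.smul_apply, mulVec_single_one_apply, single_dotProduct_one,
        smul_eq_mul]
      have hga := hgq ⟨r, hr⟩ a
      rw [quotMap_apply] at hga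
      rw [hga]
      simp only [Subtype.ext_iff, hab', false_and, and_false, if_false, add_zero]
      rcases eq_or_ne c l with rfl | hc
      · rw [g.2.2 r hr, Pi.single_eq_of_ne b.2]
        simp [hr]
      · have hgc := hgq ⟨r, hr⟩ ⟨c, hc⟩
        rw [quotMap_apply] at hgc
        rw [hgc]
        simp only [Subtype.ext_iff, Pi.single_apply]
        by_cases hcb : c = b.1
        · subst hcb
          simp
          try split_ifs <;> ring
        · simp [hcb, Ne.symm hcb]
    have hsl : ((g.1 * E⁻¹ : GL ι F) : Matrix ι ι F).det = 1 := by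
      rw [Units.val_mul, det_mul, mem_specialLinear_iff.1 (hSL g.2.1),
        mem_specialLinear_iff.1 ((Geo.specialLinear ι F).inv_mem (tv_mem_specialLinear _ _ h0)),
        one_mul]
    have hNeq : ((g.1 * E⁻¹ : GL ι F) : Matrix ι ι F) = tvMat (Pi.single l 1) w := by
      ext r c
      simp only [tvMat, Matrix.add_apply, vecMulVec_apply, one_apply]
      rcases eq_or_ne r l with rfl | hr
      · simp only [Pi.single_eq_same, one_mul, hw, eq_comm (a := c)]
        ring
      · simp [hr, hN r c hr]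
    have hwl : w ⬝ᵥ (Pi.single l 1 : ι → F) = 0 := by
      have := hsl
      rw [hNeq, tvMat, vecMulVec_eq Unit, det_one_add_replicateCol_mul_replicateRow] at this
      simpa using this
    have hg_eq : g.1 = tv (Pi.single l 1) w hwl * E := by
      rw [← mul_inv_eq_iff_eq_mul]
      exact Units.ext hNeq
    rcases eq_or_ne w 0 with hw0 | hw0
    · -- then the element itself is elementary
      have hgE : g.1 = E := by
        refine gl_ext fun x => ?_
        rw [hg_eq, mul_mulVec, tv_mulVec, hw0, zero_dotProduct, zero_smul, add_zero]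
      have hs0 : s ≠ 0 := by
        rintro rfl
        apply hgm
        rw [hgE]
        convert isMono_mp (1 : Equiv.Perm ι) (1 : ι → Fˣ) using 1
        refine gl_ext fun x => ?_
        ext r
        simp [hE, tv_mulVec, mp_apply, tvMat_mulVec]
      exact ⟨a.1, b.1, hab', s, hs0, h0, by rw [← hE, ← hgE]; exact g.2.1⟩
    obtain ⟨r0, hr0⟩ := Function.ne_iff.1 hw0
    rw [Pi.zero_apply] at hr0
    have hr0l : r0 ≠ l := fun e => hr0 (by rw [e]; simpa using hwl)
    obtain ⟨m, -, hm⟩ := Finset.exists_mem_notMem_of_card_lt_card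
      (s := ({l, a.1, b.1, r0} : Finset ι)) (t := Finset.univ)
      (lt_of_le_of_lt Finset.card_le_four (by rw [Finset.card_univ]; omega))
    simp at hm
    set d := pr l m ν with hd
    have hdM : d ∈ M := pr_mem hmp (Ne.symm hm.1) ν
    set w' : ι → F := ((ν : F)) •
      (fun k => w k / (Function.update (Function.update (1 : ι → Fˣ) l ν) m ν⁻¹ k : F)) - w
      with hw'
    have hw'l : w' ⬝ᵥ (Pi.single l 1 : ι → F) = 0 := by
      have : w l = 0 := by simpa using hwl
      simp [hw', this]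
    have heq : d * g.1 * d⁻¹ * g.1⁻¹ = tv (Pi.single l 1) w' hw'l := by
      have e1 : d * E = E * d := by
        refine gl_ext fun x => ?_
        rw [mul_mulVec, mul_mulVec, hE, tv_mulVec, tv_mulVec, mulVec_add, mulVec_smul, hd,
          pr_mulVec (Ne.symm hm.1) ν (s • Pi.single a.1 1), single_dotProduct_one,
          single_dotProduct_one, pr, mp_apply]
        simp [Ne.symm a.2, hm.2.1, hm.2.2.1, b.2, Ne.symm hm.2.2.1]
      have e2 : d * g.1 * d⁻¹ * g.1⁻¹ =
          d * tv (Pi.single l 1) w hwl * d⁻¹ * (tv (Pi.single l 1) w hwl)⁻¹ := by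
        rw [hg_eq]
        calc d * (tv (Pi.single l 1) w hwl * E) * d⁻¹ * (tv (Pi.single l 1) w hwl * E)⁻¹
            = d * tv (Pi.single l 1) w hwl * (E * d⁻¹ * E⁻¹) * (tv (Pi.single l 1) w hwl)⁻¹ := by
              group
          _ = d * tv (Pi.single l 1) w hwl * d⁻¹ * (tv (Pi.single l 1) w hwl)⁻¹ := by
              rw [show E * d⁻¹ = d⁻¹ * E from ?_, mul_inv_cancel_right]
              rw [eq_inv_mul_iff_mul_eq, ← mul_assoc, e1, mul_inv_cancel_right]
      rw [e2]
      refine gl_ext fun x => ?_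
      have hi : ((((tv (Pi.single l 1) w hwl)⁻¹ : GL ι F)) : Matrix ι ι F) *ᵥ x =
          x - (w ⬝ᵥ x) • Pi.single l 1 := by
        show tvMat _ _ *ᵥ x = _
        rw [tvMat_mulVec, neg_dotProduct, neg_smul, sub_eq_add_neg]
      rw [mul_mulVec, mul_mulVec, mul_mulVec, hi, tv_mulVec, tv_mulVec, mulVec_add, mulVec_smul,
        mulVec_inv_mulVec, dotProduct_mulVec, hd, vecMul_pr_inv, pr_mulVec (Ne.symm hm.1)]
      ext k
      have hwl' : w l = 0 := by simpa using hwl
      simp [hw', dotProduct_sub, sub_dotProduct, Pi.single_apply, hwl', Ne.symm hm.1, hm.1]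
      split_ifs <;> ring
    refine hrow w' (fun e => hr0 ?_) ⟨hw'l, ?_⟩
    · have := congrFun e r0
      simp [hw', hr0l, Ne.symm hm.2.2.2] at this
      have h' : ((ν : F) - 1) * w r0 = 0 := by linear_combination this
      exact (mul_eq_zero.1 h').resolve_left (sub_ne_zero.2 hν)
    · rw [← heq]
      exact M.mul_mem (M.mul_mem (M.mul_mem hdM g.2.1) (M.inv_mem hdM)) (M.inv_mem g.2.1)
  haveI : Nontrivial {m // m ≠ l} := Fintype.one_lt_card_iff_nontrivial.1 (by
    rw [Fintype.card_subtype_compl, Fintype.card_subtype_eq]; omega)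
  obtain ⟨a0, b0, hab0⟩ := exists_pair_ne {m // m ≠ l}
  by_cases hA : IsMono (quotMap M l ⟨g1, hg1P⟩)
  · obtain ⟨σ, c, hσ⟩ := isMono_eq_mp hA
    obtain ⟨g0, hg0, hg0m⟩ := quot_mp hmp l σ c
    refine key (g0⁻¹ * ⟨g1, hg1P⟩) (fun hm => hg1m ?_) a0 b0 0 hab0 fun x y => ?_
    · -- a product of monomial matrices
      obtain ⟨σ1, c1, h1⟩ := isMono_eq_mp hg0m
      obtain ⟨σ2, c2, h2⟩ := isMono_eq_mp hm
      have : g1 = mp σ1 c1 * mp σ2 c2 := by
        rw [← h1, ← h2, Subgroup.coe_mul, Subgroup.coe_inv, mul_inv_cancel_left]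
      rw [this]
      convert isMono_mp (σ2 * σ1) (fun i => c1 i * c2 (σ1 i)) using 1
      refine gl_ext fun x => ?_
      ext r
      rw [mul_mulVec, mp_apply, mp_apply, mp_apply, Units.val_mul, Equiv.Perm.mul_apply, mul_assoc]
    · rw [map_mul, map_inv, hg0, hσ, inv_mul_cancel, Units.val_one, one_apply]
      simp
  · have hmp' : ∀ σ c, mp σ c ∈ (quotMap M l).range := fun σ c =>
      (quot_mp hmp l σ c).imp fun _ h => h.1
    obtain ⟨a, b, hab, s, hs, h0, g, hg⟩ := hasElem_of_not_isMono hq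
      (by rw [Fintype.card_subtype_compl, Fintype.card_subtype_eq]; omega) hmp'
      ⟨⟨g1, hg1P⟩, rfl⟩ hA
    have hgq : ∀ x y, (quotMap M l g : Matrix {m // m ≠ l} {m // m ≠ l} F) x y =
        (if x = y then 1 else 0) + if x = a ∧ y = b then s else 0 := by
      intro x y
      rw [hg, tv_val, tvMat, Matrix.add_apply, one_apply, vecMulVec_apply]
      simp [Pi.single_apply, ite_and]
      split_ifs <;> simp
    refine key g (not_isMono_of (i := b.1) (a := a.1) (b := b.1)
      (fun e => hab (Subtype.ext e)) ?_ ?_) a b s hab hgq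
    · rw [← quotMap_apply, hgq]; simp [hab, hs]
    · rw [← quotMap_apply, hgq]; simp [Ne.symm hab]

lemma specialLinear_le_of_hasElem (hn : 3 ≤ Fintype.card ι) (h : HasElem M) :
    Geo.specialLinear ι F ≤ M := by
  classical
  obtain ⟨a, b, hab, s, hs, h0⟩ := h
  have hall : ∀ a' b', a' ≠ b' → ∀ t : F, InTv M (Pi.single a' 1) (t • Pi.single b' 1) := by
    intro a' b' hab' t
    rcases eq_or_ne t 0 with rfl | ht
    · rw [zero_smul]; exact inTv_zero_right M _
    obtain ⟨σ, hσa, hσb⟩ : ∃ σ : Equiv.Perm ι, σ a' = a ∧ σ b' = b := by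
      refine ⟨Equiv.swap b (Equiv.swap a a' b') * Equiv.swap a a', ?_, ?_⟩
      · rw [Equiv.Perm.mul_apply, Equiv.swap_apply_right, Equiv.swap_apply_of_ne_of_ne hab]
        intro e
        exact hab' ((Equiv.swap a a').injective (by rw [Equiv.swap_apply_right]; exact e))
      · rw [Equiv.Perm.mul_apply, Equiv.swap_apply_right]
    obtain ⟨k, -, hk⟩ := Finset.exists_mem_notMem_of_card_lt_card
      (s := ({a', b'} : Finset ι)) (t := Finset.univ)
      (lt_of_le_of_lt Finset.card_le_two (by rw [Finset.card_univ]; omega))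
    simp at hk
    set ε : Fˣ := Units.map (Int.castRingHom F).toMonoidHom (Equiv.Perm.sign σ) with hε
    set u := Units.mk0 (t / s) (div_ne_zero ht hs) with hu
    set c : ι → Fˣ := Function.update (Function.update 1 a' u) k (u * ε)⁻¹ with hc
    have hdet : (mp σ c : Matrix ι ι F).det = 1 := by
      rw [mp_det, hc, Finset.prod_eq_mul a' k (Ne.symm hk.1) (fun r _ hr => by simp [hr.1, hr.2])
        (by simp) (by simp)]
      simp only [Function.update_self, Function.update_of_ne (Ne.symm hk.1)]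
      have e : ((Equiv.Perm.sign σ : ℤ) : F) = (ε : F) := by simp [hε]
      rw [e, Units.val_inv_eq_inv_val, Units.val_mul]
      field_simp
    have h1 := h0.conj (hmp _ _ hdet)
    rw [mulVec_smul, mp_single σ c hσa, smul_smul, vecMul_mp_inv] at h1
    have e2 : (fun i => (Pi.single b (1 : F) : ι → F) (σ i) / (c i : F)) = Pi.single b' 1 := by
      ext i
      rcases eq_or_ne i b' with rfl | hi
      · simp [hσb, hc, Ne.symm hk.2, Ne.symm hab']
      · have : σ i ≠ b := fun e => hi (σ.injective (e.trans hσb.symm))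
        simp [this, hi]
    have e3 : s * ((c a' : F) * 1) = t := by
      simp [hc, Ne.symm hk.1, hu, mul_div_cancel₀ _ hs]
    rw [e2, e3] at h1
    exact inTv_smul_right h1 (by simp [Ne.symm hab'])
  refine specialLinear_le_of_fan ?_
  rw [eq_top_iff, ← (Pi.basisFun F ι).span_eq, Submodule.span_le]
  rintro _ ⟨i, rfl⟩ φ hφ
  rw [Pi.basisFun_apply] at hφ ⊢
  rw [dotProduct_single, mul_one] at hφ
  rw [pi_eq_sum_univ' φ]
  induction (Finset.univ : Finset ι) using Finset.induction_on with
  | empty => simpa using inTv_zero_right M _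
  | insert j S hj ih =>
    rw [Finset.sum_insert hj]
    refine InTv.add_right ?_ ih
    rcases eq_or_ne j i with rfl | hji
    · rw [hφ, zero_smul]; exact inTv_zero_right M _
    · exact hall i j hji.symm (φ j)

/-- The main theorem. -/
theorem specialLinear_le_of_not_isMono (hq : 5 ≤ Fintype.card F) (hn : 5 ≤ Fintype.card ι)
    (hSL : M ≤ Geo.specialLinear ι F) {g : GL ι F} (hg : g ∈ M) (hm : ¬ IsMono g) :
    Geo.specialLinear ι F ≤ M :=
  specialLinear_le_of_hasElem hmp (by omega)
    (hasElem_of_hasFix hmp hq hn hSL (hasFix_of_not_isMono hmp hq hn hg hm))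

end

end Cfsg.Agent.H95
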