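/-
Stabilisers of decompositions into equal dimensional subspaces are maximal in SL.
-/
import Cfsg.Agent.H95.BlockCount
import Cfsg.Agent.H95.MonoSL2

set_option autoImplicit false

namespace Cfsg.Agent.H95

open scoped MatrixGroups Matrix
open Matrix Module

variable {ι : Type} [Fintype ι] [DecidableEq ι] {F : Type*} [Field F]
  {t m : ℕ} {D : Fin t → Submodule F (ι → F)} (hD : Geo.IsMDecomposition m D)
include hD

set_option linter.unusedSectionVars false

attribute [-simp] Matrix.coe_units_inv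

lemma blockComp_of_ne {i k : Fin t} {x : ι → F} (hx : x ∈ D i) (hk : k ≠ i) :
    blockComp hD x k = 0 :=
  Finset.sum_eq_zero fun j _ => by
    rw [crd, blockBasis_repr_ne hD hx ⟨k, j⟩ hk, zero_smul]

lemma blockComp_self {i : Fin t} {x : ι → F} (hx : x ∈ D i) : blockComp hD x i = x := by
  conv_rhs => rw [← sum_blockComp hD x]
  exact (Finset.sum_eq_single i (fun k _ hk => blockComp_of_ne hD hx hk)
    (fun h => absurd (Finset.mem_univ i) h)).symm

lemma blockComp_add (x y : ι → F) (k : Fin t) :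
    blockComp hD (x + y) k = blockComp hD x k + blockComp hD y k := by
  simp only [blockComp, crd_add, add_smul, Finset.sum_add_distrib]

lemma blockComp_smul (c : F) (x : ι → F) (k : Fin t) :
    blockComp hD (c • x) k = c • blockComp hD x k := by
  simp only [blockComp, crd_smul, Finset.smul_sum, smul_smul]

lemma mem_of_blockComp {x : ι → F} {i : Fin t} (h : ∀ k, k ≠ i → blockComp hD x k = 0) :
    x ∈ D i := by
  rw [← sum_blockComp hD x, Finset.sum_eq_single i (fun k _ hk => h k hk)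
    (fun h => absurd (Finset.mem_univ i) h)]
  exact blockComp_mem hD x i

/-- The functional `χ` made to vanish outside the member `k`. -/
noncomputable def onBlock (k : Fin t) (χ : ι → F) : ι → F :=
  ∑ j, (χ ⬝ᵥ blockBasis D hD ⟨k, j⟩) • crdVec hD ⟨k, j⟩

lemma onBlock_dot (k : Fin t) (χ x : ι → F) : onBlock hD k χ ⬝ᵥ x = χ ⬝ᵥ blockComp hD x k := by
  rw [onBlock, blockComp, sum_dotProduct, dotProduct_sum]
  refine Finset.sum_congr rfl fun j _ => ?_
  rw [smul_dotProduct, dotProduct_smul, crdVec_dot, smul_eq_mul, smul_eq_mul, mul_comm]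

lemma onBlock_self {k : Fin t} (χ : ι → F) {x : ι → F} (hx : x ∈ D k) :
    onBlock hD k χ ⬝ᵥ x = χ ⬝ᵥ x := by rw [onBlock_dot, blockComp_self hD hx]

lemma onBlock_other {k i : Fin t} (χ : ι → F) {x : ι → F} (hx : x ∈ D i) (h : k ≠ i) :
    onBlock hD k χ ⬝ᵥ x = 0 := by rw [onBlock_dot, blockComp_of_ne hD hx h, dotProduct_zero]

lemma member_ne_bot (i : Fin t) : D i ≠ ⊥ := by
  intro h
  have := hD.finrank_eq i
  rw [h, finrank_bot] at this
  have := hD.pos
  omega

lemma mem_decompositionStabilizer_of {g : GL ι F} (σ : Equiv.Perm (Fin t))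
    (h : ∀ i, ∀ x ∈ D i, (g : Matrix ι ι F) *ᵥ x ∈ D (σ i)) :
    g ∈ Geo.decompositionStabilizer D := by
  refine ⟨σ, fun i => Submodule.eq_of_le_of_finrank_eq ?_ ?_⟩
  · rintro _ ⟨x, hx, rfl⟩; simpa using h i x hx
  · rw [hD.finrank_eq, LinearEquiv.finrank_eq (Submodule.equivMapOfInjective _ ?_ (D i)).symm,
      hD.finrank_eq]
    intro x y hxy
    simp only [Matrix.toLin'_apply] at hxy
    exact gl_mulVec_injective g hxy

/-- An element outside the stabiliser has a member vector with two non-zero components. -/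
lemma exists_two_comp {g : GL ι F} (hg : g ∉ Geo.decompositionStabilizer D) :
    ∃ i, ∃ x ∈ D i, ∃ a b, a ≠ b ∧ blockComp hD ((g : Matrix ι ι F) *ᵥ x) a ≠ 0 ∧
      blockComp hD ((g : Matrix ι ι F) *ᵥ x) b ≠ 0 := by
  by_contra hcon
  push Not at hcon
  apply hg
  have hne : ∀ y : ι → F, y ≠ 0 → ∃ j, blockComp hD y j ≠ 0 := by
    intro y hy
    by_contra h
    push Not at h
    exact hy (by rw [← sum_blockComp hD y]; exact Finset.sum_eq_zero fun j _ => h j)
  have hone : ∀ i, ∃ j, ∀ x ∈ D i, (g : Matrix ι ι F) *ᵥ x ∈ D j := by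
    intro i
    obtain ⟨x0, hx0, hx00⟩ := Submodule.exists_mem_ne_zero_of_ne_bot (member_ne_bot hD i)
    obtain ⟨j, hj⟩ := hne ((g : Matrix ι ι F) *ᵥ x0) (fun h => hx00 (by
      rw [← inv_mulVec_mulVec g x0, h, mulVec_zero]))
    have h0 : ∀ k, k ≠ j → blockComp hD ((g : Matrix ι ι F) *ᵥ x0) k = 0 := fun k hk =>
      hcon i x0 hx0 j k hk.symm hj
    refine ⟨j, fun x hx => mem_of_blockComp hD fun k hk => ?_⟩
    by_cases hxj : blockComp hD ((g : Matrix ι ι F) *ᵥ x) j = 0
    · by_contra hne'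
      have := hcon i (x0 + x) (Submodule.add_mem _ hx0 hx) j k hk.symm
      rw [mulVec_add, blockComp_add, blockComp_add, hxj, add_zero, h0 k hk, zero_add] at this
      exact hne' (this hj)
    · exact hcon i x hx j k hk.symm hxj
  choose σ hσ using hone
  have hinj : Function.Injective σ := by
    intro a b hab
    by_contra hne'
    have heq : ∀ i, (D i).map (Matrix.toLin' (g : Matrix ι ι F)) = D (σ i) := fun i => by
      refine Submodule.eq_of_le_of_finrank_eq ?_ ?_
      · rintro _ ⟨x, hx, rfl⟩; simpa using hσ i x hx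
      · rw [hD.finrank_eq, LinearEquiv.finrank_eq (Submodule.equivMapOfInjective _ ?_ (D i)).symm,
          hD.finrank_eq]
        intro x y hxy
        simp only [Matrix.toLin'_apply] at hxy
        exact gl_mulVec_injective g hxy
    obtain ⟨x, hx, hx0⟩ := Submodule.exists_mem_ne_zero_of_ne_bot (member_ne_bot hD a)
    have : (g : Matrix ι ι F) *ᵥ x ∈ (D b).map (Matrix.toLin' (g : Matrix ι ι F)) := by
      rw [heq, ← hab]; exact hσ a x hx
    obtain ⟨y, hy, hyx⟩ := this
    have hyx' : y = x := gl_mulVec_injective g ((Matrix.toLin'_apply _ y).symm.trans hyx)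
    rw [hyx'] at hy
    have := blockComp_of_ne hD hy hne'
    rw [blockComp_self hD hx] at this
    exact hx0 this
  exact mem_decompositionStabilizer_of hD
    (Equiv.ofBijective σ (Finite.injective_iff_bijective.1 hinj)) hσ

lemma tv_mem_decompositionStabilizer {k : Fin t} {b χ : ι → F} (hb : b ∈ D k)
    (h : onBlock hD k χ ⬝ᵥ b = 0) : tv b (onBlock hD k χ) h ∈ Geo.decompositionStabilizer D := by
  refine mem_decompositionStabilizer_of hD 1 fun i x hx => ?_
  rw [tv_mulVec]
  rcases eq_or_ne k i with rfl | hki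
  · exact Submodule.add_mem _ hx (Submodule.smul_mem _ _ hb)
  · rw [onBlock_other hD χ hx hki, zero_smul, add_zero]; exact hx

lemma dl_mem_decompositionStabilizer {k : Fin t} {b χ : ι → F} (ν : Fˣ) (hb : b ∈ D k)
    (h : onBlock hD k χ ⬝ᵥ b = 1) : dl b (onBlock hD k χ) ν h ∈ Geo.decompositionStabilizer D := by
  refine mem_decompositionStabilizer_of hD 1 fun i x hx => ?_
  rw [dl_mulVec]
  rcases eq_or_ne k i with rfl | hki
  · exact Submodule.add_mem _ hx (Submodule.smul_mem _ _ hb)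
  · rw [onBlock_other hD χ hx hki, mul_zero, zero_smul, add_zero]; exact hx

/-- The change of basis to an adapted basis. -/
lemma exists_adapted : ∃ (e : ι ≃ Σ _i : Fin t, Fin m) (P : GL ι F),
    ∀ i, (P : Matrix ι ι F) *ᵥ Pi.single i 1 = blockBasis D hD (e i) := by
  let e := (Pi.basisFun F ι).indexEquiv (blockBasis D hD)
  let A : Matrix ι ι F := fun r i => blockBasis D hD (e i) r
  have hA : IsUnit A := by
    rw [← Matrix.linearIndependent_cols_iff_isUnit]
    exact (blockBasis D hD).linearIndependent.comp e e.injective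
  refine ⟨e, hA.unit, fun i => funext fun r => ?_⟩
  rw [mulVec_single_one_apply]
  rfl

lemma conj_mp_mem {e : ι ≃ Σ _i : Fin t, Fin m} {P : GL ι F}
    (hP : ∀ i, (P : Matrix ι ι F) *ᵥ Pi.single i 1 = blockBasis D hD (e i))
    (π : Equiv.Perm ι) (τ : Equiv.Perm (Fin t)) (hπ : ∀ i, (e (π i)).1 = τ (e i).1)
    (c : ι → Fˣ) : P * mp π c * P⁻¹ ∈ Geo.decompositionStabilizer D := by
  refine mem_decompositionStabilizer_of hD τ.symm fun k x hx => ?_
  rw [← blockComp_self hD hx, blockComp, mulVec_sum]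
  refine Submodule.sum_mem _ fun j _ => ?_
  rw [mulVec_smul]
  refine Submodule.smul_mem _ _ ?_
  set i := π.symm (e.symm ⟨k, j⟩) with hi
  have hπi : π i = e.symm ⟨k, j⟩ := π.apply_symm_apply _
  have hb : blockBasis D hD ⟨k, j⟩ = (P : Matrix ι ι F) *ᵥ Pi.single (e.symm ⟨k, j⟩) 1 := by
    rw [hP, e.apply_symm_apply]
  rw [hb, mul_mulVec, mul_mulVec, inv_mulVec_mulVec, mp_single π c hπi, mulVec_smul, hP]
  refine Submodule.smul_mem _ _ ?_
  have h1 := hπ i
  rw [hπi, e.apply_symm_apply] at h1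
  have h2 : (e i).1 = τ.symm k := by rw [show k = τ (e i).1 from h1, τ.symm_apply_apply]
  rw [← h2]
  exact blockBasis_mem hD (e i)

lemma exists_block_perm (π : Equiv.Perm (Fin t)) : ∃ g : GL ι F,
    g ∈ Geo.decompositionStabilizer D ⊓ Geo.specialLinear ι F ∧
      ∀ i, ∀ x ∈ D i, (g : Matrix ι ι F) *ᵥ x ∈ D (π i) := by
  classical
  obtain ⟨e, P, hP⟩ := exists_adapted hD
  set σ : Equiv.Perm ι := (e.trans (Equiv.sigmaCongrLeft' (β := fun _ : Fin t => Fin m) π.symm)).trans
    e.symm with hσ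
  have hσ' : ∀ i, (e (σ i)).1 = π.symm (e i).1 := by
    intro i
    rw [hσ]
    simp only [Equiv.trans_apply, Equiv.apply_symm_apply]
    rfl
  have hι : Nonempty ι := ⟨e.symm ⟨⟨0, by have := hD.two_le; omega⟩, ⟨0, hD.pos⟩⟩⟩
  obtain ⟨i₀⟩ := hι
  set c : ι → Fˣ := Function.update 1 i₀
    (Units.map (Int.castRingHom F).toMonoidHom (Equiv.Perm.sign σ))⁻¹ with hc
  have hdet : (mp σ c : Matrix ι ι F).det = 1 := by
    rw [mp_det, hc, Finset.prod_eq_single i₀ (fun r _ hr => by simp [hr]) (by simp)]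
    rcases Int.units_eq_one_or (Equiv.Perm.sign σ) with h | h <;> simp [h]
  have hmem := conj_mp_mem hD hP σ π.symm hσ' c
  refine ⟨_, ⟨hmem, ?_⟩, fun k x hx => ?_⟩
  · exact mem_specialLinear_iff.2 (by rw [Units.val_mul, Units.val_mul, det_mul, det_mul,
      hdet, mul_one, ← det_mul, ← Units.val_mul, mul_inv_cancel, Units.val_one, det_one])
  · rw [← blockComp_self hD hx, blockComp, mulVec_sum]
    refine Submodule.sum_mem _ fun j _ => ?_
    rw [mulVec_smul]
    refine Submodule.smul_mem _ _ ?_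
    set i := σ.symm (e.symm ⟨k, j⟩) with hi
    have hπi : σ i = e.symm ⟨k, j⟩ := σ.apply_symm_apply _
    have hb : blockBasis D hD ⟨k, j⟩ = (P : Matrix ι ι F) *ᵥ Pi.single (e.symm ⟨k, j⟩) 1 := by
      rw [hP, e.apply_symm_apply]
    rw [hb, mul_mulVec, mul_mulVec, inv_mulVec_mulVec, mp_single σ c hπi, mulVec_smul, hP]
    refine Submodule.smul_mem _ _ ?_
    have h1 := hσ' i
    rw [hπi, e.apply_symm_apply] at h1
    have h2 : (e i).1 = π k := by rw [show k = π.symm (e i).1 from h1, π.apply_symm_apply]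
    rw [← h2]
    exact blockBasis_mem hD (e i)

/-- The case of lines. -/
theorem specialLinear_le_of_lines [Fintype F] (hm : m = 1) (hq : 5 ≤ Fintype.card F)
    (hn : 5 ≤ Fintype.card ι) {M : Subgroup (GL ι F)}
    (hSM : Geo.decompositionStabilizer D ⊓ Geo.specialLinear ι F ≤ M)
    (hSL : M ≤ Geo.specialLinear ι F) {g : GL ι F} (hg : g ∈ M)
    (hgD : g ∉ Geo.decompositionStabilizer D) : Geo.specialLinear ι F ≤ M := by
  subst hm
  obtain ⟨e, P, hP⟩ := exists_adapted hD
  have hconj : ∀ π c, P * mp π c * P⁻¹ ∈ Geo.decompositionStabilizer D := fun π c => by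
    let f : Fin t ≃ ι := (Equiv.sigmaUnique (Fin t) fun _ => Fin 1).symm.trans e.symm
    refine conj_mp_mem hD hP π (f.trans (π.trans f.symm)) (fun i => ?_) c
    have h : ∀ r, f (e r).1 = r := by
      intro r
      show e.symm _ = r
      rw [Equiv.symm_apply_eq]
      exact Sigma.ext rfl (heq_of_eq (Subsingleton.elim _ _))
    rw [Equiv.trans_apply, Equiv.trans_apply, h, Equiv.eq_symm_apply, h]
  set M' := M.comap (MulAut.conj P).toMonoidHom with hM'
  have hmem : ∀ h : GL ι F, h ∈ M' ↔ P * h * P⁻¹ ∈ M := fun h => by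
    rw [hM', Subgroup.mem_comap]; rfl
  have hdetc : ∀ h : GL ι F, (((P * h * P⁻¹ : GL ι F)) : Matrix ι ι F).det =
      (h : Matrix ι ι F).det := fun h => by
    rw [Units.val_mul, Units.val_mul, det_mul, det_mul,
      mul_right_comm, ← det_mul, ← Units.val_mul, mul_inv_cancel, Units.val_one, det_one, one_mul]
  have hle := specialLinear_le_of_not_isMono (M := M') (g := P⁻¹ * g * P)
    (fun σ c hd => (hmem _).2 (hSM ⟨hconj σ c, by
      exact mem_specialLinear_iff.2 (by rw [hdetc, hd])⟩)) hq hn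
    (fun h hh => by rw [mem_specialLinear_iff, ← hdetc]
                    exact mem_specialLinear_iff.1 (hSL ((hmem h).1 hh)))
    ((hmem _).2 (by simpa [mul_assoc] using hg))
    (fun hm => by
      obtain ⟨σ, c, h⟩ := isMono_eq_mp hm
      apply hgD
      have h2 := hconj σ c
      rw [← h] at h2
      simpa [mul_assoc] using h2)
  intro h hh
  have h1 : P⁻¹ * h * P ∈ M' := hle (by
    rw [mem_specialLinear_iff, ← hdetc, show P * (P⁻¹ * h * P) * P⁻¹ = h by group]
    exact mem_specialLinear_iff.1 hh)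
  rw [hmem] at h1
  simpa [mul_assoc] using h1

section blocks

variable {M : Subgroup (GL ι F)}
  (hSM : Geo.decompositionStabilizer D ⊓ Geo.specialLinear ι F ≤ M) (hm : 2 ≤ m)
include hSM hm

lemma exists_mem_notMem_span (k : Fin t) (v : ι → F) :
    ∃ w ∈ D k, ∀ c : F, w ≠ c • v := by
  by_contra hcon
  push Not at hcon
  have hle : D k ≤ Submodule.span F {v} := fun w hw => by
    obtain ⟨c, rfl⟩ := hcon w hw
    exact Submodule.smul_mem _ _ (Submodule.mem_span_singleton_self v)
  have h1 := Submodule.finrank_mono hle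
  rw [hD.finrank_eq] at h1
  have h2 : finrank F (Submodule.span F ({v} : Set (ι → F))) ≤ 1 := by
    refine (finrank_span_le_card _).trans ?_
    simp
  omega

lemma exists_ker_mem (k : Fin t) (φ : ι → F) : ∃ b ∈ D k, b ≠ 0 ∧ φ ⬝ᵥ b = 0 := by
  obtain ⟨v, hv, hv0⟩ := Submodule.exists_mem_ne_zero_of_ne_bot (member_ne_bot hD k)
  obtain ⟨w, hw, hwv⟩ := exists_mem_notMem_span hD hSM hm k v
  rcases eq_or_ne (φ ⬝ᵥ v) 0 with h | h
  · exact ⟨v, hv, hv0, h⟩
  · refine ⟨w - (φ ⬝ᵥ w / φ ⬝ᵥ v) • v, Submodule.sub_mem _ hw (Submodule.smul_mem _ _ hv),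
      sub_ne_zero.2 (hwv _), ?_⟩
    rw [dotProduct_sub, dotProduct_smul, smul_eq_mul, div_mul_cancel₀ _ h, sub_self]

lemma inTv_block {k : Fin t} {b χ : ι → F} (hb : b ∈ D k) (h : χ ⬝ᵥ b = 0) :
    InTv M b (onBlock hD k χ) :=
  ⟨by rw [onBlock_self hD χ hb, h],
    hSM ⟨tv_mem_decompositionStabilizer hD hb _, tv_mem_specialLinear _ _ _⟩⟩

/-- Reduction of the centre to one member. -/
lemma exists_centre_in_member {a φ : ι → F} (h : InTv M a φ) {k : Fin t}
    (hk : blockComp hD a k ≠ 0) (hmt : 3 ≤ m ∨ (3 ≤ t ∧ ∃ ν : Fˣ, (ν : F) ≠ 1)) :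
    ∃ b ∈ D k, b ≠ 0 ∧ InTv M b φ := by
  classical
  set ak := blockComp hD a k with hak
  have hakD : ak ∈ D k := blockComp_mem hD a k
  by_cases hb : ∃ b ∈ D k, φ ⬝ᵥ b = 0 ∧ ∀ c : F, b ≠ c • ak
  · obtain ⟨b, hb, hφb, hbne⟩ := hb
    have hb0 : b ≠ 0 := by simpa using hbne 0
    have hnot : ak ∉ Submodule.span F {b} := by
      rw [Submodule.mem_span_singleton]
      rintro ⟨c, hc⟩
      rcases eq_or_ne c 0 with rfl | hc0
      · exact hk (by rw [← hc, zero_smul])
      · exact hbne c⁻¹ (by rw [← hc, smul_smul, inv_mul_cancel₀ hc0, one_smul])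
    obtain ⟨χ, hχ1, hχ2⟩ := exists_covec (Submodule.span F {b}) hnot
    obtain ⟨h0, hT⟩ := inTv_block hD hSM hm hb (hχ2 b (Submodule.mem_span_singleton_self b))
    have h1 := h.conj hT
    have e1 : (tv b (onBlock hD k χ) h0 : Matrix ι ι F) *ᵥ a = a + b := by
      rw [tv_mulVec, onBlock_dot, ← hak, hχ1, one_smul]
    rw [e1, vecMul_inv_eq (ψ := φ) fun x => by
      rw [tv_mulVec, dotProduct_add, dotProduct_smul, hφb, smul_zero, add_zero]] at h1
    have h2 := h1.sub_left h
    rw [add_sub_cancel_left] at h2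
    exact ⟨b, hb, hb0, h2⟩
  push Not at hb
  obtain ⟨b0, hb0, hb00, hφ0⟩ := exists_ker_mem hD hSM hm k φ
  obtain ⟨c0, hc0⟩ := hb b0 hb0 hφ0
  have hφak : φ ⬝ᵥ ak = 0 := by
    rw [hc0, dotProduct_smul, smul_eq_mul, mul_eq_zero] at hφ0
    exact hφ0.resolve_left fun e => hb00 (by rw [hc0, e, zero_smul])
  rcases hmt with hm3 | ⟨ht, ν, hν⟩
  · exfalso
    let R : D k →ₗ[F] F :=
      { toFun := fun x => φ ⬝ᵥ (x : ι → F)
        map_add' := fun x y => by simp [dotProduct_add]
        map_smul' := fun c x => by simp [dotProduct_smul] }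
    have h1 := LinearMap.finrank_range_add_finrank_ker R
    have h2 : finrank F (LinearMap.range R) ≤ 1 :=
      (Submodule.finrank_le _).trans (le_of_eq (finrank_self F))
    have h3 : (LinearMap.ker R).map (D k).subtype ≤ Submodule.span F {ak} := by
      rintro _ ⟨⟨x, hx⟩, hx', rfl⟩
      obtain ⟨c, hc⟩ := hb x hx hx'
      rw [Submodule.mem_span_singleton]
      exact ⟨c, hc.symm⟩
    have h4 := Submodule.finrank_mono h3
    rw [← LinearEquiv.finrank_eq (Submodule.equivMapOfInjective _ (D k).subtype_injective _)] at h4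
    have h5 : finrank F (Submodule.span F ({ak} : Set (ι → F))) = 1 := finrank_span_singleton hk
    rw [hD.finrank_eq] at h1
    omega
  · obtain ⟨χ, hχ1, -⟩ := exists_covec (⊥ : Submodule F (ι → F)) (v := ak) (by simpa using hk)
    -- the step with a second member
    have step : ∀ l, l ≠ k → ∀ v, InTv M v φ → ∃ c ∈ D l, ∃ η,
        InTv M ((((ν : F) - 1) * (χ ⬝ᵥ blockComp hD v k)) • ak +
          ((((ν⁻¹ : Fˣ) : F) - 1) * (η ⬝ᵥ blockComp hD v l)) • c) φ := by
      intro l hlk v hv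
      obtain ⟨c, hc, hc0, hφc⟩ := exists_ker_mem hD hSM hm l φ
      obtain ⟨η, hη1, -⟩ := exists_covec (⊥ : Submodule F (ι → F)) (v := c) (by simpa using hc0)
      have p1 : onBlock hD k χ ⬝ᵥ ak = 1 := by rw [onBlock_self hD χ hakD, hχ1]
      have p2 : onBlock hD l η ⬝ᵥ c = 1 := by rw [onBlock_self hD η hc, hη1]
      have hmem : dl ak (onBlock hD k χ) ν p1 * dl c (onBlock hD l η) ν⁻¹ p2 ∈ M := by
        refine hSM ⟨Subgroup.mul_mem _ (dl_mem_decompositionStabilizer hD ν hakD p1)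
          (dl_mem_decompositionStabilizer hD ν⁻¹ hc p2), ?_⟩
        exact mem_specialLinear_iff.2 (by rw [Units.val_mul, det_mul, dl_det, dl_det,
          Units.mul_inv])
      refine ⟨c, hc, η, ?_⟩
      have h1 := hv.conj hmem
      have e1 : ((dl ak (onBlock hD k χ) ν p1 * dl c (onBlock hD l η) ν⁻¹ p2 : GL ι F) :
          Matrix ι ι F) *ᵥ v = v + ((((ν : F) - 1) * (χ ⬝ᵥ blockComp hD v k)) • ak +
          ((((ν⁻¹ : Fˣ) : F) - 1) * (η ⬝ᵥ blockComp hD v l)) • c) := by
        rw [mul_mulVec, dl_mulVec, dl_mulVec, dotProduct_add, dotProduct_smul,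
          onBlock_other hD χ hc hlk.symm, smul_zero, add_zero, onBlock_dot, onBlock_dot]
        abel
      rw [e1, vecMul_inv_eq (ψ := φ) fun x => by
        rw [mul_mulVec, dl_mulVec, dl_mulVec, dotProduct_add, dotProduct_smul, hφak, smul_zero,
          add_zero, dotProduct_add, dotProduct_smul, hφc, smul_zero, add_zero]] at h1
      have h2 := h1.sub_left hv
      rwa [add_sub_cancel_left] at h2
    obtain ⟨l, -, hl⟩ := Finset.exists_mem_notMem_of_card_lt_card (s := ({k} : Finset (Fin t)))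
      (t := Finset.univ) (by simp; omega)
    rw [Finset.mem_singleton] at hl
    obtain ⟨l', -, hl'⟩ := Finset.exists_mem_notMem_of_card_lt_card
      (s := ({k, l} : Finset (Fin t))) (t := Finset.univ)
      (lt_of_le_of_lt Finset.card_le_two (by simp; omega))
    simp at hl'
    obtain ⟨c, hc, η, h1⟩ := step l hl a h
    obtain ⟨c', hc', η', h2⟩ := step l' hl'.1 _ h1
    rw [← hak, hχ1, mul_one] at h2
    simp only [blockComp_add, blockComp_smul, blockComp_of_ne hD hakD hl'.1,
      blockComp_of_ne hD hc hl'.2, blockComp_of_ne hD hc (Ne.symm hl), blockComp_self hD hakD,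
      smul_zero, add_zero, dotProduct_zero, mul_zero, zero_smul, dotProduct_smul, hχ1,
      smul_eq_mul, mul_one] at h2
    exact ⟨_, Submodule.smul_mem _ _ hakD,
      smul_ne_zero (mul_ne_zero (sub_ne_zero.2 hν) (sub_ne_zero.2 hν)) hk, h2⟩

/-- From one transvection between two members to all of them. -/
lemma all_cross {k j : Fin t} (hkj : k ≠ j) {b ψ : ι → F} (hb : b ∈ D k) (hb0 : b ≠ 0)
    (h : InTv M b (onBlock hD j ψ)) (hψ : ∃ c ∈ D j, ψ ⬝ᵥ c ≠ 0) :
    ∀ b' ∈ D k, ∀ χ, InTv M b' (onBlock hD j χ) := by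
  have hgen : ∀ b' ∈ D k, (∀ c : F, b' ≠ c • b) → InTv M b' (onBlock hD j ψ) := by
    intro b' hb' hne
    have hb'0 : b' ≠ 0 := by simpa using hne 0
    have hnot : b ∉ Submodule.span F {b'} := by
      rw [Submodule.mem_span_singleton]
      rintro ⟨c, hc⟩
      rcases eq_or_ne c 0 with rfl | hc0
      · exact hb0 (by rw [← hc, zero_smul])
      · exact hne c⁻¹ (by rw [← hc, smul_smul, inv_mul_cancel₀ hc0, one_smul])
    obtain ⟨χ, hχ1, hχ2⟩ := exists_covec (Submodule.span F {b'}) hnot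
    obtain ⟨h0, hT⟩ := inTv_block hD hSM hm hb' (hχ2 b' (Submodule.mem_span_singleton_self b'))
    have h1 := h.conj hT
    rw [tv_mulVec, onBlock_self hD χ hb, hχ1, one_smul, vecMul_inv_eq (ψ := onBlock hD j ψ)
      fun x => by rw [tv_mulVec, dotProduct_add, dotProduct_smul, onBlock_other hD ψ hb' hkj.symm,
        smul_zero, add_zero]] at h1
    have h2 := h1.sub_left h
    rwa [add_sub_cancel_left] at h2
  have hall : ∀ b' ∈ D k, InTv M b' (onBlock hD j ψ) := by
    intro b' hb'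
    by_cases hne : ∀ c : F, b' ≠ c • b
    · exact hgen b' hb' hne
    push Not at hne
    obtain ⟨s, hs⟩ := hne
    obtain ⟨v, hv, hvb⟩ := exists_mem_notMem_span hD hSM hm k b
    have h2 : ∀ c : F, b' + v ≠ c • b := fun c e => hvb (c - s) (by
      rw [sub_smul, ← e, ← hs, add_sub_cancel_left])
    have := (hgen (b' + v) (Submodule.add_mem _ hb' hv) h2).sub_left (hgen v hv hvb)
    rwa [add_sub_cancel_right] at this
  intro b' hb' χ
  -- pieces killing a vector where `ψ` does not vanish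
  have piece : ∀ χ' c, c ∈ D j → ψ ⬝ᵥ c ≠ 0 → χ' ⬝ᵥ c = 0 → InTv M b' (onBlock hD j χ') := by
    intro χ' c hc hψc hχc
    obtain ⟨h0, hT⟩ := inTv_block hD hSM hm hc hχc
    have hbk : (ψ ⬝ᵥ c)⁻¹ • b' ∈ D k := Submodule.smul_mem _ _ hb'
    have h1 := (hall _ hbk).conj hT
    rw [tv_mulVec, onBlock_other hD χ' hbk hkj.symm, zero_smul, add_zero,
      vecMul_inv_eq (ψ := onBlock hD j ψ - (ψ ⬝ᵥ c) • onBlock hD j χ') fun x => by
        rw [sub_dotProduct, smul_dotProduct, tv_mulVec, dotProduct_add, dotProduct_add,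
          dotProduct_smul, dotProduct_smul, h0, onBlock_self hD ψ hc, smul_zero, add_zero,
          smul_eq_mul, smul_eq_mul]
        ring] at h1
    have h2 := (hall _ hbk).sub_right h1
    rw [sub_sub_cancel] at h2
    have h3 := inTv_smul_left h2 (by rw [onBlock_other hD χ' hbk hkj.symm])
    rwa [smul_smul, mul_inv_cancel₀ hψc, one_smul] at h3
  obtain ⟨v, hv, hψv⟩ := hψ
  obtain ⟨w, hw, hw0, hψw⟩ := exists_ker_mem hD hSM hm j ψ
  have hnot : v ∉ Submodule.span F {v + w} := by
    rw [Submodule.mem_span_singleton]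
    rintro ⟨c, hc⟩
    have := congrArg (ψ ⬝ᵥ ·) hc
    simp only [dotProduct_smul, dotProduct_add, hψw, add_zero, smul_eq_mul] at this
    rw [mul_left_eq_self₀] at this
    rw [this.resolve_right hψv, one_smul] at hc
    exact hw0 (by simpa using hc)
  obtain ⟨ξ, hξ1, hξ2⟩ := exists_covec (Submodule.span F {v + w}) hnot
  have h1 := piece ((χ ⬝ᵥ v) • ξ) (v + w) (Submodule.add_mem _ hv hw)
    (by rw [dotProduct_add, hψw, add_zero]; exact hψv)
    (by rw [smul_dotProduct, hξ2 _ (Submodule.mem_span_singleton_self _), smul_zero])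
  have h2 := piece (χ - (χ ⬝ᵥ v) • ξ) v hv hψv
    (by rw [sub_dotProduct, smul_dotProduct, hξ1, smul_eq_mul, mul_one, sub_self])
  have h3 := h2.add_right h1
  convert h3 using 1
  refine dotProduct_eq _ _ fun x => ?_
  rw [add_dotProduct, onBlock_dot, onBlock_dot, onBlock_dot, sub_dotProduct, sub_add_cancel]

theorem specialLinear_le_of_blocks (hmt : 3 ≤ m ∨ (3 ≤ t ∧ ∃ ν : Fˣ, (ν : F) ≠ 1))
    {g : GL ι F} (hg : g ∈ M) (hgD : g ∉ Geo.decompositionStabilizer D) :
    Geo.specialLinear ι F ≤ M := by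
  classical
  obtain ⟨i, x, hx, a, b, hab, hga, hgb⟩ := exists_two_comp hD hgD
  have hx0 : x ≠ 0 := by
    intro e
    rw [e, mulVec_zero] at hga
    exact hga (by simp [blockComp, crd])
  obtain ⟨w, hw, hwx⟩ := exists_mem_notMem_span hD hSM hm i x
  obtain ⟨χ, hχ1, hχ2⟩ := exists_covec (Submodule.span F {x}) (v := w) (by
    rw [Submodule.mem_span_singleton]; rintro ⟨c, hc⟩; exact hwx c hc.symm)
  have h1 := (inTv_block hD hSM hm hx (hχ2 x (Submodule.mem_span_singleton_self x))).conj hg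
  set φ := onBlock hD i χ ᵥ* ((g⁻¹ : GL ι F) : Matrix ι ι F) with hφ
  have hφne : φ ⬝ᵥ ((g : Matrix ι ι F) *ᵥ w) = 1 := by
    rw [hφ, ← dotProduct_mulVec, inv_mulVec_mulVec, onBlock_self hD χ hw, hχ1]
  obtain ⟨j, hj⟩ : ∃ j, φ ⬝ᵥ blockComp hD ((g : Matrix ι ι F) *ᵥ w) j ≠ 0 := by
    by_contra hcon
    push Not at hcon
    rw [← sum_blockComp hD ((g : Matrix ι ι F) *ᵥ w), dotProduct_sum,
      Finset.sum_eq_zero fun j _ => hcon j] at hφne
    exact zero_ne_one hφne
  obtain ⟨k, hkj, hk⟩ : ∃ k, k ≠ j ∧ blockComp hD ((g : Matrix ι ι F) *ᵥ x) k ≠ 0 := by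
    rcases eq_or_ne a j with rfl | h
    · exact ⟨b, hab.symm, hgb⟩
    · exact ⟨a, h, hga⟩
  obtain ⟨b1, hb1, hb10, h2⟩ := exists_centre_in_member hD hSM hm h1 hk hmt
  -- a transvection between the members `k` and `j`
  set c := blockComp hD ((g : Matrix ι ι F) *ᵥ w) j with hc
  have hcD : c ∈ D j := blockComp_mem hD _ j
  have hc0 : c ≠ 0 := fun e => hj (by rw [e, dotProduct_zero])
  obtain ⟨v, hv, hvc⟩ := exists_mem_notMem_span hD hSM hm j c
  obtain ⟨ξ, hξ1, hξ2⟩ := exists_covec (Submodule.span F {c}) (v := v) (by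
    rw [Submodule.mem_span_singleton]; rintro ⟨r, hr⟩; exact hvc r hr.symm)
  obtain ⟨h0, hT⟩ := inTv_block hD hSM hm hcD (hξ2 c (Submodule.mem_span_singleton_self c))
  have h3 := h2.conj hT
  rw [tv_mulVec, onBlock_other hD ξ hb1 hkj.symm, zero_smul, add_zero,
    vecMul_inv_eq (ψ := φ - (φ ⬝ᵥ c) • onBlock hD j ξ) fun y => by
      rw [sub_dotProduct, smul_dotProduct, tv_mulVec, dotProduct_add, dotProduct_add,
        dotProduct_smul, dotProduct_smul, h0, smul_zero, add_zero, smul_eq_mul, smul_eq_mul]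
      ring] at h3
  have h4 := h2.sub_right h3
  rw [sub_sub_cancel] at h4
  have h5 := inTv_smul_left h4 (by rw [onBlock_other hD ξ hb1 hkj.symm])
  have hall := all_cross hD hSM hm hkj (Submodule.smul_mem _ _ hb1) (smul_ne_zero hj hb10) h5
    ⟨v, hv, by rw [hξ1]; exact one_ne_zero⟩
  have hpair : ∀ k' j', k' ≠ j' → ∀ b' ∈ D k', ∀ χ', InTv M b' (onBlock hD j' χ') := by
    intro k' j' hne b' hb' χ'
    obtain ⟨π, hπk, hπj⟩ : ∃ π : Equiv.Perm (Fin t), π k = k' ∧ π j = j' := by
      refine ⟨Equiv.swap (Equiv.swap k k' j) j' * Equiv.swap k k', ?_, ?_⟩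
      · rw [Equiv.Perm.mul_apply, Equiv.swap_apply_left, Equiv.swap_apply_of_ne_of_ne ?_ hne]
        intro e
        exact hkj ((Equiv.swap k k').injective (by rw [Equiv.swap_apply_left]; exact e))
      · rw [Equiv.Perm.mul_apply, Equiv.swap_apply_left]
    obtain ⟨g1, hg1, hg1π⟩ := exists_block_perm hD π
    obtain ⟨g2, -, hg2π⟩ := exists_block_perm hD π
    set b0 := ((g1⁻¹ : GL ι F) : Matrix ι ι F) *ᵥ b' with hb0'
    have hback : ∀ i', ∀ y ∈ D (π i'), ((g1⁻¹ : GL ι F) : Matrix ι ι F) *ᵥ y ∈ D i' := by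
      intro i' y hy
      refine mem_of_blockComp hD fun r hr => ?_
      have e : blockComp hD y (π r) =
          (g1 : Matrix ι ι F) *ᵥ blockComp hD (((g1⁻¹ : GL ι F) : Matrix ι ι F) *ᵥ y) r := by
        conv_lhs => rw [← mulVec_inv_mulVec g1 y,
          ← sum_blockComp hD (((g1⁻¹ : GL ι F) : Matrix ι ι F) *ᵥ y), mulVec_sum]
        have hadd : ∀ (S : Finset (Fin t)) (f : Fin t → ι → F),
            blockComp hD (∑ s ∈ S, f s) (π r) = ∑ s ∈ S, blockComp hD (f s) (π r) := by
          intro S f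
          simp only [blockComp, crd_sum, Finset.sum_smul]
          exact Finset.sum_comm
        rw [hadd, Finset.sum_eq_single r]
        · exact blockComp_self hD (hg1π r _ (blockComp_mem hD _ r))
        · intro s _ hs
          exact blockComp_of_ne hD (hg1π s _ (blockComp_mem hD _ s)) (π.injective.ne hs.symm)
        · simp
      rw [blockComp_of_ne hD hy (π.injective.ne hr)] at e
      rw [← inv_mulVec_mulVec g1 (blockComp hD _ r), ← e, mulVec_zero]
    have h6 := (hall b0 (hback k b' (hπk.symm ▸ hb'))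
      (χ' ᵥ* (g1 : Matrix ι ι F))).conj (hSM hg1)
    rw [hb0', mulVec_inv_mulVec] at h6
    convert h6 using 1
    refine (vecMul_inv_eq fun y => ?_).symm
    conv_lhs => rw [← sum_blockComp hD y, mulVec_sum, dotProduct_sum]
    rw [Finset.sum_eq_single j]
    · rw [onBlock_self hD χ' (hπj ▸ hg1π j _ (blockComp_mem hD y j)), onBlock_dot,
        dotProduct_mulVec]
    · intro s _ hs
      exact onBlock_other hD χ' (hg1π s _ (blockComp_mem hD y s))
        (by rw [← hπj]; exact π.injective.ne hs.symm)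
    · simp
  refine specialLinear_le_of_fan ?_
  rw [eq_top_iff, ← hD.iSup_eq_top, iSup_le_iff]
  intro i' y hy φ' hφ'
  have e : φ' = ∑ s, onBlock hD s φ' := by
    refine dotProduct_eq _ _ fun z => ?_
    rw [sum_dotProduct]
    simp only [onBlock_dot]
    rw [← dotProduct_sum, sum_blockComp]
  rw [e]
  induction (Finset.univ : Finset (Fin t)) using Finset.induction_on with
  | empty => simpa using inTv_zero_right M _
  | insert s S hs ih =>
    rw [Finset.sum_insert hs]
    refine InTv.add_right ?_ ih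
    rcases eq_or_ne s i' with rfl | hne
    · exact inTv_block hD hSM hm hy hφ'
    · exact hpair i' s hne.symm y hy φ'

end blocks

end Cfsg.Agent.H95
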