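/-
Subfield groups are maximal in SL.
-/
import Cfsg.Agent.H95.Dil

set_option autoImplicit false

namespace Cfsg.Agent.H95

open scoped MatrixGroups Matrix
open Matrix

variable {ι : Type} [Fintype ι] [DecidableEq ι] {F : Type*} [Field F]

set_option linter.unusedSectionVars false

attribute [-simp] Matrix.coe_units_inv

section rat

variable (F₀ : Subfield F)

/-- All coordinates lie in the subfield. -/
def IsRat (v : ι → F) : Prop := ∀ i, v i ∈ F₀

variable {F₀}

lemma IsRat.add {u v : ι → F} (hu : IsRat F₀ u) (hv : IsRat F₀ v) : IsRat F₀ (u + v) :=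
  fun i => F₀.add_mem (hu i) (hv i)

lemma IsRat.smul {c : F} (hc : c ∈ F₀) {v : ι → F} (hv : IsRat F₀ v) : IsRat F₀ (c • v) :=
  fun i => F₀.mul_mem hc (hv i)

lemma isRat_single (i : ι) {c : F} (hc : c ∈ F₀) : IsRat F₀ (Pi.single i c) := fun j => by
  rcases eq_or_ne j i with rfl | h
  · simpa using hc
  · simpa [h] using F₀.zero_mem

lemma IsRat.dot {u v : ι → F} (hu : IsRat F₀ u) (hv : IsRat F₀ v) : u ⬝ᵥ v ∈ F₀ :=
  F₀.sum_mem fun i _ => F₀.mul_mem (hu i) (hv i)

/-- A rational vector orthogonal to two given ones. -/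
lemma exists_rat_perp2 (hn : 3 ≤ Fintype.card ι) {u v : ι → F} (hu : IsRat F₀ u)
    (hv : IsRat F₀ v) : ∃ η, IsRat F₀ η ∧ η ≠ 0 ∧ η ⬝ᵥ u = 0 ∧ η ⬝ᵥ v = 0 := by
  let u' : ι → F₀ := fun i => ⟨u i, hu i⟩
  let v' : ι → F₀ := fun i => ⟨v i, hv i⟩
  let L : (ι → F₀) →ₗ[F₀] (Fin 2 → F₀) :=
    { toFun := fun η => ![η ⬝ᵥ u', η ⬝ᵥ v']
      map_add' := fun a b => by ext i; fin_cases i <;> simp [add_dotProduct]
      map_smul' := fun c a => by ext i; fin_cases i <;> simp [smul_dotProduct] }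
  have h : LinearMap.ker L ≠ ⊥ := LinearMap.ker_ne_bot_of_finrank_lt (by
    rw [Module.finrank_fintype_fun_eq_card, Module.finrank_fintype_fun_eq_card, Fintype.card_fin]
    omega)
  obtain ⟨η, hη, hη0⟩ := Submodule.exists_mem_ne_zero_of_ne_bot h
  rw [LinearMap.mem_ker] at hη
  refine ⟨fun i => (η i : F), fun i => (η i).2, fun h => hη0 ?_, ?_, ?_⟩
  · funext i
    exact Subtype.ext (congrFun h i)
  · have := congrArg Subtype.val (congrFun hη 0)
    simpa [L, dotProduct, u'] using this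
  · have := congrArg Subtype.val (congrFun hη 1)
    simpa [L, dotProduct, v'] using this

variable (F₀)

/-- Invertible rational matrices times scalars. -/
def baseGrp (ι : Type) [Fintype ι] [DecidableEq ι] : Subgroup (GL ι F) :=
  (Matrix.GeneralLinearGroup.map (F₀.subtype : F₀ →+* F)).range ⊔ Geo.scalars ι F

variable {F₀}

lemma mem_baseGrp_of {g : GL ι F} {μ : F} {ρ : Matrix ι ι F} (hρ : ∀ i j, ρ i j ∈ F₀)
    (h : (g : Matrix ι ι F) = μ • ρ) : g ∈ baseGrp F₀ ι := by
  rcases isEmpty_or_nonempty ι with hι | hι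
  · have : g = 1 := Units.ext (Subsingleton.elim _ _)
    rw [this]; exact Subgroup.one_mem _
  have hdet : (g : Matrix ι ι F).det ≠ 0 := by
    rw [← Matrix.GeneralLinearGroup.val_det_apply]; exact Units.ne_zero _
  rw [h, det_smul] at hdet
  have hμ : μ ≠ 0 := fun e => hdet (by rw [e, zero_pow Fintype.card_ne_zero, zero_mul])
  set A : Matrix ι ι F₀ := fun i j => ⟨ρ i j, hρ i j⟩
  have hAρ : F₀.subtype.mapMatrix A = ρ := rfl
  have hA : A.det ≠ 0 := fun e => by
    have := RingHom.map_det F₀.subtype A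
    rw [e, map_zero, hAρ] at this
    exact hdet (by rw [← this, mul_zero])
  set ρ' := Matrix.GeneralLinearGroup.map F₀.subtype (Matrix.GeneralLinearGroup.mkOfDetNeZero A hA)
  set z : GL ι F := Units.map (Matrix.scalar ι : F →+* Matrix ι ι F).toMonoidHom (Units.mk0 μ hμ)
  have e : g = ρ' * z := by
    refine Units.ext ?_
    rw [Units.val_mul, h]
    show μ • ρ = ρ * Matrix.scalar ι μ
    ext i j
    simp [mul_comm]
  rw [e]
  exact Subgroup.mul_mem_sup ⟨_, rfl⟩ ⟨_, rfl⟩

lemma exists_of_mem_baseGrp {g : GL ι F} (h : g ∈ baseGrp F₀ ι) :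
    ∃ μ : F, μ ≠ 0 ∧ ∃ ρ : Matrix ι ι F, (∀ i j, ρ i j ∈ F₀) ∧ (g : Matrix ι ι F) = μ • ρ := by
  obtain ⟨y, ⟨A, rfl⟩, z, hz, rfl⟩ := Subgroup.mem_sup_of_normal_right.1 h
  obtain ⟨c, hc⟩ := (Geo.mem_scalars_iff z).1 hz
  refine ⟨c, c.ne_zero, _, fun i j => ((A : Matrix ι ι F₀) i j).2, ?_⟩
  rw [Units.val_mul, hc, Matrix.mul_smul, Matrix.mul_one]
  rfl

lemma tv_mem_baseGrp {a φ : ι → F} (ha : IsRat F₀ a) (hφ : IsRat F₀ φ) (h : φ ⬝ᵥ a = 0) :
    tv a φ h ∈ baseGrp F₀ ι := by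
  refine mem_baseGrp_of (μ := 1) (ρ := tvMat a φ) (fun i j => ?_) (by rw [tv_val, one_smul])
  rw [tvMat, Matrix.add_apply, vecMulVec_apply]
  exact F₀.add_mem (by rw [one_apply]; split_ifs <;> simp [F₀.one_mem, F₀.zero_mem])
    (F₀.mul_mem (ha i) (hφ j))

lemma mp_mem_baseGrp (σ : Equiv.Perm ι) {c : ι → Fˣ} (hc : ∀ i, (c i : F) ∈ F₀) :
    mp σ c ∈ baseGrp F₀ ι := by
  refine mem_baseGrp_of (μ := 1) (ρ := (mp σ c : Matrix ι ι F)) (fun i j => ?_) (by rw [one_smul])
  rw [← mulVec_single_one_apply (mp σ c : Matrix ι ι F) j i, mp_apply, Pi.single_apply]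
  split_ifs
  · rw [mul_one]; exact hc i
  · rw [mul_zero]; exact F₀.zero_mem

end rat

section main

variable [Fintype F] {F₀ : Subfield F} {M : Subgroup (GL ι F)}
  (hSM : baseGrp F₀ ι ⊓ Geo.specialLinear ι F ≤ M)
include hSM

lemma inTv_rat {a φ : ι → F} (ha : IsRat F₀ a) (hφ : IsRat F₀ φ) (h : φ ⬝ᵥ a = 0) :
    InTv M a φ := ⟨h, hSM ⟨tv_mem_baseGrp ha hφ h, tv_mem_specialLinear a φ h⟩⟩

lemma step_centre {b φ f : ι → F} (h : InTv M b φ) {i : ι} (hbi : b i ∈ F₀) (hi : b i ≠ 0)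
    (hf : IsRat F₀ f) (hfi : f i = 0) (hφf : φ ⬝ᵥ f = 0) : InTv M f φ := by
  obtain ⟨h0, hT⟩ := inTv_rat hSM hf (IsRat.smul (F₀.inv_mem hbi) (isRat_single i F₀.one_mem))
    (by simp [hfi])
  have h1 := h.conj hT
  rw [vecMul_inv_eq (ψ := φ) fun x => by
    rw [tv_mulVec, dotProduct_add, dotProduct_smul, hφf, smul_zero, add_zero]] at h1
  rw [tv_mulVec, smul_dotProduct, single_dotProduct_one, smul_eq_mul, inv_mul_cancel₀ hi,
    one_smul] at h1
  have h2 := h1.sub_left h
  rwa [add_sub_cancel_left] at h2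

lemma step_covec {a φ θ : ι → F} (h : InTv M a φ) {i : ι} (hφi : φ i ∈ F₀) (hi : φ i ≠ 0)
    (hθ : IsRat F₀ θ) (hθi : θ i = 0) (hθa : θ ⬝ᵥ a = 0) : InTv M a θ := by
  obtain ⟨h0, hT⟩ := inTv_rat hSM (IsRat.smul (F₀.inv_mem hφi) (isRat_single i F₀.one_mem)) hθ
    (by simp [hθi])
  have h1 := h.conj hT
  rw [vecMul_inv_eq (ψ := φ - θ) fun x => by
    rw [sub_dotProduct, tv_mulVec]
    simp only [dotProduct_add, dotProduct_smul, dotProduct_single, mul_one, smul_eq_mul, hθi]
    rw [inv_mul_cancel₀ hi]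
    ring] at h1
  rw [tv_mulVec, hθa, zero_smul, add_zero] at h1
  have h2 := h.sub_right h1
  rwa [sub_sub_cancel] at h2

/-- The scalars of the transvections at two basis vectors. -/
def rootSet (M : Subgroup (GL ι F)) : Set F :=
  {c | ∀ a b : ι, a ≠ b → InTv M (Pi.single a 1) (c • Pi.single b 1)}

/-- The subfield `rootSet`. -/
lemma rootSet_closed (hn : 3 ≤ Fintype.card ι) :
    (∀ c ∈ F₀, c ∈ rootSet M) ∧ (∀ c ∈ rootSet M, ∀ d ∈ rootSet M, c + d ∈ rootSet M) ∧
    (∀ c ∈ rootSet M, ∀ d ∈ rootSet M, c * d ∈ rootSet M) ∧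
    (∀ c ∈ rootSet M, -c ∈ rootSet M) := by
  classical
  refine ⟨fun c hc a b hab => inTv_rat hSM (isRat_single a F₀.one_mem)
      (IsRat.smul hc (isRat_single b F₀.one_mem)) (by simp [Ne.symm hab]),
    fun c hc d hd a b hab => ?_, fun c hc d hd a e hae => ?_, fun c hc a b hab => ?_⟩
  · rw [add_smul]; exact (hc a b hab).add_right (hd a b hab)
  · obtain ⟨b, -, hb⟩ := Finset.exists_mem_notMem_of_card_lt_card
      (s := ({a, e} : Finset ι)) (t := Finset.univ)
      (lt_of_le_of_lt Finset.card_le_two (by rw [Finset.card_univ]; omega))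
    simp at hb
    obtain ⟨h0, hT⟩ := hc a b (Ne.symm hb.1)
    have h1 := (hd b e hb.2).conj hT
    rw [tv_mulVec, smul_dotProduct, single_dotProduct_one, Pi.single_eq_same, smul_eq_mul, mul_one,
      vecMul_inv_eq (ψ := d • Pi.single e 1) fun x => by
        rw [tv_mulVec]
        simp [dotProduct_add, hae, Ne.symm hae]] at h1
    have h2 := h1.sub_left (hd b e hb.2)
    rw [add_sub_cancel_left] at h2
    have h3 := inTv_smul_right h2 (by simp [Ne.symm hae])
    rwa [smul_smul] at h3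
  · rw [neg_smul]; exact (hc a b hab).neg_right

lemma rootSet_mem_of_one (hn : 3 ≤ Fintype.card ι) {c : F} {a b : ι} (hab : a ≠ b)
    (h : InTv M (Pi.single a 1) (c • Pi.single b 1)) : c ∈ rootSet M := by
  classical
  intro a' b' hab'
  obtain ⟨σ, hσa, hσb⟩ : ∃ σ : Equiv.Perm ι, σ a' = a ∧ σ b' = b := by
    refine ⟨Equiv.swap b (Equiv.swap a a' b') * Equiv.swap a a', ?_, ?_⟩
    · rw [Equiv.Perm.mul_apply, Equiv.swap_apply_right, Equiv.swap_apply_of_ne_of_ne hab]
      intro e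
      exact hab' ((Equiv.swap a a').injective (by rw [Equiv.swap_apply_right]; exact e))
    · rw [Equiv.Perm.mul_apply, Equiv.swap_apply_right]
  obtain ⟨k, -, hk⟩ := Finset.exists_mem_notMem_of_card_lt_card
    (s := ({a', b'} : Finset ι)) (t := Finset.univ)
    (lt_of_le_of_lt Finset.card_le_two (by rw [Finset.card_univ]; omega))
  simp at hk
  set ε : Fˣ := Units.map (Int.castRingHom F).toMonoidHom (Equiv.Perm.sign σ) with hε
  have hεv : (ε : F) = ((Equiv.Perm.sign σ : ℤ) : F) := by simp [hε]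
  set d : ι → Fˣ := Function.update 1 k ε⁻¹ with hd
  have hmem : mp σ d ∈ M := by
    refine hSM ⟨mp_mem_baseGrp σ fun i => ?_, mem_specialLinear_iff.2 ?_⟩
    · rcases eq_or_ne i k with rfl | hi
      · rw [hd, Function.update_self, Units.val_inv_eq_inv_val, hεv]
        exact F₀.inv_mem (intCast_mem F₀ _)
      · simp [hd, hi, F₀.one_mem]
    · rw [mp_det, Finset.prod_eq_single k (fun r _ hr => by simp [hd, hr]) (by simp), hd,
        Function.update_self, ← hεv, Units.inv_mul]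
  have h1 := h.conj hmem
  rw [mp_single σ d hσa, vecMul_mp_inv] at h1
  have e1 : ((d a' : F) * 1) • (Pi.single a' 1 : ι → F) = Pi.single a' 1 := by
    simp [hd, Ne.symm hk.1]
  have e2 : (fun i => (c • Pi.single b (1 : F) : ι → F) (σ i) / (d i : F)) =
      c • Pi.single b' 1 := by
    ext i
    rcases eq_or_ne i b' with rfl | hi
    · simp [hσb, hd, Ne.symm hk.2]
    · have : σ i ≠ b := fun e => hi (σ.injective (e.trans hσb.symm))
      simp [this, hi]
  rwa [e1, e2] at h1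

/-- A transvection at a rational incident pair gives its scalar. -/
lemma rootSet_of_rat_pair (hn : 3 ≤ Fintype.card ι) {b η : ι → F} {x : F} (hb : IsRat F₀ b)
    (hb0 : b ≠ 0) (hη : IsRat F₀ η) (hη0 : η ≠ 0) (h : InTv M b (x • η)) :
    x ∈ rootSet M := by
  classical
  rcases eq_or_ne x 0 with rfl | hx
  · exact (rootSet_closed hSM hn).1 0 F₀.zero_mem
  obtain ⟨j, hj⟩ := Function.ne_iff.1 hη0
  rw [Pi.zero_apply] at hj
  obtain ⟨i, hi⟩ := Function.ne_iff.1 hb0
  rw [Pi.zero_apply] at hi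
  obtain ⟨k, -, hk⟩ := Finset.exists_mem_notMem_of_card_lt_card
    (s := ({i, j} : Finset ι)) (t := Finset.univ)
    (lt_of_le_of_lt Finset.card_le_two (by rw [Finset.card_univ]; omega))
  simp at hk
  -- a rational centre `f` with `f i = 0`, orthogonal to `η`
  obtain ⟨f, hf, hf0, hfη, hfi⟩ := exists_rat_perp2 (F₀ := F₀) hn hη (isRat_single i F₀.one_mem)
  rw [dotProduct_single, mul_one] at hfi
  have hηb : η ⬝ᵥ b = 0 := by
    have := h.1
    rw [smul_dotProduct, smul_eq_mul] at this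
    exact (mul_eq_zero.1 this).resolve_left hx
  have h1 := step_centre hSM h (hb i) hi hf hfi
    (by rw [smul_dotProduct, dotProduct_comm, hfη, smul_zero])
  obtain ⟨r, hr⟩ := Function.ne_iff.1 hf0
  rw [Pi.zero_apply] at hr
  -- scale: `(f, x η)` becomes `(x f, η)`, so the covector can move to a coordinate
  have h2 : InTv M (x • f) η := inTv_smul_left h1 (by rw [dotProduct_comm, hfη])
  have h3 := step_covec hSM h2 (hη j) hj (θ := Pi.single i 1) (isRat_single i F₀.one_mem)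
  rcases eq_or_ne i j with rfl | hij
  · -- then `η` has to move through the coordinate `k`
    obtain ⟨f', hf', hf'0, hf'η, hf'k⟩ := exists_rat_perp2 (F₀ := F₀) hn hη
      (isRat_single k F₀.one_mem)
    rw [dotProduct_single, mul_one] at hf'k
    have h5 : InTv M f' (x • η) := by
      rcases eq_or_ne (f' i) 0 with hz | hz
      · exact step_centre hSM h (hb i) hi hf' hz (by rw [smul_dotProduct, dotProduct_comm, hf'η,
          smul_zero])
      · -- pass through `f`
        have hrat : IsRat F₀ (f' - (f' i / b i) • b) := fun s =>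
          F₀.sub_mem (hf' s) (F₀.mul_mem (F₀.div_mem (hf' i) (hb i)) (hb s))
        have p1 := step_centre hSM h (hb i) hi hrat
          (by rw [Pi.sub_apply, Pi.smul_apply, smul_eq_mul, div_mul_cancel₀ _ hi, sub_self])
          (by rw [smul_dotProduct, dotProduct_sub, dotProduct_comm η f', hf'η, dotProduct_smul,
            hηb, smul_zero, sub_zero, smul_zero])
        have hbr : IsRat F₀ ((f' i / b i) • b - ((f' i / b i) * (b r / f r)) • f) := fun s =>
          F₀.sub_mem (F₀.mul_mem (F₀.div_mem (hf' i) (hb i)) (hb s))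
            (F₀.mul_mem (F₀.mul_mem (F₀.div_mem (hf' i) (hb i)) (F₀.div_mem (hb r) (hf r))) (hf s))
        have p2 := step_centre hSM h1 (hf r) hr hbr
          (by simp only [Pi.sub_apply, Pi.smul_apply, smul_eq_mul]
              field_simp
              ring)
          (by rw [smul_dotProduct, dotProduct_sub, dotProduct_smul, dotProduct_smul, hηb,
            dotProduct_comm η f, hfη, smul_zero, smul_zero, sub_zero, smul_zero])
        have p3 := step_centre hSM h (hb i) hi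
          (IsRat.smul (F₀.mul_mem (F₀.div_mem (hf' i) (hb i)) (F₀.div_mem (hb r) (hf r))) hf)
          (by rw [Pi.smul_apply, hfi, smul_zero])
          (by rw [smul_dotProduct, dotProduct_smul, dotProduct_comm η f, hfη, smul_zero, smul_zero])
        have p4 := p1.add_left (p2.add_left p3)
        rwa [sub_add_cancel, sub_add_cancel] at p4
    obtain ⟨r', hr'⟩ := Function.ne_iff.1 hf'0
    rw [Pi.zero_apply] at hr'
    have hr'k : r' ≠ k := by rintro rfl; exact hr' hf'k
    have h6 : InTv M (x • f') η := inTv_smul_left h5 (by rw [dotProduct_comm, hf'η])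
    have h7 := step_covec hSM h6 (hη i) hj (θ := Pi.single k 1) (isRat_single k F₀.one_mem)
      (Pi.single_eq_of_ne (Ne.symm hk.1) _) (by rw [dotProduct_smul, single_dotProduct_one, hf'k,
        smul_zero])
    have h8 := inTv_smul_right h7 (by rw [single_dotProduct_one, hf'k])
    obtain ⟨a, -, ha⟩ := Finset.exists_mem_notMem_of_card_lt_card
      (s := ({r', k} : Finset ι)) (t := Finset.univ)
      (lt_of_le_of_lt Finset.card_le_two (by rw [Finset.card_univ]; omega))
    simp at ha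
    exact rootSet_mem_of_one hSM hn ha.2 (step_centre hSM h8 (hf' r') hr'
      (isRat_single a F₀.one_mem) (Pi.single_eq_of_ne (Ne.symm ha.1) _)
      (by rw [smul_dotProduct, single_dotProduct_one, Pi.single_eq_of_ne (Ne.symm ha.2), smul_zero]))
  · have h4 := inTv_smul_right (h3 (Pi.single_eq_of_ne (Ne.symm hij) _)
      (by rw [dotProduct_smul, single_dotProduct_one, hfi, smul_zero]))
      (by rw [single_dotProduct_one, hfi])
    have hri : r ≠ i := by rintro rfl; exact hr hfi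
    obtain ⟨a, -, ha⟩ := Finset.exists_mem_notMem_of_card_lt_card
      (s := ({r, i} : Finset ι)) (t := Finset.univ)
      (lt_of_le_of_lt Finset.card_le_two (by rw [Finset.card_univ]; omega))
    simp at ha
    exact rootSet_mem_of_one hSM hn ha.2 (step_centre hSM h4 (hf r) hr
      (isRat_single a F₀.one_mem) (Pi.single_eq_of_ne (Ne.symm ha.1) _)
      (by rw [smul_dotProduct, single_dotProduct_one, Pi.single_eq_of_ne (Ne.symm ha.2), smul_zero]))

variable (hroot : ∀ c ∈ rootSet M, c ∈ F₀) (hn : 3 ≤ Fintype.card ι)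
include hroot hn

lemma covec_rat {b χ : ι → F} (hb : IsRat F₀ b) (hb0 : b ≠ 0) (h : InTv M b χ) :
    IsRat F₀ χ := by
  intro i
  obtain ⟨η, hη, hη0, hηb, hηi⟩ := exists_rat_perp2 hn hb (isRat_single i F₀.one_mem)
  rw [dotProduct_single, mul_one] at hηi
  obtain ⟨h0, hT⟩ := inTv_rat hSM (isRat_single i F₀.one_mem) hη (by simp [hηi])
  have h1 := h.conj hT
  rw [tv_mulVec, hηb, zero_smul, add_zero, vecMul_inv_eq (ψ := χ - χ i • η) fun x => by
    rw [sub_dotProduct, smul_dotProduct, tv_mulVec, dotProduct_add, dotProduct_add,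
      dotProduct_smul, dotProduct_smul, dotProduct_single, dotProduct_single, hηi, smul_eq_mul,
      smul_eq_mul]
    ring] at h1
  have h2 := h.sub_right h1
  rw [sub_sub_cancel] at h2
  exact hroot _ (rootSet_of_rat_pair hSM hn hb hb0 hη hη0 h2)

lemma centre_rat {a η : ι → F} (hη : IsRat F₀ η) (hη0 : η ≠ 0) (h : InTv M a η) :
    IsRat F₀ a := by
  intro i
  obtain ⟨c, hc, hc0, hcη, hci⟩ := exists_rat_perp2 hn hη (isRat_single i F₀.one_mem)
  rw [dotProduct_single, mul_one] at hci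
  obtain ⟨h0, hT⟩ := inTv_rat hSM hc (isRat_single i F₀.one_mem) (by simp [hci])
  have h1 := h.conj hT
  rw [tv_mulVec, single_dotProduct_one, vecMul_inv_eq (ψ := η) fun x => by
    rw [tv_mulVec, dotProduct_add, dotProduct_smul, dotProduct_comm η c, hcη, smul_zero,
      add_zero]] at h1
  have h2 := h1.sub_left h
  rw [add_sub_cancel_left] at h2
  have h3 := inTv_smul_right h2 (by rw [dotProduct_comm, hcη])
  exact hroot _ (rootSet_of_rat_pair hSM hn hc hc0 hη hη0 h3)

/-- An element of `M` mapping one rational line to a rational line is rational up to a scalar. -/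
lemma mem_base_of_line {h : GL ι F} (hh : h ∈ M) {b b₁ : ι → F} {μ : F} (hb : IsRat F₀ b)
    (hb0 : b ≠ 0) (hb1 : IsRat F₀ b₁) (he : (h : Matrix ι ι F) *ᵥ b = μ • b₁) :
    h ∈ baseGrp F₀ ι := by
  have hhb : (h : Matrix ι ι F) *ᵥ b ≠ 0 := fun e => hb0 (by
    rw [← inv_mulVec_mulVec h b, e, mulVec_zero])
  have hμ : μ ≠ 0 := fun e => hhb (by rw [he, e, zero_smul])
  have hb10 : b₁ ≠ 0 := fun e => hhb (by rw [he, e, smul_zero])
  have key : ∀ a, IsRat F₀ a → IsRat F₀ (μ⁻¹ • ((h : Matrix ι ι F) *ᵥ a)) := by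
    intro a ha
    obtain ⟨χ, hχ, hχ0, hχb, hχa⟩ := exists_rat_perp2 hn hb ha
    have h1 := (inTv_rat hSM hb hχ hχb).conj hh
    rw [he] at h1
    set ξ := χ ᵥ* ((h⁻¹ : GL ι F) : Matrix ι ι F) with hξ
    have hξb : ξ ⬝ᵥ b₁ = 0 := by
      have := h1.1
      rw [dotProduct_smul, smul_eq_mul] at this
      exact (mul_eq_zero.1 this).resolve_left hμ
    have h2 := covec_rat hSM hroot hn hb1 hb10 (inTv_smul_right h1 hξb)
    have h3 := (inTv_rat hSM ha hχ hχa).conj hh
    have h4 : InTv M (μ⁻¹ • ((h : Matrix ι ι F) *ᵥ a)) (μ • ξ) := by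
      refine inTv_smul_left ?_ ?_
      · rwa [smul_smul, inv_mul_cancel₀ hμ, one_smul]
      · rw [smul_dotProduct, hξ, ← dotProduct_mulVec, inv_mulVec_mulVec, hχa, smul_zero]
    refine centre_rat hSM hroot hn h2 (fun e => hχ0 ?_) h4
    rw [smul_eq_zero] at e
    have e' := e.resolve_left hμ
    rw [hξ] at e'
    have := congrArg (fun v => v ᵥ* (h : Matrix ι ι F)) e'
    simpa [vecMul_vecMul, ← Units.val_mul] using this
  refine mem_baseGrp_of (μ := μ) (ρ := μ⁻¹ • (h : Matrix ι ι F)) (fun i j => ?_)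
    (by rw [smul_smul, mul_inv_cancel₀ hμ, one_smul])
  have := key (Pi.single j 1) (isRat_single j F₀.one_mem) i
  rwa [Pi.smul_apply, mulVec_single_one_apply] at this

omit hroot hn in
lemma isPGroup_zpowers_tv (p : ℕ) [Fact p.Prime] [CharP F p] {a φ : ι → F} (h : φ ⬝ᵥ a = 0) :
    IsPGroup p (Subgroup.zpowers (tv a φ h)) := by
  have hpow : ∀ (k : ℕ) (x : ι → F), ((tv a φ h ^ k : GL ι F) : Matrix ι ι F) *ᵥ x =
      x + ((k : F) * (φ ⬝ᵥ x)) • a := by
    intro k x
    induction k with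
    | zero => simp
    | succ k ih =>
      rw [pow_succ', mul_mulVec, ih, tv_mulVec, dotProduct_add, dotProduct_smul, h, smul_zero,
        add_zero, add_assoc, ← add_smul]
      congr 2
      push_cast
      ring
  rintro ⟨g, hg⟩
  obtain ⟨k, rfl⟩ := Subgroup.mem_zpowers_iff.1 hg
  refine ⟨1, Subtype.ext ?_⟩
  rw [pow_one, Subgroup.coe_pow, Subgroup.coe_one, ← zpow_natCast, ← _root_.zpow_mul, mul_comm,
    _root_.zpow_mul, zpow_natCast]
  have h1 : tv a φ h ^ p = 1 := gl_ext fun x => by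
    rw [hpow, CharP.cast_eq_zero, zero_mul, zero_smul, add_zero, Units.val_one, one_mulVec]
  rw [h1, _root_.one_zpow]

omit hroot hn in
/-- An element of `M` moving the line of `b` to the line of `a` inside their plane. -/
lemma exists_move_line {b ψ a φ : ι → F} (hR : InTv M b ψ) (hT : InTv M a φ)
    (hψa : ψ ⬝ᵥ a ≠ 0) (hφb : φ ⬝ᵥ b ≠ 0) :
    ∃ d ∈ M, ∃ κ : F, (d : Matrix ι ι F) *ᵥ b = κ • a ∧
      ∀ z, ψ ⬝ᵥ z = 0 → φ ⬝ᵥ z = 0 → (d : Matrix ι ι F) *ᵥ z = z := by
  classical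
  obtain ⟨hRb, hR⟩ := hR
  obtain ⟨hTa, hT⟩ := hT
  obtain ⟨p, hp⟩ := CharP.exists F
  haveI : Fact p.Prime := ⟨CharP.char_is_prime F p⟩
  set V := Submodule.span F ({b, a} : Set (ι → F)) with hV
  have hbV : b ∈ V := Submodule.subset_span (by simp)
  have haV : a ∈ V := Submodule.subset_span (by simp)
  let K : Subgroup (GL ι F) :=
    { carrier := {h | h ∈ M ∧ (∀ z, ψ ⬝ᵥ z = 0 → φ ⬝ᵥ z = 0 → (h : Matrix ι ι F) *ᵥ z = z) ∧
        ∀ v, (h : Matrix ι ι F) *ᵥ v - v ∈ V}
      one_mem' := ⟨M.one_mem, fun z _ _ => by simp, fun v => by simp⟩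
      mul_mem' := fun {g h} hg hh => ⟨M.mul_mem hg.1 hh.1,
        fun z h1 h2 => by rw [mul_mulVec, hh.2.1 z h1 h2, hg.2.1 z h1 h2],
        fun v => by
          rw [mul_mulVec]
          have := V.add_mem (hg.2.2 ((h : Matrix ι ι F) *ᵥ v)) (hh.2.2 v)
          rwa [sub_add_sub_cancel] at this⟩
      inv_mem' := fun {g} hg => ⟨M.inv_mem hg.1,
        fun z h1 h2 => by
          conv_lhs => rw [← hg.2.1 z h1 h2]
          rw [inv_mulVec_mulVec],
        fun v => by
          have := V.neg_mem (hg.2.2 (((g⁻¹ : GL ι F) : Matrix ι ι F) *ᵥ v))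
          rwa [mulVec_inv_mulVec, neg_sub] at this⟩ }
  have hRK : tv b ψ hRb ∈ K := ⟨hR, fun z h1 _ => by rw [tv_mulVec, h1, zero_smul, add_zero],
    fun v => by rw [tv_mulVec, add_sub_cancel_left]; exact V.smul_mem _ hbV⟩
  have hTK : tv a φ hTa ∈ K := ⟨hT, fun z _ h2 => by rw [tv_mulVec, h2, zero_smul, add_zero],
    fun v => by rw [tv_mulVec, add_sub_cancel_left]; exact V.smul_mem _ haV⟩
  have hpK : ∀ (c χ : ι → F) (h0 : χ ⬝ᵥ c = 0) (hc : tv c χ h0 ∈ K),
      ∃ P : Sylow p K, (⟨_, hc⟩ : K) ∈ P := by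
    intro c χ h0 hc
    have hpg : IsPGroup p ((Subgroup.zpowers (tv c χ h0)).subgroupOf K) :=
      (isPGroup_zpowers_tv hSM p h0).comap_of_injective K.subtype K.subtype_injective
    obtain ⟨P, hP⟩ := hpg.exists_le_sylow
    exact ⟨P, hP (Subgroup.mem_zpowers _)⟩
  obtain ⟨P, hP⟩ := hpK b ψ hRb hRK
  obtain ⟨Q, hQ⟩ := hpK a φ hTa hTK
  obtain ⟨d, hd⟩ := MulAction.exists_smul_eq K P Q
  -- the fixed vector of a Sylow subgroup
  let act : MulAction (P : Subgroup K) V :=
    { smul := fun h v => ⟨((h : K).1 : Matrix ι ι F) *ᵥ (v : ι → F), by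
        have := V.add_mem ((h : K).2.2.2 (v : ι → F)) v.2
        rwa [sub_add_cancel] at this⟩
      one_smul := fun v => Subtype.ext (by
        show ((1 : GL ι F) : Matrix ι ι F) *ᵥ (v : ι → F) = v
        simp)
      mul_smul := fun g h v => Subtype.ext (mul_mulVec _ _ _) }
  have hfix : ∃ v : V, (v : ι → F) ≠ 0 ∧
      ∀ h : (P : Subgroup K), ((h : K).1 : Matrix ι ι F) *ᵥ (v : ι → F) = v := by
    have hmod := @IsPGroup.card_modEq_card_fixedPoints p (P : Subgroup K) _ P.2 _ V act _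
    have hdvd : p ∣ Nat.card V := by
      rw [Module.natCard_eq_pow_finrank (K := F), Nat.card_eq_fintype_card]
      obtain ⟨k, hp', hk⟩ := FiniteField.card F p
      rw [hk]
      refine dvd_pow (dvd_pow_self p k.ne_zero) ?_
      intro h0
      rw [Submodule.finrank_eq_zero] at h0
      have : b = 0 := by simpa [h0] using hbV
      exact hφb (by rw [this, dotProduct_zero])
    have hne : Nat.card (@MulAction.fixedPoints (P : Subgroup K) V _ act) ≠ 1 := by
      intro h1
      have h2 : p ∣ 1 := by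
        rw [← h1]
        exact Nat.modEq_zero_iff_dvd.1 ((hmod.symm.trans (Nat.modEq_zero_iff_dvd.2 hdvd)))
      exact (Fact.out : p.Prime).one_lt.ne' (Nat.dvd_one.1 h2)
    have hnontriv : ∃ v ∈ @MulAction.fixedPoints (P : Subgroup K) V _ act, v ≠ (0 : V) := by
      by_contra hcon
      push Not at hcon
      apply hne
      have : @MulAction.fixedPoints (P : Subgroup K) V _ act = {0} := by
        refine Set.eq_singleton_iff_unique_mem.2 ⟨fun h => Subtype.ext ?_, hcon⟩
        show ((h : K).1 : Matrix ι ι F) *ᵥ (0 : ι → F) = 0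
        exact mulVec_zero _
      rw [this]
      simp
    obtain ⟨v, hv, hv0⟩ := hnontriv
    exact ⟨v, fun e => hv0 (Subtype.ext e), fun h => congrArg Subtype.val (hv h)⟩
  obtain ⟨v, hv0, hv⟩ := hfix
  obtain ⟨s, t, hst⟩ := Submodule.mem_span_pair.1 v.2
  have hvψ : ψ ⬝ᵥ (v : ι → F) = 0 := by
    have h1 := hv ⟨_, hP⟩
    rw [tv_mulVec, add_eq_left, smul_eq_zero] at h1
    exact h1.resolve_right fun e => hφb (by rw [e, dotProduct_zero])
  have ht : t = 0 := by
    rw [← hst, dotProduct_add, dotProduct_smul, dotProduct_smul, hRb, smul_zero, zero_add,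
      smul_eq_mul, mul_eq_zero] at hvψ
    exact hvψ.resolve_right hψa
  rw [ht, zero_smul, add_zero] at hst
  have hs : s ≠ 0 := fun e => hv0 (by rw [← hst, e, zero_smul])
  -- `d` maps it to a fixed vector of the other transvection
  have hdb : ((tv a φ hTa : GL ι F) : Matrix ι ι F) *ᵥ ((d.1 : Matrix ι ι F) *ᵥ b) =
      (d.1 : Matrix ι ι F) *ᵥ b := by
    have hQ' : (⟨_, hTK⟩ : K) ∈ (d • P : Sylow p K) := hd.symm ▸ hQ
    change _ ∈ ((d • P : Sylow p K) : Subgroup K) at hQ'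
    rw [Sylow.coe_subgroup_smul, Subgroup.mem_pointwise_smul_iff_inv_smul_mem] at hQ'
    have h1 := hv ⟨_, hQ'⟩
    rw [← hst, mulVec_smul] at h1
    have h2 := smul_right_injective (ι → F) hs h1
    have h3 := congrArg (fun w => (d.1 : Matrix ι ι F) *ᵥ w) h2
    simp only [MulAut.smul_def, MulAut.inv_apply, MulAut.conj_symm_apply, Subgroup.coe_mul,
      Subgroup.coe_inv, mul_mulVec, mulVec_inv_mulVec] at h3
    exact h3
  rw [tv_mulVec, add_eq_left, smul_eq_zero] at hdb
  have ha0 : a ≠ 0 := fun e => hψa (by rw [e, dotProduct_zero])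
  have hφdb := hdb.resolve_right ha0
  have hmem : (d.1 : Matrix ι ι F) *ᵥ b ∈ V := by
    have := V.add_mem (d.2.2.2 b) hbV
    rwa [sub_add_cancel] at this
  obtain ⟨s', t', hst'⟩ := Submodule.mem_span_pair.1 hmem
  have hs' : s' = 0 := by
    rw [← hst', dotProduct_add, dotProduct_smul, dotProduct_smul, hTa, smul_zero, add_zero,
      smul_eq_mul, mul_eq_zero] at hφdb
    exact hφdb.resolve_right hφb
  exact ⟨d.1, d.2.1, t', by rw [← hst', hs', zero_smul, zero_add], d.2.2.1⟩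

/-- If the root scalars are in the subfield, `M` is inside the subfield group. -/
theorem mem_baseGrp_of_rootSet (hn5 : 4 ≤ Fintype.card ι) {g : GL ι F} (hg : g ∈ M) :
    g ∈ baseGrp F₀ ι := by
  classical
  by_contra hgS
  haveI : Fintype F₀ := Fintype.ofFinite _
  set σ := FiniteField.frobeniusAlgHom F₀ F with hσ
  have hσfix : ∀ c ∈ F₀, σ c = c := fun c hc => σ.commutes ⟨c, hc⟩
  have hσmem : ∀ c, σ c = c → c ∈ F₀ := by
    intro c hc
    have hc' : c ^ Fintype.card F₀ = c := hc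
    by_contra hcn
    have hq : 1 < Fintype.card F₀ := Fintype.one_lt_card
    set P : Polynomial F := Polynomial.X ^ Fintype.card F₀ - Polynomial.X with hP
    have hPd : P.natDegree = Fintype.card F₀ := FiniteField.X_pow_card_sub_X_natDegree_eq F hq
    have hP0 : P ≠ 0 := FiniteField.X_pow_card_sub_X_ne_zero F hq
    have hle : (insert c (Finset.univ.image fun x : F₀ => (x : F))).card ≤ P.natDegree := by
      refine Polynomial.card_le_degree_of_subset_roots fun x hx => ?_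
      rw [Polynomial.mem_roots hP0]
      have hev : x ^ Fintype.card F₀ = x := by
        rcases Finset.mem_insert.1 hx with rfl | hx'
        · exact hc'
        · obtain ⟨y, -, rfl⟩ := Finset.mem_image.1 hx'
          rw [← SubmonoidClass.coe_pow, FiniteField.pow_card]
      simp [hP, hev]
    rw [Finset.card_insert_of_notMem (by simpa using fun h => hcn h),
      Finset.card_image_of_injective _ Subtype.val_injective, Finset.card_univ, hPd] at hle
    omega
  -- a rational incident pair and its image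
  haveI : Nonempty ι := Fintype.card_pos_iff.1 (by omega)
  obtain ⟨i0⟩ := ‹Nonempty ι›
  obtain ⟨φ₀, hφ₀, hφ₀0, hφ₀i, -⟩ := exists_rat_perp2 (F₀ := F₀) hn (isRat_single i0 F₀.one_mem)
    (isRat_single i0 F₀.one_mem)
  set a₀ : ι → F := Pi.single i0 1 with ha₀
  have hT := (inTv_rat hSM (isRat_single i0 F₀.one_mem) hφ₀ hφ₀i).conj hg
  set a := (g : Matrix ι ι F) *ᵥ a₀ with ha
  set φ := φ₀ ᵥ* ((g⁻¹ : GL ι F) : Matrix ι ι F) with hφ
  have hφ0 : φ ≠ 0 := by
    intro e
    apply hφ₀0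
    have := congrArg (fun v => v ᵥ* (g : Matrix ι ι F)) e
    simpa [hφ, vecMul_vecMul, ← Units.val_mul] using this
  have ha0 : a ≠ 0 := fun e => by
    have := congrFun (inv_mulVec_mulVec g a₀) i0
    rw [← ha, e, mulVec_zero, ha₀] at this
    simp at this
  -- two coordinates with an irrational ratio
  obtain ⟨j, i, hj, hij⟩ : ∃ j i, φ j ≠ 0 ∧ φ i / φ j ∉ F₀ := by
    by_contra hcon
    push Not at hcon
    obtain ⟨j, hj⟩ := Function.ne_iff.1 hφ0
    rw [Pi.zero_apply] at hj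
    set η : ι → F := fun s => φ s / φ j
    have hη : IsRat F₀ η := fun s => hcon j s hj
    have e : φ = φ j • η := by ext s; simp [η, mul_div_cancel₀ _ hj]
    have hη0 : η ≠ 0 := fun h0 => hj (by
      have := congrFun h0 j
      simpa [η, hj] using this)
    rw [e] at hT
    have h0 := hT.1
    rw [smul_dotProduct, smul_eq_mul] at h0
    have hrat := centre_rat hSM hroot hn hη hη0
      (inTv_smul_left hT ((mul_eq_zero.1 h0).resolve_left hj))
    refine hgS (mem_base_of_line hSM hroot hn hg (μ := (φ j)⁻¹) (isRat_single i0 F₀.one_mem)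
      (by simp) hrat ?_)
    rw [smul_smul, inv_mul_cancel₀ hj, one_smul]
  have hji : i ≠ j := by
    rintro rfl
    exact hij (by rw [div_self hj]; exact F₀.one_mem)
  have hi : φ i ≠ 0 := fun e => hij (by rw [e, zero_div]; exact F₀.zero_mem)
  -- a rational covector and two vectors in its kernel
  obtain ⟨ψ, b, e, hψ, hb, he, hψa, hψb, hψe, hφb, hec⟩ : ∃ ψ b e, IsRat F₀ ψ ∧ IsRat F₀ b ∧
      IsRat F₀ e ∧ ψ ⬝ᵥ a ≠ 0 ∧ ψ ⬝ᵥ b = 0 ∧ ψ ⬝ᵥ e = 0 ∧ φ ⬝ᵥ b ≠ 0 ∧
      φ ⬝ᵥ e / φ ⬝ᵥ b ∉ F₀ := by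
    by_cases hk : ∃ k, k ≠ i ∧ k ≠ j ∧ a k ≠ 0
    · obtain ⟨k, hki, hkj, hka⟩ := hk
      refine ⟨Pi.single k 1, Pi.single j 1, Pi.single i 1, isRat_single _ F₀.one_mem,
        isRat_single _ F₀.one_mem, isRat_single _ F₀.one_mem, by simpa using hka, by simp [Ne.symm hkj],
        by simp [Ne.symm hki], by simpa using hj, by simpa using hij⟩
    push Not at hk
    by_cases hk' : ∃ k, k ≠ i ∧ k ≠ j ∧ φ k ≠ 0
    · obtain ⟨k, hki, hkj, hkφ⟩ := hk'
      have hai : a i ≠ 0 ∧ a j ≠ 0 := by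
        have h0 := hT.1
        rw [dotProduct, Finset.sum_eq_add i j hji (fun s _ hs => by rw [hk s hs.1 hs.2, mul_zero])
          (by simp) (by simp)] at h0
        constructor <;> intro e <;> rw [e] at h0 <;> simp [hi, hj] at h0 <;> apply ha0 <;> ext s <;>
          rcases eq_or_ne s i with rfl | hsi <;> rcases eq_or_ne s j with rfl | hsj <;>
          simp_all
      by_cases hkj' : φ k / φ j ∈ F₀
      · refine ⟨Pi.single j 1, Pi.single k 1, Pi.single i 1, isRat_single _ F₀.one_mem,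
          isRat_single _ F₀.one_mem, isRat_single _ F₀.one_mem, by simpa using hai.2,
          by simp [hkj], by simp [hji], by simpa using hkφ, ?_⟩
        simp only [dotProduct_single, mul_one]
        intro hmem
        exact hij (by
          have := F₀.mul_mem hmem hkj'
          rwa [div_mul_div_cancel₀ hkφ] at this)
      · exact ⟨Pi.single i 1, Pi.single j 1, Pi.single k 1, isRat_single _ F₀.one_mem,
          isRat_single _ F₀.one_mem, isRat_single _ F₀.one_mem, by simpa using hai.1,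
          by simp [Ne.symm hji], by simp [hki], by simpa using hj, by simpa using hkj'⟩
    push Not at hk'
    obtain ⟨k, -, hkk⟩ := Finset.exists_mem_notMem_of_card_lt_card
      (s := ({i, j} : Finset ι)) (t := Finset.univ)
      (lt_of_le_of_lt Finset.card_le_two (by rw [Finset.card_univ]; omega))
    simp at hkk
    have hai : a i ≠ 0 := by
      intro e
      have h0 := hT.1
      rw [dotProduct, Finset.sum_eq_add i j hji (fun s _ hs => by rw [hk s hs.1 hs.2, mul_zero])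
        (by simp) (by simp), e, mul_zero, zero_add, mul_eq_zero] at h0
      apply ha0
      ext s
      rcases eq_or_ne s i with rfl | hsi
      · exact e
      rcases eq_or_ne s j with rfl | hsj
      · exact h0.resolve_left hj
      · exact hk s hsi hsj
    refine ⟨Pi.single i 1 + Pi.single k 1, Pi.single j 1, Pi.single i 1 - Pi.single k 1,
      (isRat_single _ F₀.one_mem).add (isRat_single _ F₀.one_mem), isRat_single _ F₀.one_mem, ?_,
      ?_, ?_, ?_, by simpa using hj, ?_⟩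
    · intro s
      exact F₀.sub_mem (isRat_single i F₀.one_mem s) (isRat_single k F₀.one_mem s)
    · simp [add_dotProduct, hk k hkk.1 hkk.2, hai]
    · simp [Ne.symm hji, Ne.symm hkk.2]
    · simp [add_dotProduct, dotProduct_sub, hkk.1, Ne.symm hkk.1]
    · simp [dotProduct_sub, hk' k hkk.1 hkk.2]
      exact hij
  -- a second centre
  have hb0 : b ≠ 0 := fun e' => hφb (by rw [e', dotProduct_zero])
  have hout : ∀ p q : ι → F, ∃ f, IsRat F₀ f ∧ ψ ⬝ᵥ f = 0 ∧ f ∉ Submodule.span F {p, q} := by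
    intro p q
    by_contra hcon
    push Not at hcon
    obtain ⟨r, hr⟩ : ∃ r, ψ r ≠ 0 := by
      by_contra h
      push Not at h
      exact hψa (by rw [show ψ = 0 from funext h, zero_dotProduct])
    let v : {s // s ≠ r} → ι → F := fun s => Pi.single s.1 1 - (ψ s.1 / ψ r) • Pi.single r 1
    have hv : ∀ s, v s ∈ Submodule.span F ({p, q} : Set (ι → F)) := by
      intro s
      refine hcon _ (fun t => F₀.sub_mem (isRat_single s.1 F₀.one_mem t) (F₀.mul_mem
        (F₀.div_mem (hψ s.1) (hψ r)) (isRat_single r F₀.one_mem t))) ?_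
      simp [v, dotProduct_sub, dotProduct_smul, div_mul_cancel₀ _ hr]
    have hli : LinearIndependent F v := by
      refine Fintype.linearIndependent_iff.2 fun c hc s => ?_
      have := congrFun hc s.1
      rw [Finset.sum_apply, Finset.sum_eq_single s] at this
      · simpa [v, s.2] using this
      · intro t _ hts
        have : s.1 ≠ t.1 := fun e' => hts (Subtype.ext e'.symm)
        simp [v, this, s.2]
      · simp
    have h1 : Submodule.span F (Set.range v) ≤ Submodule.span F {p, q} :=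
      Submodule.span_le.2 (by rintro _ ⟨s, rfl⟩; exact hv s)
    have h2 := Submodule.finrank_mono h1
    rw [finrank_span_eq_card hli, Fintype.card_subtype_compl, Fintype.card_subtype_eq] at h2
    have h3 : Module.finrank F (Submodule.span F ({p, q} : Set (ι → F))) ≤ 2 :=
      (finrank_span_le_card _).trans (by
        rw [Set.toFinset_insert, Set.toFinset_singleton]
        exact Finset.card_le_two)
    omega
  obtain ⟨f, hf, hψf, hfout⟩ := hout b a
  obtain ⟨b₂, hb2, hψb2, hφb2, hb2out⟩ : ∃ b₂, IsRat F₀ b₂ ∧ ψ ⬝ᵥ b₂ = 0 ∧ φ ⬝ᵥ b₂ ≠ 0 ∧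
      b₂ ∉ Submodule.span F {b, a} := by
    rcases eq_or_ne (φ ⬝ᵥ (b + f)) 0 with h | h
    · refine ⟨f, hf, hψf, fun e' => hφb ?_, hfout⟩
      rwa [dotProduct_add, e', add_zero] at h
    · refine ⟨b + f, hb.add hf, by rw [dotProduct_add, hψb, hψf, add_zero], h, fun h' => hfout ?_⟩
      have := Submodule.sub_mem _ h' (Submodule.subset_span (s := ({b, a} : Set (ι → F))) (by simp : b ∈ ({b, a} : Set (ι → F))))
      rwa [add_sub_cancel_left] at this
  obtain ⟨d₁, hd1, κ₁, hd1b, hd1z⟩ := exists_move_line hSM (inTv_rat hSM hb hψ hψb) hT hψa hφb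
  obtain ⟨d₂, hd2, κ₂, hd2b, hd2z⟩ := exists_move_line hSM (inTv_rat hSM hb2 hψ hψb2) hT hψa hφb2
  have hmem : ∀ (d : GL ι F) (b' : ι → F) (κ : F), d ∈ M → IsRat F₀ b' → b' ≠ 0 → (d : Matrix ι ι F) *ᵥ b' = κ • a →
      g⁻¹ * d ∈ baseGrp F₀ ι := by
    intro d b' κ hd hb' hb'0 hdb'
    refine mem_base_of_line hSM hroot hn (M.mul_mem (M.inv_mem hg) hd) hb' hb'0
      (isRat_single i0 F₀.one_mem) (μ := κ) ?_
    rw [mul_mulVec, hdb', mulVec_smul, ha, inv_mulVec_mulVec]
  have hs : d₂⁻¹ * d₁ ∈ baseGrp F₀ ι := by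
    have := Subgroup.mul_mem _ (Subgroup.inv_mem _ (hmem d₂ b₂ κ₂ hd2 hb2
      (fun e' => hφb2 (by rw [e', dotProduct_zero])) hd2b)) (hmem d₁ b κ₁ hd1 hb hb0 hd1b)
    rwa [_root_.mul_inv_rev, inv_inv, mul_assoc, mul_inv_cancel_left] at this
  obtain ⟨μ, hμ, ρ, hρ, hρe⟩ := exists_of_mem_baseGrp hs
  set s := d₂⁻¹ * d₁ with hsdef
  have hsz : ∀ z, ψ ⬝ᵥ z = 0 → φ ⬝ᵥ z = 0 → (s : Matrix ι ι F) *ᵥ z = z := by
    intro z h1 h2
    rw [hsdef, mul_mulVec, hd1z z h1 h2]
    conv_lhs => rw [← hd2z z h1 h2]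
    rw [inv_mulVec_mulVec]
  have hρrat : ∀ v, IsRat F₀ v → IsRat F₀ (ρ *ᵥ v) := fun v hv t =>
    F₀.sum_mem fun r _ => F₀.mul_mem (hρ t r) (hv r)
  set c := φ ⬝ᵥ e / φ ⬝ᵥ b with hc
  have hzφ : φ ⬝ᵥ (e - c • b) = 0 := by
    rw [dotProduct_sub, dotProduct_smul, hc, smul_eq_mul, div_mul_cancel₀ _ hφb, sub_self]
  have hzψ : ψ ⬝ᵥ (e - c • b) = 0 := by
    rw [dotProduct_sub, dotProduct_smul, hψe, hψb, smul_zero, sub_zero]
  have hindep : LinearIndependent F ![b, b₂] := by
    rw [LinearIndependent.pair_iff]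
    intro x y hxy
    have hy : y = 0 := by
      by_contra hy
      apply hb2out
      rw [Submodule.mem_span_pair]
      refine ⟨-(x / y), 0, ?_⟩
      rw [zero_smul, add_zero, neg_smul, neg_eq_iff_add_eq_zero]
      have := congrArg (fun v => y⁻¹ • v) hxy
      simp only [smul_add, smul_smul, inv_mul_cancel₀ hy, one_smul, smul_zero] at this
      rwa [div_eq_inv_mul]
    rw [hy, zero_smul, add_zero] at hxy
    exact ⟨(smul_eq_zero.1 hxy).resolve_right hb0, hy⟩
  -- the scalar is rational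
  have hμF : μ⁻¹ ∈ F₀ := by
    refine hσmem _ ?_
    have hrow : ∀ v, (s : Matrix ι ι F) *ᵥ v = v → ρ *ᵥ v = μ⁻¹ • v := by
      intro v hv
      rw [hρe, smul_mulVec] at hv
      conv_rhs => rw [← hv]
      rw [smul_smul, inv_mul_cancel₀ hμ, one_smul]
    -- a vector of the fixed space, fixed also by the conjugate map
    obtain ⟨w, hw, hψw, hwout⟩ := hout b e
    set c₂ := φ ⬝ᵥ w / φ ⬝ᵥ b with hc₂
    have hzφ2 : φ ⬝ᵥ (w - c₂ • b) = 0 := by
      rw [dotProduct_sub, dotProduct_smul, hc₂, smul_eq_mul, div_mul_cancel₀ _ hφb, sub_self]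
    have hzψ2 : ψ ⬝ᵥ (w - c₂ • b) = 0 := by
      rw [dotProduct_sub, dotProduct_smul, hψw, hψb, smul_zero, sub_zero]
    set x := c₂ - σ c₂
    set y := σ c - c with hy
    have hσv : ∀ (v : ι → F), IsRat F₀ v → ∀ t, σ (v t) = v t := fun v hv t => hσfix _ (hv t)
    have r1 : ρ *ᵥ e - c • (ρ *ᵥ b) = μ⁻¹ • (e - c • b) := by
      rw [← mulVec_smul, ← mulVec_sub]; exact hrow _ (hsz _ hzψ hzφ)
    have r2 : ρ *ᵥ w - c₂ • (ρ *ᵥ b) = μ⁻¹ • (w - c₂ • b) := by
      rw [← mulVec_smul, ← mulVec_sub]; exact hrow _ (hsz _ hzψ2 hzφ2)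
    have hne : x • (e - c • b) + y • (w - c₂ • b) ≠ 0 := by
      intro h0
      have hy0 : y ≠ 0 := fun h => hec (hσmem c (sub_eq_zero.1 h))
      apply hwout
      rw [Submodule.mem_span_pair]
      refine ⟨(x * c + y * c₂) / y, -x / y, ?_⟩
      ext t
      have h1 := congrFun h0 t
      simp only [Pi.add_apply, Pi.sub_apply, Pi.smul_apply, Pi.zero_apply, smul_eq_mul] at h1 ⊢
      rw [div_mul_eq_mul_div, div_mul_eq_mul_div, ← add_div, div_eq_iff hy0]
      linear_combination -h1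
    obtain ⟨t, ht⟩ := Function.ne_iff.1 hne
    have h1 := congrFun r1 t
    have h2 := congrFun r2 t
    simp only [Pi.sub_apply, Pi.smul_apply, smul_eq_mul] at h1 h2
    have h1' := congrArg σ h1
    have h2' := congrArg σ h2
    simp only [map_sub, map_mul, hσv e he t, hσv b hb t, hσv w hw t, hσv _ (hρrat e he) t,
      hσv _ (hρrat b hb) t, hσv _ (hρrat w hw) t] at h1' h2'
    simp only [Pi.add_apply, Pi.smul_apply, Pi.sub_apply, smul_eq_mul, Pi.zero_apply] at ht
    refine mul_right_cancel₀ ht ?_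
    linear_combination -(x * h1') - y * h2' + x * h1 + y * h2
  -- so `s` is rational, and fixes `e`
  have hse : (s : Matrix ι ι F) *ᵥ e = e := by
    have hz := hsz _ hzψ hzφ
    rw [mulVec_sub, mulVec_smul] at hz
    ext t
    have h1 := congrFun hz t
    simp only [Pi.sub_apply, Pi.smul_apply, smul_eq_mul] at h1
    by_contra hne
    apply hec
    have hsr : ∀ v, IsRat F₀ v → IsRat F₀ ((s : Matrix ι ι F) *ᵥ v) := fun v hv r => by
      rw [hρe, smul_mulVec, Pi.smul_apply, smul_eq_mul]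
      refine F₀.mul_mem ?_ (hρrat v hv r)
      simpa using F₀.inv_mem hμF
    have h2 : ((s : Matrix ι ι F) *ᵥ b) t - b t ≠ 0 := fun h0 => hne (by linear_combination h1 + c * h0)
    have h3 : c = (((s : Matrix ι ι F) *ᵥ e) t - e t) / (((s : Matrix ι ι F) *ᵥ b) t - b t) := by
      rw [eq_div_iff h2]; linear_combination -h1
    rw [h3]
    exact F₀.div_mem (F₀.sub_mem (hsr e he t) (he t)) (F₀.sub_mem (hsr b hb t) (hb t))
  have hde : (d₁ : Matrix ι ι F) *ᵥ e = (d₂ : Matrix ι ι F) *ᵥ e := by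
    conv_rhs => rw [← hse, hsdef, mul_mulVec, mulVec_inv_mulVec]
  have hd : ∀ (d : GL ι F) (b' : ι → F) (κ : F), (d : Matrix ι ι F) *ᵥ b' = κ • a →
      ψ ⬝ᵥ b' = 0 → φ ⬝ᵥ b' ≠ 0 →
      (∀ z, ψ ⬝ᵥ z = 0 → φ ⬝ᵥ z = 0 → (d : Matrix ι ι F) *ᵥ z = z) →
      (d : Matrix ι ι F) *ᵥ e = e - (φ ⬝ᵥ e / φ ⬝ᵥ b') • b' + (φ ⬝ᵥ e / φ ⬝ᵥ b') • κ • a := by
    intro d b' κ h1 h2 h3 h4
    have h5 := h4 (e - (φ ⬝ᵥ e / φ ⬝ᵥ b') • b')
      (by rw [dotProduct_sub, dotProduct_smul, hψe, h2, smul_zero, sub_zero])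
      (by rw [dotProduct_sub, dotProduct_smul, smul_eq_mul, div_mul_cancel₀ _ h3, sub_self])
    rw [mulVec_sub, mulVec_smul, h1, sub_eq_iff_eq_add] at h5
    exact h5
  rw [hd d₁ b κ₁ hd1b hψb hφb hd1z, hd d₂ b₂ κ₂ hd2b hψb2 hφb2 hd2z] at hde
  apply hb2out
  have hu : φ ⬝ᵥ e / φ ⬝ᵥ b₂ ≠ 0 := div_ne_zero (fun h0 => hec (by
    rw [hc, h0, zero_div]; exact F₀.zero_mem)) hφb2
  rw [Submodule.mem_span_pair]
  refine ⟨c / (φ ⬝ᵥ e / φ ⬝ᵥ b₂), (φ ⬝ᵥ e / φ ⬝ᵥ b₂ * κ₂ - c * κ₁) / (φ ⬝ᵥ e / φ ⬝ᵥ b₂), ?_⟩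
  ext t
  have h1 := congrFun hde t
  simp only [Pi.add_apply, Pi.sub_apply, Pi.smul_apply, smul_eq_mul] at h1 ⊢
  apply mul_left_cancel₀ hu
  rw [mul_add, ← mul_assoc, ← mul_assoc, mul_div_cancel₀ _ hu, mul_div_cancel₀ _ hu]
  linear_combination -h1

end main

end Cfsg.Agent.H95
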