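/-
Non-degenerate quadratic forms on F^ι as functions, odd characteristic: anisotropic and isotropic
vectors in subspaces, reflections and Siegel transformations.
-/
import Cfsg.Agent.H95.Dil

set_option autoImplicit false

namespace Cfsg.Agent.H95

open scoped MatrixGroups Matrix
open Matrix QuadraticMap

variable {ι : Type} [Fintype ι] [DecidableEq ι] {F : Type*} [Field F]
  {Q : (ι → F) → F} (hQ : Geo.IsNondegenerateQuadraticForm Q)
include hQ

set_option linter.unusedSectionVars false

attribute [-simp] Matrix.coe_units_inv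

lemma q_add (x y : ι → F) : Q (x + y) = Q x + Q y + polar Q x y := by
  rw [polar]; ring
lemma q_smul (c : F) (x : ι → F) : Q (c • x) = c ^ 2 * Q x := hQ.smul c x
lemma q_zero : Q 0 = 0 := by simpa using q_smul hQ 0 0
lemma p_add_left (x y v : ι → F) : polar Q (x + y) v = polar Q x v + polar Q y v :=
  hQ.polar_bilinear.add_left x y v
lemma p_add_right (v x y : ι → F) : polar Q v (x + y) = polar Q v x + polar Q v y :=
  hQ.polar_bilinear.add_right v x y
lemma p_smul_left (c : F) (x v : ι → F) : polar Q (c • x) v = c * polar Q x v :=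
  hQ.polar_bilinear.smul_left c x v
lemma p_smul_right (c : F) (v x : ι → F) : polar Q v (c • x) = c * polar Q v x :=
  hQ.polar_bilinear.smul_right c v x
lemma p_comm (x y : ι → F) : polar Q x y = polar Q y x := polar_comm Q x y
lemma p_zero_left (v : ι → F) : polar Q 0 v = 0 := by simpa using p_smul_left hQ 0 0 v
lemma p_zero_right (v : ι → F) : polar Q v 0 = 0 := by simpa using p_smul_right hQ 0 v 0
lemma p_neg_left (x v : ι → F) : polar Q (-x) v = -polar Q x v := by
  simpa using p_smul_left hQ (-1) x v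
lemma p_neg_right (v x : ι → F) : polar Q v (-x) = -polar Q v x := by
  simpa using p_smul_right hQ (-1) v x
lemma p_sub_left (x y v : ι → F) : polar Q (x - y) v = polar Q x v - polar Q y v := by
  rw [sub_eq_add_neg, p_add_left hQ, p_neg_left hQ, ← sub_eq_add_neg]
lemma p_sub_right (v x y : ι → F) : polar Q v (x - y) = polar Q v x - polar Q v y := by
  rw [sub_eq_add_neg, p_add_right hQ, p_neg_right hQ, ← sub_eq_add_neg]
lemma q_neg (x : ι → F) : Q (-x) = Q x := by simpa using q_smul hQ (-1) x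
lemma q_sub (x y : ι → F) : Q (x - y) = Q x + Q y - polar Q x y := by
  rw [sub_eq_add_neg, q_add hQ, q_neg hQ, p_neg_right hQ, ← sub_eq_add_neg]
lemma p_self (x : ι → F) : polar Q x x = 2 * Q x := by
  rw [polar, show x + x = (2 : F) • x by rw [two_smul], q_smul hQ]; ring

/-- Coefficient vector of `x ↦ polar Q x a`. -/
lemma qv_dot (a x : ι → F) : dv (polar Q) a ⬝ᵥ x = polar Q x a := by
  let L : (ι → F) →ₗ[F] F :=
    { toFun := fun y => polar Q y a
      map_add' := fun y z => p_add_left hQ y z a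
      map_smul' := fun c y => p_smul_left hQ c y a }
  calc dv (polar Q) a ⬝ᵥ x = ∑ j, x j • L (Pi.single j 1) := by
        simp [dotProduct, dv, L, mul_comm]
    _ = L (∑ j, x j • Pi.single j 1) := by rw [map_sum]; simp only [map_smul]
    _ = L x := by rw [← pi_eq_sum_univ']
    _ = polar Q x a := rfl

lemma qv_add (a b : ι → F) : dv (polar Q) (a + b) = dv (polar Q) a + dv (polar Q) b := by
  ext j; simp [dv, p_add_right hQ]

lemma qv_smul (c : F) (a : ι → F) : dv (polar Q) (c • a) = c • dv (polar Q) a := by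
  ext j; simp [dv, p_smul_right hQ]

lemma exists_qv (φ : ι → F) : ∃ a, dv (polar Q) a = φ := by
  let L : (ι → F) →ₗ[F] (ι → F) :=
    { toFun := dv (polar Q), map_add' := qv_add hQ, map_smul' := qv_smul hQ }
  have hinj : Function.Injective L := by
    rw [← LinearMap.ker_eq_bot, LinearMap.ker_eq_bot']
    intro c hc
    by_contra h
    obtain ⟨⟨x, hx⟩, -⟩ := hQ.nondegenerate c h
    apply hx
    rw [← qv_dot hQ c x, show dv (polar Q) c = 0 from hc, zero_dotProduct]
  exact LinearMap.surjective_of_injective hinj φ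

/-- A subspace of dimension more than half is not totally singular. -/
lemma exists_aniso_mem (h2 : (2 : F) ≠ 0) (W : Submodule F (ι → F))
    (hW : Fintype.card ι < 2 * Module.finrank F W) : ∃ z ∈ W, Q z ≠ 0 := by
  by_contra hcon
  push Not at hcon
  have horth : ∀ x ∈ W, ∀ y ∈ W, polar Q x y = 0 := fun x hx y hy => by
    rw [polar, hcon _ (W.add_mem hx hy), hcon _ hx, hcon _ hy, sub_zero, sub_zero]
  let L : W →ₗ[F] W.dualAnnihilator :=
    { toFun := fun w => ⟨
        { toFun := fun x => polar Q x (w : ι → F)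
          map_add' := fun y z => p_add_left hQ y z _
          map_smul' := fun c y => p_smul_left hQ c y _ },
        (Submodule.mem_dualAnnihilator _).2 fun x hx => horth x hx _ w.2⟩
      map_add' := fun a b => Subtype.ext (LinearMap.ext fun x => p_add_right hQ x _ _)
      map_smul' := fun c a => Subtype.ext (LinearMap.ext fun x => p_smul_right hQ c x _) }
  have hinj : Function.Injective L := by
    rw [injective_iff_map_eq_zero]
    intro w hw
    by_contra h
    obtain ⟨⟨x, hx⟩, -⟩ := hQ.nondegenerate (w : ι → F) fun e => h (Subtype.ext e)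
    exact hx (LinearMap.congr_fun (congrArg Subtype.val hw) x)
  have h1 := LinearMap.finrank_le_finrank_of_injective hinj
  have h3 := Subspace.finrank_add_finrank_dualAnnihilator_eq W
  rw [Module.finrank_fintype_fun_eq_card] at h3
  omega

/-- An anisotropic vector killed by a few functionals. -/
lemma exists_aniso_ker (h2 : (2 : F) ≠ 0) {k : ℕ} (φ : Fin k → ι → F)
    (hk : 2 * k < Fintype.card ι) : ∃ z, (∀ j, φ j ⬝ᵥ z = 0) ∧ Q z ≠ 0 := by
  let L : (ι → F) →ₗ[F] (Fin k → F) :=
    { toFun := fun z j => φ j ⬝ᵥ z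
      map_add' := fun a b => funext fun j => dotProduct_add _ _ _
      map_smul' := fun c a => funext fun j => by simp [dotProduct_smul] }
  have h1 := LinearMap.finrank_range_add_finrank_ker L
  have h3 := Submodule.finrank_le (LinearMap.range L)
  rw [Module.finrank_fin_fun] at h3
  rw [Module.finrank_fintype_fun_eq_card] at h1
  obtain ⟨z, hz, hz'⟩ := exists_aniso_mem hQ h2 (LinearMap.ker L) (by omega)
  exact ⟨z, fun j => congrFun (LinearMap.mem_ker.1 hz) j, hz'⟩

/-- Three orthogonal anisotropic vectors span an isotropic one. -/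
lemma exists_iso_of_three [Fintype F] (h2 : (2 : F) ≠ 0) {W : Submodule F (ι → F)}
    {x y z : ι → F} (hxW : x ∈ W) (hyW : y ∈ W) (hzW : z ∈ W) (hx : Q x ≠ 0) (hy : Q y ≠ 0)
    (hz : Q z ≠ 0) (hxy : polar Q x y = 0) (hxz : polar Q x z = 0) (hyz : polar Q y z = 0) :
    ∃ e ∈ W, e ≠ 0 ∧ Q e = 0 := by
  have hcard : Fintype.card F % 2 = 1 :=
    FiniteField.odd_card_of_char_ne_two fun h => h2 (by
      have := ringChar.spec F 2
      rw [h] at this
      exact_mod_cast this.2 dvd_rfl)
  obtain ⟨p, r, h⟩ := FiniteField.exists_root_sum_quadratic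
    (f := Polynomial.C (Q x) * Polynomial.X ^ 2 + Polynomial.C (Q z))
    (g := Polynomial.C (Q y) * Polynomial.X ^ 2)
    (by
      rw [Polynomial.degree_add_eq_left_of_degree_lt]
      · exact Polynomial.degree_C_mul_X_pow _ hx
      · rw [Polynomial.degree_C_mul_X_pow _ hx]
        exact lt_of_le_of_lt Polynomial.degree_C_le (by decide))
    (Polynomial.degree_C_mul_X_pow _ hy) hcard
  simp at h
  refine ⟨p • x + r • y + z, W.add_mem (W.add_mem (W.smul_mem _ hxW) (W.smul_mem _ hyW)) hzW,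
    fun e => hz ?_, ?_⟩
  · have h1 : polar Q (p • x + r • y + z) z = 0 := by rw [e, p_zero_left hQ]
    rw [p_add_left hQ, p_add_left hQ, p_smul_left hQ, p_smul_left hQ, hxz, hyz, p_self hQ,
      mul_zero, mul_zero, zero_add, zero_add, mul_eq_zero] at h1
    exact h1.resolve_left h2
  · rw [q_add hQ, q_add hQ, p_add_left hQ, p_smul_left hQ, p_smul_left hQ, p_smul_left hQ,
      p_smul_right hQ, q_smul hQ, q_smul hQ, hxy, hxz, hyz]
    linear_combination h

/-- An isotropic vector orthogonal to a given one. -/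
lemma exists_iso_perp [Fintype F] (h2 : (2 : F) ≠ 0) (hn : 7 ≤ Fintype.card ι) (v : ι → F) :
    ∃ e, e ≠ 0 ∧ Q e = 0 ∧ polar Q e v = 0 := by
  obtain ⟨x, hx, hx'⟩ := exists_aniso_ker hQ h2 ![dv (polar Q) v] (by omega)
  obtain ⟨y, hy, hy'⟩ := exists_aniso_ker hQ h2 ![dv (polar Q) v, dv (polar Q) x] (by omega)
  obtain ⟨z, hz, hz'⟩ := exists_aniso_ker hQ h2
    ![dv (polar Q) v, dv (polar Q) x, dv (polar Q) y] (by omega)
  have a1 : polar Q x v = 0 := by rw [← qv_dot hQ]; exact hx 0
  have a2 : polar Q y v = 0 := by rw [← qv_dot hQ]; exact hy 0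
  have a3 : polar Q z v = 0 := by rw [← qv_dot hQ]; exact hz 0
  have b1 : polar Q y x = 0 := by rw [← qv_dot hQ]; exact hy 1
  have b2 : polar Q z x = 0 := by rw [← qv_dot hQ]; exact hz 1
  have b3 : polar Q z y = 0 := by rw [← qv_dot hQ]; exact hz 2
  let W : Submodule F (ι → F) :=
    { carrier := {w | polar Q w v = 0}
      add_mem' := fun {a b} (ha : polar Q a v = 0) (hb : polar Q b v = 0) =>
        show polar Q (a + b) v = 0 by rw [p_add_left hQ, ha, hb, add_zero]
      zero_mem' := p_zero_left hQ v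
      smul_mem' := fun c a (ha : polar Q a v = 0) =>
        show polar Q (c • a) v = 0 by rw [p_smul_left hQ, ha, mul_zero] }
  obtain ⟨e, he, he0, he'⟩ := exists_iso_of_three hQ h2 (W := W) a1 a2 a3 hx' hy' hz'
    (by rw [p_comm hQ, b1]) (by rw [p_comm hQ, b2]) (by rw [p_comm hQ, b3])
  exact ⟨e, he0, he', he⟩

/-- An isotropic vector orthogonal to `v` and non-orthogonal to `u`. -/
lemma exists_iso_nonorth [Fintype F] (h2 : (2 : F) ≠ 0) (hn : 7 ≤ Fintype.card ι) {v u : ι → F}
    (hv0 : v = 0 ∨ Q v ≠ 0) (h : ∃ y, polar Q y v = 0 ∧ polar Q u y ≠ 0) :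
    ∃ e, Q e = 0 ∧ polar Q e v = 0 ∧ polar Q u e ≠ 0 := by
  obtain ⟨e₀, he₀0, he₀, he₀v⟩ := exists_iso_perp hQ h2 hn v
  by_contra hcon
  push Not at hcon
  obtain ⟨y, hyv, huy⟩ := h
  have hu0 : polar Q u e₀ = 0 := hcon e₀ he₀ he₀v
  have key : ∀ y, polar Q y v = 0 → polar Q e₀ y ≠ 0 → polar Q u y = 0 := by
    intro y hy hne
    have h1 := hcon (y - (Q y / polar Q e₀ y) • e₀)
      (by rw [q_sub hQ, q_smul hQ, he₀, p_smul_right hQ, p_comm hQ y e₀, div_mul_cancel₀ _ hne]
          ring)
      (by rw [p_sub_left hQ, p_smul_left hQ, hy, he₀v, mul_zero, sub_zero])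
    rwa [p_sub_right hQ, p_smul_right hQ, hu0, mul_zero, sub_zero] at h1
  rcases eq_or_ne (polar Q e₀ y) 0 with h0 | h0
  · obtain ⟨y1, hy1, hy1'⟩ : ∃ y1, polar Q y1 v = 0 ∧ polar Q e₀ y1 ≠ 0 := by
      by_contra hc
      push Not at hc
      obtain ⟨⟨w, hw⟩, -⟩ := hQ.nondegenerate e₀ he₀0
      rcases hv0 with hv | hv
      · exact hw (by rw [p_comm hQ]; exact hc w (by rw [hv, p_zero_right hQ]))
      · have h3 := hc (w - (polar Q w v / polar Q v v) • v)
          (by rw [p_sub_left hQ, p_smul_left hQ, div_mul_cancel₀ _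
            (by rw [p_self hQ]; exact mul_ne_zero h2 hv), sub_self])
        rw [p_sub_right hQ, p_smul_right hQ, he₀v, mul_zero, sub_zero, p_comm hQ] at h3
        exact hw h3
    have h3 := key (y + y1) (by rw [p_add_left hQ, hyv, hy1, add_zero])
      (by rw [p_add_right hQ, h0, zero_add]; exact hy1')
    rw [p_add_right hQ, key y1 hy1 hy1', add_zero] at h3
    exact huy h3
  · exact huy (key y hyv h0)

/-- The reflection at an anisotropic vector. -/
def rfl' (h2 : (2 : F) ≠ 0) (v : ι → F) (hv : Q v ≠ 0) : GL ι F :=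
  dl v ((2 * Q v)⁻¹ • dv (polar Q) v) (-1)
    (by rw [smul_dotProduct, qv_dot hQ, p_self hQ, smul_eq_mul, inv_mul_cancel₀ (mul_ne_zero h2 hv)])

lemma rfl'_mulVec (h2 : (2 : F) ≠ 0) (v : ι → F) (hv : Q v ≠ 0) (x : ι → F) :
    (rfl' hQ h2 v hv : Matrix ι ι F) *ᵥ x = x - (polar Q x v / Q v) • v := by
  rw [rfl', dl_mulVec, smul_dotProduct, qv_dot hQ, Units.val_neg, Units.val_one]
  ext i
  simp only [Pi.add_apply, Pi.sub_apply, Pi.smul_apply, smul_eq_mul]
  field_simp
  ring

lemma rfl'_iso (h2 : (2 : F) ≠ 0) (v : ι → F) (hv : Q v ≠ 0) (x : ι → F) :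
    Q ((rfl' hQ h2 v hv : Matrix ι ι F) *ᵥ x) = Q x := by
  rw [rfl'_mulVec, q_sub hQ, q_smul hQ, p_smul_right hQ]
  field_simp
  ring

/-- Siegel transformations. -/
def sg (e c : ι → F) (he : Q e = 0) (hec : polar Q e c = 0) : GL ι F :=
  tv e (-dv (polar Q) c) (by rw [neg_dotProduct, qv_dot hQ, hec, neg_zero]) *
  tv (c + Q c • e) (dv (polar Q) e)
    (by rw [qv_dot hQ, p_add_left hQ, p_smul_left hQ, p_self hQ, he, p_comm hQ c e, hec]; ring)

lemma sg_mulVec (e c : ι → F) (he : Q e = 0) (hec : polar Q e c = 0) (x : ι → F) :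
    (sg hQ e c he hec : Matrix ι ι F) *ᵥ x =
      x + polar Q x e • c - (polar Q x c + Q c * polar Q x e) • e := by
  rw [sg, mul_mulVec, tv_mulVec, tv_mulVec, neg_dotProduct, qv_dot hQ, qv_dot hQ, p_add_left hQ,
    p_smul_left hQ, p_add_left hQ, p_smul_left hQ, p_self hQ, hec]
  ext i
  simp only [Pi.add_apply, Pi.sub_apply, Pi.smul_apply, smul_eq_mul]
  ring

lemma sg_iso (e c : ι → F) (he : Q e = 0) (hec : polar Q e c = 0) (x : ι → F) :
    Q ((sg hQ e c he hec : Matrix ι ι F) *ᵥ x) = Q x := by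
  rw [sg_mulVec, q_sub hQ, q_add hQ, q_smul hQ, q_smul hQ, p_add_left hQ, p_smul_left hQ,
    p_smul_right hQ, p_smul_right hQ, p_smul_right hQ, he, p_comm hQ c e, hec]
  ring

lemma sg_mem_specialLinear (e c : ι → F) (he : Q e = 0) (hec : polar Q e c = 0) :
    sg hQ e c he hec ∈ Geo.specialLinear ι F :=
  Subgroup.mul_mem _ (tv_mem_specialLinear _ _ _) (tv_mem_specialLinear _ _ _)

end Cfsg.Agent.H95
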