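/-
Two non-proportional quadratic forms: the products of pairs of their reflections and the Siegel
transformations of one of them generate a group containing SL.
-/
import Cfsg.Agent.H95.Quad

set_option autoImplicit false

namespace Cfsg.Agent.H95

open scoped MatrixGroups Matrix
open Matrix QuadraticMap

variable {ι : Type} [Fintype ι] [DecidableEq ι] {F : Type*} [Field F] [Fintype F]
  {Q Q' : (ι → F) → F} (hQ : Geo.IsNondegenerateQuadraticForm Q)
  (hQ' : Geo.IsNondegenerateQuadraticForm Q') (h2 : (2 : F) ≠ 0) (hn : 13 ≤ Fintype.card ι)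
include hQ hQ' h2 hn

set_option linter.unusedSectionVars false

attribute [-simp] Matrix.coe_units_inv

/-- A vector anisotropic for both forms in the kernel of a few functionals. -/
lemma exists_good_ker {k : ℕ} (φ : Fin k → ι → F) (hk : 2 * (k + 1) < Fintype.card ι) :
    ∃ z, (∀ j, φ j ⬝ᵥ z = 0) ∧ Q z ≠ 0 ∧ Q' z ≠ 0 := by
  obtain ⟨a, ha, ha'⟩ := exists_aniso_ker hQ' h2 φ (by omega)
  rcases eq_or_ne (Q a) 0 with hQa | hQa
  swap
  · exact ⟨a, ha, hQa, ha'⟩
  obtain ⟨y, hy, hQy⟩ := exists_aniso_ker hQ h2 (Fin.cons (dv (polar Q) a) φ) hk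
  have hya : polar Q a y = 0 := by rw [p_comm hQ, ← qv_dot hQ]; simpa using hy 0
  have hy' : ∀ j, φ j ⬝ᵥ y = 0 := fun j => by simpa using hy j.succ
  rcases eq_or_ne (Q' y) 0 with hy0 | hy0
  swap
  · exact ⟨y, hy', hQy, hy0⟩
  rcases eq_or_ne (Q' (a + y)) 0 with hs | hs
  swap
  · exact ⟨a + y, fun j => by rw [dotProduct_add, ha, hy', add_zero],
      by rw [q_add hQ, hQa, hya, add_zero, zero_add]; exact hQy, hs⟩
  refine ⟨a - y, fun j => by rw [dotProduct_sub, ha, hy', sub_zero],
    by rw [q_sub hQ, hQa, hya, sub_zero, zero_add]; exact hQy, fun h => ha' ?_⟩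
  rw [q_add hQ', hy0, add_zero] at hs
  rw [q_sub hQ', hy0, add_zero] at h
  have : (2 : F) * Q' a = 0 := by linear_combination hs + h
  exact (mul_eq_zero.1 this).resolve_left h2

/-- Those vectors span. -/
lemma span_good {H : Submodule F (ι → F)} (hH : ∀ v, Q v ≠ 0 → Q' v ≠ 0 → v ∈ H) : H = ⊤ := by
  by_contra hne
  obtain ⟨w, -, hw⟩ := SetLike.exists_of_lt (lt_top_iff_ne_top.2 hne)
  obtain ⟨ψ, hψw, hψ⟩ := exists_covec H hw
  -- a vector outside `H` anisotropic for the second form
  obtain ⟨x, hx, hx'⟩ : ∃ x, ψ ⬝ᵥ x ≠ 0 ∧ Q' x ≠ 0 := by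
    by_contra hcon
    push Not at hcon
    obtain ⟨h, hh, hh'⟩ := exists_aniso_ker hQ' h2 ![ψ] (by omega)
    have h0 : ψ ⬝ᵥ h = 0 := hh 0
    have a1 := hcon (w + h) (by rw [dotProduct_add, hψw, h0, add_zero]; exact one_ne_zero)
    have a2 := hcon (w - h) (by rw [dotProduct_sub, hψw, h0, sub_zero]; exact one_ne_zero)
    have a3 := hcon w (by rw [hψw]; exact one_ne_zero)
    rw [q_add hQ', a3, zero_add] at a1
    rw [q_sub hQ', a3, zero_add] at a2
    have : (2 : F) * Q' h = 0 := by linear_combination a1 + a2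
    exact hh' ((mul_eq_zero.1 this).resolve_left h2)
  have hxH : x ∉ H := fun h => hx (hψ x h)
  have hQx : Q x = 0 := by
    by_contra h
    exact hxH (hH x h hx')
  have key : ∀ h, ψ ⬝ᵥ h = 0 → polar Q x h = 0 → Q h ≠ 0 →
      polar Q' x h = 0 ∧ Q' h = -Q' x := by
    intro h hψh hxh hQh
    have b1 : Q' (x + h) = 0 := by
      by_contra hne'
      refine hx ?_
      have := hψ _ (hH (x + h) (by rw [q_add hQ, hQx, hxh, add_zero, zero_add]; exact hQh) hne')
      rwa [dotProduct_add, hψh, add_zero] at this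
    have b2 : Q' (x - h) = 0 := by
      by_contra hne'
      refine hx ?_
      have := hψ _ (hH (x - h) (by rw [q_sub hQ, hQx, hxh, sub_zero, zero_add]; exact hQh) hne')
      rwa [dotProduct_sub, hψh, sub_zero] at this
    rw [q_add hQ'] at b1
    rw [q_sub hQ'] at b2
    have hp : (2 : F) * polar Q' x h = 0 := by linear_combination b1 - b2
    have hp' := (mul_eq_zero.1 hp).resolve_left h2
    exact ⟨hp', by linear_combination b1 - hp'⟩
  obtain ⟨h₁, c1, d1⟩ := exists_aniso_ker hQ h2 ![ψ, dv (polar Q) x] (by omega)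
  obtain ⟨h₂, c2, d2⟩ := exists_aniso_ker hQ h2 ![ψ, dv (polar Q) x, dv (polar Q) h₁] (by omega)
  obtain ⟨h₃, c3, d3⟩ := exists_aniso_ker hQ h2
    ![ψ, dv (polar Q) x, dv (polar Q) h₁, dv (polar Q) h₂] (by omega)
  have pair : ∀ u v, ψ ⬝ᵥ u = 0 → ψ ⬝ᵥ v = 0 → polar Q x u = 0 → polar Q x v = 0 →
      polar Q u v = 0 → Q u ≠ 0 → Q v ≠ 0 → Q u + Q v = 0 := by
    intro u v a1 a2 a3 a4 a5 a6 a7
    by_contra hne'
    have k1 := (key u a1 a3 a6).2
    have k2 := (key v a2 a4 a7).2
    have k3 := (key (u + v) (by rw [dotProduct_add, a1, a2, add_zero])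
      (by rw [p_add_right hQ, a3, a4, add_zero]) (by rw [q_add hQ, a5, add_zero]; exact hne')).2
    have k4 := (key (u - v) (by rw [dotProduct_sub, a1, a2, sub_zero])
      (by rw [p_sub_right hQ, a3, a4, sub_zero]) (by rw [q_sub hQ, a5, sub_zero]; exact hne')).2
    rw [q_add hQ', k1, k2] at k3
    rw [q_sub hQ', k1, k2] at k4
    have : (2 : F) * Q' x = 0 := by linear_combination -k3 - k4
    exact hx' ((mul_eq_zero.1 this).resolve_left h2)
  have p : ∀ {a z : ι → F}, dv (polar Q) a ⬝ᵥ z = 0 → polar Q a z = 0 := fun {a z} h => by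
    rw [p_comm hQ, ← qv_dot hQ]; exact h
  have e12 := pair h₁ h₂ (c1 0) (c2 0) (p (c1 1)) (p (c2 1)) (p (c2 2)) d1 d2
  have e13 := pair h₁ h₃ (c1 0) (c3 0) (p (c1 1)) (p (c3 1)) (p (c3 2)) d1 d3
  have e23 := pair h₂ h₃ (c2 0) (c3 0) (p (c2 1)) (p (c3 1)) (p (c3 3)) d2 d3
  have : (2 : F) * Q h₁ = 0 := by linear_combination e12 + e13 - e23
  exact d1 ((mul_eq_zero.1 this).resolve_left h2)

/-- A vector anisotropic for both forms with differing orthogonal hyperplanes. -/
lemma exists_good_noneigen (hne : ∀ l : F, ∃ x, Q' x ≠ l * Q x) :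
    ∃ v, Q v ≠ 0 ∧ Q' v ≠ 0 ∧ ∃ x, polar Q' x v / Q' v ≠ polar Q x v / Q v := by
  classical
  by_contra hcon
  push Not at hcon
  let D : F → Submodule F (ι → F) := fun l =>
    { carrier := {y | ∀ x, polar Q' x y = l * polar Q x y}
      add_mem' := fun {a b} ha hb x => by
        rw [p_add_right hQ', p_add_right hQ, ha x, hb x, mul_add]
      zero_mem' := fun x => by rw [p_zero_right hQ', p_zero_right hQ, mul_zero]
      smul_mem' := fun c a ha x => by
        rw [p_smul_right hQ', p_smul_right hQ, ha x, mul_left_comm] }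
  have heig : ∀ v, Q v ≠ 0 → Q' v ≠ 0 → v ∈ D (Q' v / Q v) := by
    intro v hv hv' x
    have := hcon v hv hv' x
    rw [div_eq_div_iff hv' hv] at this
    rw [div_mul_eq_mul_div, eq_div_iff hv]
    linear_combination this
  have hDorth : ∀ l r, l ≠ r → ∀ a ∈ D l, ∀ b ∈ D r, polar Q a b = 0 := by
    intro l r hlr a ha b hb
    have h1 : polar Q' a b = r * polar Q a b := hb a
    have h3 : polar Q' b a = l * polar Q b a := ha b
    rw [p_comm hQ', p_comm hQ] at h3
    have : (r - l) * polar Q a b = 0 := by linear_combination h3 - h1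
    exact (mul_eq_zero.1 this).resolve_left (sub_ne_zero.2 (Ne.symm hlr))
  set L : Finset F := Finset.univ.filter fun l => ∃ v, Q v ≠ 0 ∧ Q' v ≠ 0 ∧ Q' v / Q v = l with hL
  have hLtop : L.sup D = ⊤ := span_good hQ hQ' h2 hn fun v hv hv' =>
    (Finset.le_sup (f := D) (by
      rw [hL, Finset.mem_filter]; exact ⟨Finset.mem_univ _, v, hv, hv', rfl⟩)) (heig v hv hv')
  -- no anisotropic combination from two different eigenspaces
  have hmix : ∀ l r, l ≠ r → ∀ a ∈ D l, ∀ b ∈ D r, Q b ≠ 0 → a ≠ 0 →
      Q (a + b) ≠ 0 → Q' (a + b) = 0 := by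
    intro l r hlr a ha b hb hQb ha0 hs
    by_contra hs'
    have h := heig (a + b) hs hs'
    set ν := Q' (a + b) / Q (a + b)
    obtain ⟨⟨x, hx⟩, -⟩ := hQ.nondegenerate a ha0
    have h1 := h b
    rw [p_add_right hQ', p_add_right hQ, ha b, hb b, p_comm hQ b a, hDorth l r hlr a ha b hb,
      mul_zero, zero_add, zero_add, p_self hQ] at h1
    have hν : r = ν := mul_right_cancel₀ (mul_ne_zero h2 hQb) h1
    have h3 := h x
    rw [p_add_right hQ', p_add_right hQ, ha x, hb x, ← hν] at h3
    have : (l - r) * polar Q x a = 0 := by linear_combination h3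
    exact hx ((mul_eq_zero.1 this).resolve_left (sub_ne_zero.2 hlr))
  have hQ'D : ∀ l, ∀ a ∈ D l, Q' a = l * Q a := by
    intro l a ha
    have := ha a
    rw [p_self hQ', p_self hQ] at this
    exact mul_left_cancel₀ h2 (by linear_combination this)
  -- two eigenvalues
  obtain ⟨v, w, l, r, hlr, hv, hw, hl0, hr0, hvD, hwD⟩ : ∃ v w, ∃ l r : F, l ≠ r ∧ Q v ≠ 0 ∧
      Q w ≠ 0 ∧ l ≠ 0 ∧ r ≠ 0 ∧ v ∈ D l ∧ w ∈ D r := by
    obtain ⟨v, -, hv, hv'⟩ := exists_good_ker hQ hQ' h2 hn (![] : Fin 0 → ι → F) (by omega)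
    by_contra hc
    push Not at hc
    have htop : D (Q' v / Q v) = ⊤ := span_good hQ hQ' h2 hn fun w hw hw' => by
      by_contra hnot
      refine hc v w (Q' v / Q v) (Q' w / Q w) (fun e => hnot ?_) hv hw
        (div_ne_zero hv' hv) (div_ne_zero hw' hw) (heig v hv hv') (heig w hw hw')
      rw [e]; exact heig w hw hw'
    obtain ⟨x, hx⟩ := hne (Q' v / Q v)
    exact hx (hQ'D _ x (htop ▸ Submodule.mem_top))
  rcases le_or_gt (Fintype.card F) 5 with hq | hq
  · -- some eigenspace contains an isotropic vector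
    obtain ⟨p, hp, hp3⟩ : ∃ p ∈ L, 3 ≤ Module.finrank F (D p) := by
      by_contra hc
      push Not at hc
      have hsum : ∀ S : Finset F, S ⊆ L → Module.finrank F (S.sup D : Submodule F (ι → F)) ≤
          2 * S.card := by
        intro S
        induction S using Finset.induction_on with
        | empty => intro _; simp
        | insert s S hs ih =>
          intro hS
          rw [Finset.sup_insert, Finset.card_insert_of_notMem hs]
          have h1 := Submodule.finrank_add_le_finrank_add_finrank (D s) (S.sup D)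
          have h3 := ih ((Finset.subset_insert s S).trans hS)
          have h4 := hc s (hS (Finset.mem_insert_self s S))
          omega
      have h1 := hsum L subset_rfl
      rw [hLtop, finrank_top, Module.finrank_fintype_fun_eq_card] at h1
      have h3 : L.card + 1 ≤ Fintype.card F := by
        have hsub : L ⊆ Finset.univ.erase (0 : F) := fun x hx => by
          rw [hL, Finset.mem_filter] at hx
          obtain ⟨-, u, hu, hu', rfl⟩ := hx
          simp [hu, hu']
        have h5 := Finset.card_le_card hsub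
        rw [Finset.card_erase_of_mem (Finset.mem_univ _), Finset.card_univ] at h5
        have := Fintype.card_pos (α := F)
        omega
      omega
    obtain ⟨u, hu, hu', hup⟩ : ∃ u, Q u ≠ 0 ∧ Q' u ≠ 0 ∧ Q' u / Q u = p := by
      rw [hL, Finset.mem_filter] at hp; exact hp.2
    have huD : u ∈ D p := hup ▸ heig u hu hu'
    -- every vector of the eigenspace not killed by it stays visible there
    have hrad : ∀ y ∈ D p, (∀ z ∈ D p, polar Q y z = 0) → y = 0 := by
      intro y hy hz
      by_contra hy0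
      obtain ⟨-, x, hx⟩ := hQ.nondegenerate y hy0
      apply hx
      have hker : L.sup D ≤ LinearMap.ker
          ({ toFun := fun z => polar Q y z
             map_add' := fun a b => p_add_right hQ y a b
             map_smul' := fun c a => p_smul_right hQ c y a } : (ι → F) →ₗ[F] F) := by
        refine Finset.sup_le fun s _ z hz' => ?_
        rw [LinearMap.mem_ker]
        rcases eq_or_ne p s with rfl | hps
        · exact hz z hz'
        · exact hDorth p s hps y hy z hz'
      exact hker (hLtop ▸ Submodule.mem_top)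
    have hex : ∀ S : Finset (ι → F), S.card < 3 → (∀ a ∈ S, a ∈ D p ∧ Q a ≠ 0) →
        (∀ a ∈ S, ∀ b ∈ S, a ≠ b → polar Q a b = 0) →
        ∃ z ∈ D p, Q z ≠ 0 ∧ ∀ a ∈ S, polar Q a z = 0 := by
      intro S hS hSD horth
      by_contra hc
      push Not at hc
      have hproj : ∀ z ∈ D p, z ∈ Submodule.span F (S : Set (ι → F)) := by
        intro z hz
        set z' := z - ∑ a ∈ S, (polar Q a z / polar Q a a) • a with hz'
        have hz'D : z' ∈ D p := Submodule.sub_mem _ hz
          (Submodule.sum_mem _ fun a ha => Submodule.smul_mem _ _ (hSD a ha).1)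
        have hperp : ∀ a ∈ S, polar Q a z' = 0 := by
          intro a ha
          rw [hz', p_sub_right hQ]
          let P : (ι → F) →+ F :=
            { toFun := fun y => polar Q a y, map_zero' := p_zero_right hQ a
              map_add' := fun c d => p_add_right hQ a c d }
          rw [show polar Q a (∑ b ∈ S, (polar Q b z / polar Q b b) • b) =
            P (∑ b ∈ S, (polar Q b z / polar Q b b) • b) from rfl, map_sum]
          rw [Finset.sum_eq_single a ?_ (fun h => absurd ha h)]
          · show _ - polar Q a _ = 0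
            rw [p_smul_right hQ, div_mul_cancel₀ _ (by
              rw [p_self hQ]; exact mul_ne_zero h2 (hSD a ha).2), sub_self]
          · intro b hb hba
            show polar Q a _ = 0
            rw [p_smul_right hQ, horth a ha b hb (Ne.symm hba), mul_zero]
        have hQz : ∀ y ∈ D p, (∀ a ∈ S, polar Q a y = 0) → Q y = 0 := by
          intro y hy hya
          by_contra h
          obtain ⟨a, ha, ha'⟩ := hc y hy h
          exact ha' (hya a ha)
        have hz0 : z' = 0 := by
          refine hrad z' hz'D fun y hy => ?_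
          set y' := y - ∑ a ∈ S, (polar Q a y / polar Q a a) • a with hy'
          have hy'D : y' ∈ D p := Submodule.sub_mem _ hy
            (Submodule.sum_mem _ fun a ha => Submodule.smul_mem _ _ (hSD a ha).1)
          have hperp' : ∀ a ∈ S, polar Q a y' = 0 := by
            intro a ha
            rw [hy', p_sub_right hQ]
            let P : (ι → F) →+ F :=
              { toFun := fun y => polar Q a y, map_zero' := p_zero_right hQ a
                map_add' := fun c d => p_add_right hQ a c d }
            rw [show polar Q a (∑ b ∈ S, (polar Q b y / polar Q b b) • b) =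
              P (∑ b ∈ S, (polar Q b y / polar Q b b) • b) from rfl, map_sum]
            rw [Finset.sum_eq_single a ?_ (fun h => absurd ha h)]
            · show _ - polar Q a _ = 0
              rw [p_smul_right hQ, div_mul_cancel₀ _ (by
                rw [p_self hQ]; exact mul_ne_zero h2 (hSD a ha).2), sub_self]
            · intro b hb hba
              show polar Q a _ = 0
              rw [p_smul_right hQ, horth a ha b hb (Ne.symm hba), mul_zero]
          have h0 : polar Q z' y' = 0 := by
            have := hQz (z' + y') (Submodule.add_mem _ hz'D hy'D) fun a ha => by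
              rw [p_add_right hQ, hperp a ha, hperp' a ha, add_zero]
            rwa [q_add hQ, hQz z' hz'D hperp, hQz y' hy'D hperp', zero_add, zero_add] at this
          have hsum : polar Q z' (∑ a ∈ S, (polar Q a y / polar Q a a) • a) = 0 := by
            let P : (ι → F) →+ F :=
              { toFun := fun y => polar Q z' y, map_zero' := p_zero_right hQ z'
                map_add' := fun c d => p_add_right hQ z' c d }
            rw [show polar Q z' (∑ a ∈ S, (polar Q a y / polar Q a a) • a) =
              P (∑ a ∈ S, (polar Q a y / polar Q a a) • a) from rfl, map_sum]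
            refine Finset.sum_eq_zero fun a ha => ?_
            show polar Q z' _ = 0
            rw [p_smul_right hQ, p_comm hQ z' a, hperp a ha, mul_zero]
          rw [hy', p_sub_right hQ, hsum, sub_zero] at h0
          exact h0
        rw [sub_eq_zero.1 hz0]
        exact Submodule.sum_mem _ fun a ha => Submodule.smul_mem _ _ (Submodule.subset_span ha)
      have h1 := Submodule.finrank_mono (show D p ≤ Submodule.span F (S : Set (ι → F)) from hproj)
      have h3 := finrank_span_finset_le_card (R := F) S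
      rw [Set.finrank] at h3
      omega
    obtain ⟨b, hb, hQb, hub⟩ := hex {u} (by simp) (by simpa using ⟨huD, hu⟩)
      (by intro a ha b hb hab; simp at ha hb; exact absurd (ha.trans hb.symm) hab)
    have hub' : polar Q u b = 0 := hub u (by simp)
    obtain ⟨c, hc, hQc, hcab⟩ := hex {u, b} (lt_of_le_of_lt Finset.card_le_two (by norm_num))
      (by intro a ha; simp at ha; rcases ha with rfl | rfl <;> [exact ⟨huD, hu⟩; exact ⟨hb, hQb⟩])
      (by
        intro a ha d hd had
        simp at ha hd
        rcases ha with rfl | rfl <;> rcases hd with rfl | rfl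
        · exact absurd rfl had
        · exact hub'
        · rw [p_comm hQ]; exact hub'
        · exact absurd rfl had)
    obtain ⟨y, hy, hy0, hQy⟩ := exists_iso_of_three hQ h2 huD hb hc hu hQb hQc hub'
      (hcab u (by simp)) (hcab b (by simp))
    -- a vector of another eigenspace
    obtain ⟨z, s, hps, hzD, hQz, hs0⟩ : ∃ z, ∃ s : F, p ≠ s ∧ z ∈ D s ∧ Q z ≠ 0 ∧ s ≠ 0 := by
      rcases eq_or_ne p l with rfl | h
      · exact ⟨w, r, hlr, hwD, hw, hr0⟩
      · exact ⟨v, l, h, hvD, hv, hl0⟩
    have horth := hDorth p s hps y hy z hzD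
    have h1 := hmix p s hps y hy z hzD hQz hy0 (by
      rw [q_add hQ, hQy, horth, add_zero, zero_add]; exact hQz)
    have h3 : polar Q' y z = s * polar Q y z := hzD y
    rw [q_add hQ', hQ'D p y hy, hQy, hQ'D s z hzD, h3, horth, mul_zero, mul_zero, add_zero,
      zero_add] at h1
    exact mul_ne_zero hs0 hQz h1
  · -- enough squares
    obtain ⟨c, hc0, hc1, hc2⟩ : ∃ c : F, c ≠ 0 ∧ c ^ 2 * Q w + Q v ≠ 0 ∧
        r * (c ^ 2 * Q w) + l * Q v ≠ 0 := by
      let p : Polynomial F := Polynomial.X *
        (Polynomial.X ^ 2 + Polynomial.C (Q v / Q w)) *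
        (Polynomial.X ^ 2 + Polynomial.C (l * Q v / (r * Q w)))
      have hp : p.Monic := (Polynomial.monic_X.mul (Polynomial.monic_X_pow_add_C _ two_ne_zero)).mul
        (Polynomial.monic_X_pow_add_C _ two_ne_zero)
      have hdeg : p.natDegree ≤ 5 := by simp only [p]; compute_degree
      by_contra hcc
      push Not at hcc
      refine hp.ne_zero (Polynomial.eq_zero_of_natDegree_lt_card_of_eval_eq_zero p
        (f := fun c : F => c) Function.injective_id (fun c => ?_) (by omega))
      simp only [p, Polynomial.eval_mul, Polynomial.eval_add, Polynomial.eval_pow,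
        Polynomial.eval_X, Polynomial.eval_C]
      by_cases a1 : c = 0
      · rw [a1]; ring
      by_cases a2 : c ^ 2 * Q w + Q v = 0
      · have : c ^ 2 + Q v / Q w = 0 := by field_simp; linear_combination a2
        rw [this]; ring
      · have : c ^ 2 + l * Q v / (r * Q w) = 0 := by
          field_simp
          linear_combination hcc c a1 a2
        rw [this]; ring
    have hcw : c • w ∈ D r := Submodule.smul_mem _ _ hwD
    have hv0 : v ≠ 0 := fun e => hv (by rw [e, q_zero hQ])
    have horth := hDorth l r hlr v hvD _ hcw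
    have h1 := hmix l r hlr v hvD _ hcw (by rw [q_smul hQ]; exact mul_ne_zero (pow_ne_zero 2 hc0) hw)
      hv0 (by rw [q_add hQ, horth, q_smul hQ, add_zero, add_comm]; exact hc1)
    have h3 : polar Q' v (c • w) = r * polar Q v (c • w) := hcw v
    rw [q_add hQ', hQ'D l v hvD, hQ'D r _ hcw, h3, horth, q_smul hQ] at h1
    exact hc2 (by linear_combination h1)

variable {M : Subgroup (GL ι F)}
  (hM : ∀ a b (ha : Q a ≠ 0) (hb : Q b ≠ 0), rfl' hQ h2 a ha * rfl' hQ h2 b hb ∈ M)
  (hM' : ∀ a b (ha : Q' a ≠ 0) (hb : Q' b ≠ 0), rfl' hQ' h2 a ha * rfl' hQ' h2 b hb ∈ M)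
include hM hM'

/-- A transvection of `M`. -/
lemma exists_transvection (hne : ∀ l : F, ∃ x, Q' x ≠ l * Q x) :
    ∃ v φ, Q v ≠ 0 ∧ φ ≠ 0 ∧ InTv M v φ := by
  obtain ⟨v, hv, hv', x, hx⟩ := exists_good_noneigen hQ hQ' h2 hn hne
  obtain ⟨w, cw, hw, hw'⟩ := exists_good_ker hQ hQ' h2 hn
    ![dv (polar Q) v, dv (polar Q') v] (by omega)
  obtain ⟨u, cu, hu, hu'⟩ := exists_good_ker hQ hQ' h2 hn
    ![dv (polar Q) v, dv (polar Q') v, dv (polar Q) w, dv (polar Q') w] (by omega)
  let δ : (ι → F) → ι → F := fun a =>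
    (Q' a)⁻¹ • dv (polar Q') a - (Q a)⁻¹ • dv (polar Q) a
  have hδ : ∀ a y, δ a ⬝ᵥ y = polar Q' y a / Q' a - polar Q y a / Q a := by
    intro a y
    simp only [δ, sub_dotProduct, smul_dotProduct, qv_dot hQ, qv_dot hQ', smul_eq_mul,
      div_eq_inv_mul]
  have hδ0 : ∀ a, Q a ≠ 0 → Q' a ≠ 0 → δ a ⬝ᵥ a = 0 := by
    intro a ha ha'
    rw [hδ, p_self hQ, p_self hQ', mul_div_assoc, mul_div_assoc, div_self ha', div_self ha,
      sub_self]
  -- the product of two of these transvections
  have hpair : ∀ a b (ha : Q a ≠ 0) (hb : Q b ≠ 0) (ha' : Q' a ≠ 0) (hb' : Q' b ≠ 0),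
      polar Q a b = 0 → polar Q' a b = 0 → ∃ g ∈ M, ∀ y,
        (g : Matrix ι ι F) *ᵥ y = y + (δ a ⬝ᵥ y) • a + (δ b ⬝ᵥ y) • b := by
    intro a b ha hb ha' hb' hab hab'
    refine ⟨rfl' hQ h2 a ha * rfl' hQ h2 b hb * (rfl' hQ' h2 b hb' * rfl' hQ' h2 a ha'),
      M.mul_mem (hM a b ha hb) (hM' b a hb' ha'), fun y => ?_⟩
    rw [mul_mulVec, mul_mulVec, mul_mulVec, rfl'_mulVec, rfl'_mulVec, rfl'_mulVec, rfl'_mulVec,
      hδ, hδ]
    simp only [p_sub_left hQ, p_smul_left hQ, p_sub_left hQ', p_smul_left hQ', p_self hQ,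
      p_self hQ', hab, hab', p_comm hQ b a, p_comm hQ' b a]
    ext i
    simp only [Pi.add_apply, Pi.sub_apply, Pi.smul_apply, smul_eq_mul]
    field_simp
    ring
  have p : ∀ {a z : ι → F}, dv (polar Q) a ⬝ᵥ z = 0 → polar Q a z = 0 := fun {a z} h => by
    rw [p_comm hQ, ← qv_dot hQ]; exact h
  have p' : ∀ {a z : ι → F}, dv (polar Q') a ⬝ᵥ z = 0 → polar Q' a z = 0 := fun {a z} h => by
    rw [p_comm hQ', ← qv_dot hQ']; exact h
  have avw := p (cw 0)
  have avw' := p' (cw 1)
  have avu := p (cu 0)
  have avu' := p' (cu 1)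
  have awu := p (cu 2)
  have awu' := p' (cu 3)
  obtain ⟨g1, hg1, e1⟩ := hpair v w hv hw hv' hw' avw avw'
  obtain ⟨g2, hg2, e2⟩ := hpair v u hv hu hv' hu' avu avu'
  obtain ⟨g3, hg3, e3⟩ := hpair w u hw hu hw' hu' awu awu'
  have z : ∀ a b, polar Q a b = 0 → polar Q' a b = 0 → δ a ⬝ᵥ b = 0 ∧ δ b ⬝ᵥ a = 0 := by
    intro a b h h'
    rw [hδ, hδ, p_comm hQ b a, p_comm hQ' b a, h, h']
    simp
  obtain ⟨zvw, zwv⟩ := z v w avw avw'
  obtain ⟨zvu, zuv⟩ := z v u avu avu'
  obtain ⟨zwu, zuw⟩ := z w u awu awu'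
  have h0v := hδ0 v hv hv'
  have h0w := hδ0 w hw hw'
  have h0u := hδ0 u hu hu'
  refine ⟨v, (2 : F) • δ v, hv, fun e => hx ?_, by rw [smul_dotProduct, h0v, smul_zero], ?_⟩
  · have := congrArg (fun φ => φ ⬝ᵥ x) e
    simp only [smul_dotProduct, zero_dotProduct, smul_eq_mul] at this
    rw [hδ] at this
    exact sub_eq_zero.1 ((mul_eq_zero.1 this).resolve_left h2)
  · convert M.mul_mem (M.mul_mem hg1 hg2) (M.inv_mem hg3) using 1
    rw [eq_mul_inv_iff_mul_eq]
    refine gl_ext fun y => ?_
    simp only [mul_mulVec, tv_mulVec, e1, e2, e3, smul_dotProduct, dotProduct_add, dotProduct_smul,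
      zvw, zwv, zvu, zuv, zwu, zuw, h0v, h0w, h0u, smul_eq_mul]
    ext i
    simp only [Pi.add_apply, Pi.smul_apply, smul_eq_mul]
    ring

/-- Main result. -/
theorem specialLinear_le_of_two_forms (hne : ∀ l : F, ∃ x, Q' x ≠ l * Q x)
    (hsg : ∀ e c (he : Q e = 0) (hec : polar Q e c = 0), sg hQ e c he hec ∈ M) :
    Geo.specialLinear ι F ≤ M := by
  obtain ⟨v, φ, hv, hφ, hT⟩ := exists_transvection hQ hQ' h2 hn hM hM' hne
  have hn7 : 7 ≤ Fintype.card ι := by omega
  have h22 : polar Q v v ≠ 0 := by rw [p_self hQ]; exact mul_ne_zero h2 hv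
  obtain ⟨u₀, rfl⟩ := exists_qv hQ φ
  have hu₀v : polar Q u₀ v = 0 := by
    rw [p_comm hQ, ← qv_dot hQ]; exact hT.1
  -- the Siegel transformations fixing `v` move the covector
  have hmove : ∀ u e c, InTv M v (dv (polar Q) u) → Q e = 0 → polar Q e v = 0 → polar Q e c = 0 →
      polar Q c v = 0 →
      InTv M v (dv (polar Q) (polar Q u e • c - (polar Q u c + Q c * polar Q u e) • e)) := by
    intro u e c hu he hev hec hcv
    have h1 := hu.conj (hsg e c he hec)
    rw [sg_mulVec, p_comm hQ v e, hev, p_comm hQ v c, hcv] at h1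
    simp only [zero_smul, zero_add, add_zero, mul_zero, sub_zero] at h1
    rw [vecMul_inv_eq (ψ := dv (polar Q) (u + polar Q u e • c -
      (polar Q u c + Q c * polar Q u e) • e)) fun x => ?_] at h1
    · have h3 := h1.sub_right hu
      rwa [add_sub_assoc, qv_add hQ, add_sub_cancel_left] at h3
    · rw [qv_dot hQ, qv_dot hQ, sg_mulVec]
      simp only [p_sub_left hQ, p_sub_right hQ, p_add_left hQ, p_add_right hQ, p_smul_left hQ,
        p_smul_right hQ, p_self hQ, he, hec, p_comm hQ c e, p_comm hQ u, p_comm hQ c x,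
        p_comm hQ e x]
      ring
  have hlin : ∀ u e c, InTv M v (dv (polar Q) u) → Q e = 0 → polar Q e v = 0 → polar Q e c = 0 →
      polar Q c v = 0 → InTv M v (dv (polar Q) (polar Q u e • c - polar Q u c • e)) ∧
        InTv M v (dv (polar Q) ((Q c * polar Q u e) • e)) := by
    intro u e c hu he hev hec hcv
    have key : ∀ c, polar Q e c = 0 → polar Q c v = 0 →
        InTv M v (dv (polar Q) (polar Q u e • c - polar Q u c • e)) := by
      intro c hec hcv
      set c' := (2 : F)⁻¹ • c with hc'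
      have a1 := hmove u e c' hu he hev (by rw [hc', p_smul_right hQ, hec, mul_zero])
        (by rw [hc', p_smul_left hQ, hcv, mul_zero])
      have a2 := hmove u e (-c') hu he hev
        (by rw [p_neg_right hQ, hc', p_smul_right hQ, hec, mul_zero, neg_zero])
        (by rw [p_neg_left hQ, hc', p_smul_left hQ, hcv, mul_zero, neg_zero])
      have a3 := a1.sub_right a2
      convert a3 using 1
      rw [q_neg hQ, p_neg_right hQ, hc', p_smul_right hQ]
      ext i
      simp only [dv, Pi.sub_apply, p_sub_right hQ, p_smul_right hQ, p_neg_right hQ]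
      field_simp
      ring
    refine ⟨key c hec hcv, ?_⟩
    have a1 := (key c hec hcv).sub_right (hmove u e c hu he hev hec hcv)
    convert a1 using 1
    ext i
    simp only [dv, Pi.sub_apply, p_sub_right hQ, p_smul_right hQ]
    ring
  -- the whole line of the isotropic vector and the hyperplane it determines
  have hplane : ∀ u e, InTv M v (dv (polar Q) u) → Q e = 0 → polar Q e v = 0 →
      polar Q u e ≠ 0 → ∀ c, polar Q e c = 0 → polar Q c v = 0 → InTv M v (dv (polar Q) c) := by
    intro u e hu he hev hue c hec hcv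
    obtain ⟨h, hh, hh'⟩ := exists_aniso_ker hQ h2 ![dv (polar Q) e, dv (polar Q) v] (by omega)
    have hhe : polar Q e h = 0 := by rw [p_comm hQ, ← qv_dot hQ]; exact hh 0
    have hhv : polar Q h v = 0 := by rw [← qv_dot hQ]; exact hh 1
    have hline : ∀ t : F, InTv M v (dv (polar Q) (t • e)) := by
      intro t
      -- the polarisation of the quadratic part
      set k := t / (2 * Q h * polar Q u e) with hk
      have a1 := (hlin u e (k • h + h) hu he hev
        (by rw [p_add_right hQ, p_smul_right hQ, hhe]; ring)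
        (by rw [p_add_left hQ, p_smul_left hQ, hhv]; ring)).2
      have a2 := (hlin u e (k • h) hu he hev (by rw [p_smul_right hQ, hhe]; ring)
        (by rw [p_smul_left hQ, hhv]; ring)).2
      have a3 := (hlin u e h hu he hev hhe hhv).2
      have a4 := (a1.sub_right a2).sub_right a3
      convert a4 using 1
      ext i
      simp only [dv, Pi.sub_apply, p_smul_right hQ, q_add hQ, q_smul hQ, p_smul_left hQ, p_self hQ]
      rw [hk]
      field_simp
      ring
    have a1 := (hlin u e ((polar Q u e)⁻¹ • c) hu he hev (by rw [p_smul_right hQ, hec, mul_zero])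
      (by rw [p_smul_left hQ, hcv, mul_zero])).1
    have a2 := a1.add_right (hline (polar Q u ((polar Q u e)⁻¹ • c)))
    convert a2 using 1
    rw [smul_smul, mul_inv_cancel₀ hue, one_smul, ← qv_add hQ, sub_add_cancel]
  obtain ⟨e, he, hev, hue⟩ := exists_iso_nonorth hQ h2 hn7 (Or.inr hv) (u := u₀) (v := v) (by
    by_contra hc
    push Not at hc
    apply hφ
    refine dotProduct_eq _ _ fun y => ?_
    rw [qv_dot hQ, zero_dotProduct, p_comm hQ]
    have := hc (y - (polar Q y v / polar Q v v) • v)
      (by rw [p_sub_left hQ, p_smul_left hQ, div_mul_cancel₀ _ h22, sub_self])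
    rwa [p_sub_right hQ, p_smul_right hQ, hu₀v, mul_zero, sub_zero] at this)
  have he0 : e ≠ 0 := fun e' => hue (by rw [e', p_zero_right hQ])
  obtain ⟨f, hf, hfv, hef⟩ : ∃ f, Q f = 0 ∧ polar Q f v = 0 ∧ polar Q e f ≠ 0 := by
    refine exists_iso_nonorth hQ h2 hn7 (Or.inr hv) ?_
    obtain ⟨-, y, hy⟩ := hQ.nondegenerate e he0
    refine ⟨y - (polar Q y v / polar Q v v) • v,
      by rw [p_sub_left hQ, p_smul_left hQ, div_mul_cancel₀ _ h22, sub_self], ?_⟩
    rwa [p_sub_right hQ, p_smul_right hQ, hev, mul_zero, sub_zero]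
  have heM : InTv M v (dv (polar Q) e) :=
    hplane u₀ e hT he hev hue e (by rw [p_self hQ, he, mul_zero]) hev
  have hall : ∀ c, polar Q c v = 0 → InTv M v (dv (polar Q) c) := by
    intro c hcv
    set t := polar Q e c / polar Q e f
    have a1 := hplane u₀ e hT he hev hue (c - t • f)
      (by rw [p_sub_right hQ, p_smul_right hQ, div_mul_cancel₀ _ hef, sub_self])
      (by rw [p_sub_left hQ, p_smul_left hQ, hcv, hfv, mul_zero, sub_zero])
    have a2 := hplane e f heM hf hfv hef (t • f)
      (by rw [p_smul_right hQ, p_self hQ, hf, mul_zero, mul_zero])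
      (by rw [p_smul_left hQ, hfv, mul_zero])
    have a3 := a1.add_right a2
    rwa [← qv_add hQ, sub_add_cancel] at a3
  have hvfan : v ∈ fan M := by
    intro φ hφ'
    obtain ⟨c, rfl⟩ := exists_qv hQ φ
    rw [qv_dot hQ, p_comm hQ] at hφ'
    exact hall c hφ'
  -- the fan is everything
  obtain ⟨d, hd, -, hvd⟩ := exists_iso_nonorth hQ h2 hn7 (Or.inl rfl) (u := v) (v := (0 : ι → F))
    ⟨v, p_zero_right hQ v, h22⟩
  have hmove' : ∀ c, polar Q d c = 0 →
      polar Q v d • c - (polar Q v c + Q c * polar Q v d) • d ∈ fan M := by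
    intro c hdc
    have := (fan M).sub_mem (mulVec_mem_fan (hsg d c hd hdc) hvfan) hvfan
    rwa [sg_mulVec, add_sub_assoc, add_sub_cancel_left] at this
  have hL : ∀ c, polar Q d c = 0 → polar Q v d • c - polar Q v c • d ∈ fan M ∧
      (Q c * polar Q v d) • d ∈ fan M := by
    intro c hdc
    have key : ∀ c, polar Q d c = 0 → polar Q v d • c - polar Q v c • d ∈ fan M := by
      intro c hdc
      have a1 := hmove' ((2 : F)⁻¹ • c) (by rw [p_smul_right hQ, hdc, mul_zero])
      have a2 := hmove' (-((2 : F)⁻¹ • c))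
        (by rw [p_neg_right hQ, p_smul_right hQ, hdc, mul_zero, neg_zero])
      have a3 := (fan M).sub_mem a1 a2
      rw [q_neg hQ, p_neg_right hQ, p_smul_right hQ] at a3
      convert a3 using 1
      ext i
      simp only [Pi.sub_apply, Pi.smul_apply, Pi.neg_apply, smul_eq_mul]
      field_simp
      ring
    refine ⟨key c hdc, ?_⟩
    have := (fan M).sub_mem (key c hdc) (hmove' c hdc)
    convert this using 1
    ext i
    simp only [Pi.sub_apply, Pi.smul_apply, smul_eq_mul]
    ring
  obtain ⟨h, hh, hh'⟩ := exists_aniso_ker hQ h2 ![dv (polar Q) d] (by omega)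
  have hhd : polar Q d h = 0 := by rw [p_comm hQ, ← qv_dot hQ]; exact hh 0
  have hdfan : d ∈ fan M := by
    have := (fan M).smul_mem (Q h * polar Q v d)⁻¹ (hL h hhd).2
    rwa [smul_smul, inv_mul_cancel₀ (mul_ne_zero hh' hvd), one_smul] at this
  have hperp : ∀ c, polar Q d c = 0 → c ∈ fan M := by
    intro c hdc
    have := (fan M).smul_mem (polar Q v d)⁻¹
      ((fan M).add_mem (hL c hdc).1 ((fan M).smul_mem (polar Q v c) hdfan))
    rwa [sub_add_cancel, smul_smul, inv_mul_cancel₀ hvd, one_smul] at this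
  refine specialLinear_le_of_fan (eq_top_iff.2 fun y _ => ?_)
  set t := polar Q d y / polar Q d v
  have hdv : polar Q d v ≠ 0 := by rw [p_comm hQ]; exact hvd
  have := (fan M).add_mem (hperp (y - t • v)
    (by rw [p_sub_right hQ, p_smul_right hQ, div_mul_cancel₀ _ hdv, sub_self]))
    ((fan M).smul_mem t hvfan)
  rwa [sub_add_cancel] at this

end Cfsg.Agent.H95
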