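import Cfsg.Agent.H95.KilledTwo

/-!
A subgroup is killed at an odd prime when it is generated by commuting elements inverted by some
element and commuting elements centralised by it which normalise them.
-/

set_option autoImplicit false

namespace Cfsg.Agent.H95.KilledInverted

open Cfsg.Agent.Linear.Mult
open scoped commutatorElement

variable {l : ℕ} {X G : Type*} [Group X] [Group G] (E : LExt l X G)

theorem eq_one_of_sq (hl : l ≠ 2) {z : X} (hz : E.proj z = 1) (h : z ^ 2 = 1) : z = 1 :=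
  E.eq_one_of_pow hz ((Nat.coprime_primes Nat.prime_two E.hl).2 (Ne.symm hl)) h

/-- An inverted element has an inverted lift. -/
theorem exists_inverted (hl : l ≠ 2) {T : X} {a : G}
    (h : E.proj T * a * (E.proj T)⁻¹ = a⁻¹) :
    ∃ x, E.proj x = a ∧ T * x * T⁻¹ = x⁻¹ := by
  obtain ⟨A, rfl⟩ := E.surj a
  set z := A * (T * A * T⁻¹) with hzdef
  have hz : E.proj z = 1 := by
    rw [hzdef, map_mul, map_mul, map_mul, map_inv, h, mul_inv_cancel]
  obtain ⟨w, hw, hw2⟩ := E.exists_root (z := z⁻¹) (by rw [map_inv, hz, inv_one])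
    ((Nat.coprime_primes Nat.prime_two E.hl).2 (Ne.symm hl))
  have cw := E.ker_central hw
  refine ⟨A * w, by rw [map_mul, hw, mul_one], ?_⟩
  rw [eq_inv_iff_mul_eq_one]
  have hA : T * A * T⁻¹ = A⁻¹ * z := by rw [hzdef, inv_mul_cancel_left]
  calc T * (A * w) * T⁻¹ * (A * w) = T * A * (w * T⁻¹) * A * w := by group
    _ = T * A * T⁻¹ * (w * A) * w := by rw [← cw T⁻¹]; group
    _ = T * A * T⁻¹ * A * (w * w) := by rw [← cw A]; group
    _ = A⁻¹ * (z * A) * (w * w) := by rw [hA]; group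
    _ = z * (w * w) := by rw [← E.ker_central hz A]; group
    _ = 1 := by rw [← pow_two, hw2, mul_inv_cancel]

/-- Inverted lifts are unique. -/
theorem eq_of_inverted (hl : l ≠ 2) {T x y : X} (hx : T * x * T⁻¹ = x⁻¹) (hy : T * y * T⁻¹ = y⁻¹)
    (h : E.proj x = E.proj y) : x = y := by
  set z := x⁻¹ * y with hz
  have hz1 : E.proj z = 1 := by rw [hz, map_mul, map_inv, h, inv_mul_cancel]
  have hyx : y = x * z := by rw [hz, mul_inv_cancel_left]
  rw [hyx] at hy
  have e : x⁻¹ * z = z⁻¹ * x⁻¹ := by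
    rw [← mul_inv_rev, ← hy, ← hx]
    calc T * x * T⁻¹ * z = T * x * (T⁻¹ * z) := by group
      _ = _ := by rw [E.ker_central hz1 T⁻¹]; group
  rw [E.ker_central hz1 x⁻¹, mul_left_inj] at e
  have hzz : z ^ 2 = 1 := by
    rw [pow_two]
    nth_rewrite 1 [e]
    rw [inv_mul_cancel]
  rw [hyx, eq_one_of_sq E hl hz1 hzz, mul_one]

/-- The commutation of lifts vanishes if conjugation inverts it. -/
theorem cm_eq_one_of_conj (hl : l ≠ 2) {a b : G} (hab : Commute a b) (g : G)
    (h : (g * a * g⁻¹ = a⁻¹ ∧ g * b * g⁻¹ = b) ∨ (g * a * g⁻¹ = a ∧ g * b * g⁻¹ = b⁻¹) ∨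
      (g * a * g⁻¹ = b ∧ g * b * g⁻¹ = a) ∨ (g * a * g⁻¹ = b⁻¹ ∧ g * b * g⁻¹ = a⁻¹)) :
    E.cm a b = 1 := by
  obtain ⟨y, rfl⟩ := E.surj g
  have hz : E.proj (E.cm a b) = 1 := by rw [E.proj_cm, commutatorElement_eq_one_iff_commute.2 hab]
  have hc := E.conj_cm (y := y) rfl a b
  rw [E.ker_central hz y, mul_inv_cancel_right] at hc
  have left : ∀ {c d : G}, Commute c d → E.cm c⁻¹ d * E.cm c d = 1 := fun {c d} hcd => by
    rw [← E.cm_mul_left_of_commute hcd.inv_left, mul_inv_cancel, E.cm_one_left]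
  have right : ∀ {c d : G}, Commute c d → E.cm c d⁻¹ * E.cm c d = 1 := fun {c d} hcd => by
    rw [← E.cm_mul_right_of_commute hcd, inv_mul_cancel, E.cm_one_right]
  refine eq_one_of_sq E hl hz ?_
  rw [pow_two]
  rcases h with ⟨e1, e2⟩ | ⟨e1, e2⟩ | ⟨e1, e2⟩ | ⟨e1, e2⟩ <;> rw [e1, e2] at hc
  · nth_rewrite 1 [hc]
    exact left hab
  · nth_rewrite 1 [hc]
    exact right hab
  · nth_rewrite 1 [hc]
    rw [← E.cm_inv, inv_mul_cancel]
  · have h1 : E.cm b⁻¹ a⁻¹ = E.cm b a := by
      have u1 := left (hab.symm.inv_right)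
      have u2 := right hab.symm
      rw [eq_inv_of_mul_eq_one_left u1, eq_inv_of_mul_eq_one_left u2, inv_inv]
    nth_rewrite 1 [hc]
    rw [h1, ← E.cm_inv, inv_mul_cancel]

theorem killed [Finite X] (hl : l ≠ 2) (A S : Set G) (t : G)
    (hA : ∀ a ∈ A, t * a * t⁻¹ = a⁻¹) (hS : ∀ s ∈ S, Commute t s)
    (hTS : ∀ s ∈ S, E.cm t s = 1) (hAA : ∀ a ∈ A, ∀ b ∈ A, E.cm a b = 1)
    (hSS : ∀ s ∈ S, ∀ r ∈ S, E.cm s r = 1)
    (hnorm : ∀ s ∈ S, ∀ a ∈ A, s * a * s⁻¹ ∈ Subgroup.closure A) :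
    E.Killed (Subgroup.closure (A ∪ S)) := by
  obtain ⟨T, rfl⟩ := E.surj t
  set gA : Set X := {x | E.proj x ∈ A ∧ T * x * T⁻¹ = x⁻¹}
  set gS : Set X := {x | E.proj x ∈ S}
  set C := Subgroup.closure gA with hC
  have hcomm : ∀ x ∈ gA, ∀ y ∈ gA, Commute x y := fun x hx y hy =>
    E.commute_of_cm (hAA _ hx.1 _ hy.1) rfl rfl
  have hCab : ∀ x ∈ C, ∀ y ∈ C, Commute x y := by
    have h1 : C ≤ Subgroup.centralizer gA := (Subgroup.closure_le _).2 fun x hx =>
      Subgroup.mem_centralizer_iff.2 fun y hy => (hcomm y hy x hx).eq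
    have h2 : C ≤ Subgroup.centralizer (C : Set X) := by
      rw [hC, Subgroup.centralizer_closure]
      exact h1
    exact fun x hx y hy => ((Subgroup.mem_centralizer_iff.1 (h2 hy)) x hx)
  have hinv : ∀ x ∈ C, T * x * T⁻¹ = x⁻¹ := by
    intro x hx
    induction hx using Subgroup.closure_induction with
    | mem x hx => exact hx.2
    | one => group
    | mul x y hx hy ihx ihy =>
      rw [(hCab x hx y hy).eq, mul_inv_rev, ← ihx, ← ihy, ← (hCab x hx y hy).eq]
      group
    | inv x _ ihx =>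
      calc T * x⁻¹ * T⁻¹ = (T * x * T⁻¹)⁻¹ := by group
        _ = _ := by rw [ihx]
  have hmapC : Subgroup.closure A ≤ C.map E.proj := by
    rw [Subgroup.closure_le]
    intro a ha
    obtain ⟨x, rfl, hxi⟩ := exists_inverted E hl (hA a ha)
    exact ⟨x, Subgroup.subset_closure ⟨ha, hxi⟩, rfl⟩
  have hnS : ∀ y ∈ gS, ∀ x ∈ gA, y * x * y⁻¹ ∈ C := by
    intro y hy x hx
    obtain ⟨w, hw, hwe⟩ := hmapC (hnorm _ hy _ hx.1)
    have hcy : Commute T y := E.commute_of_cm (hTS _ hy) rfl rfl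
    have hyi : T * (y * x * y⁻¹) * T⁻¹ = (y * x * y⁻¹)⁻¹ := by
      calc T * (y * x * y⁻¹) * T⁻¹ = (T * y) * x * (T * y)⁻¹ := by group
        _ = y * (T * x * T⁻¹) * y⁻¹ := by rw [hcy.eq]; group
        _ = _ := by rw [hx.2]; group
    rw [← eq_of_inverted E hl (hinv w hw) hyi (by rw [hwe, map_mul, map_mul, map_inv])]
    exact hw
  set gens := gA ∪ gS ∪ {x | E.proj x = 1} with hgens
  have hnorm' : ∀ y ∈ gens, y ∈ Subgroup.normalizer (C : Set X) := by
    intro y hy
    have hle : C.map (MulAut.conj y).toMonoidHom ≤ C := by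
      rw [hC, MonoidHom.map_closure, Subgroup.closure_le]
      rintro _ ⟨x, hx, rfl⟩
      show y * x * y⁻¹ ∈ C
      rcases hy with (hy | hy) | hy
      · rw [(hcomm y hy x hx).eq, mul_inv_cancel_right]
        exact Subgroup.subset_closure hx
      · exact hnS y hy x hx
      · rw [← E.ker_central hy x, mul_inv_cancel_right]
        exact Subgroup.subset_closure hx
    have heq := Subgroup.eq_of_le_of_card_ge hle
      (Nat.card_congr (C.equivMapOfInjective _ (MulAut.conj y).injective).toEquiv).le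
    rw [Subgroup.mem_normalizer_iff]
    intro x
    constructor
    · intro hx
      rw [← heq]
      exact ⟨x, hx, rfl⟩
    · intro hx
      rw [← heq] at hx
      obtain ⟨w, hw, hwe⟩ := hx
      rwa [← (MulAut.conj y).injective hwe]
  set P0 := E.pre (Subgroup.closure (A ∪ S)) with hP0
  have hgen : Subgroup.closure gens = P0 := by
    refine le_antisymm ((Subgroup.closure_le _).2 ?_) fun x hx => ?_
    · rintro x ((hx | hx) | hx)
      · exact Subgroup.subset_closure (Or.inl hx.1)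
      · exact Subgroup.subset_closure (Or.inr hx)
      · show E.proj x ∈ Subgroup.closure (A ∪ S)
        rw [show E.proj x = 1 from hx]
        exact one_mem _
    · have hle : Subgroup.closure (A ∪ S) ≤ (Subgroup.closure gens).map E.proj := by
        rw [Subgroup.closure_le]
        rintro a (ha | ha)
        · obtain ⟨x, rfl, hxi⟩ := exists_inverted E hl (hA a ha)
          exact ⟨x, Subgroup.subset_closure (Or.inl (Or.inl ⟨ha, hxi⟩)), rfl⟩
        · obtain ⟨x, rfl⟩ := E.surj a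
          exact ⟨x, Subgroup.subset_closure (Or.inl (Or.inr ha)), rfl⟩
      obtain ⟨w, hw, hwe⟩ := hle hx
      have hk : E.proj (w⁻¹ * x) = 1 := by rw [map_mul, map_inv, hwe, inv_mul_cancel]
      have h2 : w⁻¹ * x ∈ Subgroup.closure gens := Subgroup.subset_closure (Or.inr hk)
      simpa using mul_mem hw h2
  have hg : ∀ a ∈ gens, ∀ b ∈ gens, ⁅a, b⁆ ∈ C := by
    have hk : ∀ a b : X, E.proj a = 1 → ⁅a, b⁆ ∈ C := fun a b h => by
      rw [commutatorElement_eq_one_iff_mul_comm.2 (E.ker_central h b).symm]; exact one_mem _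
    have has : ∀ y ∈ gS, ∀ x ∈ gA, ⁅y, x⁆ ∈ C := fun y hy x hx => by
      rw [commutatorElement_def]
      exact mul_mem (hnS y hy x hx) (inv_mem (Subgroup.subset_closure hx))
    rintro a ((ha | ha) | ha) b ((hb | hb) | hb)
    · rw [commutatorElement_eq_one_iff_commute.2 (hcomm a ha b hb)]; exact one_mem _
    · rw [← commutatorElement_inv]; exact inv_mem (has b hb a ha)
    · rw [← commutatorElement_inv]; exact inv_mem (hk b a hb)
    · exact has a ha b hb
    · rw [commutatorElement_eq_one_iff_commute.2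
        (E.commute_of_cm (hSS _ ha _ hb) rfl rfl)]
      exact one_mem _
    · rw [← commutatorElement_inv]; exact inv_mem (hk b a hb)
    all_goals exact hk a b ha
  have hPn : P0 ≤ Subgroup.normalizer (C : Set X) := by
    rw [← hgen, Subgroup.closure_le]
    exact hnorm'
  have hle : ⁅P0, P0⁆ ≤ C := by
    rw [Subgroup.commutator_le]
    intro x hx y hy
    rw [← commutatorElement_inv]
    refine inv_mem (KilledTwo.Cert.comm_mem hPn hgen (g := x) (fun a ha => ?_) y hy)
    rw [← commutatorElement_inv]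
    exact inv_mem (KilledTwo.Cert.comm_mem hPn hgen (g := a) (fun b hb => hg b hb a ha) x hx)
  intro z hz h1
  exact eq_of_inverted E hl (hinv z (hle hz)) (by group) (by rw [h1, map_one])

end Cfsg.Agent.H95.KilledInverted
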