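import Cfsg.Agent.Compute.PermRep

/-!
A finite group modulo a normal subgroup is isomorphic to a given permutation group as soon as the
generators of the latter are induced and the orders fit.
-/

set_option autoImplicit false

namespace Cfsg.Agent.H95.PermIso

open Cfsg.Agent.Compute

/-- Elements inducing some permutation form a subgroup. -/
def domain {G : Type*} [Group G] [Finite G] {ι : Type*} (R : G → Equiv.Perm ι → Prop) (h1 : R 1 1)
    (hmul : ∀ g h σ τ, R g σ → R h τ → R (g * h) (σ * τ)) : Subgroup G where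
  carrier := {g | ∃ σ, R g σ}
  one_mem' := ⟨1, h1⟩
  mul_mem' := by
    rintro a b ⟨σ, ha⟩ ⟨τ, hb⟩
    exact ⟨σ * τ, hmul a b σ τ ha hb⟩
  inv_mem' := by
    rintro x ⟨σ, hx⟩
    have hp : ∀ k : ℕ, R (x ^ k) (σ ^ k) := by
      intro k
      induction k with
      | zero => rw [pow_zero, pow_zero]; exact h1
      | succ k ih => rw [pow_succ, pow_succ]; exact hmul _ _ _ _ ih hx
    refine ⟨σ ^ (orderOf x - 1), ?_⟩
    have he : x⁻¹ = x ^ (orderOf x - 1) := by
      refine inv_eq_of_mul_eq_one_right ?_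
      rw [← pow_succ', Nat.sub_add_cancel (orderOf_pos x), pow_orderOf_eq_one]
    rw [he]
    exact hp _

theorem quotient_iso {G : Type*} [Group G] [Finite G] (Z : Subgroup G) [Z.Normal] {ι : Type*}
    [Finite ι] (R : G → Equiv.Perm ι → Prop) (h1 : R 1 1)
    (hmul : ∀ g h σ τ, R g σ → R h τ → R (g * h) (σ * τ))
    (huniq : ∀ g σ τ, R g σ → R g τ → σ = τ) (P : Subgroup (Equiv.Perm ι))
    {s : Set (Equiv.Perm ι)} (hP : P ≤ Subgroup.closure s) (hs : ∀ σ ∈ s, ∃ g, R g σ)
    (hZ : ∀ z ∈ Z, R z 1) (hcard : Z.index ≤ Nat.card P) : Nonempty (G ⧸ Z ≃* P) := by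
  classical
  let D := domain R h1 hmul
  let θ : D →* Equiv.Perm ι := MonoidHom.mk' (fun g => Classical.choose g.2) (fun a b =>
    huniq _ _ _ (Classical.choose_spec (a * b).2)
      (hmul _ _ _ _ (Classical.choose_spec a.2) (Classical.choose_spec b.2)))
  have hθ : ∀ (g : D) σ, R g σ → θ g = σ := fun g σ h => huniq _ _ _ (Classical.choose_spec g.2) h
  have hZD : Z ≤ D := fun z hz => ⟨1, hZ z hz⟩
  have hker : Z.subgroupOf D ≤ θ.ker := fun z hz => hθ z 1 (hZ _ hz)
  have hrange : P ≤ θ.range := hP.trans ((Subgroup.closure_le _).2 fun σ hσ => by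
    obtain ⟨g, hg⟩ := hs σ hσ
    exact ⟨⟨g, σ, hg⟩, hθ _ σ hg⟩)
  have e1 : Nat.card P ≤ Nat.card θ.range := Nat.card_mono (Set.toFinite _) hrange
  have e2 : θ.ker.index = Nat.card θ.range := Subgroup.index_ker θ
  have e3 : θ.ker.index ≤ Z.relIndex D := Nat.le_of_dvd
    (Nat.pos_of_ne_zero Subgroup.index_ne_zero_of_finite) (Subgroup.index_dvd_of_le hker)
  have e4 := Subgroup.relIndex_mul_index hZD
  have hD1 : 0 < Z.relIndex D := Nat.pos_of_ne_zero Subgroup.index_ne_zero_of_finite
  have hDi : D.index = 1 := by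
    have hpos : 0 < D.index := Nat.pos_of_ne_zero Subgroup.index_ne_zero_of_finite
    nlinarith
  have hDtop : D = ⊤ := Subgroup.index_eq_one.1 hDi
  rw [hDi, mul_one] at e4
  have hkeq : θ.ker = Z.subgroupOf D := by
    refine (Subgroup.eq_of_le_of_card_ge hker ?_).symm
    have a1 := θ.ker.card_mul_index
    have a2 := (Z.subgroupOf D).card_mul_index
    have hi : (Z.subgroupOf D).index = θ.ker.index := by
      show Z.relIndex D = _
      omega
    rw [hi] at a2
    have hpos : 0 < θ.ker.index := Nat.pos_of_ne_zero Subgroup.index_ne_zero_of_finite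
    exact Nat.le_of_mul_le_mul_right (a1.trans a2.symm).le hpos
  have hreq : θ.range = P := (Subgroup.eq_of_le_of_card_ge hrange (by omega)).symm
  let ψ : G →* Equiv.Perm ι := θ.comp
    { toFun := fun g => ⟨g, by rw [hDtop]; trivial⟩
      map_one' := rfl
      map_mul' := fun _ _ => rfl }
  have hψk : ψ.ker = Z := by
    ext g
    have hg : g ∈ D := by rw [hDtop]; trivial
    show θ ⟨g, _⟩ = 1 ↔ _
    rw [← MonoidHom.mem_ker, hkeq, Subgroup.mem_subgroupOf]
  have hψr : ψ.range = P := by
    rw [← hreq]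
    ext σ
    constructor
    · rintro ⟨g, rfl⟩
      exact ⟨_, rfl⟩
    · rintro ⟨⟨g, hg⟩, rfl⟩
      exact ⟨g, rfl⟩
  exact ⟨((QuotientGroup.quotientMulEquivOfEq hψk.symm).trans
    (QuotientGroup.quotientKerEquivRange ψ)).trans (MulEquiv.subgroupCongr hψr)⟩

/-- An operand of a straight-line program: an earlier element or its inverse. -/
noncomputable def operand (P : List ((ℕ × ℕ) × ℕ × ℕ)) (r : ℕ) : ℕ :=
  cond (Nat.beq (Nat.mod r 2) 0) (nth ((0, 0), 0, 0) P (Nat.div r 2)).1.1
    (nth ((0, 0), 0, 0) P (Nat.div r 2)).1.2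

/-- Check of a straight-line program whose first `m` entries are the generators. -/
noncomputable def slpOK (w n m : ℕ) (gens : List (ℕ × ℕ)) (P : List ((ℕ × ℕ) × ℕ × ℕ)) : Bool :=
  allN P.length (fun k =>
    invPerm w n (nth ((0, 0), 0, 0) P k).1.1 (nth ((0, 0), 0, 0) P k).1.2 &&
      cond (Nat.ble (Nat.add k 1) m) true
        (Nat.ble (Nat.add (nth ((0, 0), 0, 0) P k).2.1 1) (Nat.mul 2 k) &&
          Nat.ble (Nat.add (nth ((0, 0), 0, 0) P k).2.2 1) (Nat.mul 2 k) &&
          Nat.beq (nth ((0, 0), 0, 0) P k).1.1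
            (mulPerm w n (operand P (nth ((0, 0), 0, 0) P k).2.1)
              (operand P (nth ((0, 0), 0, 0) P k).2.2)))) &&
  lall gens (fun g => Option.isSome (lfind P (fun p => Nat.beq p.1.1 g.1)))

/-- The chain group is generated by the first `m` entries of the program. -/
theorem grp_le {w n : ℕ} (hn : n ≤ 2 ^ w) {m : ℕ} {ls : List (Level ℕ)}
    {P : List ((ℕ × ℕ) × ℕ × ℕ)} (h : slpOK w n m (nextGens ls) P = true) :
    (permSound w n hn).grp ls ≤ Subgroup.closure
      {σ | ∃ k < m, σ = permDen w n (nth ((0, 0), 0, 0) P k).1.1} := by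
  set H := Subgroup.closure {σ | ∃ k < m, σ = permDen w n (nth ((0, 0), 0, 0) P k).1.1}
  simp only [slpOK, Bool.and_eq_true, allN_iff, lall_iff] at h
  obtain ⟨hall, hgens⟩ := h
  have hinv := fun {k : ℕ} (hk : k < P.length) => (permSound w n hn).okInv_sound
    (a := (nth ((0, 0), 0, 0) P k).1.1) (b := (nth ((0, 0), 0, 0) P k).1.2) (hall k hk).1
  have key : ∀ k, k < P.length → permDen w n (nth ((0, 0), 0, 0) P k).1.1 ∈ H := by
    intro k
    induction k using Nat.strong_induction_on with
    | _ k ih =>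
      intro hk
      have h2 := (hall k hk).2
      cases hm : Nat.ble (Nat.add k 1) m with
      | true =>
        exact Subgroup.subset_closure ⟨k, Nat.le_of_ble_eq_true hm, rfl⟩
      | false =>
        rw [hm, cond_false] at h2
        simp only [Bool.and_eq_true, Nat.ble_eq, Nat.beq_eq] at h2
        obtain ⟨⟨h1', h2'⟩, he⟩ := h2
        have hop : ∀ r, r < 2 * k → PermOK w n (operand P r) ∧ permDen w n (operand P r) ∈ H := by
          intro r hr
          have hj : r / 2 < k := by omega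
          obtain ⟨a, b, c⟩ := hinv (lt_trans hj hk)
          unfold operand
          cases Nat.beq (Nat.mod r 2) 0 with
          | true => exact ⟨a, ih _ hj (lt_trans hj hk)⟩
          | false =>
            refine ⟨b, ?_⟩
            show (permSound w n hn).den _ ∈ H
            rw [cond_false]
            exact c.symm ▸ H.inv_mem (ih _ hj (lt_trans hj hk))
        obtain ⟨oa, ma⟩ := hop _ h1'
        obtain ⟨ob, mb⟩ := hop _ h2'
        rw [he]
        show (permSound w n hn).den ((permOps w n).mul _ _) ∈ H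
        rw [(permSound w n hn).den_mul oa ob]
        exact H.mul_mem ma mb
  refine (Subgroup.closure_le _).2 ?_
  rintro _ ⟨a, ⟨g, hg, rfl⟩, rfl⟩
  obtain ⟨p, hp⟩ := Option.isSome_iff_exists.1 (hgens g hg)
  obtain ⟨hpm, hpe⟩ := lfind_some hp
  rw [Nat.beq_eq] at hpe
  obtain ⟨k, hk, rfl⟩ := List.getElem_of_mem hpm
  show permDen w n g.1 ∈ H
  rw [← hpe, ← nth_eq_getElem ((0, 0), 0, 0) P k hk]
  exact key k hk

end Cfsg.Agent.H95.PermIso
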