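import Mathlib.Init

/-!
Generated data: representatives of the two classes of involutions of the group of the code and
conjugators onto them.
-/

set_option autoImplicit false

namespace Cfsg.Agent.H95

/-- A representative. -/
def invFree : Nat := 21064801546226450623669850930086999

/-- Conjugators onto it. -/
def conjFree : List Nat := [
  984818244535754528103549039458486304,
  136923562776611289444752893584049230,
  984808092185701589051809676506104896,
  971143960261691193475819798948551264,
  971312358966729982799707501211462112,
  983549987344740594813603985216310720,
  753463945983469973525132704990533163,
  848301058962773075334921913756125225,
  27954646212288771607924713124646103,
  100294479857901884831024532135664641,
  313382688806046074544368530605443125,
  849837023418706161617455459814682185,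
  974422238081544939122441376219924512,
  70588108221411185788608356930299522,
  759423028623465027690198082870777387,
  302781082958078022669063431316880725,
  598637882770231491984615536362653731,
  590710217256659782124936289962016067,
  588463220981849075367580141475842403,
  196155402726648388974778766126653837,
  962050842326844866288212075750967648,
  13631407981463867137094639723950359,
  418355660465138155940246142010475215,
  22451855195580203876833727627343991,
  338248564727285162056513715123248140,
  958402391161852354324240935005068960,
  984605303592088988892167171105540448,
  220853389411767684272375070000077841,
  733519337864690986255651398971595365,
  806533116815206637441230702387888870,
  902778542659176719439434373411409351,
  1731142131240087687006355301550455,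
  17187494099705527396331238774481303,
  789370310120515643805192945162004102,
  791110999688062742210396869284233958,
  967983918417887248242965937721164960,
  307808763944400419211105315931076725,
  258984282270746047595221007425723411,
  965876605160685210738424858617068864,
  25370134056537027168373366394076503,
  887506293111356734678321115820271239,
  276089672122981583662080490568604691,
  969220586965854301228399304639022144,
  63939762263483168365817450770793186,
  983338615105791106994451330885540352,
  880198712564379879559401829347902631,
  260007028534470632791019317499114643,
  681057229878135130649857905538439798,
  13446058028335884683651421615628695,
  689973440461724974980266325258313398,
  213804024500035035314252547139652817,
  922058164476352587888419769332021360,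
  684387645794489215249009674899036790,
  62694606235926214777627277266685378,
  29193382528223237958269334370955543,
  146788474247146140681810587771187470,
  26429346946066703424851518869942551,
  10493671565654908534925750147105975,
  208435209333515965318950102196922001,
  22814233796067413373600317799779543,
  799675922334592826194424167548715750,
  727169053385776750832163384169541189,
  939220632196942405193713783483336752,
  605131447258866301755743028763434659,
  731225615526984630116823748575484933,
  792479920506489313627628363003343110]

/-- A representative. -/
def invEight : Nat := 979121071158219704299181131031480352

/-- Conjugators onto it. -/
def conjEight : List Nat := [
  984818244535754528103549039458486304,
  25414345053142944708944191969543235,
  969265039008629189305406309305221569,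
  971697650941856707258991093327333477,
  984600954493542229527233097511372803,
  601504892360355215020862464077106917,
  984363140085273155288445662158951456,
  972628003189332714380500058161333346,
  984797833262764633501320720512271461,
  140805962543077519651208758476948933,
  984614116763304264318270127036499121,
  717078977581424871024349248640679991,
  977058940977848293258010923072820675,
  984676296717505552981297274273957989,
  983113089370880564384757388293506062]

end Cfsg.Agent.H95
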