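import Cfsg.Agent.H95.GolayFive
import Cfsg.Agent.H95.GolayInvData

/-!
The involutions of the group of the code: two classes, told apart by their fixed points.
-/

set_option autoImplicit false
set_option maxRecDepth 100000

namespace Cfsg.Agent.H95

open Cfsg Cfsg.Agent.Golay
open scoped Pointwise

/-- Mask of the fixed positions. -/
def fixMask (t : ℕ) : ℕ :=
  ((List.range 24).filter fun i => Nat.beq (app t i) i).foldl (fun acc i => acc ||| (1 <<< i)) 0

lemma ptSet_fixMask {t : ℕ} (ht : validT t = true) :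
    ptSet (fixMask t) = Finset.univ.filter fun p => mkPerm t p = p := by
  ext p
  rw [mem_ptSet, fixMask, testBit_foldl_or]
  simp only [Nat.zero_testBit, Bool.false_or, decide_eq_true_eq, List.mem_filter, List.mem_range,
    Nat.beq_eq, Finset.mem_filter, Finset.mem_univ, true_and]
  rw [← idx_mkPerm ht]
  exact ⟨fun h => idx_injective h.2, fun h => ⟨idx_lt p, by rw [h]⟩⟩

/-- Tables fixing the first four base points. -/
def fourTbls : List ℕ := (lvlTrans m24Chain 4).flatMap fun a => fiveTbls.map fun t => tblMul a t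

lemma inv_checks :
    ((lvlTrans m24Chain 4).all (inStab [] 8388615) &&
    ((List.range 24).all fun i => [23, 0, 1, 2].contains i ||
      (lvlTrans m24Chain 4).any fun a => Nat.beq (app a 3) i) &&
    (fourTbls.all fun u => !sqOne (tblMul patTwo u) || !Nat.beq (fixCnt (tblMul patTwo u)) 0 ||
      conjFree.any fun k => inM24 k && tblEq (tblMul k (tblMul patTwo u)) (tblMul invFree k)) &&
    ((lvlTrans m24Chain 6).all fun t => tblEq t idTbl ||
      conjEight.any fun k => inM24 k && tblEq (tblMul k t) (tblMul invEight k)) &&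
    (fiveTbls.all fun t => !sqOne t || tblEq t idTbl || octadList.contains (fixMask t)) &&
    inM24 invFree && sqOne invFree && Nat.beq (fixCnt invFree) 0 &&
    inM24 invEight && sqOne invEight && octadList.contains (fixMask invEight) &&
    (baseOctad == 8536111)) = true ∧
    ptSet 8388615 = {pt 23, pt 0, pt 1, pt 2} := by
  decide +kernel

lemma fix_set_conj (k : M24) (σ : Equiv.Perm GolayPt) :
    (Finset.univ.filter fun p => (k.1 * σ * k.1⁻¹) p = p)
      = k.1 • (Finset.univ.filter fun p => σ p = p) := by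
  ext p
  rw [mem_smul_finset_iff, Finset.mem_filter, Finset.mem_filter, Equiv.Perm.mul_apply,
    Equiv.Perm.mul_apply, Equiv.Perm.coe_inv]
  simp only [Finset.mem_univ, true_and]
  rw [← Equiv.eq_symm_apply]

/-- The fixed points of an involution with fixed points form an octad. -/
theorem fixed_octad {σ : Equiv.Perm GolayPt} (hσ : σ ∈ M24) (h2 : σ ^ 2 = 1) (hne : σ ≠ 1) :
    (Finset.univ.filter fun x => σ x = x) ∈ octads ∨ ∀ p, σ p ≠ p := by
  rcases fixed_eight_order_two hσ h2 hne with h0 | h8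
  · refine Or.inr fun p hp => ?_
    rw [Finset.card_eq_zero, Finset.filter_eq_empty_iff] at h0
    exact h0 (Finset.mem_univ p) hp
  refine Or.inl ?_
  set F := Finset.univ.filter fun x => σ x = x with hF
  obtain ⟨f, hf, hfu⟩ := exists_five_of_card (s := F) (by omega)
  obtain ⟨k, hk⟩ := exists_M24_map_five hf fivePt_injective
  obtain ⟨t, ht, hv, e⟩ := five_fix (M24.mul_mem (M24.mul_mem k.2 hσ) (M24.inv_mem k.2)) (fun i => by
    have := (Finset.mem_filter.1 (hfu i)).2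
    rw [← hk i, Equiv.Perm.mul_apply, Equiv.Perm.mul_apply, Equiv.Perm.coe_inv,
      Equiv.symm_apply_apply, this])
  obtain ⟨hchk, -⟩ := inv_checks
  simp only [Bool.and_eq_true, List.all_eq_true, Bool.or_eq_true, Bool.not_eq_true'] at hchk
  have hoct := hchk.1.1.1.1.1.1.1.2 t ht
  rcases hoct with (h | h) | h
  · rw [Bool.eq_false_iff] at h
    exact absurd (by rw [sqOne_iff hv, e, conj_pow, h2, mul_one, mul_inv_cancel]) h
  · rw [tblEq_iff hv idTbl_spec.1, idTbl_spec.2, e, conj_eq_one_iff] at h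
    exact absurd h hne
  · have ho := ptSet_mem_octads (List.contains_iff_mem.1 h)
    rw [ptSet_fixMask hv, e, fix_set_conj] at ho
    have := smul_mem_octads (M24.inv_mem k.2) ho
    rwa [inv_smul_smul] at this

/-- An involution fixing an octad pointwise is conjugate to the representative. -/
theorem conj_invEight {σ : Equiv.Perm GolayPt} (hσ : σ ∈ M24) (hne : σ ≠ 1)
    (ho : (Finset.univ.filter fun x => σ x = x) ∈ octads) :
    ∃ k ∈ M24, k * σ * k⁻¹ = mkPerm invEight := by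
  obtain ⟨hchk, -⟩ := inv_checks
  simp only [Bool.and_eq_true, List.all_eq_true, Bool.or_eq_true, List.any_eq_true,
    beq_iff_eq] at hchk
  obtain ⟨⟨⟨⟨⟨⟨⟨⟨⟨⟨⟨-, -⟩, -⟩, hE⟩, -⟩, -⟩, -⟩, -⟩, hw⟩, -⟩, -⟩, hb⟩ := hchk
  have hbO : ptSet 8536111 ∈ octads := ptSet_mem_octads (List.contains_iff_mem.1 (by decide +kernel))
  obtain ⟨g, hg⟩ := exists_M24_map_octad ho hbO
  have hbf := baseOctad_facts
  rw [drop_six] at hbf
  simp only [Bool.and_eq_true] at hbf
  have hch := hbf.1.1.2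
  rw [hb] at hch
  obtain ⟨hb24, horb, -, hrest⟩ := orbit_of_checkChain hch
  have hgm : g.1 * σ * g.1⁻¹ ∈ stabGrp [] 8536111 := by
    refine ⟨M24.mul_mem (M24.mul_mem g.2 hσ) (M24.inv_mem g.2), by simp, fun p hp => ?_⟩
    rw [← show g.1 • (Finset.univ.filter fun x => σ x = x) = ptSet 8536111 from hg,
      ← fix_set_conj] at hp
    exact (Finset.mem_filter.1 hp).2
  set b := lvlBase m24Chain 6
  have hm : (g.1 * σ * g.1⁻¹) (pt b) ∈ MulAction.orbit (stabGrp [] 8536111) (pt b) :=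
    ⟨⟨_, hgm⟩, rfl⟩
  rw [horb, Finset.mem_coe, mem_ptSet, testBit_orbitMask] at hm
  obtain ⟨t, ht, hta⟩ := hm
  have hts : inStab [] 8536111 t = true := by
    have h := hch
    simp only [checkChain, Bool.and_eq_true, List.all_eq_true] at h
    exact h.1.1.1.2 t ht
  have hv : validT t = true := by
    have h := hts
    simp only [inStab, Bool.and_eq_true] at h
    exact validT_of_inM24 h.1.1
  have heq : (mkPerm t)⁻¹ * (g.1 * σ * g.1⁻¹) ∈ stabGrp [] (8536111 ||| 2 ^ b) := by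
    rw [stabGrp_or [] _ hb24]
    refine ⟨(stabGrp [] 8536111).mul_mem
      ((stabGrp [] 8536111).inv_mem (mem_stabGrp_of_inStab hts)) hgm, ?_⟩
    show ((mkPerm t)⁻¹ * (g.1 * σ * g.1⁻¹)) (pt b) = pt b
    rw [Equiv.Perm.mul_apply, Equiv.Perm.coe_inv, Equiv.symm_apply_eq, mkPerm_pt hv hb24, hta,
      pt_idx]
  rw [stabGrp_eq_bot' hrest, Subgroup.mem_bot, inv_mul_eq_one] at heq
  rcases hE t ht with h | ⟨k, -, hk, hke⟩
  · rw [tblEq_iff hv idTbl_spec.1, idTbl_spec.2, heq, conj_eq_one_iff] at h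
    exact absurd h hne
  · have s1 := tblMul_spec (validT_of_inM24 hk) hv
    have s2 := tblMul_spec (validT_of_inM24 hw) (validT_of_inM24 hk)
    rw [tblEq_iff s1.1 s2.1, s1.2, s2.2, heq] at hke
    refine ⟨mkPerm k * g.1, M24.mul_mem (mem_M24_of_inM24 hk) g.2, ?_⟩
    calc mkPerm k * g.1 * σ * (mkPerm k * g.1)⁻¹
        = mkPerm k * (g.1 * σ * g.1⁻¹) * (mkPerm k)⁻¹ := by group
      _ = mkPerm invEight := by rw [hke, mul_inv_cancel_right]

/-- A fixed-point-free involution is conjugate to the representative. -/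
theorem conj_invFree {σ : Equiv.Perm GolayPt} (hσ : σ ∈ M24) (h2 : σ ^ 2 = 1)
    (h0 : ∀ p, σ p ≠ p) : ∃ k ∈ M24, k * σ * k⁻¹ = mkPerm invFree := by
  have hσσ : ∀ x, σ (σ x) = x := fun x => by
    have := Equiv.congr_fun h2 x
    simpa [pow_succ] using this
  obtain ⟨a, -⟩ : ∃ a : GolayPt, True := ⟨none, trivial⟩
  obtain ⟨b, -, hb⟩ := Finset.exists_mem_notMem_of_card_lt_card
    (s := ({a, σ a} : Finset GolayPt)) (t := Finset.univ)
    (lt_of_le_of_lt Finset.card_le_two (by simp [GolayPt, Fintype.card_option]))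
  obtain ⟨c, -, hc⟩ := Finset.exists_mem_notMem_of_card_lt_card
    (s := ({a, σ a, b, σ b} : Finset GolayPt)) (t := Finset.univ)
    (lt_of_le_of_lt Finset.card_le_four (by simp [GolayPt, Fintype.card_option]))
  simp only [Finset.mem_insert, Finset.mem_singleton, not_or] at hb hc
  have n13 : σ a ≠ σ b := fun e => hb.1 (σ.injective e).symm
  have n03 : a ≠ σ b := fun e => hb.2 (by rw [e, hσσ])
  obtain ⟨k, k0, k1, k2, k3, k4⟩ := exists_to_five (a := a) (b := σ a) (c := b) (d := σ b)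
    (e := c) (by
      simp [Ne.symm (h0 a), Ne.symm (h0 b), Ne.symm hb.1, Ne.symm hb.2, n13, n03, Ne.symm hc.1,
        Ne.symm hc.2.1, Ne.symm hc.2.2.1, Ne.symm hc.2.2.2])
  obtain ⟨hchk, hmask⟩ := inv_checks
  obtain ⟨hf, -⟩ := five_checks
  simp only [Bool.and_eq_true, List.all_eq_true, Bool.or_eq_true, List.any_eq_true,
    List.contains_iff_mem, Bool.not_eq_true', Nat.beq_eq] at hchk
  obtain ⟨⟨⟨⟨⟨⟨⟨⟨⟨⟨⟨hL4, horb⟩, hcand⟩, -⟩, -⟩, hw0⟩, -⟩, -⟩, -⟩, -⟩, -⟩, -⟩ := hchk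
  simp only [Bool.and_eq_true, List.all_eq_true, beq_iff_eq, decide_eq_true_eq] at hf
  obtain ⟨⟨⟨⟨⟨⟨⟨⟨⟨⟨⟨⟨⟨-, -⟩, -⟩, -⟩, -⟩, hpat⟩, hp2⟩, -⟩, -⟩, -⟩, -⟩, -⟩, -⟩, -⟩ := hf
  have hw : inM24 patTwo = true := hpat _ (by simp)
  have hwp : ∀ i < 24, mkPerm patTwo (pt i) = pt (app patTwo i) :=
    fun i hi => mkPerm_pt (validT_of_inM24 hw) hi
  simp only [fivePos, List.map_cons, List.map_nil, List.cons.injEq, and_true] at hp2
  set τ := k.1 * σ * k.1⁻¹ with hτ
  have hτM : τ ∈ M24 := M24.mul_mem (M24.mul_mem k.2 hσ) (M24.inv_mem k.2)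
  set ρ := (mkPerm patTwo)⁻¹ * τ with hρ
  have hρM : ρ ∈ M24 := M24.mul_mem (M24.inv_mem (mem_M24_of_inM24 hw)) hτM
  have hτk : ∀ x, τ (k.1 x) = k.1 (σ x) := fun x => by
    rw [hτ, Equiv.Perm.mul_apply, Equiv.Perm.mul_apply, Equiv.Perm.coe_inv, Equiv.symm_apply_apply]
  have r0 : ρ (pt 23) = pt 23 := by
    rw [hρ, Equiv.Perm.mul_apply, show pt 23 = k.1 a from k0.symm, hτk, k1, k0, Equiv.Perm.coe_inv,
      Equiv.symm_apply_eq]
    show pt 0 = mkPerm patTwo (pt 23)
    rw [hwp 23 (by norm_num), hp2.1]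
  have r1 : ρ (pt 0) = pt 0 := by
    rw [hρ, Equiv.Perm.mul_apply, show pt 0 = k.1 (σ a) from k1.symm, hτk, hσσ, k0, k1,
      Equiv.Perm.coe_inv, Equiv.symm_apply_eq]
    show pt 23 = mkPerm patTwo (pt 0)
    rw [hwp 0 (by norm_num), hp2.2.1]
  have r2 : ρ (pt 1) = pt 1 := by
    rw [hρ, Equiv.Perm.mul_apply, show pt 1 = k.1 b from k2.symm, hτk, k3, k2,
      Equiv.Perm.coe_inv, Equiv.symm_apply_eq]
    show pt 2 = mkPerm patTwo (pt 1)
    rw [hwp 1 (by norm_num), hp2.2.2.1]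
  have r3 : ρ (pt 2) = pt 2 := by
    rw [hρ, Equiv.Perm.mul_apply, show pt 2 = k.1 (σ b) from k3.symm, hτk, hσσ, k2, k3,
      Equiv.Perm.coe_inv, Equiv.symm_apply_eq]
    show pt 1 = mkPerm patTwo (pt 2)
    rw [hwp 2 (by norm_num), hp2.2.2.2.1]
  have hi3 : idx (ρ (pt 3)) ∉ [23, 0, 1, 2] := by
    simp only [List.mem_cons, List.not_mem_nil, or_false]
    rintro (h | h | h | h) <;>
      [have := congrArg pt h; have := congrArg pt h; have := congrArg pt h; have := congrArg pt h] <;>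
      rw [pt_idx] at this
    · rw [← r0] at this; exact absurd (ρ.injective this) (by decide)
    · rw [← r1] at this; exact absurd (ρ.injective this) (by decide)
    · rw [← r2] at this; exact absurd (ρ.injective this) (by decide)
    · rw [← r3] at this; exact absurd (ρ.injective this) (by decide)
  obtain ⟨a4, ha4, hae⟩ := (horb _ (List.mem_range.2 (idx_lt (ρ (pt 3))))).resolve_left hi3
  have hv4 : validT a4 = true := by
    have h := hL4 a4 ha4
    simp only [inStab, Bool.and_eq_true] at h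
    exact validT_of_inM24 h.1.1
  have hst := mem_stabGrp_of_inStab (hL4 a4 ha4)
  have hfix4 : ∀ p ∈ ({pt 23, pt 0, pt 1, pt 2} : Finset GolayPt), mkPerm a4 p = p :=
    fun p hp => hst.2.2 p (hmask ▸ hp)
  obtain ⟨t, ht, hv, et⟩ := five_fix (M24.mul_mem (M24.inv_mem hst.1) hρM) (by
    intro i
    rw [Equiv.Perm.mul_apply, Equiv.Perm.coe_inv, Equiv.symm_apply_eq]
    fin_cases i
    · exact r0.trans (hfix4 _ (by simp)).symm
    · exact r1.trans (hfix4 _ (by simp)).symm
    · exact r2.trans (hfix4 _ (by simp)).symm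
    · exact r3.trans (hfix4 _ (by simp)).symm
    · show ρ (pt 3) = mkPerm a4 (pt 3)
      rw [mkPerm_pt hv4 (by norm_num), hae, pt_idx])
  have s := tblMul_spec hv4 hv
  have s' := tblMul_spec (validT_of_inM24 hw) s.1
  have hwu : mkPerm (tblMul patTwo (tblMul a4 t)) = τ := by
    rw [s'.2, s.2, et, mul_inv_cancel_left, hρ, mul_inv_cancel_left]
  have hmem : tblMul a4 t ∈ fourTbls :=
    List.mem_flatMap.2 ⟨a4, ha4, List.mem_map.2 ⟨t, ht, rfl⟩⟩
  rcases hcand _ hmem with (h | h) | ⟨q, -, hq, hqe⟩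
  · rw [Bool.eq_false_iff] at h
    exact absurd (by rw [sqOne_iff s'.1, hwu, hτ, conj_pow, h2, mul_one, mul_inv_cancel]) h
  · rw [← Bool.not_eq_true, Nat.beq_eq, ← fixCnt_eq s'.1, hwu, hτ, fix_card_conj] at h
    exact absurd (Finset.card_eq_zero.2 (Finset.filter_eq_empty_iff.2 fun x _ => h0 x)) h
  · have s1 := tblMul_spec (validT_of_inM24 hq) s'.1
    have s2 := tblMul_spec (validT_of_inM24 hw0) (validT_of_inM24 hq)
    rw [tblEq_iff s1.1 s2.1, s1.2, s2.2, hwu] at hqe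
    refine ⟨mkPerm q * k.1, M24.mul_mem (mem_M24_of_inM24 hq) k.2, ?_⟩
    calc mkPerm q * k.1 * σ * (mkPerm q * k.1)⁻¹
        = mkPerm q * τ * (mkPerm q)⁻¹ := by rw [hτ]; group
      _ = mkPerm invFree := by rw [hqe, mul_inv_cancel_right]

/-- Both kinds occur. -/
theorem exists_involutions :
    (mkPerm invEight ∈ M24 ∧ orderOf (mkPerm invEight) = 2 ∧
      (Finset.univ.filter fun p => mkPerm invEight p = p) ∈ octads) ∧
    (mkPerm invFree ∈ M24 ∧ orderOf (mkPerm invFree) = 2 ∧ ∀ p, mkPerm invFree p ≠ p) := by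
  obtain ⟨hchk, -⟩ := inv_checks
  simp only [Bool.and_eq_true, Nat.beq_eq] at hchk
  obtain ⟨⟨⟨⟨⟨⟨⟨-, hw⟩, hs⟩, hf⟩, hw'⟩, hs'⟩, ho⟩, -⟩ := hchk
  have h0 : ∀ p, mkPerm invFree p ≠ p := fun p hp => by
    rw [← fixCnt_eq (validT_of_inM24 hw), Finset.card_eq_zero, Finset.filter_eq_empty_iff] at hf
    exact hf (Finset.mem_univ p) hp
  have ho' : (Finset.univ.filter fun p => mkPerm invEight p = p) ∈ octads := by
    rw [← ptSet_fixMask (validT_of_inM24 hw')]
    exact ptSet_mem_octads (List.contains_iff_mem.1 ho)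
  refine ⟨⟨mem_M24_of_inM24 hw', orderOf_eq_prime ((sqOne_iff (validT_of_inM24 hw')).1 hs') ?_,
    ho'⟩, mem_M24_of_inM24 hw, orderOf_eq_prime ((sqOne_iff (validT_of_inM24 hw)).1 hs) ?_, h0⟩
  · intro h
    rw [h] at ho'
    have h8 := ho'.2
    simp [GolayPt, Fintype.card_option] at h8
  · exact fun h => h0 none (by rw [h]; rfl)

end Cfsg.Agent.H95
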