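/-
Orthogonal decompositions for an alternating form: components, root propagation, swaps.
-/
import Cfsg.Agent.H95.Symp
import Cfsg.Agent.H95.SubspaceStab

set_option autoImplicit false

namespace Cfsg.Agent.H95

open scoped MatrixGroups Matrix
open Matrix Module

variable {ι : Type} [Fintype ι] [DecidableEq ι] {F : Type*} [Field F]
  {f : (ι → F) → (ι → F) → F}

/-- `D` is an orthogonal decomposition into non-degenerate subspaces. -/
structure OrthDec (f : (ι → F) → (ι → F) → F) {κ : Type} [Fintype κ] [DecidableEq κ] (D : κ → Submodule F (ι → F)) : Prop where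
  nd : ∀ i, NdOn f (D i)
  orth : ∀ i j, i ≠ j → ∀ u ∈ D i, ∀ v ∈ D j, f u v = 0
  top : iSup D = ⊤

variable (hf : Geo.IsSymplecticForm f)
include hf

/-- Orthogonal projection to a non-degenerate subspace. -/
noncomputable def proj {V : Submodule F (ι → F)} (hV : NdOn f V) (x : ι → F) : ι → F :=
  (exists_proj hf hV x).choose

lemma proj_mem {V : Submodule F (ι → F)} (hV : NdOn f V) (x : ι → F) : proj hf hV x ∈ V :=
  (exists_proj hf hV x).choose_spec.1

lemma proj_orth {V : Submodule F (ι → F)} (hV : NdOn f V) (x : ι → F) {u : ι → F} (hu : u ∈ V) :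
    f (x - proj hf hV x) u = 0 :=
  (exists_proj hf hV x).choose_spec.2 u hu

lemma f_proj {V : Submodule F (ι → F)} (hV : NdOn f V) (x : ι → F) {u : ι → F} (hu : u ∈ V) :
    f x u = f (proj hf hV x) u := by
  rw [← sub_eq_zero, ← f_sub_left hf, proj_orth hf hV x hu]

lemma proj_eq {V : Submodule F (ι → F)} (hV : NdOn f V) {x y : ι → F} (hy : y ∈ V)
    (h : ∀ u ∈ V, f (x - y) u = 0) : proj hf hV x = y := by
  rw [← sub_eq_zero]
  by_contra hne
  obtain ⟨z, hz, hz1⟩ := hV _ (V.sub_mem (proj_mem hf hV x) hy) hne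
  rw [show proj hf hV x - y = (x - y) - (x - proj hf hV x) by abel, f_sub_left hf, h z hz,
    proj_orth hf hV x hz, sub_zero] at hz1
  exact zero_ne_one hz1

lemma proj_self {V : Submodule F (ι → F)} (hV : NdOn f V) {x : ι → F} (hx : x ∈ V) :
    proj hf hV x = x :=
  proj_eq hf hV hx fun u _ => by rw [sub_self, f_zero_left hf]

lemma proj_eq_zero {V : Submodule F (ι → F)} (hV : NdOn f V) {x : ι → F}
    (h : ∀ u ∈ V, f x u = 0) : proj hf hV x = 0 :=
  proj_eq hf hV V.zero_mem fun u hu => by rw [sub_zero]; exact h u hu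

lemma proj_add {V : Submodule F (ι → F)} (hV : NdOn f V) (x y : ι → F) :
    proj hf hV (x + y) = proj hf hV x + proj hf hV y :=
  proj_eq hf hV (V.add_mem (proj_mem hf hV x) (proj_mem hf hV y)) fun u hu => by
    rw [add_sub_add_comm, f_add_left hf, proj_orth hf hV x hu, proj_orth hf hV y hu, add_zero]

lemma proj_sub {V : Submodule F (ι → F)} (hV : NdOn f V) (x y : ι → F) :
    proj hf hV (x - y) = proj hf hV x - proj hf hV y :=
  proj_eq hf hV (V.sub_mem (proj_mem hf hV x) (proj_mem hf hV y)) fun u hu => by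
    rw [sub_sub_sub_comm, f_sub_left hf, proj_orth hf hV x hu, proj_orth hf hV y hu, sub_zero]

/-- The orthogonal space of a subspace. -/
def perpOf (W : Submodule F (ι → F)) : Submodule F (ι → F) where
  carrier := {x | ∀ u ∈ W, f x u = 0}
  add_mem' {a b} ha hb u hu := by rw [f_add_left hf, ha u hu, hb u hu, add_zero]
  zero_mem' u _ := f_zero_left hf u
  smul_mem' c a ha u hu := by rw [f_smul_left hf, ha u hu, mul_zero]

lemma ndOn_perpOf {W : Submodule F (ι → F)} (hW : NdOn f W) : NdOn f (perpOf hf W) := by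
  intro x hx hx0
  obtain ⟨y, hy⟩ := exists_f_eq_one hf hx0
  exact ⟨y - proj hf hW y, fun u hu => proj_orth hf hW y hu,
    by rw [f_sub_right hf, hy, hx _ (proj_mem hf hW y), sub_zero]⟩

variable {κ : Type} [Fintype κ] [DecidableEq κ] {D : κ → Submodule F (ι → F)}
  (hD : OrthDec f D)
include hD

lemma sum_proj (x : ι → F) : ∑ i, proj hf (hD.nd i) x = x := by
  rw [eq_comm, ← sub_eq_zero]
  by_contra hne
  obtain ⟨-, z, hz⟩ := hf.nondegenerate _ hne
  apply hz
  have hker : ∀ j, ∀ u ∈ D j, f (x - ∑ i, proj hf (hD.nd i) x) u = 0 := by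
    intro j u hu
    let L : (ι → F) →ₗ[F] F :=
      { toFun := fun y => f y u
        map_add' := fun a b => f_add_left hf a b u
        map_smul' := fun c a => f_smul_left hf c a u }
    show L (x - ∑ i, proj hf (hD.nd i) x) = 0
    rw [map_sub, map_sum, Finset.sum_eq_single j]
    · show f x u - f (proj hf (hD.nd j) x) u = 0
      rw [← f_proj hf (hD.nd j) x hu, sub_self]
    · intro i _ hij
      exact hD.orth i j hij _ (proj_mem hf _ x) u hu
    · intro h; exact absurd (Finset.mem_univ j) h
  have hzm : z ∈ iSup D := hD.top ▸ Submodule.mem_top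
  clear hz
  induction hzm using Submodule.iSup_induction' with
  | mem j u hu => exact hker j u hu
  | zero => exact f_zero_right hf _
  | add a b _ _ iha ihb => rw [f_add_right hf, iha, ihb, add_zero]

lemma proj_other {i j : κ} (hij : i ≠ j) {x : ι → F} (hx : x ∈ D i) :
    proj hf (hD.nd j) x = 0 :=
  proj_eq_zero hf _ fun u hu => hD.orth i j hij x hx u hu

lemma dec_inj {i j : κ} (hij : i ≠ j) {x : ι → F} (hi : x ∈ D i) (hj : x ∈ D j) : x = 0 := by
  rw [← proj_self hf (hD.nd j) hj, proj_other hf hD hij hi]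

/-- The root groups of all members lie in the decomposition stabiliser: members are invariant. -/
lemma rt_maps_member {i : κ} {u : ι → F} (hu : u ∈ D i) (l : F) (j : κ) {x : ι → F} (hx : x ∈ D j) :
    (rt hf u l : Matrix ι ι F) *ᵥ x ∈ D j := by
  rw [rt_mulVec hf]
  rcases eq_or_ne i j with rfl | h
  · exact (D i).add_mem hx ((D i).smul_mem _ hu)
  · rw [hD.orth j i (Ne.symm h) x hx u hu]; simpa using hx

/-- Replace one non-zero component by another one. -/
lemma rootIn_replace {M : Subgroup (GL ι F)} (hM : ∀ i, ∀ u ∈ D i, RootIn hf M u) {u : ι → F}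
    (hu : RootIn hf M u) (i : κ) (h0 : proj hf (hD.nd i) u ≠ 0) {b : ι → F} (hb : b ∈ D i)
    (hb0 : b ≠ 0) : RootIn hf M (u - proj hf (hD.nd i) u + b) := by
  obtain ⟨g, hg, hga⟩ := exists_move hf (hD.nd i) (proj_mem hf (hD.nd i) u) hb h0 hb0
  have hgM : g ∈ M := (Subgroup.closure_le M).2 (by rintro _ ⟨x, hx, l, rfl⟩; exact hM i x hx l) hg
  have hfix : (g : Matrix ι ι F) *ᵥ (u - proj hf (hD.nd i) u) = u - proj hf (hD.nd i) u :=
    closure_roots_fix hf (D i) (fun x hx => proj_orth hf (hD.nd i) u hx) hg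
  have h := hu.conj hf hgM (closure_roots_le_iso hf _ hg)
  rw [← sub_add_cancel u (proj hf (hD.nd i) u), mulVec_add, hfix, hga] at h
  exact h

/-- From any root vector with two non-zero components, a root vector with exactly these two. -/
lemma rootIn_two_of_many {M : Subgroup (GL ι F)} (hM : ∀ i, ∀ u ∈ D i, RootIn hf M u)
    (hroom : ∀ i, ∀ a ∈ D i, a ≠ 0 → ∃ b ∈ D i, b ≠ 0 ∧ b ≠ a ∧ f a b = 0)
    {u : ι → F} (hu : RootIn hf M u) {i j : κ} (hij : i ≠ j)
    (hi : proj hf (hD.nd i) u ≠ 0) (hj : proj hf (hD.nd j) u ≠ 0) :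
    ∃ a ∈ D i, ∃ b ∈ D j, a ≠ 0 ∧ b ≠ 0 ∧ RootIn hf M (a + b) := by
  set ai := proj hf (hD.nd i) u with hai
  set aj := proj hf (hD.nd j) u with haj
  obtain ⟨bi, hbi, hbi1⟩ := hD.nd i ai (proj_mem hf _ u) hi
  obtain ⟨bj, hbj, hbj0, hbja, hbj1⟩ := hroom j aj (proj_mem hf _ u) hj
  have hbi0 : bi ≠ 0 := by rintro rfl; rw [f_zero_right hf] at hbi1; exact zero_ne_one hbi1
  have h1 : RootIn hf M (u - ai + bi) := rootIn_replace hf hD hM hu i hi hbi hbi0
  have hpj : proj hf (hD.nd j) (u - ai + bi) = aj := by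
    rw [proj_add hf, proj_sub hf, proj_other hf hD hij (proj_mem hf _ u),
      proj_other hf hD hij hbi, sub_zero, add_zero]
  have h2 : RootIn hf M (u - ai + bi - aj + bj) := by
    have := rootIn_replace hf hD hM h1 j (hpj.symm ▸ hj) hbj hbj0
    rwa [hpj] at this
  have hf1 : f u (u - ai + bi - aj + bj) = 1 := by
    rw [f_add_right hf, f_sub_right hf, f_add_right hf, f_sub_right hf, f_self hf,
      f_proj hf (hD.nd i) u hbi, f_proj hf (hD.nd j) u hbj, f_proj hf (hD.nd i) u (proj_mem hf _ u),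
      f_proj hf (hD.nd j) u (proj_mem hf _ u), f_self hf, f_self hf, ← hai, ← haj, hbi1, hbj1]
    ring
  have h3 := hu.step hf h2 (-1)
  rw [hf1, mul_one, neg_one_smul] at h3
  refine ⟨ai - bi, (D i).sub_mem (proj_mem hf _ u) hbi, aj - bj,
    (D j).sub_mem (proj_mem hf _ u) hbj, ?_, ?_, ?_⟩
  · intro h
    rw [sub_eq_zero] at h
    rw [← h, f_self hf] at hbi1
    exact zero_ne_one hbi1
  · exact sub_ne_zero.2 (Ne.symm hbja)
  · convert h3 using 1
    abel

/-- If all two-component vectors carry roots, all vectors do. -/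
lemma rootIn_all {M : Subgroup (GL ι F)} (hM : ∀ i, ∀ u ∈ D i, RootIn hf M u)
    (htwo : ∀ i j, i ≠ j → ∀ a ∈ D i, ∀ b ∈ D j, a ≠ 0 → b ≠ 0 → RootIn hf M (a + b)) :
    ∀ u, RootIn hf M u := by
  classical
  suffices ∀ (s : Finset κ) (u : ι → F), (∀ i, i ∉ s → proj hf (hD.nd i) u = 0) → RootIn hf M u
    from fun u => this Finset.univ u fun i hi => absurd (Finset.mem_univ i) hi
  intro s
  induction s using Finset.strongInduction with
  | _ s ih =>
    intro u hu
    have hsum := sum_proj hf hD u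
    by_cases hall : ∀ i ∈ s, proj hf (hD.nd i) u ≠ 0
    · rcases s.eq_empty_or_nonempty with rfl | ⟨b, hb⟩
      · rw [Finset.sum_eq_zero fun i _ => hu i (Finset.notMem_empty i)] at hsum
        rw [← hsum]
        exact rootIn_zero hf M
      by_cases hs : ∀ c ∈ s, c = b
      · rw [Finset.sum_eq_single b (fun i _ hib => hu i fun hi => hib (hs i hi))
          (fun h => absurd (Finset.mem_univ b) h)] at hsum
        rw [← hsum]
        exact hM b _ (proj_mem hf _ u)
      push Not at hs
      obtain ⟨c, hc, hcb⟩ := hs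
      set ub := proj hf (hD.nd b) u with hub
      set uc := proj hf (hD.nd c) u with huc
      obtain ⟨z, hz, hz1⟩ := hD.nd b ub (proj_mem hf _ u) (hall b hb)
      have hz0 : z ≠ 0 := by rintro rfl; rw [f_zero_right hf] at hz1; exact zero_ne_one hz1
      have hw : RootIn hf M (u - uc - z) := by
        refine ih (s.erase c) (Finset.erase_ssubset hc) _ fun i hi => ?_
        rcases eq_or_ne i c with rfl | hic
        · rw [proj_sub hf, proj_sub hf, proj_self hf _ (proj_mem hf _ u),
            proj_other hf hD (Ne.symm hcb) hz, ← huc, sub_self, sub_zero]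
        · have his : i ∉ s := fun h => hi (Finset.mem_erase.2 ⟨hic, h⟩)
          have hib : b ≠ i := fun h => his (h ▸ hb)
          rw [proj_sub hf, proj_sub hf, proj_other hf hD (Ne.symm hic) (proj_mem hf _ u),
            proj_other hf hD hib hz, hu i his, sub_zero, sub_zero]
      have hw' : RootIn hf M (z + uc) :=
        htwo b c (Ne.symm hcb) z hz uc (proj_mem hf _ u) hz0 (hall c hc)
      have hfw : f (u - uc - z) (z + uc) = 1 := by
        rw [f_sub_left hf, f_sub_left hf, f_add_right hf, f_add_right hf, f_add_right hf,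
          f_self hf, f_self hf, f_proj hf (hD.nd b) u hz,
          f_proj hf (hD.nd c) u (proj_mem hf _ u), f_self hf, ← hub, hz1,
          hD.orth b c (Ne.symm hcb) z hz uc (proj_mem hf _ u),
          hD.orth c b hcb uc (proj_mem hf _ u) z hz]
        ring
      have h3 := hw.step hf hw' 1
      rw [hfw, mul_one, one_smul] at h3
      convert h3 using 1
      abel
    · push Not at hall
      obtain ⟨i, hi, hi0⟩ := hall
      exact ih (s.erase i) (Finset.erase_ssubset hi) u fun j hj => by
        rcases eq_or_ne j i with rfl | hji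
        · exact hi0
        · exact hu j fun h => hj (Finset.mem_erase.2 ⟨hji, h⟩)

end Cfsg.Agent.H95
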