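/-
Swapping two orthogonal non-degenerate subspaces of equal dimension by an isometry.
-/
import Cfsg.Agent.H95.SympDecomp

set_option autoImplicit false

namespace Cfsg.Agent.H95

open scoped MatrixGroups Matrix
open Matrix Module

variable {ι : Type} [Fintype ι] [DecidableEq ι] {F : Type*} [Field F]
  {f : (ι → F) → (ι → F) → F} (hf : Geo.IsSymplecticForm f)
include hf

lemma finrank_inf_perp2 {U : Submodule F (ι → F)} {e e' : ι → F} (heU : e ∈ U) (heU' : e' ∈ U)
    (he : f e e' = 1) : finrank F ↥(U ⊓ perp2 hf e e') + 2 = finrank F U := by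
  let L : U →ₗ[F] F × F :=
    { toFun := fun x => (f x e, f x e')
      map_add' := fun a b => by simp [f_add_left hf]
      map_smul' := fun c a => by simp [f_smul_left hf] }
  have hsurj : LinearMap.range L = ⊤ := by
    rw [LinearMap.range_eq_top]
    rintro ⟨a, b⟩
    refine ⟨⟨b • e - a • e', U.sub_mem (U.smul_mem _ heU) (U.smul_mem _ heU')⟩, ?_⟩
    refine Prod.ext ?_ ?_
    · show f (b • e - a • e') e = a
      rw [f_sub_left hf, f_smul_left hf, f_smul_left hf, f_self hf, f_skew hf e' e, he]; ring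
    · show f (b • e - a • e') e' = b
      rw [f_sub_left hf, f_smul_left hf, f_smul_left hf, f_self hf, he]; ring
  have hker : LinearMap.ker L = Submodule.comap U.subtype (perp2 hf e e') := by
    ext x
    rw [LinearMap.mem_ker, Submodule.mem_comap, Prod.ext_iff]
    exact Iff.rfl
  have h1 := LinearMap.finrank_range_add_finrank_ker L
  rw [hsurj, finrank_top, hker, finrank_prod, finrank_self] at h1
  rw [← Submodule.map_comap_subtype U (perp2 hf e e'), Submodule.finrank_map_subtype_eq]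
  omega

/-- The map exchanging two orthogonal hyperbolic pairs. -/
lemma exists_swap_pair {e e' d d' : ι → F} (he : f e e' = 1) (hd : f d d' = 1) (h1 : f e d = 0)
    (h2 : f e d' = 0) (h3 : f e' d = 0) (h4 : f e' d' = 0) :
    ∃ σ ∈ isoGrp f, (σ : Matrix ι ι F) *ᵥ e = d ∧ (σ : Matrix ι ι F) *ᵥ e' = d' ∧
      (σ : Matrix ι ι F) *ᵥ d = e ∧ (σ : Matrix ι ι F) *ᵥ d' = e' ∧
      ∀ x, f x e = 0 → f x e' = 0 → f x d = 0 → f x d' = 0 → (σ : Matrix ι ι F) *ᵥ x = x := by
  set v := e - d with hv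
  set w := e' - d' with hw
  set A : Matrix ι ι F := 1 - vecMulVec v (dv f w) + vecMulVec w (dv f v) with hA
  have hAx : ∀ x, A *ᵥ x = x - f x w • v + f x v • w := by
    intro x
    have key : ∀ p q : ι → F, vecMulVec p (dv f q) *ᵥ x = f x q • p := by
      intro p q
      rw [show vecMulVec p (dv f q) = tvMat p (dv f q) - 1 by simp [tvMat], sub_mulVec,
        tvMat_mulVec, one_mulVec, dv_dot hf]
      abel
    rw [hA, add_mulVec, sub_mulVec, one_mulVec, key, key]
  have hvw : f v w = 2 := by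
    rw [hv, hw, f_sub_left hf, f_sub_right hf, f_sub_right hf, he, hd, h2, f_symm_zero hf h3]
    ring
  have hwv : f w v = -2 := by rw [f_skew hf, hvw]
  have hAA : A * A = 1 := by
    refine mat_ext fun x => ?_
    have e1 : f (x - f x w • v + f x v • w) w = -f x w := by
      rw [f_add_left hf, f_sub_left hf, f_smul_left hf, f_smul_left hf, hvw, f_self hf]; ring
    have e2 : f (x - f x w • v + f x v • w) v = -f x v := by
      rw [f_add_left hf, f_sub_left hf, f_smul_left hf, f_smul_left hf, hwv, f_self hf]; ring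
    rw [← mulVec_mulVec, one_mulVec, hAx, hAx, e1, e2, neg_smul, neg_smul]
    abel
  refine ⟨⟨A, A, hAA, hAA⟩, ?_, ?_, ?_, ?_, ?_, ?_⟩
  · rw [mem_isoGrp]
    intro x y
    show f (A *ᵥ x) (A *ᵥ y) = f x y
    simp only [hAx, f_add_left hf, f_sub_left hf, f_smul_left hf, f_add_right hf, f_sub_right hf,
      f_smul_right hf, f_self hf, hvw, hwv]
    rw [f_skew hf v y, f_skew hf w y]
    ring
  · have e1 : f e w = 1 := by rw [hw, f_sub_right hf, he, h2, sub_zero]
    have e2 : f e v = 0 := by rw [hv, f_sub_right hf, f_self hf, h1, sub_zero]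
    show A *ᵥ e = d
    rw [hAx, e1, e2, hv]; simp
  · have e1 : f e' w = 0 := by rw [hw, f_sub_right hf, f_self hf, h4, sub_zero]
    have e2 : f e' v = -1 := by rw [hv, f_sub_right hf, h3, sub_zero, f_skew hf, he]
    show A *ᵥ e' = d'
    rw [hAx, e1, e2, hw]; simp
  · have e1 : f d w = -1 := by rw [hw, f_sub_right hf, f_symm_zero hf h3, hd]; ring
    have e2 : f d v = 0 := by rw [hv, f_sub_right hf, f_self hf, f_symm_zero hf h1, sub_zero]
    show A *ᵥ d = e
    rw [hAx, e1, e2, hv]; simp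
  · have e1 : f d' w = 0 := by rw [hw, f_sub_right hf, f_self hf, f_symm_zero hf h4, sub_zero]
    have e2 : f d' v = 1 := by rw [hv, f_sub_right hf, f_symm_zero hf h2, f_skew hf, hd]; ring
    show A *ᵥ d' = e'
    rw [hAx, e1, e2, hw]; simp
  · intro x a b c g
    show A *ᵥ x = x
    rw [hAx, hv, hw, f_sub_right hf, f_sub_right hf, a, b, c, g]; simp

/-- Two orthogonal non-degenerate subspaces of equal dimension are swapped by an isometry. -/
lemma exists_swap (U V : Submodule F (ι → F)) (hU : NdOn f U) (hV : NdOn f V)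
    (ho : ∀ u ∈ U, ∀ v ∈ V, f u v = 0) (hdim : finrank F U = finrank F V) :
    ∃ σ ∈ isoGrp f, (∀ u ∈ U, (σ : Matrix ι ι F) *ᵥ u ∈ V) ∧
      (∀ v ∈ V, (σ : Matrix ι ι F) *ᵥ v ∈ U) ∧
      ∀ x, (∀ u ∈ U, f x u = 0) → (∀ v ∈ V, f x v = 0) → (σ : Matrix ι ι F) *ᵥ x = x := by
  induction U using WellFoundedLT.induction generalizing V with
  | _ U ih =>
    by_cases hUb : U = ⊥
    · have hVb : V = ⊥ := by
        rw [hUb, finrank_bot] at hdim
        exact Submodule.finrank_eq_zero.1 hdim.symm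
      refine ⟨1, Subgroup.one_mem _, ?_, ?_, fun x _ _ => by simp⟩
      · intro u hu
        rw [hUb, Submodule.mem_bot] at hu
        simp [hu]
      · intro u hu
        rw [hVb, Submodule.mem_bot] at hu
        simp [hu]
    obtain ⟨e, heU, he0⟩ := U.ne_bot_iff.1 hUb
    obtain ⟨e', heU', he⟩ := hU e heU he0
    have hVb : V ≠ ⊥ := by
      rintro rfl
      rw [finrank_bot] at hdim
      exact hUb (Submodule.finrank_eq_zero.1 hdim)
    obtain ⟨d, hdV, hd0⟩ := V.ne_bot_iff.1 hVb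
    obtain ⟨d', hdV', hd⟩ := hV d hdV hd0
    obtain ⟨σ, hσ, s1, s2, s3, s4, s5⟩ := exists_swap_pair hf he hd (ho e heU d hdV)
      (ho e heU d' hdV') (ho e' heU' d hdV) (ho e' heU' d' hdV')
    have hn1 := finrank_inf_perp2 hf heU heU' he
    have hn2 := finrank_inf_perp2 hf hdV hdV' hd
    obtain ⟨τ, hτ, t1, t2, t3⟩ := ih _ (NdOn.perp_lt hf heU he) (V ⊓ perp2 hf d d')
      (ndOn_inf_perp2 hf hU heU heU' he) (ndOn_inf_perp2 hf hV hdV hdV' hd)
      (fun u hu v hv => ho u hu.1 v hv.1) (by omega)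
    -- τ fixes the pairs, σ fixes the complements
    have te : (τ : Matrix ι ι F) *ᵥ e = e :=
      t3 e (fun u hu => f_symm_zero hf hu.2.1) (fun v hv => ho e heU v hv.1)
    have te' : (τ : Matrix ι ι F) *ᵥ e' = e' :=
      t3 e' (fun u hu => f_symm_zero hf hu.2.2) (fun v hv => ho e' heU' v hv.1)
    have td : (τ : Matrix ι ι F) *ᵥ d = d :=
      t3 d (fun u hu => f_symm_zero hf (ho u hu.1 d hdV)) (fun v hv => f_symm_zero hf hv.2.1)
    have td' : (τ : Matrix ι ι F) *ᵥ d' = d' :=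
      t3 d' (fun u hu => f_symm_zero hf (ho u hu.1 d' hdV')) (fun v hv => f_symm_zero hf hv.2.2)
    have sU : ∀ u ∈ U ⊓ perp2 hf e e', (σ : Matrix ι ι F) *ᵥ u = u := fun u hu =>
      s5 u hu.2.1 hu.2.2 (ho u hu.1 d hdV) (ho u hu.1 d' hdV')
    have sV : ∀ v ∈ V ⊓ perp2 hf d d', (σ : Matrix ι ι F) *ᵥ v = v := fun v hv =>
      s5 v (f_symm_zero hf (ho e heU v hv.1)) (f_symm_zero hf (ho e' heU' v hv.1)) hv.2.1 hv.2.2
    refine ⟨σ * τ, Subgroup.mul_mem _ hσ hτ, ?_, ?_, ?_⟩
    · intro u hu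
      set p := f u e' • e - f u e • e' with hp
      have hu' : u - p ∈ U ⊓ perp2 hf e e' :=
        ⟨U.sub_mem hu (U.sub_mem (U.smul_mem _ heU) (U.smul_mem _ heU')), proj2_perp hf he u⟩
      have a1 : ((σ * τ : GL ι F) : Matrix ι ι F) *ᵥ (u - p) = (τ : Matrix ι ι F) *ᵥ (u - p) := by
        rw [mul_mulVec, sV _ (t1 _ hu')]
      have a2 : ((σ * τ : GL ι F) : Matrix ι ι F) *ᵥ p = f u e' • d - f u e • d' := by
        rw [hp, mulVec_sub, mulVec_smul, mulVec_smul, mul_mulVec, mul_mulVec, te, te', s1, s2]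
      rw [← sub_add_cancel u p, mulVec_add, a1, a2]
      exact V.add_mem (t1 _ hu').1 (V.sub_mem (V.smul_mem _ hdV) (V.smul_mem _ hdV'))
    · intro u hu
      set p := f u d' • d - f u d • d' with hp
      have hu' : u - p ∈ V ⊓ perp2 hf d d' :=
        ⟨V.sub_mem hu (V.sub_mem (V.smul_mem _ hdV) (V.smul_mem _ hdV')), proj2_perp hf hd u⟩
      have a1 : ((σ * τ : GL ι F) : Matrix ι ι F) *ᵥ (u - p) = (τ : Matrix ι ι F) *ᵥ (u - p) := by
        rw [mul_mulVec, sU _ (t2 _ hu')]
      have a2 : ((σ * τ : GL ι F) : Matrix ι ι F) *ᵥ p = f u d' • e - f u d • e' := by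
        rw [hp, mulVec_sub, mulVec_smul, mulVec_smul, mul_mulVec, mul_mulVec, td, td', s3, s4]
      rw [← sub_add_cancel u p, mulVec_add, a1, a2]
      exact U.add_mem (t2 _ hu').1 (U.sub_mem (U.smul_mem _ heU) (U.smul_mem _ heU'))
    · intro x hxU hxV
      rw [mul_mulVec, t3 x (fun u hu => hxU u hu.1) (fun v hv => hxV v hv.1),
        s5 x (hxU e heU) (hxU e' heU') (hxV d hdV) (hxV d' hdV')]

end Cfsg.Agent.H95
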