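import Cfsg.Agent.H95.GolayStab
import Cfsg.Agent.H95.CertOctadOct
import Cfsg.Agent.Golay.Stabilisers

/-!
Joint stabilisers of two octads; the disjointness pattern of octad pairs.
-/

set_option autoImplicit false

namespace Cfsg.Agent.H95

open Cfsg Cfsg.Agent.Golay
open scoped Pointwise

lemma card_octad_stab {o : Finset GolayPt} (ho : o ∈ octads) :
    Nat.card (MulAction.stabilizer M24 o) = 322560 := by
  have horb : MulAction.orbit M24 o = octads := by
    ext x
    constructor
    · rintro ⟨g, rfl⟩; exact smul_mem_octads g.2 ho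
    · intro hx
      obtain ⟨g, hg⟩ := exists_M24_map_octad ho hx
      exact ⟨g, hg⟩
  have h := Subgroup.card_mul_index (MulAction.stabilizer M24 o)
  rw [MulAction.index_stabilizer, horb, ncard_octads, card_M24] at h
  omega

lemma card_dodecad_stab {d : Finset GolayPt} (hd : d ∈ dodecads) :
    Nat.card (MulAction.stabilizer M24 d) = 95040 := by
  obtain ⟨e⟩ := exists_dodecad_stab_iso hd
  rw [Nat.card_congr e.toEquiv, card_spor_M12]

lemma card_inf_stabilizer_mul {G β : Type*} [Group G] [MulAction G β] (H : Subgroup G) (x : β) :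
    Nat.card ↥(H ⊓ MulAction.stabilizer G x) * (MulAction.orbit H x).ncard = Nat.card H := by
  have h1 : MulAction.stabilizer H x = (H ⊓ MulAction.stabilizer G x).subgroupOf H := by
    ext g
    simp [Subgroup.mem_subgroupOf, Subgroup.smul_def]
  have h2 := Subgroup.card_mul_index (MulAction.stabilizer H x)
  rw [MulAction.index_stabilizer, h1] at h2
  rw [← h2, Nat.card_congr (Subgroup.subgroupOfEquivOfLe
    (show H ⊓ MulAction.stabilizer G x ≤ H from inf_le_left)).toEquiv]

lemma octadBase_eq : octadBase = [8536111] := rfl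

lemma octad_orbit_data :
    (octadOctSing.all fun c =>
      (invL octadBase c.1 != 1 || (classL octadGens c).length == 30) &&
      (invL octadBase c.1 != (16 ^ 4) ^ 3 || (classL octadGens c).length == 280) &&
      (invL octadBase c.1 != (16 ^ 2) ^ 3 || (classL octadGens c).length == 448)) = true := by
  decide +kernel

/-- Orbit sizes of an octad stabiliser on octads. -/
theorem ncard_octad_orbit {o o' : Finset GolayPt} (ho : o ∈ octads) (ho' : o' ∈ octads) :
    ((o ∩ o').card = 0 →
      (MulAction.orbit (MulAction.stabilizer M24 o) o').ncard = 30) ∧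
    ((o ∩ o').card = 4 →
      (MulAction.orbit (MulAction.stabilizer M24 o) o').ncard = 280) ∧
    ((o ∩ o').card = 2 →
      (MulAction.orbit (MulAction.stabilizer M24 o) o').ncard = 448) := by
  obtain ⟨g, hg⟩ := exists_smul_octadSys octadBase_ok ho
  have hroot : ∀ c ∈ octadOctSing, sysOf c.1 ∈ octadSys := fun c hc =>
    octadSys_of_isOctB (List.all_eq_true.1 octadOctSing_roots c hc)
  obtain ⟨h1, h2⟩ := orbit_split octadOctSing_cert octadSys_smul ncard_octadSys.le hroot g
  have hmem : ({o'} : Finset (Finset GolayPt)) ∈ octadSys := ⟨o', ho', rfl⟩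
  rw [h2] at hmem
  obtain ⟨c, hc, hoc⟩ := hmem
  have hn : (MulAction.orbit (MulAction.stabilizer M24 o) o').ncard
      = (classL octadGens c).length := by
    have h3 := (h1 c hc).2
    rw [← MulAction.orbit_eq_iff.2 hoc, hg, stabilizer_singleton_sys, orbit_singleton_sys,
      Set.ncard_image_of_injective _ (fun a b h => by simpa using h)] at h3
    exact h3
  have hv : invL octadBase c.1 = (16 ^ (o ∩ o').card) ^ 3 := by
    obtain ⟨⟨h, hh⟩, he⟩ := hoc
    have hA : GoodSys octadBase := goodSys_of_goodB (by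
      have h' := octadOctSing_cert
      simp only [orbitCert, Bool.and_eq_true] at h'
      exact h'.1.1.1.1.1.1)
    have hB : GoodSys c.1 :=
      (orbitCert_mem octadOctSing_cert hc (B := c.1) (by
        rw [classL]
        cases c.2 <;> simp [reach])).1
    rw [← invF_sysOf hA hB, ← invF_smul ((h * g : M24) : Equiv.Perm GolayPt)]
    have e1 : (h * g) • sysOf octadBase = {o} := by
      rw [mul_smul, show h • g • sysOf octadBase = g • sysOf octadBase from hh, hg]
    have e2 : (h * g) • sysOf c.1 = {o'} := by rw [mul_smul]; exact he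
    rw [show ((h * g : M24) : Equiv.Perm GolayPt) • sysOf octadBase = {o} from e1,
      show ((h * g : M24) : Equiv.Perm GolayPt) • sysOf c.1 = {o'} from e2]
    simp [invF]
  have hd := List.all_eq_true.1 octad_orbit_data c hc
  simp only [Bool.and_eq_true, Bool.or_eq_true, bne_iff_ne, beq_iff_eq] at hd
  obtain ⟨⟨d0, d4⟩, d2⟩ := hd
  refine ⟨fun hk => ?_, fun hk => ?_, fun hk => ?_⟩ <;> rw [hn]
  · exact d0.resolve_left (fun hh => hh (by rw [hv, hk]; rfl))
  · exact d4.resolve_left (fun hh => hh (by rw [hv, hk]))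
  · exact d2.resolve_left (fun hh => hh (by rw [hv, hk]))

/-! ### Disjointness pattern -/

/-- Octads disjoint from the base octad. -/
def baseDisjoint : List ℕ := octadList.filter fun d => Nat.beq (Nat.land d 8536111) 0

lemma octad_pattern :
    (octadList.all fun b =>
      (Nat.beq (pc24 (Nat.land 8536111 b)) 0 || Nat.beq (pc24 (Nat.land 8536111 b)) 2 ||
        Nat.beq (pc24 (Nat.land 8536111 b)) 4 || Nat.beq b 8536111) &&
      (!Nat.beq (pc24 (Nat.land 8536111 b)) 4 ||
        baseDisjoint.any fun d => Nat.beq (Nat.land d b) 0) &&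
      (!Nat.beq (pc24 (Nat.land 8536111 b)) 2 ||
        ((baseDisjoint.all fun d => !Nat.beq (Nat.land d b) 0) &&
          baseDisjoint.any fun d => Nat.beq (pc24 (Nat.land d b)) 4))) = true := by
  decide +kernel

/-- Two distinct octads meet in 0, 2 or 4 points; they have a common disjoint octad if they meet
in 4, none if in 2, and then one disjoint from the first meeting the second in 4. -/
theorem octad_pair_pattern {o o' : Finset GolayPt} (ho : o ∈ octads) (ho' : o' ∈ octads) :
    (o ≠ o' → (o ∩ o').card = 0 ∨ (o ∩ o').card = 2 ∨ (o ∩ o').card = 4) ∧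
    ((o ∩ o').card = 4 → ∃ a ∈ octads, Disjoint o a ∧ Disjoint a o') ∧
    ((o ∩ o').card = 2 → (∀ a ∈ octads, Disjoint o a → ¬ Disjoint a o') ∧
      ∃ a ∈ octads, Disjoint o a ∧ (a ∩ o').card = 4) := by
  have hO : ptSet 8536111 ∈ octads := by
    obtain ⟨a, ha, hea⟩ := octadSys_of_isOctB octadBase_ok
    have : a = ptSet 8536111 := by simpa [octadBase_eq, sysOf] using hea
    exact this ▸ ha
  obtain ⟨g, hg⟩ := exists_M24_map_octad ho hO
  have hb := mem_octads_iff.1 (smul_mem_octads g.2 ho')
  set b := maskOf ((g : Equiv.Perm GolayPt) • o') with hbdef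
  have hgo : (g : Equiv.Perm GolayPt) • o = ptSet 8536111 := hg
  have hgo' : (g : Equiv.Perm GolayPt) • o' = ptSet b := (ptSet_maskOf _).symm
  have hc : ∀ (d : ℕ) (x y : Finset GolayPt), (g : Equiv.Perm GolayPt) • x = ptSet d →
      (g : Equiv.Perm GolayPt) • y = ptSet b → (x ∩ y).card = pc24 (Nat.land d b) := by
    intro d x y hx hy
    rw [← Finset.card_smul_finset (g : Equiv.Perm GolayPt), Finset.smul_finset_inter, hx, hy,
      ← ptSet_and, card_ptSet, pc24_eq]
    rfl
  have hdis : ∀ (d e : ℕ) (x y : Finset GolayPt), d < 2 ^ 24 →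
      (g : Equiv.Perm GolayPt) • x = ptSet d → (g : Equiv.Perm GolayPt) • y = ptSet e →
      (Disjoint x y ↔ Nat.beq (Nat.land d e) 0 = true) := by
    intro d e x y hd hx hy
    rw [Nat.beq_eq, Finset.disjoint_iff_inter_eq_empty, ← Finset.card_eq_zero,
      ← Finset.card_smul_finset (g : Equiv.Perm GolayPt), Finset.smul_finset_inter, hx, hy,
      Finset.card_eq_zero, ← ptSet_and, ← ptSet_zero]
    exact ⟨fun h => ptSet_injOn (and_lt_full hd) (by norm_num) h, fun h => congrArg ptSet h⟩
  have hp := List.all_eq_true.1 octad_pattern b hb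
  simp only [Bool.and_eq_true, Bool.or_eq_true, Bool.not_eq_true', List.any_eq_true,
    List.all_eq_true] at hp
  obtain ⟨⟨p1, p4⟩, p2⟩ := hp
  have hk : (o ∩ o').card = pc24 (Nat.land 8536111 b) := hc _ _ _ hgo hgo'
  have pull : ∀ d, d ∈ baseDisjoint → ∃ a ∈ octads, (g : Equiv.Perm GolayPt) • a = ptSet d ∧
      Disjoint o a := by
    intro d hd
    obtain ⟨hdl, hd0⟩ := List.mem_filter.1 hd
    refine ⟨(g : Equiv.Perm GolayPt)⁻¹ • ptSet d,
      smul_mem_octads (inv_mem g.2) (ptSet_mem_octads hdl), smul_inv_smul _ _, ?_⟩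
    rw [disjoint_comm]
    exact (hdis _ _ _ _ (octadList_lt hdl) (smul_inv_smul _ _) hgo).2 hd0
  refine ⟨fun hne => ?_, fun h4 => ?_, fun h2 => ⟨fun a ha hoa hao' => ?_, ?_⟩⟩
  · rcases p1 with ((h | h) | h) | h
    · exact Or.inl (hk.trans (Nat.beq_eq.mp h))
    · exact Or.inr (Or.inl (hk.trans (Nat.beq_eq.mp h)))
    · exact Or.inr (Or.inr (hk.trans (Nat.beq_eq.mp h)))
    · refine absurd ?_ hne
      refine MulAction.injective (g : Equiv.Perm GolayPt) ?_
      show (g : Equiv.Perm GolayPt) • o = (g : Equiv.Perm GolayPt) • o'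
      rw [hgo, hgo', Nat.beq_eq.mp h]
  · obtain ⟨d, hd, hdb⟩ := p4.resolve_left (by rw [← hk, h4]; decide)
    obtain ⟨a, ha, hga, hoa⟩ := pull d hd
    exact ⟨a, ha, hoa, (hdis _ _ _ _ (octadList_lt (List.mem_filter.1 hd).1) hga hgo').2 hdb⟩
  · obtain ⟨hall, -⟩ := p2.resolve_left (by rw [← hk, h2]; decide)
    have hma := mem_octads_iff.1 (smul_mem_octads g.2 ha)
    have e := (ptSet_maskOf ((g : Equiv.Perm GolayPt) • a)).symm
    have h0 := (hdis _ _ _ _ (maskOf_lt _) e hgo).1 hoa.symm
    have hnb := hall _ (List.mem_filter.2 ⟨hma, h0⟩)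
    rw [(hdis _ _ _ _ (maskOf_lt _) e hgo').1 hao'] at hnb
    exact Bool.noConfusion hnb
  · obtain ⟨-, d, hd, hd4⟩ := p2.resolve_left (by rw [← hk, h2]; decide)
    obtain ⟨a, ha, hga, hoa⟩ := pull d hd
    exact ⟨a, ha, hoa, (hc _ _ _ hga hgo').trans (Nat.beq_eq.mp hd4)⟩

end Cfsg.Agent.H95
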