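import Cfsg.Agent.H95.PSUModel

/-!
Coded arithmetic for the checks on families of subspaces.
-/

set_option autoImplicit false

namespace Cfsg.Agent.H95.PSUCoded

open Cfsg.Agent.Compute Cfsg.Agent.H95.PSUModel

variable {K : Type*} [CommRing K]

/-- Field operations on codes below `size`. -/
structure Ops where
  size : ℕ
  add : ℕ → ℕ → ℕ
  mul : ℕ → ℕ → ℕ

/-- The operations are those of `K` under `d`. -/
structure Ops.Sound (o : Ops) (d : ℕ → K) : Prop where
  pos : 0 < o.size
  zero : d 0 = 0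
  add_lt : ∀ a < o.size, ∀ b < o.size, o.add a b < o.size
  mul_lt : ∀ a < o.size, ∀ b < o.size, o.mul a b < o.size
  add_eq : ∀ a < o.size, ∀ b < o.size, d (o.add a b) = d a + d b
  mul_eq : ∀ a < o.size, ∀ b < o.size, d (o.mul a b) = d a * d b
  inj : ∀ a < o.size, ∀ b < o.size, d a = d b → a = b

/-- Coded sum of the first `k` values. -/
noncomputable def Ops.sum (o : Ops) (f : ℕ → ℕ) (k : ℕ) : ℕ :=
  Nat.rec 0 (fun s acc => o.add acc (f s)) k

theorem Ops.Sound.sum_spec {o : Ops} {d : ℕ → K} (ho : o.Sound d) {f : ℕ → ℕ} :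
    ∀ {k : ℕ}, (∀ s < k, f s < o.size) →
      o.sum f k < o.size ∧ d (o.sum f k) = ∑ s : Fin k, d (f s) := by
  intro k
  induction k with
  | zero => exact fun _ => ⟨ho.pos, by simp [Ops.sum, ho.zero]⟩
  | succ k ih =>
    intro h
    obtain ⟨h1, h2⟩ := ih fun s hs => h s (Nat.lt_succ_of_lt hs)
    have e : o.sum f (k + 1) = o.add (o.sum f k) (f k) := rfl
    rw [e, Fin.sum_univ_castSucc]
    refine ⟨ho.add_lt _ h1 _ (h k (Nat.lt_succ_self k)), ?_⟩
    rw [ho.add_eq _ h1 _ (h k (Nat.lt_succ_self k)), h2]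
    rfl

/-- Coded bases and pivots. -/
structure Fam where
  base : ℕ → ℕ → ℕ → ℕ
  piv : ℕ → ℕ → ℕ

variable (o : Ops) (d : ℕ → K) (f : Fam) (n k N : ℕ)

/-- Coded membership test. -/
noncomputable def inSpC (j : ℕ) (v : ℕ → ℕ) : Bool :=
  allN n (fun c => Nat.beq (v c) (o.sum (fun s => o.mul (v (f.piv j s)) (f.base j s c)) k))

/-- All entries are codes and the pivots are positions. -/
noncomputable def boundOK : Bool :=
  allN N (fun i => allN k (fun s => Nat.ble (Nat.add (f.piv i s) 1) n &&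
    allN n (fun c => Nat.ble (Nat.add (f.base i s c) 1) o.size)))

/-- The subspaces differ. -/
noncomputable def distOK : Bool :=
  allN N (fun i => allN N (fun j =>
    Nat.beq i j || !allN k (fun s => inSpC o f n k j (fun c => f.base i s c))))

/-- The image of a vector under a coded matrix. -/
noncomputable def mulVecC (M : ℕ → ℕ → ℕ) (v : ℕ → ℕ) (r : ℕ) : ℕ :=
  o.sum (fun y => o.mul (M r y) (v y)) n

/-- A coded matrix moves the subspaces as tabulated. -/
noncomputable def mapsOK (M : ℕ → ℕ → ℕ) (σ : ℕ → ℕ) : Bool :=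
  allN n (fun r => allN n (fun c => Nat.ble (Nat.add (M r c) 1) o.size)) &&
    allN N (fun i => Nat.ble (Nat.add (σ i) 1) N && allN k (fun s =>
      inSpC o f n k (σ i) (mulVecC o n M (fun c => f.base i s c))))

variable [NeZero n]

/-- The decoded family. -/
def family : Family K n k N where
  base i s z := d (f.base i s z)
  piv i s := Fin.ofNat n (f.piv i s)

variable {o d f n k N}

omit [NeZero n] in
theorem bound (hb : boundOK o f n k N = true) {i s : ℕ} (hi : i < N) (hs : s < k) :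
    f.piv i s < n ∧ ∀ c < n, f.base i s c < o.size := by
  simp only [boundOK, allN_iff, Bool.and_eq_true, Nat.ble_eq] at hb
  exact hb i hi s hs

theorem inSpC_iff (ho : o.Sound d) (hb : boundOK o f n k N = true) {j : ℕ} (hj : j < N)
    {v : ℕ → ℕ} (hv : ∀ c < n, v c < o.size) :
    inSpC o f n k j v = true ↔ (family d f n k N).InSp ⟨j, hj⟩ (fun z => d (v z)) := by
  have hterm : ∀ c < n, ∀ s < k, o.mul (v (f.piv j s)) (f.base j s c) < o.size := fun c hc s hs =>
    ho.mul_lt _ (hv _ (bound hb hj hs).1) _ ((bound hb hj hs).2 c hc)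
  have hsum : ∀ c : Fin n, d (o.sum (fun s => o.mul (v (f.piv j s)) (f.base j s c)) k) =
      ∑ s : Fin k, (fun z : Fin n => d (v z)) ((family d f n k N).piv ⟨j, hj⟩ s) *
        (family d f n k N).base ⟨j, hj⟩ s c := by
    intro c
    rw [(ho.sum_spec (hterm c c.2)).2]
    refine Finset.sum_congr rfl fun s _ => ?_
    rw [ho.mul_eq _ (hv _ (bound hb hj s.2).1) _ ((bound hb hj s.2).2 c c.2)]
    show _ = d (v (Fin.ofNat n (f.piv j s) : Fin n)) * _
    rw [Fin.val_ofNat, Nat.mod_eq_of_lt (bound hb hj s.2).1]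
    rfl
  constructor
  · intro h c
    have h' : v c = o.sum (fun s => o.mul (v (f.piv j s)) (f.base j s c)) k :=
      Nat.eq_of_beq_eq_true ((allN_iff _ _).1 h c c.2)
    exact (congrArg d h').trans (hsum c)
  · intro h
    refine (allN_iff _ _).2 fun c hc => ?_
    rw [Nat.beq_eq]
    exact ho.inj _ (hv c hc) _ (ho.sum_spec (hterm c hc)).1 ((h ⟨c, hc⟩).trans (hsum ⟨c, hc⟩).symm)

theorem family_ok (ho : o.Sound d) (hb : boundOK o f n k N = true)
    (hd : distOK o f n k N = true)
    (hu : ∀ (i : Fin N) (s t : Fin k),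
      (family d f n k N).base i s ((family d f n k N).piv i t) = if s = t then 1 else 0) :
    (family d f n k N).OK := by
  refine ⟨hu, fun i j h => ?_⟩
  have h1 := (allN_iff _ _).1 ((allN_iff _ _).1 hd i i.2) j j.2
  rw [Bool.or_eq_true, Nat.beq_eq] at h1
  rcases h1 with h1 | h1
  · exact Fin.ext h1
  · rw [(allN_iff _ _).2 fun s hs => (inSpC_iff ho hb j.2 (bound hb i.2 hs).2).2 (h ⟨s, hs⟩)] at h1
    exact absurd h1 (by simp)

theorem maps_of_check (ho : o.Sound d) (hb : boundOK o f n k N = true) {M : ℕ → ℕ → ℕ}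
    {σ : Equiv.Perm (Fin N)} {σc : ℕ → ℕ} (h : mapsOK o f n k N M σc = true)
    (hσ : ∀ i : Fin N, (σ i : ℕ) = σc i) (i : Fin N) (s : Fin k) :
    (family d f n k N).InSp (σ i)
      (Matrix.mulVec (Matrix.of fun r c : Fin n => d (M r c)) ((family d f n k N).base i s)) := by
  simp only [mapsOK, Bool.and_eq_true, allN_iff, Nat.ble_eq] at h
  obtain ⟨hM, hmap⟩ := h
  obtain ⟨-, hms⟩ := hmap i i.2
  have hterm : ∀ r < n, ∀ y < n, o.mul (M r y) (f.base i s y) < o.size := fun r hr y hy =>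
    ho.mul_lt _ (hM r hr y hy) _ ((bound hb i.2 s.2).2 y hy)
  have hlt : ∀ r < n, mulVecC o n M (fun c => f.base i s c) r < o.size := fun r hr =>
    (ho.sum_spec (hterm r hr)).1
  have hj : σc i < N := hσ i ▸ (σ i).2
  have key := (inSpC_iff ho hb hj hlt).1 (hms s s.2)
  have e : (⟨σc i, hj⟩ : Fin N) = σ i := Fin.ext (hσ i).symm
  rw [e] at key
  convert key using 1
  funext r
  rw [mulVecC, (ho.sum_spec (hterm r r.2)).2]
  show ∑ y : Fin n, d (M r y) * d (f.base i s y) = _
  exact Finset.sum_congr rfl fun y _ =>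
    (ho.mul_eq _ (hM r r.2 y y.2) _ ((bound hb i.2 s.2).2 y y.2)).symm

end Cfsg.Agent.H95.PSUCoded
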