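import Cfsg.Agent.H95.UFourThreeData
import Cfsg.Agent.H95.PSUCoded
import Cfsg.Agent.H67.U33
import Cfsg.Agent.H92.McLOrbit

/-!
Kernel checks: U4(3) on 112 lines and the stabiliser in Co0 on 112 vectors induce the same
permutations.
-/

set_option autoImplicit false
set_option Elab.async false
set_option maxRecDepth 100000

namespace Cfsg.Agent.H95.UFourThree

open Cfsg.Agent.Compute Cfsg.Agent.H67.U33 Cfsg.Agent.H92.LeechOrbit

/-- The elements of the field by their codes. -/
def kElts : List K9 :=
  [⟨0, 0⟩, ⟨1, 0⟩, ⟨2, 0⟩, ⟨0, 1⟩, ⟨1, 1⟩, ⟨2, 1⟩, ⟨0, 2⟩, ⟨1, 2⟩, ⟨2, 2⟩]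

/-- Decode a field element. -/
noncomputable def dK (v : ℕ) : K9 := nth 0 kElts v

/-- Coded operations. -/
noncomputable def fOps : PSUCoded.Ops where
  size := 9
  add a b := getP 4 0x435102768354021687543210876102768435021687354210876543768435102687354021876543210 (Nat.add (Nat.mul 9 a) b)
  mul a b := getP 4 0x615237480138624570582471360264318750327165840741852630453786120876543210000000000 (Nat.add (Nat.mul 9 a) b)

/-- The coded lines. -/
noncomputable def fam : PSUCoded.Fam where
  base i s z := getP 4 u43Base (Nat.add (Nat.mul (Nat.add (Nat.mul i 2) s) 4) z)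
  piv i s := getP 4 u43Piv (Nat.add (Nat.mul i 2) s)

/-- The 112 lines. -/
noncomputable def lines : PSUModel.Family K9 4 2 112 := PSUCoded.family dK fam 4 2 112

/-- The matrices. -/
noncomputable def mat4 (g : ℕ) : Matrix (Fin 4) (Fin 4) K9 :=
  Matrix.of fun r c => dK (nth 0 (nth [] u43Mats g) (Nat.add (Nat.mul 4 r.1) c.1))

/-- The permutation codes. -/
noncomputable def pCode (g : ℕ) : ℕ := (nth ((0, 0), 0, 0) u43Slp g).1.1

theorem order_eq : order u43Chain = 3265920 := by decide +kernel

theorem slp_ok : PermIso.slpOK 7 112 5 (nextGens u43Chain) u43Slp = true := by decide +kernel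

theorem gen_perm_ok : allN 5 (fun g => invPerm 7 112 (pCode g)
    (nth ((0, 0), 0, 0) u43Slp g).1.2) = true := by decide +kernel

theorem unit_ok : ∀ (i : Fin 112) (s t : Fin 2),
    lines.base i s (lines.piv i t) = if s = t then 1 else 0 := by
  decide +kernel

theorem ops_ok : ∀ a b : Fin 9, fOps.add a b < 9 ∧ fOps.mul a b < 9 ∧
    dK (fOps.add a b) = dK a + dK b ∧ dK (fOps.mul a b) = dK a * dK b ∧ (dK a = dK b → a = b) := by
  decide +kernel

theorem bound_ok : PSUCoded.boundOK fOps fam 4 2 112 = true := by decide +kernel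

theorem dist_ok : PSUCoded.distOK fOps fam 4 2 112 = true := by decide +kernel

theorem form_ok : ∀ g : Fin 5,
    (mat4 g).transpose * (mat4 g).map (· ^ 3) = 1 ∧ (mat4 g).det = 1 := by
  decide +kernel

theorem maps_ok : allN 5 (fun g => PSUCoded.mapsOK fOps fam 4 2 112
    (fun r c => nth 0 (nth [] u43Mats g) (Nat.add (Nat.mul 4 r) c))
    (fun i => getP 7 (pCode g) i)) = true := by
  decide +kernel

theorem leech_gens : mclNearCert.N = 112 ∧ mclNearCert.gens.length = 5 :=
  ⟨rfl, rfl⟩

theorem chk_ok : allN 5 (fun g => allN 112 (fun i =>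
    chk (nth [] mclNearCert.gens g) (mclNearCert.code i)
      (mclNearCert.code (getP 7 (pCode g) i)))) = true := by
  decide +kernel

end Cfsg.Agent.H95.UFourThree
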