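import Cfsg.Agent.H95.PSUModel

/-!
Distinctness of a family of subspaces which is permuted transitively by injective linear maps.
-/

set_option autoImplicit false

namespace Cfsg.Agent.H95.PSUModel

open Matrix

variable {K : Type*} [CommRing K] {n k N : ℕ}

/-- The vectors of a member. -/
def Family.carrier (L : Family K n k N) (j : Fin N) : Set (Fin n → K) := {v | L.InSp j v}

theorem Family.comb_mem (L : Family K n k N)
    (hu : ∀ i s t, L.base i s (L.piv i t) = if s = t then 1 else 0) (j : Fin N) (c : Fin k → K) :
    (fun z => ∑ s, c s * L.base j s z) ∈ L.carrier j := by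
  intro z
  refine Finset.sum_congr rfl fun t _ => ?_
  simp [hu j]

/-- Coordinates on a member. -/
def Family.coordEquiv (L : Family K n k N)
    (hu : ∀ i s t, L.base i s (L.piv i t) = if s = t then 1 else 0) (j : Fin N) :
    (Fin k → K) ≃ L.carrier j where
  toFun c := ⟨_, L.comb_mem hu j c⟩
  invFun v t := v.1 (L.piv j t)
  left_inv c := by
    funext t
    simp [hu j]
  right_inv v := Subtype.ext (funext fun z => (v.2 z).symm)

theorem Family.mulVec_comb (L : Family K n k N) (M : Matrix (Fin n) (Fin n) K) (i : Fin N)
    (c : Fin k → K) :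
    M *ᵥ (fun z => ∑ s, c s * L.base i s z) = fun z => ∑ s, c s * (M *ᵥ L.base i s) z := by
  funext z
  simp only [Matrix.mulVec, dotProduct, Finset.mul_sum]
  rw [Finset.sum_comm]
  exact Finset.sum_congr rfl fun s _ => Finset.sum_congr rfl fun y _ => by ring

theorem Family.dist_of_root [Finite K] (L : Family K n k N)
    (hu : ∀ i s t, L.base i s (L.piv i t) = if s = t then 1 else 0)
    {S : Set (Equiv.Perm (Fin N))}
    (hS : ∀ σ ∈ S, ∃ M : Matrix (Fin n) (Fin n) K, Function.Injective (fun v => M *ᵥ v) ∧
      ∀ i s, L.InSp (σ i) (M *ᵥ L.base i s))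
    (r : Fin N) (htrans : ∀ i, ∃ σ ∈ Subgroup.closure S, σ i = r)
    (hroot : ∀ j, (∀ s, L.InSp j (L.base r s)) → r = j) : L.OK := by
  refine ⟨hu, fun i j hij => ?_⟩
  have hsub : L.carrier i ⊆ L.carrier j := by
    intro v hv z
    calc v z = ∑ s, v (L.piv i s) * L.base i s z := hv z
      _ = ∑ t, (∑ s, v (L.piv i s) * L.base i s (L.piv j t)) * L.base j t z := by
          simp_rw [Finset.sum_mul]
          rw [Finset.sum_comm]
          refine Finset.sum_congr rfl fun s _ => ?_
          rw [hij s z, Finset.mul_sum]
          exact Finset.sum_congr rfl fun t _ => (mul_assoc _ _ _).symm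
      _ = _ := Finset.sum_congr rfl fun t _ => by rw [← hv (L.piv j t)]
  have key : ∀ σ ∈ Subgroup.closure S, ∀ a b, L.carrier a ⊆ L.carrier b →
      L.carrier (σ a) ⊆ L.carrier (σ b) := by
    intro σ hσ
    rw [← Subgroup.mem_toSubmonoid, Subgroup.closure_toSubmonoid_of_finite] at hσ
    induction hσ using Submonoid.closure_induction with
    | one => exact fun a b h => h
    | mul x y _ _ hx hy => exact fun a b h => hx _ _ (hy a b h)
    | mem x hx =>
      obtain ⟨M, hM, hmap⟩ := hS x hx
      intro a b h
      have himg : ∀ c, (fun v => M *ᵥ v) '' L.carrier c = L.carrier (x c) := by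
        intro c
        have hle : (fun v => M *ᵥ v) '' L.carrier c ⊆ L.carrier (x c) := by
          rintro _ ⟨v, hv, rfl⟩ z
          have e : v = fun y => ∑ s, v (L.piv c s) * L.base c s y := funext hv
          simp only
          rw [e, L.mulVec_comb]
          simp only [Finset.sum_mul]
          rw [Finset.sum_comm]
          refine Finset.sum_congr rfl fun s _ => ?_
          rw [hmap c s z, Finset.mul_sum]
          exact Finset.sum_congr rfl fun t _ => (mul_assoc _ _ _).symm
        refine Set.eq_of_subset_of_ncard_le hle ?_ (Set.toFinite _)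
        rw [Set.ncard_image_of_injective _ hM, ← Nat.card_coe_set_eq, ← Nat.card_coe_set_eq,
          ← Nat.card_congr (L.coordEquiv hu c), ← Nat.card_congr (L.coordEquiv hu (x c))]
      rw [← himg, ← himg]
      exact Set.image_mono h
  obtain ⟨σ, hσ, hi⟩ := htrans i
  have h2 := key σ hσ i j hsub
  rw [hi] at h2
  have h3 := hroot (σ j) fun s => h2 (fun z => by simp [hu r])
  exact σ.injective (hi.trans h3)

end Cfsg.Agent.H95.PSUModel
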