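import Cfsg.Agent.H95.USixTwoData
import Cfsg.Agent.H95.USixTwoPerms

/-!
Kernel checks of the orbit certificate and of the action of its generators.
-/

set_option autoImplicit false
set_option Elab.async false
set_option maxRecDepth 100000

namespace Cfsg.Agent.H95.USixTwo

open Cfsg.Agent.Compute

open Cfsg.Agent.H92.LeechOrbit

theorem usixCert_ok : certOK usixCert = true := by decide +kernel

theorem usix_len : usixCert.N = 891 ∧ usixCert.gens.length = 2 := ⟨rfl, rfl⟩

theorem chk_ok : allN 2 (fun g => allN 891 (fun i =>
    chk (nth [] usixCert.gens g) (usixCert.code i)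
      (usixCert.code (getP 10 (nth ((0, 0), 0, 0) u62Slp g).1.1 i)))) = true := by
  decide +kernel

end Cfsg.Agent.H95.USixTwo
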