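import Cfsg.Agent.H95.USixTwoPerms

/-!
Kernel check of the orbit trees of U6(2) on 891 points.
-/

set_option autoImplicit false
set_option Elab.async false
set_option maxRecDepth 100000

namespace Cfsg.Agent.H95.USixTwo

open Cfsg.Agent.Compute

theorem low_ok : PermLower.lowOK 10 891 u62Slp u62Steps [] = true := by decide +kernel

theorem bound_eq : PermLower.bound u62Steps = 9196830720 := by decide +kernel

theorem head_eq : ∃ s t, u62Steps = s :: t ∧ s.orb.length = 891 ∧ s.base = 1 :=
  ⟨_, _, rfl, by decide +kernel, by decide +kernel⟩

theorem slp_len : Nat.ble 2 u62Slp.length = true := by decide +kernel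

end Cfsg.Agent.H95.USixTwo
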