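import Cfsg.Agent.H95.USixTwoPerms

/-!
Kernel check of the straight-line program of U6(2) on 891 points.
-/

set_option autoImplicit false
set_option Elab.async false
set_option maxRecDepth 100000

namespace Cfsg.Agent.H95.USixTwo

open Cfsg.Agent.Compute

theorem slp_ok : PermIso.slpOK 10 891 2 (u62Slp.map Prod.fst) u62Slp = true := by decide +kernel

end Cfsg.Agent.H95.USixTwo
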