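import Cfsg.Agent.H95.USixTwoCheck
import Cfsg.Agent.H95.USixTwoCheckLow
import Cfsg.Agent.H95.USixTwoCheckSlp
import Cfsg.Agent.H95.USixTwoCert
import Cfsg.Agent.H95.FamilyDist
import Cfsg.Agent.H95.LeechPermIso
import Cfsg.Agent.Golay.ConwayOrders
import Cfsg.Agent.Unitary.Order

/-!
The stabiliser of two minimal vectors with inner product -16 is U6(2).
-/

set_option autoImplicit false
set_option maxRecDepth 8000

namespace Cfsg.Agent.H95.USixTwo

open Cfsg Cfsg.Agent.Compute Cfsg.Agent.Golay Cfsg.Agent.H92.LeechOrbit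
open scoped Pointwise

attribute [local irreducible] PermLower.lowOK PermIso.slpOK chk certOK u62Slp u62Steps u62Mats
  usixCertData permDen getP

theorem two_pow_ten : (891 : ℕ) ≤ 2 ^ 10 := by norm_num

/-- The two generating permutations. -/
noncomputable def genSet : Set (Equiv.Perm (Fin 891)) :=
  {σ | ∃ k < 2, σ = permDen 10 891 (pCode k)}

/-- The permutation group on 891 planes. -/
noncomputable def planeGrp : Subgroup (Equiv.Perm (Fin 891)) := Subgroup.closure genSet

theorem planeGrp_eq : planeGrp = PermLower.genGrp 10 891 2 u62Slp := rfl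

theorem card_planeGrp : 9196830720 ≤ Nat.card planeGrp := by
  rw [planeGrp_eq, ← bound_eq]
  exact PermLower.card_ge two_pow_ten slp_ok low_ok

theorem pCode_spec {g : ℕ} (hg : g < 2) (i : Fin 891) :
    (permDen 10 891 (pCode g) i : ℕ) = getP 10 (pCode g) i :=
  permDen_apply (PermLower.entry_mem (m := 2) two_pow_ten slp_ok
    (lt_of_lt_of_le hg (Nat.le_of_ble_eq_true slp_len))).1 i

theorem sound_ops : fOps.Sound dK := by
  refine ⟨by norm_num [fOps], rfl, ?_, ?_, ?_, ?_, ?_⟩ <;> intro a ha b hb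
  · exact (ops_ok ⟨a, ha⟩ ⟨b, hb⟩).1
  · exact (ops_ok ⟨a, ha⟩ ⟨b, hb⟩).2.1
  · exact (ops_ok ⟨a, ha⟩ ⟨b, hb⟩).2.2.1
  · exact (ops_ok ⟨a, ha⟩ ⟨b, hb⟩).2.2.2.1
  · intro h
    exact congrArg Fin.val ((ops_ok ⟨a, ha⟩ ⟨b, hb⟩).2.2.2.2 h)

theorem planes_unit (i : Fin 891) (s t : Fin 3) :
    planes.base i s (planes.piv i t) = if s = t then 1 else 0 := by
  have h := (allN_iff _ _).1 ((allN_iff _ _).1 ((allN_iff _ _).1 unit_ok i i.2) s s.2) t t.2
  rw [Nat.beq_eq] at h
  have hp := (PSUCoded.bound (n := 6) bound_ok i.2 t.2).1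
  show dK (fam.base i s (Fin.ofNat 6 (fam.piv i t) : Fin 6)) = _
  rw [Fin.val_ofNat, Nat.mod_eq_of_lt hp, h]
  by_cases hst : s = t
  · rw [if_pos hst, hst, Nat.beq_refl]
    rfl
  · have hb : Nat.beq s.1 t.1 = false := by
      rw [Bool.eq_false_iff, Ne, Nat.beq_eq]
      exact fun e => hst (Fin.ext e)
    rw [if_neg hst, hb]
    rfl

theorem gen_mat (g : Fin 2) (i : Fin 891) (s : Fin 3) :
    planes.InSp (permDen 10 891 (pCode g) i) (Matrix.mulVec (mat6 g) (planes.base i s)) :=
  PSUCoded.maps_of_check sound_ops bound_ok ((allN_iff _ _).1 maps_ok g g.2)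
    (pCode_spec g.2) i s

theorem planes_ok : planes.OK := by
  haveI : Finite K4 := Finite.of_equiv _ (QuadraticAlgebra.equivProd (1 : ZMod 2) 1).symm
  obtain ⟨s, t, e, hlen, hbase⟩ := head_eq
  refine planes.dist_of_root planes_unit (S := genSet) ?_ ⟨1, by norm_num⟩ ?_ ?_
  · rintro σ ⟨g, hg, rfl⟩
    refine ⟨mat6 g, fun v v' h => ?_, gen_mat ⟨g, hg⟩⟩
    have hl : ∀ v, Matrix.mulVec ((mat6 g).map (· ^ 2)).transpose (Matrix.mulVec (mat6 g) v) = v := by
      intro v
      have h2 := congrArg Matrix.transpose (form_ok ⟨g, hg⟩)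
      rw [Matrix.transpose_mul, Matrix.transpose_transpose, Matrix.transpose_one] at h2
      rw [Matrix.mulVec_mulVec, h2, Matrix.one_mulVec]
    rw [← hl v, ← hl v']
    exact congrArg _ h
  · intro i
    have hl := low_ok
    rw [e] at hl
    obtain ⟨σ, hσ, hi⟩ := PermLower.transitive two_pow_ten slp_ok hl hlen i
    exact ⟨σ, hσ, Fin.ext (hi.trans hbase)⟩
  · intro j hj
    have h1 := (allN_iff _ _).1 root_ok j j.2
    rw [Bool.or_eq_true, Nat.beq_eq] at h1
    rcases h1 with h1 | h1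
    · exact Fin.ext h1
    · rw [(allN_iff _ _).2 fun s hs => (PSUCoded.inSpC_iff sound_ops bound_ok j.2
        (PSUCoded.bound (i := 1) bound_ok (by norm_num) hs).2).2 (hj ⟨s, hs⟩)] at h1
      exact absurd h1 (by simp)

section
variable {F : Type} [Field F] [Fintype F]

theorem exists_hom (hF : Fintype.card F = 4) : ∃ φ : K4 →+* F, Function.Injective φ := by
  classical
  have h2 : (2 : F) = 0 := by
    have h := FiniteField.cast_card_eq_zero F
    rw [hF, show (4 : ℕ) = 2 * 2 from rfl, Nat.cast_mul, mul_self_eq_zero] at h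
    exact_mod_cast h
  have hp : Nat.Prime 2 := by norm_num
  haveI : CharP F 2 := (CharP.charP_iff_prime_eq_zero hp).2 (by exact_mod_cast h2)
  letI : Algebra (ZMod 2) F := ZMod.algebra F 2
  obtain ⟨u, hu0, hu1⟩ : ∃ u : F, u ≠ 0 ∧ u ≠ 1 := by
    by_contra hh
    push Not at hh
    have : Fintype.card F ≤ Finset.card ({0, 1} : Finset F) :=
      Finset.card_le_card (s := Finset.univ) fun x _ => by
        by_cases hx : x = 0
        · simp [hx]
        · simp [hh x hx]
    rw [hF, Finset.card_pair zero_ne_one] at this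
    omega
  have hu : u * u = u + 1 := by
    have h4 : u ^ 4 = u := by rw [← hF]; exact FiniteField.pow_card u
    have e : (u * (u - 1)) * (u * u + u + 1) = 0 := by linear_combination h4
    have h3 := (mul_eq_zero.1 e).resolve_left (mul_ne_zero hu0 (sub_ne_zero.2 hu1))
    linear_combination h3 - (u + 1) * h2
  let φ : K4 →ₐ[ZMod 2] F := QuadraticAlgebra.lift ⟨u, by
    rw [one_smul, one_smul, hu, add_comm]⟩
  refine ⟨φ.toRingHom, ?_⟩
  haveI : Finite K4 := Finite.of_equiv _ (QuadraticAlgebra.equivProd (1 : ZMod 2) 1).symm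
  refine (injective_iff_map_eq_zero φ).2 fun x hx => ?_
  have hx' : algebraMap (ZMod 2) F x.re + algebraMap (ZMod 2) F x.im * u = 0 := by
    rw [← Algebra.smul_def]
    simpa [φ, QuadraticAlgebra.lift, Algebra.algebraMap_eq_smul_one] using hx
  have hcases : ∀ c : ZMod 2, c = 0 ∨ c = 1 := by decide
  rcases hcases x.re with h1 | h1 <;> rcases hcases x.im with h3 | h3 <;>
    simp only [h1, h3, map_zero, map_one, zero_mul, one_mul, zero_add, add_zero] at hx'
  · exact QuadraticAlgebra.ext h1 h3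
  · exact absurd hx' hu0
  · exact absurd hx' one_ne_zero
  · exact absurd (by linear_combination hx' - h2) hu1

theorem card_psu_six (hF : Fintype.card F = 4) : Nat.card (Cfsg.PSU 6 F 2) = 9196830720 := by
  have hF' : Fintype.card F = 2 ^ 2 := hF
  have h1 := Unitary.card_PSU (n := 6) hF' (by norm_num)
  have h2 := Unitary.card_GU_eq_mul_card_SU (n := 6) hF' (by norm_num)
  rw [Unitary.card_GU hF'] at h2
  norm_num [Finset.prod_range_succ, Unitary.guFactor] at h1 h2
  omega

theorem psu_planes (hF : Fintype.card F = 4) : Nonempty (Cfsg.PSU 6 F 2 ≃* planeGrp) := by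
  obtain ⟨φ, hφ⟩ := exists_hom hF
  refine PSUModel.psu_iso (q := 2) hF (by norm_num) φ hφ planes planes_ok planeGrp (s := genSet)
    le_rfl ?_ ((card_psu_six hF).trans_le card_planeGrp)
  rintro σ ⟨g, hg, rfl⟩
  exact ⟨mat6 g, form_ok ⟨g, hg⟩, det_ok ⟨g, hg⟩, gen_mat ⟨g, hg⟩⟩

end

theorem fixer_planes (hcard : Nat.card (fixer usixCert) = 9196830720) :
    Nonempty (fixer usixCert ≃* planeGrp) := by
  refine LeechPermIso.fixer_iso usixCert_ok planeGrp (s := genSet) le_rfl ?_
    (hcard.trans_le card_planeGrp)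
  rintro σ ⟨g, hg, rfl⟩
  refine ⟨nth [] usixCert.gens g, nth_mem _ _ _ (lt_of_lt_of_eq hg usix_len.2.symm), fun i => ?_⟩
  have hi : i.1 < 891 := lt_of_lt_of_eq i.2 usix_len.1
  exact (congrArg (fun x => chk (nth [] usixCert.gens g) (usixCert.code i.1) (usixCert.code x))
    (pCode_spec hg ⟨i.1, hi⟩)).trans ((allN_iff _ _).1 ((allN_iff _ _).1 chk_ok g hg) i hi)

theorem refs_ok : inLeechCode 42255020007607646716556773580 = true ∧
    inLeechCode 42255020007607646716556774532 = true ∧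
    sqNorm (dec 42255020007607646716556773580) = 32 ∧
    sqNorm (dec 42255020007607646716556774532) = 32 ∧
    dotInt (dec 42255020007607646716556773580) (dec 42255020007607646716556774532) = -16 := by
  decide +kernel

theorem card_stab_two {v w : leechLattice} (hv : sqNorm v.1 = 32) (hw : sqNorm w.1 = 32)
    (hd : dotInt v.1 w.1 = -16) :
    Nat.card (MulAction.stabilizer Co0 v ⊓ MulAction.stabilizer Co0 w : Subgroup Co0) =
      9196830720 := by
  have := finite_co0
  obtain ⟨g, hg⟩ := co0_transitive_min v repA hv repA_norm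
  have horb : (MulAction.orbit (MulAction.stabilizer Co0 v) w).ncard = 4600 := by
    rw [← census_repA (d := -4) (n := 4600) (by simp),
      ← Set.ncard_image_of_injective _ ((MulAction.injective g).comp Function.injective_id),
      ← Set.ncard_image_of_injective _ Subtype.val_injective]
    refine congrArg Set.ncard ?_
    ext x
    constructor
    · rintro ⟨_, ⟨_, ⟨a, rfl⟩, rfl⟩, rfl⟩
      show (g • a.1 • w : leechLattice).1 ∈ leechLattice ∧ _
      refine ⟨SetLike.coe_mem _, (co0_sqNorm g _).trans ((co0_sqNorm a.1 w).trans hw), ?_⟩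
      show dotInt repA.1 (g • a.1 • w : leechLattice).1 = _
      rw [← hg, co0_dot]
      have h := co0_dot a.1 v w
      rw [show a.1 • v = v from a.2] at h
      exact h.trans (hd.trans (by norm_num))
    · rintro ⟨hx, hn, hxd⟩
      have e1 : sqNorm (g⁻¹ • (⟨x, hx⟩ : leechLattice) : leechLattice).1 = 32 := by
        rw [co0_sqNorm]; exact hn
      have e2 : dotInt v.1 (g⁻¹ • (⟨x, hx⟩ : leechLattice) : leechLattice).1 = -16 := by
        rw [← co0_dot g, smul_inv_smul, hg]; exact hxd.trans (by norm_num)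
      obtain ⟨a, a1, a2⟩ := min_trans_sixteen hv hw e1 hd e2
      refine ⟨⟨x, hx⟩, ⟨_, ⟨⟨a, a1⟩, rfl⟩, ?_⟩, rfl⟩
      show g • a • w = _
      rw [a2, smul_inv_smul]
  have h := card_eq_orbit_mul (MulAction.stabilizer Co0 v) w
  rw [horb, card_stab_min hv] at h
  omega

theorem statement (v w : ↥Cfsg.leechLattice) (hv : Cfsg.sqNorm (v : Cfsg.GolayPt → ℤ) = 32)
    (hw : Cfsg.sqNorm (w : Cfsg.GolayPt → ℤ) = 32)
    (hd : Cfsg.dotInt (v : Cfsg.GolayPt → ℤ) (w : Cfsg.GolayPt → ℤ) = -16) (F : Type) [Field F]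
    [Fintype F] (hF : Fintype.card F = 4) :
    Nonempty (↥(MulAction.stabilizer ↥Cfsg.Co0 v ⊓ MulAction.stabilizer ↥Cfsg.Co0 w) ≃*
      Cfsg.PSU 6 F 2) := by
  have := finite_co0
  obtain ⟨i1, i2, n1, n2, d12⟩ := refs_ok
  obtain ⟨g1, hg1⟩ := co0_transitive_min v ⟨_, mem_of_inLeech i1⟩ hv n1
  obtain ⟨g2, h1, h2⟩ := min_trans_sixteen (v := ⟨_, mem_of_inLeech i1⟩) (w := g1 • w)
    (w' := ⟨_, mem_of_inLeech i2⟩) n1 ((co0_sqNorm g1 w).trans hw) n2
    (by rw [← hg1, co0_dot]; exact hd) d12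
  have hFr : Frame usixCert [(v, 16), (w, 0)] (g2 * g1) := by
    show [(((g2 * g1) • v : Cfsg.leechLattice).1, (16 : ℤ)),
      (((g2 * g1) • w : Cfsg.leechLattice).1, (0 : ℤ))] = _
    rw [mul_smul, mul_smul, hg1, h1, h2]
    rfl
  obtain ⟨e1⟩ := LeechPermIso.stab_equiv hFr
    (H := MulAction.stabilizer Co0 v ⊓ MulAction.stabilizer Co0 w) (fun g => by
      simp [Subgroup.mem_inf, MulAction.mem_stabilizer_iff])
  obtain ⟨e2⟩ := fixer_planes (by rw [← Nat.card_congr e1.toEquiv, card_stab_two hv hw hd])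
  obtain ⟨e3⟩ := psu_planes hF
  exact ⟨(e1.trans e2).trans e3.symm⟩

end Cfsg.Agent.H95.USixTwo
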