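import Cfsg.Agent.H95.J3InvClass
import Cfsg.Agent.H92.QuotLarge

/-!
The involution centraliser of J₃ is a split extension of 2^{1+4}₋ by A5.
-/

set_option autoImplicit false

namespace Cfsg.Agent.H95.J3Inv

open Cfsg.Agent.Compute
open Cfsg.Agent.H44.J3
open Cfsg.Spor (F9)

attribute [local irreducible] validM invM mulM appM oneM wmul sift checkChain normOK scalM denM

/-- The permutation attached to an element of the complement. -/
noncomputable def pA (a : Fin 60) (x : Fin 5) : Fin 5 := Fin.ofNat 5 (imgA a x)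

/-- The permutation attached to a generator of the complement. -/
noncomputable def pG (g : Fin 2) (x : Fin 5) : Fin 5 := Fin.ofNat 5 (imgG g x)

theorem pA_step : ∀ (g : Fin 2) (a : Fin 60) (x : Fin 5), altC.act g a < 60 ∧
    pA (Fin.ofNat 60 (altC.act g a)) x = pG g (pA a x) := by decide +kernel

theorem pA_zero : ∀ x : Fin 5, pA 0 x = x := by decide +kernel

theorem pA_inj : ∀ a b : Fin 60, (∀ x : Fin 5, pA a x = pA b x) → a = b := by decide +kernel

theorem pA_bij : ∀ a : Fin 60, Function.Bijective (pA a) := by decide +kernel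

/-- The permutation of degree five attached to an element of the complement. -/
noncomputable def permA (a : Fin 60) : Equiv.Perm (Fin 5) := Equiv.ofBijective _ (pA_bij a)

theorem qShape : ∀ i < 32, (qM i i = 0 ∨ qM i i = qZeta) ∧ qM i qZeta = qM qZeta i ∧
    ((i = 0 ∨ i = qZeta) ∨ ∃ j < 32, qM i j ≠ qM j i) ∧
    ∀ j < 32, (qM i j = qM j i ∨ qM i j = qM qZeta (qM j i)) ∧
      (i ≠ 0 → i ≠ qZeta → qM i i = 0 → qM j j = 0 → qM i j = qM j i →
        j = 0 ∨ j = qZeta ∨ j = i ∨ j = qM i qZeta) := by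
  intro i hi
  have h := (allN_iff _ _).1 qShape_ok i hi
  simp only [Bool.and_eq_true, Bool.or_eq_true, allN_iff, Nat.beq_eq, Bool.not_eq_true'] at h
  obtain ⟨⟨⟨h1, h2⟩, h3⟩, h4⟩ := h
  have beq_false : ∀ {a b : ℕ}, Nat.beq a b = false → a ≠ b := fun e q => by
    rw [q, Nat.beq_refl] at e; exact absurd e (by simp)
  refine ⟨h1, h2, ?_, fun j hj => ⟨(h4 j hj).1, fun a b c d e => ?_⟩⟩
  · rcases h3 with h3 | h3
    · exact Or.inl h3
    · right
      by_contra hh
      push Not at hh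
      rw [(allN_iff _ _).2 fun j hj => Nat.beq_eq.symm ▸ hh j hj] at h3
      exact absurd h3 (by simp)
  · rcases (h4 j hj).2 with ((((((((q | q) | q) | q) | q) | q) | q) | q) | q)
    · exact absurd q a
    · exact absurd q b
    · exact absurd c (beq_false q)
    · exact absurd d (beq_false q)
    · exact absurd e (beq_false q)
    · exact Or.inl q
    · exact Or.inr (Or.inl q)
    · exact Or.inr (Or.inr (Or.inl q))
    · exact Or.inr (Or.inr (Or.inr q))

section
variable {F : Type*} [Field F] [Fintype F] {ω : F} (hf : Four F ω)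
include hf

theorem qM_spec {i j : ℕ} (hi : i < 32) (hj : j < 32) :
    qM i j < 32 ∧ el hf qC i * el hf qC j = el hf qC (qM i j) := by
  have h := (allN_iff _ _).1 ((allN_iff _ _).1 qMul_ok i hi) j hj
  simp only [Bool.and_eq_true, Nat.ble_eq, Nat.beq_eq] at h
  refine ⟨h.1, ?_⟩
  rw [el, el, el, ← h.2]
  exact ((snd hf).den_mul (elt_spec hf q_lok (q_card.symm ▸ hi)).1
    (elt_spec hf q_lok (q_card.symm ▸ hj)).1).symm

/-- An enumeration of a group isomorphic to Q respecting the table. -/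
structure QEnum (R : Type*) [Group R] (e : Fin 32 → R) : Prop where
  bij : Function.Bijective e
  zero : e 0 = 1
  mul : ∀ i j : Fin 32, ∃ h : qM i j < 32, e i * e j = e ⟨qM i j, h⟩

omit [Field F] [Fintype F] hf in
theorem qEnum_shape {R : Type*} [Group R] {e : Fin 32 → R} (he : QEnum R e) :
    Cfsg.IsExtraspecial 2 R ∧ ∀ E : Subgroup R, Cfsg.IsElementaryAbelian 2 E → Nat.card E ≤ 2 ^ 2 := by
  have : Finite R := Finite.of_surjective e he.bij.2
  have hcard : Nat.card R = 32 := by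
    rw [← Nat.card_congr (Equiv.ofBijective _ he.bij), Nat.card_fin]
  have hzl : qZeta < 32 := by decide +kernel
  have hz0 : qZeta ≠ 0 := by decide +kernel
  let ζ : R := e ⟨qZeta, hzl⟩
  have emul : ∀ (i j : Fin 32) {k : ℕ} (hk : k < 32), qM i j = k → e i * e j = e ⟨k, hk⟩ := by
    intro i j k hk h
    obtain ⟨h', hm⟩ := he.mul i j
    rw [hm]
    exact congrArg e (Fin.ext h)
  have einv : ∀ {i : Fin 32}, e i = 1 → (i : ℕ) = 0 := fun {i} h => by
    rw [← he.zero] at h
    exact congrArg Fin.val (he.bij.1 h)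
  have esame : ∀ {i : Fin 32}, (i : ℕ) = 0 → e i = 1 := fun {i} h => by
    rw [show i = 0 from Fin.ext h, he.zero]
  have ezeta : ∀ {i : Fin 32}, (i : ℕ) = qZeta → e i = ζ := fun {i} h => congrArg e (Fin.ext h)
  have comm_iff : ∀ i j : Fin 32, e i * e j = e j * e i ↔ qM i j = qM j i := by
    intro i j
    obtain ⟨h, hm⟩ := he.mul i j
    obtain ⟨h', hm'⟩ := he.mul j i
    rw [hm, hm']
    exact ⟨fun q => congrArg Fin.val (he.bij.1 q), fun q => congrArg e (Fin.ext q)⟩
  refine ⟨H92.isExtraspecial_of_center_two (IsPGroup.of_card (n := 5) (by rw [hcard]; norm_num))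
    (ζ := ζ) (fun h => hz0 (einv h)) ?_ ?_ ?_ ?_ (by omega), ?_⟩
  · intro y
    obtain ⟨i, rfl⟩ := he.bij.2 y
    exact (comm_iff i ⟨qZeta, hzl⟩).2 (qShape i i.2).2.1
  · intro x hx
    obtain ⟨i, rfl⟩ := he.bij.2 x
    rcases (qShape i i.2).2.2.1 with (q | q) | ⟨j, hj, q⟩
    · exact Or.inl (esame q)
    · exact Or.inr (ezeta q)
    · exact absurd ((comm_iff i ⟨j, hj⟩).1 (hx (e ⟨j, hj⟩)).symm) q
  · intro x y
    obtain ⟨i, rfl⟩ := he.bij.2 x
    obtain ⟨j, rfl⟩ := he.bij.2 y
    rcases ((qShape i i.2).2.2.2 j j.2).1 with q | q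
    · left
      rw [(comm_iff i j).2 q]; group
    · right
      obtain ⟨h', hm'⟩ := he.mul j i
      have h2 : e i * e j = ζ * (e j * e i) := by
        rw [hm']
        obtain ⟨h'', hm''⟩ := he.mul ⟨qZeta, hzl⟩ ⟨qM j i, h'⟩
        rw [hm'']
        exact emul i j h'' q
      rw [h2]; group
  · intro x
    obtain ⟨i, rfl⟩ := he.bij.2 x
    obtain ⟨h, hm⟩ := he.mul i i
    rcases (qShape i i.2).1 with q | q
    · exact Or.inl (by rw [hm]; exact esame q)
    · exact Or.inr (by rw [hm]; exact ezeta q)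
  · intro E hE
    obtain ⟨hEc, hE2⟩ := hE
    classical
    have sq0 : ∀ {i : Fin 32}, e i ∈ E → qM i i = 0 := fun {i} hi => by
      have h2 := hE2 _ hi
      obtain ⟨h, hm⟩ := he.mul i i
      rw [pow_two, hm] at h2
      exact einv h2
    by_cases hsmall : ∀ x ∈ E, x = 1 ∨ x = ζ
    · have hsub : (E : Set R) ⊆ {1, ζ} := fun x hx => hsmall x hx
      have h := Set.ncard_le_ncard hsub (Set.toFinite _)
      have h2 : ({1, ζ} : Set R).ncard ≤ 2 := by
        refine le_trans (Set.ncard_insert_le _ _) ?_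
        simp
      rw [← Nat.card_coe_set_eq] at h
      exact le_trans (le_trans h h2) (by norm_num)
    · push Not at hsmall
      obtain ⟨x, hx, hx1, hxz⟩ := hsmall
      obtain ⟨i, rfl⟩ := he.bij.2 x
      obtain ⟨hk, hm⟩ := he.mul i ⟨qZeta, hzl⟩
      have hsub : (E : Set R) ⊆ {1, ζ, e i, e ⟨qM i qZeta, hk⟩} := by
        intro y hy
        obtain ⟨j, rfl⟩ := he.bij.2 y
        have hcm : e i * e j = e j * e i :=
          congrArg Subtype.val (hEc.is_comm.comm (⟨e i, hx⟩ : E) ⟨e j, hy⟩)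
        rcases ((qShape i i.2).2.2.2 j j.2).2 (fun q => hx1 (esame q)) (fun q => hxz (ezeta q))
          (sq0 hx) (sq0 hy) ((comm_iff i j).1 hcm) with q | q | q | q
        · exact Or.inl (esame q)
        · exact Or.inr (Or.inl (ezeta q))
        · exact Or.inr (Or.inr (Or.inl (congrArg e (Fin.ext q))))
        · exact Or.inr (Or.inr (Or.inr (congrArg e (Fin.ext q))))
      have h := Set.ncard_le_ncard hsub (Set.toFinite _)
      have h4 : ({1, ζ, e i, e ⟨qM i qZeta, hk⟩} : Set R).ncard ≤ 4 := by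
        refine le_trans (Set.ncard_insert_le _ _) ?_
        refine le_trans (Nat.add_le_add_right (Set.ncard_insert_le _ _) 1) ?_
        refine le_trans (Nat.add_le_add_right (Nat.add_le_add_right (Set.ncard_insert_le _ _) 1) 1) ?_
        simp
      rw [← Nat.card_coe_set_eq] at h
      exact le_trans (le_trans h h4) (by norm_num)

/-- The complement as the alternating group of degree five. -/
theorem alt_iso : Nonempty (sub hf alt_lok ≃* alternatingGroup (Fin 5)) := by
  classical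
  have hlen : altC.elts.length = 60 := alt_card
  let eA : Fin altC.elts.length ≃ sub hf alt_lok := Equiv.ofBijective _ (elG_bijective hf alt_lok)
  let idx : sub hf alt_lok → Fin 60 := fun u => Fin.cast hlen (eA.symm u)
  have hidx : ∀ u : sub hf alt_lok, ((u : Cfsg.Spor.threeJ3 F ω) : GL F9 F) = el hf altC (idx u) := fun u =>
    congrArg (fun v : sub hf alt_lok => ((v : Cfsg.Spor.threeJ3 F ω) : GL F9 F))
      (eA.apply_symm_apply u).symm
  have key : ∀ (i : ℕ) (hi : i < 60) (j : Fin 60) (k : Fin 60),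
      el hf altC i * el hf altC j = el hf altC k → permA k = permA ⟨i, hi⟩ * permA j := by
    intro i
    induction i using Nat.strong_induction_on with
    | _ i ih =>
      intro hi j k e
      have hj : (j : ℕ) < altC.elts.length := by rw [hlen]; exact j.2
      have hk : (k : ℕ) < altC.elts.length := by rw [hlen]; exact k.2
      have hi' : i < altC.elts.length := by rw [hlen]; exact hi
      by_cases h0 : i = 0
      · subst h0
        rw [el_zero hf alt_lok, one_mul] at e
        obtain rfl := Fin.ext (el_inj hf alt_lok hj hk e)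
        ext x
        show (pA j x : ℕ) = (pA 0 (pA j x) : ℕ)
        rw [pA_zero]
      · obtain ⟨hg, hp, ei⟩ := el_succ hf alt_lok hi' h0
        have hg2 : altC.gi i < 2 := hg
        obtain ⟨m, hm, em⟩ := el_mul hf alt_lok (lt_trans hp hi') hj
        have hm' : m < 60 := hlen ▸ hm
        have hpm := ih _ hp (lt_trans hp hi) j ⟨m, hm'⟩ em
        have hk2 : (k : ℕ) = altC.act (altC.gi i) m := by
          obtain ⟨hl, ea⟩ := act_spec hf alt_lok hg hm
          refine el_inj hf alt_lok hk hl ?_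
          rw [← e, ei, mul_assoc, em, ea]
        have hi2 : i = altC.act (altC.gi i) (altC.par i) := by
          obtain ⟨hl, ea⟩ := act_spec hf alt_lok hg (lt_trans hp hi')
          exact el_inj hf alt_lok hi' hl (ei.trans ea)
        ext x
        obtain ⟨h1, s1⟩ := pA_step ⟨_, hg2⟩ ⟨m, hm'⟩ x
        obtain ⟨h2, s2⟩ := pA_step ⟨_, hg2⟩ ⟨_, lt_trans hp hi⟩ (pA j x)
        have ek : k = Fin.ofNat 60 (altC.act (altC.gi i) m) :=
          Fin.ext (by rw [Fin.val_ofNat, Nat.mod_eq_of_lt h1, hk2])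
        have ei' : (⟨i, hi⟩ : Fin 60) = Fin.ofNat 60 (altC.act (altC.gi i) (altC.par i)) :=
          Fin.ext (by rw [Fin.val_ofNat, Nat.mod_eq_of_lt h2]; exact hi2)
        show (pA k x : ℕ) = (pA ⟨i, hi⟩ (pA j x) : ℕ)
        rw [ek, ei', s1, s2]
        have := congrArg (fun p : Equiv.Perm (Fin 5) => p x) hpm
        rw [show pA ⟨m, hm'⟩ x = pA ⟨_, lt_trans hp hi⟩ (pA j x) from this]
  let φ : sub hf alt_lok →* Equiv.Perm (Fin 5) := MonoidHom.mk' (fun u => permA (idx u)) (by
    intro u v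
    have h := key (idx u) (idx u).2 (idx v) (idx (u * v))
      (by rw [← hidx, ← hidx, ← hidx]; rfl)
    exact h)
  have hinj : Function.Injective φ := by
    intro u v h
    have := pA_inj (idx u) (idx v) (fun x => congrArg (fun p : Equiv.Perm (Fin 5) => p x) h)
    exact eA.symm.injective (Fin.cast_injective _ this)
  have e : sub hf alt_lok ≃* φ.range := MonoidHom.ofInjective hinj
  have hc : Nat.card φ.range = 60 := by
    rw [← Nat.card_congr e.toEquiv, card_sub hf alt_lok, hlen]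
  have hidx2 : φ.range.index = 2 := by
    have h := φ.range.card_mul_index
    rw [hc, Nat.card_eq_fintype_card (α := Equiv.Perm (Fin 5)), Fintype.card_perm,
      Fintype.card_fin] at h
    norm_num [Nat.factorial] at h
    omega
  exact ⟨e.trans (MulEquiv.subgroupCongr (Equiv.Perm.eq_alternatingGroup_of_index_eq_two hidx2))⟩

/-- The quotient map to J₃. -/
noncomputable def π : Cfsg.Spor.threeJ3 F ω →* Cfsg.Spor.J3 F ω :=
  QuotientGroup.mk' (Subgroup.center (Cfsg.Spor.threeJ3 F ω))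

omit hf in
theorem pi_eq_one {g : Cfsg.Spor.threeJ3 F ω} :
    π (F := F) (ω := ω) g = 1 ↔ g ∈ Subgroup.center (Cfsg.Spor.threeJ3 F ω) :=
  QuotientGroup.eq_one_iff g

theorem center_cube {z : Cfsg.Spor.threeJ3 F ω}
    (hz : z ∈ Subgroup.center (Cfsg.Spor.threeJ3 F ω)) : z ^ 3 = 1 := by
  have h := pow_card_eq_one' (x := (⟨z, hz⟩ : Subgroup.center (Cfsg.Spor.threeJ3 F ω)))
  rw [card_center hf] at h
  exact congrArg Subtype.val h

theorem orderOf_pi_tG : orderOf (π (tG hf)) = 2 := by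
  refine orderOf_eq_prime ?_ fun e => tG_ne hf ?_
  · rw [← map_pow, pow_two, tG_sq, map_one]
  · have h := center_cube hf (pi_eq_one.1 e)
    rwa [pow_succ, pow_two, tG_sq, one_mul] at h

theorem isConj_pi_tG {x : Cfsg.Spor.J3 F ω} (hx : orderOf x = 2) : IsConj x (π (tG hf)) := by
  obtain ⟨g, rfl⟩ := QuotientGroup.mk'_surjective _ x
  change orderOf (π g) = 2 at hx
  show IsConj (π g) (π (tG hf))
  have h2 : π g ^ 2 = 1 := by
    have h := pow_orderOf_eq_one (π g)
    rwa [hx] at h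
  have h3 : π (g ^ 3) = π g := by rw [map_pow, pow_succ, h2, one_mul]
  rw [← h3] at hx ⊢
  refine MonoidHom.map_isConj π (isConj_tG hf (orderOf_eq_prime ?_ fun e => ?_))
  · rw [← pow_mul, mul_comm, pow_mul]
    exact center_cube hf (pi_eq_one.1 (by rw [map_pow, h2]))
  · rw [e, map_one, orderOf_one] at hx
    norm_num at hx

theorem mem_centralizer_of_pi {g : Cfsg.Spor.threeJ3 F ω}
    (hg : π g ∈ Subgroup.centralizer ({π (tG hf)} : Set (Cfsg.Spor.J3 F ω))) :
    g ∈ Subgroup.centralizer ({tG hf} : Set (Cfsg.Spor.threeJ3 F ω)) := by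
  rw [Subgroup.mem_centralizer_singleton_iff] at hg ⊢
  have hz : g * tG hf * g⁻¹ * tG hf ∈ Subgroup.center (Cfsg.Spor.threeJ3 F ω) := by
    rw [← pi_eq_one, map_mul, map_mul, map_mul, map_inv, hg]
    rw [mul_inv_cancel_right, ← map_mul, tG_sq, map_one]
  have h3 := center_cube hf hz
  have ht : (tG hf)⁻¹ = tG hf := inv_eq_of_mul_eq_one_right (tG_sq hf)
  have hconj : g * tG hf * g⁻¹ = g * tG hf * g⁻¹ * tG hf * tG hf := by
    rw [mul_assoc (g * tG hf * g⁻¹), tG_sq, mul_one]
  generalize g * tG hf * g⁻¹ * tG hf = z at hz h3 hconj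
  have h2 : z * z = 1 := by
    have hsq : (g * tG hf * g⁻¹) * (g * tG hf * g⁻¹) = 1 := by
      calc (g * tG hf * g⁻¹) * (g * tG hf * g⁻¹) = g * (tG hf * tG hf) * g⁻¹ := by group
        _ = 1 := by rw [tG_sq]; group
    rw [hconj] at hsq
    calc z * z = z * z * (tG hf * tG hf) := by rw [tG_sq, mul_one]
      _ = z * tG hf * (z * tG hf) := by
        rw [mul_assoc z (tG hf), ← mul_assoc (tG hf) z,
          (Subgroup.mem_center_iff.1 hz (tG hf) : tG hf * z = z * tG hf)]
        simp only [mul_assoc]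
      _ = 1 := hsq
  rw [pow_succ, pow_two, h2, one_mul] at h3
  rw [h3, one_mul] at hconj
  calc g * tG hf = g * tG hf * g⁻¹ * g := by group
    _ = tG hf * g := by rw [hconj]

theorem card_centralizer_pi_le :
    Nat.card (Subgroup.centralizer ({π (tG hf)} : Set (Cfsg.Spor.J3 F ω))) ≤ 1920 := by
  have := finite_threeJ3 hf
  let C := Subgroup.centralizer ({π (tG hf)} : Set (Cfsg.Spor.J3 F ω))
  have hle : C.comap (π (F := F) (ω := ω)) ≤
      Subgroup.centralizer ({tG hf} : Set (Cfsg.Spor.threeJ3 F ω)) :=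
    fun g hg => mem_centralizer_of_pi hf hg
  have h1 := (C.comap (π (F := F) (ω := ω))).card_mul_index
  have hi : (C.comap (π (F := F) (ω := ω))).index = C.index :=
    Subgroup.index_comap_of_surjective C (QuotientGroup.mk'_surjective _)
  rw [hi, card_threeJ3 hf] at h1
  have h2 := C.card_mul_index
  rw [card_J3 hf] at h2
  have hpos : 0 < C.index := Nat.pos_of_ne_zero fun e => by rw [e] at h2; omega
  have h3 : Nat.card (C.comap (π (F := F) (ω := ω))) = 3 * Nat.card C := by
    refine Nat.eq_of_mul_eq_mul_right hpos ?_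
    rw [h1, mul_assoc, h2]
    norm_num
  have h4 := le_trans (Nat.card_mono (Set.toFinite _) hle) (card_centralizer_tG_le hf)
  show Nat.card C ≤ 1920
  have h5 : Nat.card (C.comap (π (F := F) (ω := ω))) ≤ 5760 := h4
  omega

theorem comm_t {l : LCert} (hl : LOK l) (hsub : ∀ p ∈ l.gens, p ∈ qGens ++ altGens) {i : ℕ}
    (hi : i < l.elts.length) :
    el hf l i * (snd hf).den tCode = (snd hf).den tCode * el hf l i := by
  refine el_induction hf hl (P := fun g => g * (snd hf).den tCode = (snd hf).den tCode * g)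
    (by rw [one_mul, mul_one]) (fun a b ha hb => (Commute.mul_left ha hb :)) ?_ hi
  intro g hg
  have h := (lall_iff _ _).1 comm_ok _ (hsub _ (nth_mem dMem l.gens g hg))
  rw [Nat.beq_eq] at h
  have og := (gen_spec hf hl hg).1.1
  rw [← (snd hf).den_mul og (t_spec hf).1, ← (snd hf).den_mul (t_spec hf).1 og]
  exact congrArg _ h

theorem map_le_centralizer {l : LCert} (hl : LOK l) (hsub : ∀ p ∈ l.gens, p ∈ qGens ++ altGens) :
    (sub hf hl).map π ≤ Subgroup.centralizer ({π (tG hf)} : Set (Cfsg.Spor.J3 F ω)) := by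
  rintro _ ⟨g, hg, rfl⟩
  obtain ⟨i, hi, e⟩ := (mem_grp hf hl).1 ((mem_sub hf hl).1 hg)
  rw [Subgroup.mem_centralizer_singleton_iff, ← map_mul, ← map_mul]
  refine congrArg _ (Subtype.ext ?_)
  show (g : GL F9 F) * (snd hf).den tCode = (snd hf).den tCode * (g : GL F9 F)
  rw [e]
  exact comm_t hf hl hsub hi

theorem normalise {a : ℕ} (ha : a < altC.elts.length) :
    ∀ {i : ℕ}, i < qC.elts.length → el hf altC a * el hf qC i * (el hf altC a)⁻¹ ∈ grp hf q_lok := by
  refine el_induction hf alt_lok (P := fun g => ∀ {i : ℕ}, i < qC.elts.length →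
    g * el hf qC i * g⁻¹ ∈ grp hf q_lok) (fun hi => by simpa using el_mem hf q_lok hi) ?_ ?_ ha
  · intro x y hx hy i hi
    obtain ⟨j, hj, e⟩ := (mem_grp hf q_lok).1 (hy hi)
    have h := hx hj
    rw [← e] at h
    rwa [show x * y * el hf qC i * (x * y)⁻¹ = x * (y * el hf qC i * y⁻¹) * x⁻¹ by group]
  · intro g hg i hi
    have h := (allN_iff _ _).1 ((allN_iff _ _).1 qConj_ok g hg) i (q_card ▸ hi)
    simp only [Bool.and_eq_true, Nat.ble_eq, Nat.beq_eq] at h
    obtain ⟨⟨og, -⟩, oi, ei⟩ := gen_spec hf alt_lok hg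
    have oq := (elt_spec hf q_lok hi).1
    refine ⟨qCj g i, by rw [q_card]; exact h.1, ?_⟩
    rw [← ei, mul_assoc, el, el, ← (snd hf).den_mul oq oi,
      ← (snd hf).den_mul og ((snd hf).ok_mul oq oi)]
    exact congrArg _ h.2

theorem q_inter {q a : Cfsg.Spor.threeJ3 F ω} (hq : q ∈ sub hf q_lok) (ha : a ∈ sub hf alt_lok)
    (h : π q = π a) : q = 1 := by
  obtain ⟨i, hi, ei⟩ := (mem_grp hf q_lok).1 ((mem_sub hf q_lok).1 hq)
  obtain ⟨j, hj, ej⟩ := (mem_grp hf alt_lok).1 ((mem_sub hf alt_lok).1 ha)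
  have hz : a⁻¹ * q ∈ Subgroup.center (Cfsg.Spor.threeJ3 F ω) := by
    rw [← pi_eq_one, map_mul, map_inv, h, inv_mul_cancel]
  obtain ⟨k, hk⟩ := Subgroup.mem_zpowers_iff.1 ((mem_center_iff hf _).1 hz)
  have hk' : el hf altC j * scEl hf ^ (k % 3) = el hf qC i := by
    have h1 : scEl hf ^ (k % 3) = (a : GL F9 F)⁻¹ * q := by
      refine Eq.trans ?_ hk
      conv_rhs => rw [← zpow_mod_orderOf, orderOf_scEl hf]
      norm_num
    rw [h1, ← ej, ← ei, mul_inv_cancel_left]
  by_cases i0 : i = 0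
  · subst i0
    exact Subtype.ext (ei.trans (el_zero hf q_lok))
  exfalso
  have hd := (allN_iff _ _).1 ((allN_iff _ _).1 disj_ok j (alt_card ▸ hj)) i (q_card ▸ hi)
  rw [show Nat.beq i 0 = false by rw [Bool.eq_false_iff, Ne, Nat.beq_eq]; exact i0] at hd
  simp only [Bool.false_or, Bool.and_eq_true, Bool.not_eq_true'] at hd
  have oq := (elt_spec hf q_lok hi).1
  have oa := (elt_spec hf alt_lok hj).1
  have os := scal_ok' hf
  have k3 : k % 3 = 0 ∨ k % 3 = 1 ∨ k % 3 = 2 := by omega
  rcases k3 with r | r | r <;> rw [r] at hk'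
  · rw [zpow_zero, mul_one] at hk'
    have := ((snd hf).eqv_iff oq oa).2 hk'.symm
    rw [show Nat.beq (qC.elt i) (altC.elt j) = mOps.eqv (qC.elt i) (altC.elt j) from rfl, this] at hd
    exact absurd hd.1.1 (by simp)
  · rw [zpow_one] at hk'
    have := ((snd hf).eqv_iff oq ((snd hf).ok_mul oa os)).2
      (hk'.symm.trans ((snd hf).den_mul oa os).symm)
    rw [show Nat.beq (qC.elt i) (mulM (altC.elt j) scalM) =
      mOps.eqv (qC.elt i) (mOps.mul (altC.elt j) scalM) from rfl, this] at hd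
    exact absurd hd.1.2 (by simp)
  · rw [zpow_two, ← mul_assoc] at hk'
    have := ((snd hf).eqv_iff oq ((snd hf).ok_mul ((snd hf).ok_mul oa os) os)).2
      (hk'.symm.trans (by rw [(snd hf).den_mul ((snd hf).ok_mul oa os) os,
        (snd hf).den_mul oa os]; rfl))
    rw [show Nat.beq (qC.elt i) (mulM (mulM (altC.elt j) scalM) scalM) =
      mOps.eqv (qC.elt i) (mOps.mul (mOps.mul (altC.elt j) scalM) scalM) from rfl, this] at hd
    exact absurd hd.2 (by simp)

/-- A subgroup avoiding the centre maps isomorphically into J₃. -/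
noncomputable def mapEquiv {l : LCert} (hl : LOK l) (hs : l.scalChk = true) :
    sub hf hl ≃* (sub hf hl).map (π (F := F) (ω := ω)) :=
  MulEquiv.ofBijective
    (MonoidHom.codRestrict (π.comp (sub hf hl).subtype) ((sub hf hl).map π)
      (fun x => ⟨x, x.2, rfl⟩)) (by
    refine ⟨(injective_iff_map_eq_one _).2 fun x hx => ?_, ?_⟩
    · have h := pi_eq_one.1 (congrArg Subtype.val hx)
      exact Subtype.ext (Subgroup.mem_bot.1 (sub_inf_center hf hl hs ▸ ⟨x.2, h⟩))
    · rintro ⟨_, g, hg, rfl⟩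
      exact ⟨⟨g, hg⟩, rfl⟩)

/-- The main statement. -/
theorem involution_centralizer :
    (∀ x y : Cfsg.Spor.J3 F ω, orderOf x = 2 → orderOf y = 2 → IsConj x y) ∧
    ∃ t : Cfsg.Spor.J3 F ω, orderOf t = 2 ∧
      ∃ (Q : Subgroup ↥(Subgroup.centralizer ({t} : Set (Cfsg.Spor.J3 F ω)))) (_ : Q.Normal),
        Cfsg.IsExtraspecial 2 Q ∧ Nat.card Q = 32 ∧
        (∀ E : Subgroup Q, Cfsg.IsElementaryAbelian 2 E → Nat.card E ≤ 2 ^ 2) ∧
        (∃ H : Subgroup ↥(Subgroup.centralizer ({t} : Set (Cfsg.Spor.J3 F ω))), Q.IsComplement' H) ∧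
        Nonempty (↥(Subgroup.centralizer ({t} : Set (Cfsg.Spor.J3 F ω))) ⧸ Q ≃*
          ↥(alternatingGroup (Fin 5))) := by
  refine ⟨fun x y hx hy => (isConj_pi_tG hf hx).trans (isConj_pi_tG hf hy).symm,
    π (tG hf), orderOf_pi_tG hf, ?_⟩
  have := finite_threeJ3 hf
  have := finite_J3 hf
  let C := Subgroup.centralizer ({π (tG hf)} : Set (Cfsg.Spor.J3 F ω))
  have hQC : (sub hf q_lok).map π ≤ C :=
    map_le_centralizer hf q_lok fun p hp => List.mem_append_left _ hp
  have hAC : (sub hf alt_lok).map π ≤ C :=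
    map_le_centralizer hf alt_lok fun p hp => List.mem_append_right _ hp
  let Q : Subgroup C := ((sub hf q_lok).map π).subgroupOf C
  let A : Subgroup C := ((sub hf alt_lok).map π).subgroupOf C
  let eQ : sub hf q_lok ≃* Q :=
    (mapEquiv hf q_lok q_scal).trans (Subgroup.subgroupOfEquivOfLe hQC).symm
  let eA : sub hf alt_lok ≃* A :=
    (mapEquiv hf alt_lok alt_scal).trans (Subgroup.subgroupOfEquivOfLe hAC).symm
  have cQ : Nat.card Q = 32 := by rw [← Nat.card_congr eQ.toEquiv, card_sub hf q_lok, q_card]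
  have cA : Nat.card A = 60 := by rw [← Nat.card_congr eA.toEquiv, card_sub hf alt_lok, alt_card]
  have hdis : Disjoint Q A := by
    rw [Subgroup.disjoint_def]
    intro x hxQ hxA
    obtain ⟨q, hq, eq⟩ := Subgroup.mem_subgroupOf.1 hxQ
    obtain ⟨a, ha, ea⟩ := Subgroup.mem_subgroupOf.1 hxA
    have h1 := q_inter hf hq ha (eq.trans ea.symm)
    exact Subtype.ext (by rw [← eq, h1, map_one]; rfl)
  have hge := Nat.card_le_card_of_injective _ (Subgroup.mul_injective_of_disjoint hdis)
  rw [Nat.card_prod, cQ, cA] at hge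
  have hle : Nat.card C ≤ 1920 := card_centralizer_pi_le hf
  have hcomp : Q.IsComplement' A :=
    Subgroup.isComplement'_of_card_mul_and_disjoint (by rw [cQ, cA]; omega) hdis
  have hnorm : Q.Normal := by
    constructor
    intro n hn g
    obtain ⟨⟨q, a⟩, hqa⟩ := hcomp.2 g
    have hga : (q : C) * a = g := hqa
    have key : (a : C) * n * (a : C)⁻¹ ∈ Q := by
      obtain ⟨q', hq', eq'⟩ := Subgroup.mem_subgroupOf.1 hn
      obtain ⟨a', ha', ea'⟩ := Subgroup.mem_subgroupOf.1 a.2
      obtain ⟨i, hi, ei⟩ := (mem_grp hf q_lok).1 ((mem_sub hf q_lok).1 hq')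
      obtain ⟨j, hj, ej⟩ := (mem_grp hf alt_lok).1 ((mem_sub hf alt_lok).1 ha')
      refine Subgroup.mem_subgroupOf.2 ⟨a' * q' * a'⁻¹, (mem_sub hf q_lok).2 ?_, ?_⟩
      · show (a' : GL F9 F) * (q' : GL F9 F) * (a' : GL F9 F)⁻¹ ∈ grp hf q_lok
        rw [ei, ej]
        exact normalise hf hj hi
      · rw [map_mul, map_mul, map_inv, eq', ea']
        rfl
    rw [← hga, show (q : C) * a * n * ((q : C) * a)⁻¹ = q * ((a : C) * n * (a : C)⁻¹) * (q : C)⁻¹ by
      group]
    exact mul_mem (mul_mem q.2 key) (inv_mem q.2)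
  let e : Fin 32 → Q := fun i => eQ (elG hf q_lok (Fin.cast q_card.symm i))
  have he : QEnum Q e := by
    refine ⟨?_, ?_, fun i j => ⟨(qM_spec hf i.2 j.2).1, ?_⟩⟩
    · exact eQ.bijective.comp ((elG_bijective hf q_lok).comp
        (finCongr q_card.symm).bijective)
    · show eQ _ = 1
      rw [show elG hf q_lok (Fin.cast q_card.symm 0) = 1 from
        Subtype.ext (Subtype.ext (el_zero hf q_lok)), map_one]
    · show eQ _ * eQ _ = eQ _
      rw [← map_mul]
      exact congrArg eQ (Subtype.ext (Subtype.ext (qM_spec hf i.2 j.2).2))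
  obtain ⟨hx, hel⟩ := qEnum_shape he
  obtain ⟨iso⟩ := alt_iso hf
  have := hnorm
  exact ⟨Q, hnorm, hx, cQ, hel, ⟨A, hcomp⟩,
    ⟨(hcomp.symm.QuotientMulEquiv).trans (eA.symm.trans iso)⟩⟩

end

end Cfsg.Agent.H95.J3Inv
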