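import Cfsg.Agent.H95.GolaySys

/-!
Kernel-checked orbit certificates.
-/

set_option autoImplicit false
set_option maxRecDepth 100000

namespace Cfsg.Agent.H95

lemma sextetOctSing_cert :
    orbitCert sextetBase sextetGens 759 sextetOctSing = true := by
  decide +kernel

lemma sextetOctSing_roots :
    sextetOctSing.all (fun c => isOctB c.1) = true := by
  decide +kernel

lemma sextetBase_ok :
    isSextB sextetBase = true := by
  decide +kernel

end Cfsg.Agent.H95
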