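import Cfsg.Agent.H95.GolayOrbitData

/-!
Trios and sextets: invariance, counts, transitivity, and orbit partitions relative to any
conjugate of a checked base system.
-/

set_option autoImplicit false

namespace Cfsg.Agent.H95

open Cfsg Cfsg.Agent.Golay
open scoped Pointwise

lemma trios_smul (g : M24) : ∀ T ∈ trios, g • T ∈ trios := by
  rintro T ⟨h3, ho, hd⟩
  refine ⟨by rw [coe_smul_sys, Finset.card_smul_finset, h3], fun o hoT => ?_, ?_⟩
  · obtain ⟨a, ha, rfl⟩ := Finset.mem_smul_finset.1 hoT
    exact smul_mem_octads g.2 (ho a ha)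
  · intro o hoT o' hoT' hne
    obtain ⟨a, ha, rfl⟩ := Finset.mem_smul_finset.1 hoT
    obtain ⟨b, hb, rfl⟩ := Finset.mem_smul_finset.1 hoT'
    rw [Finset.disjoint_iff_inter_eq_empty, ← Finset.smul_finset_inter,
      Finset.disjoint_iff_inter_eq_empty.1 (hd a ha b hb fun e => hne (e ▸ rfl)),
      Finset.smul_finset_empty]

lemma sextets_smul (g : M24) : ∀ S ∈ sextets, g • S ∈ sextets := by
  rintro S ⟨h6, h4, ho⟩
  refine ⟨by rw [coe_smul_sys, Finset.card_smul_finset, h6], fun t ht => ?_, ?_⟩
  · obtain ⟨a, ha, rfl⟩ := Finset.mem_smul_finset.1 ht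
    rw [Finset.card_smul_finset, h4 a ha]
  · intro t ht u hu hne
    obtain ⟨a, ha, rfl⟩ := Finset.mem_smul_finset.1 ht
    obtain ⟨b, hb, rfl⟩ := Finset.mem_smul_finset.1 hu
    rw [← Finset.smul_finset_union]
    exact smul_mem_octads g.2 (ho a ha b hb fun e => hne (e ▸ rfl))

/-- Octads as systems with one block. -/
def octadSys : Set (Finset (Finset GolayPt)) := (fun o => {o}) '' octads

lemma octadSys_smul (g : M24) : ∀ T ∈ octadSys, g • T ∈ octadSys := by
  rintro _ ⟨o, ho, rfl⟩
  exact ⟨g • o, smul_mem_octads g.2 ho, by rw [coe_smul_sys, Finset.smul_finset_singleton]; rfl⟩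

lemma mem_iff_testBit {s : Finset GolayPt} {p : GolayPt} :
    p ∈ s ↔ (maskOf s).testBit (idx p) = true := by
  conv_lhs => rw [← ptSet_maskOf s]
  exact mem_ptSet

lemma ncard_octads : octads.ncard = 759 := by
  have hl : octadList.length = 759 := by decide +kernel
  rw [octads_eq_image, ncard_ptSet_image octadList_nodup fun m hm => octadList_lt hm, hl]

lemma ncard_octadSys : octadSys.ncard = 759 := by
  rw [octadSys, Set.ncard_image_of_injective _ (fun a b h => by simpa using h), ncard_octads]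

/-! ### Counting trios -/

/-- First position outside a mask. -/
def freePos (o : ℕ) : ℕ := ((List.range 24).filter fun i => !o.testBit i).headI

/-- An octad through the extra point with a disjoint one through the first free point. -/
def trioPairs : List (ℕ × ℕ) :=
  (octadList.filter fun o => o.testBit 23).flatMap fun o =>
    (octadList.filter fun a => (a &&& o == 0) && a.testBit (freePos o)).map fun a => (o, a)

lemma trioPairs_length : trioPairs.length = 3795 ∧
    (octadList.all fun o => decide (freePos o < 24) && !o.testBit (freePos o)) = true := by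
  decide +kernel

theorem ncard_trios_le : trios.ncard ≤ 3795 := by
  let f : ℕ × ℕ → Finset (Finset GolayPt) :=
    fun z => {ptSet z.1, ptSet z.2, (ptSet z.1 ∪ ptSet z.2)ᶜ}
  have hsub : trios ⊆ ((trioPairs.map f).toFinset : Set (Finset (Finset GolayPt))) := by
    rintro T ⟨h3, hoct, hd⟩
    have hcov : ∀ p, ∃ o ∈ T, p ∈ o := by
      have hu : T.biUnion (fun a => a) = Finset.univ := by
        rw [← Finset.card_eq_iff_eq_univ, Finset.card_biUnion (fun a ha b hb h => hd a ha b hb h),
          Finset.sum_congr rfl (fun o ho => (hoct o ho).2), Finset.sum_const, h3]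
        simp [GolayPt, Fintype.card_option]
      intro p
      simpa using Finset.eq_univ_iff_forall.1 hu p
    obtain ⟨o, hoT, hno⟩ := hcov none
    have hmo := mem_octads_iff.1 (hoct o hoT)
    have hf := List.all_eq_true.1 trioPairs_length.2 _ hmo
    simp only [Bool.and_eq_true, decide_eq_true_eq, Bool.not_eq_true'] at hf
    obtain ⟨a, haT, hpa⟩ := hcov (pt (freePos (maskOf o)))
    have hne : a ≠ o := by
      intro e
      subst e
      rw [mem_iff_testBit, idx_pt _ hf.1, hf.2] at hpa
      exact Bool.false_ne_true hpa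
    refine Finset.mem_coe.2 (List.mem_toFinset.2 (List.mem_map.2 ⟨(maskOf o, maskOf a), ?_, ?_⟩))
    · refine List.mem_flatMap.2 ⟨maskOf o, List.mem_filter.2 ⟨hmo, ?_⟩, List.mem_map.2 ⟨maskOf a,
        List.mem_filter.2 ⟨mem_octads_iff.1 (hoct a haT), ?_⟩, rfl⟩⟩
      · rw [mem_iff_testBit] at hno
        exact hno
      · rw [mem_iff_testBit, idx_pt _ hf.1] at hpa
        rw [Bool.and_eq_true, beq_iff_eq, hpa]
        refine ⟨ptSet_injOn (and_lt_full (maskOf_lt _)) (by norm_num) ?_, rfl⟩
        rw [ptSet_and, ptSet_maskOf, ptSet_maskOf, ptSet_zero,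
          Finset.disjoint_iff_inter_eq_empty.1 (hd a haT o hoT hne)]
    · have hsub2 : ({o, a} : Finset (Finset GolayPt)) ⊆ T := by
        simp [Finset.insert_subset_iff, hoT, haT]
      have hcard : (T \ {o, a}).card = 1 := by
        rw [Finset.card_sdiff_of_subset hsub2, h3, Finset.card_pair hne.symm]
      obtain ⟨c, hc⟩ := Finset.card_eq_one.1 hcard
      have hT : T = {o, a, c} := by
        rw [← Finset.union_sdiff_of_subset hsub2, hc]
        ext x; simp [or_assoc]
      have hcm : c ∈ T \ {o, a} := by rw [hc]; simp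
      simp only [Finset.mem_sdiff, Finset.mem_insert, Finset.mem_singleton, not_or] at hcm
      have hcc : c = (o ∪ a)ᶜ := by
        refine Finset.eq_of_subset_of_card_le ?_ ?_
        · rw [Finset.subset_compl_iff_disjoint_right, Finset.disjoint_union_right]
          exact ⟨hd c hcm.1 o hoT hcm.2.1, hd c hcm.1 a haT hcm.2.2⟩
        · rw [Finset.card_compl, Finset.card_union_of_disjoint (hd o hoT a haT hne.symm),
            (hoct o hoT).2, (hoct a haT).2, (hoct c hcm.1).2]
          simp [GolayPt, Fintype.card_option]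
      show ({ptSet (maskOf o), ptSet (maskOf a), (ptSet (maskOf o) ∪ ptSet (maskOf a))ᶜ} :
        Finset (Finset GolayPt)) = T
      rw [ptSet_maskOf, ptSet_maskOf, hT, hcc]
  refine (Set.ncard_le_ncard hsub).trans ?_
  rw [Set.ncard_coe_finset, ← trioPairs_length.1, ← List.length_map (f := f)]
  exact List.toFinset_card_le _

/-! ### Counting sextets -/

lemma sextet_disjoint {S : Finset (Finset GolayPt)} (hS : S ∈ sextets) {t u : Finset GolayPt}
    (ht : t ∈ S) (hu : u ∈ S) (hne : t ≠ u) : Disjoint t u := by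
  rw [← Finset.card_union_eq_card_add_card, (hS.2.2 t ht u hu hne).2, hS.2.1 t ht, hS.2.1 u hu]

lemma sextet_cover {S : Finset (Finset GolayPt)} (hS : S ∈ sextets) (p : GolayPt) :
    ∃ t ∈ S, p ∈ t := by
  have hu : S.biUnion (fun a => a) = Finset.univ := by
    rw [← Finset.card_eq_iff_eq_univ,
      Finset.card_biUnion (fun a ha b hb h => sextet_disjoint hS ha hb h),
      Finset.sum_congr rfl (fun o ho => hS.2.1 o ho), Finset.sum_const, hS.1]
    simp [GolayPt, Fintype.card_option]
  simpa using Finset.eq_univ_iff_forall.1 hu p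

lemma sextet_eq_of_mem {S S' : Finset (Finset GolayPt)} (hS : S ∈ sextets) (hS' : S' ∈ sextets)
    {t : Finset GolayPt} (ht : t ∈ S) (ht' : t ∈ S') : S = S' := by
  refine Finset.eq_of_subset_of_card_le (fun u hu => ?_) (by rw [hS.1, hS'.1])
  rcases eq_or_ne u t with rfl | hne
  · exact ht'
  obtain ⟨p, hp⟩ := Finset.card_pos.1 (show 0 < u.card by rw [hS.2.1 u hu]; norm_num)
  have hpt : p ∉ t := fun h => Finset.disjoint_left.1 (sextet_disjoint hS hu ht hne) hp h
  obtain ⟨u', hu', hp'⟩ := sextet_cover hS' p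
  have hne' : u' ≠ t := fun e => hpt (e ▸ hp')
  have heq : t ∪ u = t ∪ u' := by
    refine octad_eq_of_five (hS.2.2 t ht u hu hne.symm) (hS'.2.2 t ht' u' hu' hne'.symm) ?_
    calc 5 = (insert p t).card := by rw [Finset.card_insert_of_notMem hpt, hS.2.1 t ht]
      _ ≤ _ := Finset.card_le_card fun z hz => by
          rcases Finset.mem_insert.1 hz with rfl | hz
          · simp [hp, hp']
          · simp [hz]
  have : u = u' := by
    have h1 : (t ∪ u) \ t = u :=
      Finset.union_sdiff_cancel_left (sextet_disjoint hS ht hu hne.symm)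
    have h2 : (t ∪ u') \ t = u' :=
      Finset.union_sdiff_cancel_left (sextet_disjoint hS' ht' hu' hne'.symm)
    rw [← h1, heq, h2]
  exact this ▸ hu'

theorem ncard_sextets_le : sextets.ncard ≤ 1771 := by
  have hc : ((Finset.univ.erase (none : GolayPt)).powersetCard 3).card = 1771 := by
    rw [Finset.card_powersetCard, Finset.card_erase_of_mem (Finset.mem_univ _)]
    simp [GolayPt, Fintype.card_option]
    rfl
  have h := fun S (hS : S ∈ sextets) => sextet_cover hS none
  rw [← hc, ← Set.ncard_coe_finset]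
  refine Set.ncard_le_ncard_of_injOn
    (fun S => (S.filter fun t => none ∈ t).biUnion fun t => t.erase none) ?_ ?_
  · intro S hS
    obtain ⟨t, ht, hnt⟩ := h S hS
    have hf : (S.filter fun t => none ∈ t) = {t} := by
      refine Finset.eq_singleton_iff_unique_mem.2 ⟨by simp [ht, hnt], fun u hu => ?_⟩
      rw [Finset.mem_filter] at hu
      by_contra hne
      exact Finset.disjoint_left.1 (sextet_disjoint hS hu.1 ht hne) hu.2 hnt
    simp only [hf, Finset.singleton_biUnion, Finset.mem_coe, Finset.mem_powersetCard]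
    refine ⟨fun z hz => ?_, by rw [Finset.card_erase_of_mem hnt, hS.2.1 t ht]⟩
    simp [(Finset.mem_erase.1 hz).1]
  · intro S hS S' hS' heq
    obtain ⟨t, ht, hnt⟩ := h S hS
    obtain ⟨t', ht', hnt'⟩ := h S' hS'
    have hf : ∀ {S t}, S ∈ sextets → t ∈ S → none ∈ t →
        (S.filter fun t => none ∈ t) = {t} := by
      intro S t hS ht hnt
      refine Finset.eq_singleton_iff_unique_mem.2 ⟨by simp [ht, hnt], fun u hu => ?_⟩
      rw [Finset.mem_filter] at hu
      by_contra hne
      exact Finset.disjoint_left.1 (sextet_disjoint hS hu.1 ht hne) hu.2 hnt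
    simp only [hf hS ht hnt, hf hS' ht' hnt', Finset.singleton_biUnion] at heq
    have : t = t' := by rw [← Finset.insert_erase hnt, heq, Finset.insert_erase hnt']
    exact sextet_eq_of_mem hS hS' ht (this ▸ ht')

/-! ### Recognising roots -/

/-- A list is a trio. -/
def isTrioB (B : List ℕ) : Bool :=
  goodB B && (B.length == 3) && B.all (fun o => octadList.contains o) &&
    B.all fun o => B.all fun q => o == q || o &&& q == 0

lemma trio_of_isTrioB {B : List ℕ} (h : isTrioB B = true) : sysOf B ∈ trios := by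
  simp only [isTrioB, Bool.and_eq_true, beq_iff_eq, List.all_eq_true, List.contains_iff_mem,
    Bool.or_eq_true] at h
  obtain ⟨⟨⟨hg, h3⟩, ho⟩, hd⟩ := h
  refine ⟨(goodSys_of_goodB hg).1.trans h3, fun o hoB => ?_, fun o hoB o' hoB' hne => ?_⟩
  · obtain ⟨m, hm, rfl⟩ := mem_sysOf.1 hoB
    exact ptSet_mem_octads (ho m hm)
  · obtain ⟨m, hm, rfl⟩ := mem_sysOf.1 hoB
    obtain ⟨m', hm', rfl⟩ := mem_sysOf.1 hoB'
    rcases hd m hm m' hm' with e | e
    · exact absurd (by rw [e]) hne
    · rw [Finset.disjoint_iff_inter_eq_empty, ← ptSet_and, e, ptSet_zero]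

/-- A list is a sextet. -/
def isSextB (B : List ℕ) : Bool :=
  goodB B && (B.length == 6) && B.all (fun t => popCnt t == 4) &&
    B.all fun t => B.all fun u => t == u || octadList.contains (t ||| u)

lemma sextet_of_isSextB {B : List ℕ} (h : isSextB B = true) : sysOf B ∈ sextets := by
  simp only [isSextB, Bool.and_eq_true, beq_iff_eq, List.all_eq_true, List.contains_iff_mem,
    Bool.or_eq_true] at h
  obtain ⟨⟨⟨hg, h6⟩, h4⟩, ho⟩ := h
  refine ⟨(goodSys_of_goodB hg).1.trans h6, fun o hoB => ?_, fun o hoB o' hoB' hne => ?_⟩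
  · obtain ⟨m, hm, rfl⟩ := mem_sysOf.1 hoB
    rw [card_ptSet, h4 m hm]
  · obtain ⟨m, hm, rfl⟩ := mem_sysOf.1 hoB
    obtain ⟨m', hm', rfl⟩ := mem_sysOf.1 hoB'
    rcases ho m hm m' hm' with e | e
    · exact absurd (by rw [e]) hne
    · rw [← ptSet_or]; exact ptSet_mem_octads e

/-- A list is an octad. -/
def isOctB (B : List ℕ) : Bool := (B.length == 1) && B.all fun o => octadList.contains o

lemma octadSys_of_isOctB {B : List ℕ} (h : isOctB B = true) : sysOf B ∈ octadSys := by
  simp only [isOctB, Bool.and_eq_true, beq_iff_eq, List.all_eq_true, List.contains_iff_mem] at h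
  obtain ⟨m, rfl⟩ := List.length_eq_one_iff.1 h.1
  exact ⟨ptSet m, ptSet_mem_octads (h.2 m (by simp)), by simp [sysOf]⟩

/-! ### Orbits relative to a conjugate base -/

/-- Orbit representatives, sizes, and the cover, relative to `g • A`. -/
theorem orbit_split {A gs : List ℕ} {N : ℕ} {cs : List (List ℕ × List (List ℕ))}
    (h : orbitCert A gs N cs = true) {X : Set (Finset (Finset GolayPt))}
    (hinv : ∀ g : M24, ∀ S ∈ X, g • S ∈ X) (hN : X.ncard ≤ N) (hroot : ∀ c ∈ cs, sysOf c.1 ∈ X)
    (g : M24) :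
    (∀ c ∈ cs, g • sysOf c.1 ∈ X ∧
      (MulAction.orbit (MulAction.stabilizer M24 (g • sysOf A)) (g • sysOf c.1)).ncard
        = (classL gs c).length) ∧
    X = {S | ∃ c ∈ cs,
      S ∈ MulAction.orbit (MulAction.stabilizer M24 (g • sysOf A)) (g • sysOf c.1)} := by
  refine ⟨fun c hc => ⟨hinv g _ (hroot c hc), ?_⟩, ?_⟩
  · rw [ncard_orbit_stabilizer_smul, (orbitCert_orbit h hinv hN hroot hc).2]
  · ext S
    have hiff : S ∈ X ↔ g⁻¹ • S ∈ X :=
      ⟨hinv _ S, fun hh => by simpa using hinv g _ hh⟩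
    rw [hiff, orbitCert_union h hinv hN hroot, Set.mem_setOf_eq]
    refine exists_congr fun c => and_congr_right fun _ => ?_
    rw [orbit_stabilizer_smul, Set.mem_image]
    constructor
    · intro hh; exact ⟨_, hh, smul_inv_smul g S⟩
    · rintro ⟨x, hx, rfl⟩; rwa [inv_smul_smul]

/-- A single class under the whole group: transitivity. -/
theorem exists_smul_of_cert {gs : List ℕ} {N : ℕ} {c : List ℕ × List (List ℕ)}
    (h : orbitCert [] gs N [c] = true) {X : Set (Finset (Finset GolayPt))}
    (hinv : ∀ g : M24, ∀ S ∈ X, g • S ∈ X) (hN : X.ncard ≤ N) (hroot : sysOf c.1 ∈ X)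
    {S : Finset (Finset GolayPt)} (hS : S ∈ X) : ∃ g : M24, g • sysOf c.1 = S := by
  obtain ⟨d, hd, hSd⟩ := (orbitCert_union h hinv hN (by simpa using hroot)).1 hS
  rw [List.mem_singleton.1 hd] at hSd
  obtain ⟨g, hg⟩ := hSd
  exact ⟨g.1, hg⟩

/-- A proposition counted class by class. -/
theorem orbitCert_ncard {A gs : List ℕ} {N : ℕ} {cs : List (List ℕ × List (List ℕ))}
    (h : orbitCert A gs N cs = true) {X : Set (Finset (Finset GolayPt))}
    (hinv : ∀ g : M24, ∀ S ∈ X, g • S ∈ X) (hN : X.ncard ≤ N) (hroot : ∀ c ∈ cs, sysOf c.1 ∈ X)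
    (P : Finset (Finset GolayPt) → Prop) (p : List ℕ → Bool)
    (hP : ∀ c ∈ cs, ∀ B ∈ classL gs c, GoodSys B → (P (sysOf B) ↔ p B = true)) :
    {S | S ∈ X ∧ P S}.ncard = ((cs.flatMap (classL gs)).filter p).length := by
  have e : {S | S ∈ X ∧ P S}
      = ((((cs.flatMap (classL gs)).filter p).map sysOf).toFinset :
          Set (Finset (Finset GolayPt))) := by
    ext S
    simp only [Set.mem_setOf_eq, Finset.mem_coe, List.mem_toFinset, List.mem_map,
      List.mem_filter, List.mem_flatMap]
    rw [orbitCert_cover h hinv hN hroot]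
    constructor
    · rintro ⟨⟨c, hc, B, hB, rfl⟩, hPB⟩
      exact ⟨B, ⟨⟨c, hc, hB⟩, (hP c hc B hB (orbitCert_mem h hc hB).1).1 hPB⟩, rfl⟩
    · rintro ⟨B, ⟨⟨c, hc, hB⟩, hp⟩, rfl⟩
      exact ⟨⟨c, hc, B, hB, rfl⟩, (hP c hc B hB (orbitCert_mem h hc hB).1).2 hp⟩
  rw [e, Set.ncard_coe_finset, List.toFinset_card_of_nodup
    ((orbitCert_injOn h).sublist (List.filter_sublist.map _)), List.length_map]

end Cfsg.Agent.H95
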