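import Cfsg.Agent.H95.GolayPairData
import Cfsg.Agent.H95.GolaySys

/-!
Kernel-checked orbit certificates.
-/

set_option autoImplicit false
set_option maxRecDepth 100000

namespace Cfsg.Agent.H95

lemma sextetSext_cert :
    orbitCert sextetBase sextetGens 1771 sextetSext = true := by
  decide +kernel

lemma sextetSext_roots :
    sextetSext.all (fun c => isSextB c.1) = true := by
  decide +kernel

lemma sextetSext_lengths :
    (sextetSext.map fun c => (classL sextetGens c).length) = [1, 90, 240, 1440] := by
  decide +kernel

end Cfsg.Agent.H95
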