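import Cfsg.Agent.H95.GolaySys

/-!
Kernel-checked orbit certificates.
-/

set_option autoImplicit false
set_option maxRecDepth 100000

namespace Cfsg.Agent.H95

lemma trioOctSing_cert :
    orbitCert trioBase trioGens 759 trioOctSing = true := by
  decide +kernel

lemma trioOctSing_roots :
    trioOctSing.all (fun c => isOctB c.1) = true := by
  decide +kernel

lemma trioBase_ok :
    isTrioB trioBase = true := by
  decide +kernel

end Cfsg.Agent.H95
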