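import Cfsg.Agent.Golay.Stabilisers

/-!
Elements of the group of the code fixing five points, or permuting five points in three given
patterns, as explicit tables; fixed-point counts of elements of order two and three.
-/

set_option autoImplicit false

namespace Cfsg.Agent.H95

open Cfsg Cfsg.Agent.Golay
open scoped Pointwise

/-- The five base positions. -/
def fivePos : List ℕ := [23, 0, 1, 2, 3]

/-- Mask of the five base positions. -/
def fiveMask : ℕ := 8388623

/-- The elements fixing the five base points. -/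
def fiveTbls : List ℕ :=
  (lvlTrans m24Chain 5).flatMap fun a => (lvlTrans m24Chain 6).map fun b => tblMul a b

/-- An element swapping base points 0, 1 and 2, 3, fixing 4. -/
def patTwo : ℕ := 21031891374900343699909455052375127

/-- An element cycling base points 0, 1, 2, fixing 3, 4. -/
def patThree : ℕ := 14460969538107178548330194693884641

/-- An element swapping base points 0, 1, fixing 2, 3, 4. -/
def patOne : ℕ := 13524192199983079413396058521307191

/-- Number of fixed positions. -/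
def fixCnt (t : ℕ) : ℕ := ((List.range 24).filter fun i => Nat.beq (app t i) i).length

/-- Square is the identity. -/
def sqOne (t : ℕ) : Bool := tblEq (tblMul t t) idTbl

/-- Cube is the identity. -/
def cubeOne (t : ℕ) : Bool := tblEq (tblMul t (tblMul t t)) idTbl

/-- `u` fixes every fixed position of `t` outside `skip`. -/
def keepsFix (skip : List ℕ) (t u : ℕ) : Bool :=
  (List.range 24).all fun i => skip.contains i || !Nat.beq (app t i) i || Nat.beq (app u i) i

lemma five_checks :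
    (checkChain [] fiveMask (m24Chain.drop 5) && (chainCard (m24Chain.drop 5) == 48) &&
    (fiveTbls.all (inStab [] fiveMask)) && (fiveTbls.length == 48) &&
    decide ((fiveTbls.map fun x => (List.range 24).map fun i => app x i).Nodup) &&
    ([patTwo, patThree, patOne].all inM24) &&
    decide (fivePos.map (app patTwo) = [0, 23, 2, 1, 3]) &&
    decide (fivePos.map (app patThree) = [0, 1, 23, 2, 3]) &&
    decide (fivePos.map (app patOne) = [0, 23, 1, 2, 3]) &&
    (fiveTbls.all fun t => !sqOne t || tblEq t idTbl || fixCnt t == 8) &&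
    (fiveTbls.all fun t => !cubeOne t || tblEq t idTbl || fixCnt t == 6) &&
    (fiveTbls.all fun t => !sqOne (tblMul patTwo t) || fixCnt (tblMul patTwo t) == 8) &&
    (fiveTbls.all fun t => !cubeOne (tblMul patThree t) || fixCnt (tblMul patThree t) == 6) &&
    (fiveTbls.all fun t => !cubeOne t || tblEq t idTbl ||
      ((fiveTbls.any fun v =>
          tblEq (tblMul (tblMul patOne v) t) (tblMul (tblMul t t) (tblMul patOne v)) &&
          keepsFix [23, 0] t (tblMul patOne v)) &&
        fiveTbls.all fun u => !keepsFix [] t u || tblEq (tblMul u t) (tblMul t u)))) = true ∧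
    ptSet fiveMask = {pt 23, pt 0, pt 1, pt 2, pt 3} := by
  decide +kernel

lemma tblEq_iff {A B : ℕ} (hA : validT A = true) (hB : validT B = true) :
    tblEq A B = true ↔ mkPerm A = mkPerm B := by
  refine ⟨mkPerm_eq_of_tblEq hA hB, fun h => ?_⟩
  rw [tblEq, List.all_eq_true]
  intro i hi
  rw [List.mem_range] at hi
  rw [beq_iff_eq, ← idx_pt i hi, ← idx_mkPerm hA, ← idx_mkPerm hB, h]

lemma fixCnt_eq {t : ℕ} (ht : validT t = true) :
    (Finset.univ.filter fun p => mkPerm t p = p).card = fixCnt t := by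
  rw [fixCnt, ← List.toFinset_card_of_nodup (List.nodup_range.filter _)]
  refine Finset.card_bij (fun p _ => idx p) ?_ ?_ ?_
  · intro p hp
    simp only [Finset.mem_filter, Finset.mem_univ, true_and] at hp
    simp only [List.mem_toFinset, List.mem_filter, List.mem_range, Nat.beq_eq]
    exact ⟨idx_lt p, by rw [← idx_mkPerm ht, hp]⟩
  · intro p _ q _ h; exact idx_injective h
  · intro i hi
    simp only [List.mem_toFinset, List.mem_filter, List.mem_range, Nat.beq_eq] at hi
    refine ⟨pt i, ?_, idx_pt i hi.1⟩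
    simp only [Finset.mem_filter, Finset.mem_univ, true_and]
    rw [mkPerm_pt ht hi.1, hi.2]

lemma sqOne_iff {t : ℕ} (ht : validT t = true) : sqOne t = true ↔ mkPerm t ^ 2 = 1 := by
  have s := tblMul_spec ht ht
  rw [sqOne, tblEq_iff s.1 idTbl_spec.1, s.2, idTbl_spec.2, pow_two]

lemma cubeOne_iff {t : ℕ} (ht : validT t = true) : cubeOne t = true ↔ mkPerm t ^ 3 = 1 := by
  have s := tblMul_spec ht ht
  have s' := tblMul_spec ht s.1
  rw [cubeOne, tblEq_iff s'.1 idTbl_spec.1, s'.2, s.2, idTbl_spec.2, pow_succ', pow_two]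

lemma keepsFix_iff {skip : List ℕ} {t u : ℕ} (ht : validT t = true) (hu : validT u = true) :
    keepsFix skip t u = true ↔
      ∀ p, idx p ∉ skip → mkPerm t p = p → mkPerm u p = p := by
  have hv : ∀ {w}, validT w = true → ∀ p, mkPerm w p = p ↔ app w (idx p) = idx p := by
    intro w hw p
    rw [← idx_mkPerm hw]
    exact ⟨fun h => by rw [h], fun h => idx_injective h⟩
  simp only [keepsFix, List.all_eq_true, List.mem_range, Bool.or_eq_true, Bool.not_eq_true',
    Nat.beq_eq, List.contains_iff_mem]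
  constructor
  · intro h p hs hp
    rcases h (idx p) (idx_lt p) with (h' | h') | h'
    · exact absurd h' hs
    · rw [(hv ht p).1 hp, ← Bool.not_eq_true] at h'
      exact absurd (Nat.beq_refl _) h'
    · exact (hv hu p).2 h'
  · intro h i hi
    by_cases hs : i ∈ skip
    · exact Or.inl (Or.inl hs)
    by_cases hti : app t i = i
    · refine Or.inr ?_
      have := (hv hu (pt i)).1 (h (pt i) (by rwa [idx_pt i hi])
        ((hv ht (pt i)).2 (by rw [idx_pt i hi]; exact hti)))
      rwa [idx_pt i hi] at this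
    · exact Or.inl (Or.inr (by rw [← Bool.not_eq_true]; exact fun e => hti (Nat.beq_eq.mp e)))

/-- The base points. -/
def fivePt (i : Fin 5) : GolayPt := pt (fivePos.getD i 0)

lemma fivePt_injective : Function.Injective fivePt := by unfold fivePt fivePos; decide

/-- An element fixing the base points is in the list. -/
theorem five_fix {σ : Equiv.Perm GolayPt} (hσ : σ ∈ M24) (h : ∀ i, σ (fivePt i) = fivePt i) :
    ∃ t ∈ fiveTbls, validT t = true ∧ mkPerm t = σ := by
  obtain ⟨hchk, hmask⟩ := five_checks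
  simp only [Bool.and_eq_true, beq_iff_eq, decide_eq_true_eq] at hchk
  obtain ⟨⟨⟨⟨⟨⟨⟨⟨⟨⟨⟨⟨⟨hch, hcc⟩, hin⟩, hlen⟩, hnd⟩, -⟩, -⟩, -⟩, -⟩, -⟩, -⟩, -⟩, -⟩, -⟩ := hchk
  rw [List.all_eq_true] at hin
  have hv : ∀ t ∈ fiveTbls, validT t = true := fun t ht => by
    have := hin t ht
    simp only [inStab, Bool.and_eq_true] at this
    exact validT_of_inM24 this.1.1
  let mk : {t // t ∈ fiveTbls} → stabGrp [] fiveMask :=
    fun t => ⟨mkPerm t.1, mem_stabGrp_of_inStab (hin t.1 t.2)⟩
  have hbij : Function.Bijective mk := by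
    rw [Nat.bijective_iff_injective_and_card]
    refine ⟨fun a b hab => Subtype.ext (List.inj_on_of_nodup_map hnd a.2 b.2 ?_), ?_⟩
    · have e : mkPerm a.1 = mkPerm b.1 := congrArg Subtype.val hab
      refine List.map_congr_left fun i hi => ?_
      rw [List.mem_range] at hi
      rw [← idx_pt i hi, ← idx_mkPerm (hv _ a.2), ← idx_mkPerm (hv _ b.2), e]
    · rw [card_stabGrp hch, hcc, Nat.card_eq_fintype_card,
        Fintype.card_of_subtype fiveTbls.toFinset (by simp),
        List.toFinset_card_of_nodup (List.Nodup.of_map _ hnd), hlen]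
  have hmem : σ ∈ stabGrp [] fiveMask := by
    refine ⟨hσ, by simp, fun p hp => ?_⟩
    rw [hmask] at hp
    simp only [Finset.mem_insert, Finset.mem_singleton] at hp
    rcases hp with rfl | rfl | rfl | rfl | rfl
    exacts [h 0, h 1, h 2, h 3, h 4]
  obtain ⟨t, ht⟩ := hbij.2 ⟨σ, hmem⟩
  exact ⟨t.1, t.2, hv _ t.2, congrArg Subtype.val ht⟩

/-- An element moving the base points like the table `w` is `w` times one of the list. -/
theorem five_pat {w : ℕ} (hw : inM24 w = true) {σ : Equiv.Perm GolayPt} (hσ : σ ∈ M24)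
    (h : ∀ i, σ (fivePt i) = mkPerm w (fivePt i)) :
    ∃ t ∈ fiveTbls, validT (tblMul w t) = true ∧ mkPerm (tblMul w t) = σ := by
  obtain ⟨t, ht, hv, e⟩ := five_fix (M24.mul_mem (M24.inv_mem (mem_M24_of_inM24 hw)) hσ) (fun i => by
    rw [Equiv.Perm.mul_apply, h, Equiv.Perm.coe_inv, Equiv.symm_apply_apply])
  have s := tblMul_spec (validT_of_inM24 hw) hv
  exact ⟨t, ht, s.1, by rw [s.2, e, mul_inv_cancel_left]⟩

/-- Five distinct points can be moved onto the base points. -/
lemma exists_to_five {a b c d e : GolayPt} (h : [a, b, c, d, e].Nodup) :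
    ∃ k : M24, (k : Equiv.Perm GolayPt) a = fivePt 0 ∧ (k : Equiv.Perm GolayPt) b = fivePt 1 ∧
      (k : Equiv.Perm GolayPt) c = fivePt 2 ∧ (k : Equiv.Perm GolayPt) d = fivePt 3 ∧
      (k : Equiv.Perm GolayPt) e = fivePt 4 := by
  have hi : Function.Injective ![a, b, c, d, e] := by
    have := List.nodup_ofFn.1 (show (List.ofFn ![a, b, c, d, e]).Nodup by simpa using h)
    exact this
  obtain ⟨k, hk⟩ := exists_M24_map_five hi fivePt_injective
  exact ⟨k, hk 0, hk 1, hk 2, hk 3, hk 4⟩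

lemma fix_card_conj (k : M24) (σ : Equiv.Perm GolayPt) :
    (Finset.univ.filter fun p => (k.1 * σ * k.1⁻¹) p = p).card
      = (Finset.univ.filter fun p => σ p = p).card := by
  symm
  refine Finset.card_equiv k.1 fun p => ?_
  rw [Finset.mem_filter, Finset.mem_filter, Equiv.Perm.mul_apply, Equiv.Perm.mul_apply,
    Equiv.Perm.coe_inv, Equiv.symm_apply_apply, EmbeddingLike.apply_eq_iff_eq]
  exact and_congr_left fun _ => iff_of_true (Finset.mem_univ _) (Finset.mem_univ _)

lemma card_fix_mod {σ : Equiv.Perm GolayPt} {p : ℕ} [Fact p.Prime] (h : σ ^ p = 1) :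
    (Finset.univ.filter fun x => σ x = x).card ≡ 24 [MOD p] := by
  have h' := Equiv.Perm.card_compl_support_modEq (n := 1) (σ := σ) (by rwa [pow_one])
  have e : σ.supportᶜ = Finset.univ.filter fun x => σ x = x := by ext x; simp
  rw [e] at h'
  refine h'.trans ?_
  simp [GolayPt, Fintype.card_option]
  rfl

lemma fixed_six_order_three {σ : Equiv.Perm GolayPt} (hσ : σ ∈ M24) (h3 : σ ^ 3 = 1) (hne : σ ≠ 1) :
    (Finset.univ.filter fun x => σ x = x).card = 0 ∨
      (Finset.univ.filter fun x => σ x = x).card = 6 := by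
  haveI : Fact (Nat.Prime 3) := ⟨Nat.prime_three⟩
  set F := Finset.univ.filter fun x => σ x = x with hF
  by_cases h0 : F.card = 0
  · exact Or.inl h0
  refine Or.inr ?_
  have hmod : F.card % 3 = 24 % 3 := card_fix_mod h3
  obtain ⟨a, b, c, hab, hac, hbc, hsub⟩ : ∃ a b c, a ≠ b ∧ a ≠ c ∧ b ≠ c ∧ {a, b, c} ⊆ F := by
    obtain ⟨t, ht, htc⟩ := Finset.exists_subset_card_eq (show 3 ≤ F.card by omega)
    obtain ⟨a, b, c, h1, h2, h3, rfl⟩ := Finset.card_eq_three.1 htc
    exact ⟨a, b, c, h1, h2, h3, ht⟩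
  have hfix : ∀ x ∈ F, σ x = x := fun x hx => (Finset.mem_filter.1 hx).2
  obtain ⟨hchk, -⟩ := five_checks
  simp only [Bool.and_eq_true, beq_iff_eq, decide_eq_true_eq] at hchk
  obtain ⟨⟨⟨⟨⟨⟨⟨⟨⟨⟨⟨⟨⟨-, -⟩, -⟩, -⟩, -⟩, hpat⟩, -⟩, hp3⟩, -⟩, -⟩, hc3⟩, -⟩, hcp3⟩, -⟩ := hchk
  simp only [List.all_eq_true, Bool.or_eq_true, Bool.not_eq_true', beq_iff_eq] at hc3 hcp3 hpat
  by_cases hsmall : F.card ≤ 3
  · have hF3 : F = {a, b, c} := (Finset.eq_of_subset_of_card_le hsub (by
      rw [Finset.card_eq_three.2 ⟨a, b, c, hab, hac, hbc, rfl⟩]; omega)).symm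
    obtain ⟨x, hx⟩ : ∃ x, x ∉ F := by
      by_contra hall
      push Not at hall
      exact hne (Equiv.ext fun x => hfix x (hall x))
    have hx' : σ x ≠ x := fun e => hx (Finset.mem_filter.2 ⟨Finset.mem_univ x, e⟩)
    have hx2 : σ (σ (σ x)) = x := by
      have := Equiv.congr_fun h3 x
      simpa [pow_succ] using this
    have hx3 : σ (σ x) ≠ x := fun e => hx' (by rwa [e] at hx2)
    have hx4 : σ (σ x) ≠ σ x := fun e => hx' (σ.injective e)
    have hnotfix : ∀ y, y ∈ ({a, b} : Finset GolayPt) →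
        y ≠ x ∧ y ≠ σ x ∧ y ≠ σ (σ x) := by
      intro y hy
      have hyF : σ y = y := hfix y (hsub (by
        simp only [Finset.mem_insert, Finset.mem_singleton] at hy ⊢; tauto))
      refine ⟨fun e => hx' (e ▸ hyF), fun e => hx' (σ.injective (e ▸ hyF)),
        fun e => hx' (σ.injective (σ.injective (e ▸ hyF)))⟩
    obtain ⟨a1, a2, a3⟩ := hnotfix a (by simp)
    obtain ⟨b1, b2, b3⟩ := hnotfix b (by simp)
    obtain ⟨k, k0, k1, k2, k3, k4⟩ := exists_to_five (a := x) (b := σ x) (c := σ (σ x)) (d := a)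
      (e := b) (by simp [Ne.symm hx', Ne.symm hx3, Ne.symm hx4, a1.symm, a2.symm, a3.symm,
        b1.symm, b2.symm, b3.symm, hab])
    have hw : inM24 patThree = true := hpat _ (by simp)
    have hwp : ∀ i < 24, mkPerm patThree (pt i) = pt (app patThree i) :=
      fun i hi => mkPerm_pt (validT_of_inM24 hw) hi
    simp only [fivePos, List.map_cons, List.map_nil, List.cons.injEq, and_true] at hp3
    have hσF : ∀ y ∈ ({a, b} : Finset GolayPt), σ y = y := fun y hy => hfix y (hsub (by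
      simp only [Finset.mem_insert, Finset.mem_singleton] at hy ⊢; tauto))
    obtain ⟨t, ht, hv, e⟩ := five_pat hw (M24.mul_mem (M24.mul_mem k.2 hσ) (M24.inv_mem k.2)) (by
      intro i
      fin_cases i
      · show k.1 (σ (k.1⁻¹ (fivePt 0))) = mkPerm patThree (pt 23)
        rw [← k0, hwp 23 (by norm_num), hp3.1, Equiv.Perm.coe_inv, Equiv.symm_apply_apply, k1]; rfl
      · show k.1 (σ (k.1⁻¹ (fivePt 1))) = mkPerm patThree (pt 0)
        rw [← k1, hwp 0 (by norm_num), hp3.2.1, Equiv.Perm.coe_inv, Equiv.symm_apply_apply, k2]; rfl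
      · show k.1 (σ (k.1⁻¹ (fivePt 2))) = mkPerm patThree (pt 1)
        rw [← k2, hwp 1 (by norm_num), hp3.2.2.1, Equiv.Perm.coe_inv, Equiv.symm_apply_apply, hx2,
          k0]; rfl
      · show k.1 (σ (k.1⁻¹ (fivePt 3))) = mkPerm patThree (pt 2)
        rw [← k3, hwp 2 (by norm_num), hp3.2.2.2.1, Equiv.Perm.coe_inv, Equiv.symm_apply_apply,
          hσF a (by simp), k3]; rfl
      · show k.1 (σ (k.1⁻¹ (fivePt 4))) = mkPerm patThree (pt 3)
        rw [← k4, hwp 3 (by norm_num), hp3.2.2.2.2, Equiv.Perm.coe_inv, Equiv.symm_apply_apply,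
          hσF b (by simp), k4]; rfl)
    have hc := (hcp3 t ht).resolve_left (by
      rw [Bool.eq_false_iff, not_not, cubeOne_iff hv, e, conj_pow, h3, mul_one, mul_inv_cancel])
    rw [← fixCnt_eq hv, e, fix_card_conj] at hc
    exact hc
  · obtain ⟨u, hu, hu5⟩ := Finset.exists_subset_card_eq (show 5 ≤ F.card by omega)
    obtain ⟨f, hf, hfu⟩ := exists_five_of_card (s := u) (by omega)
    obtain ⟨k, hk⟩ := exists_M24_map_five hf fivePt_injective
    obtain ⟨t, ht, hv, e⟩ := five_fix (M24.mul_mem (M24.mul_mem k.2 hσ) (M24.inv_mem k.2)) (fun i => by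
      rw [← hk i, Equiv.Perm.mul_apply, Equiv.Perm.mul_apply, Equiv.Perm.coe_inv,
        Equiv.symm_apply_apply, hfix _ (hu (hfu i))])
    rcases hc3 t ht with (h | h) | h
    · rw [Bool.eq_false_iff] at h
      exact absurd (by rw [cubeOne_iff hv, e, conj_pow, h3, mul_one, mul_inv_cancel]) h
    · rw [tblEq_iff hv idTbl_spec.1, idTbl_spec.2, e, conj_eq_one_iff] at h
      exact absurd h hne
    · rw [← fixCnt_eq hv, e, fix_card_conj] at h
      exact h

lemma fixed_eight_order_two {σ : Equiv.Perm GolayPt} (hσ : σ ∈ M24) (h2 : σ ^ 2 = 1) (hne : σ ≠ 1) :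
    (Finset.univ.filter fun x => σ x = x).card = 0 ∨
      (Finset.univ.filter fun x => σ x = x).card = 8 := by
  set F := Finset.univ.filter fun x => σ x = x with hF
  by_cases h0 : F.card = 0
  · exact Or.inl h0
  refine Or.inr ?_
  have hfix : ∀ x ∈ F, σ x = x := fun x hx => (Finset.mem_filter.1 hx).2
  have hσσ : ∀ x, σ (σ x) = x := fun x => by
    have := Equiv.congr_fun h2 x
    simpa [pow_succ] using this
  obtain ⟨hchk, -⟩ := five_checks
  simp only [Bool.and_eq_true, beq_iff_eq, decide_eq_true_eq] at hchk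
  obtain ⟨⟨⟨⟨⟨⟨⟨⟨⟨⟨⟨⟨⟨-, -⟩, -⟩, -⟩, -⟩, hpat⟩, hp2⟩, -⟩, -⟩, hc2⟩, -⟩, hcp2⟩, -⟩, -⟩ := hchk
  simp only [List.all_eq_true, Bool.or_eq_true, Bool.not_eq_true', beq_iff_eq] at hc2 hcp2 hpat
  by_cases hsmall : F.card < 5
  · obtain ⟨z, hz⟩ := Finset.card_pos.1 (Nat.pos_of_ne_zero h0)
    have hMcard : 19 < Fᶜ.card := by
      rw [Finset.card_compl]
      simp [GolayPt, Fintype.card_option]
      omega
    obtain ⟨x, hx⟩ := Finset.card_pos.1 (show 0 < Fᶜ.card by omega)
    obtain ⟨y, hy, hyx⟩ := Finset.exists_mem_notMem_of_card_lt_card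
      (s := ({x, σ x} : Finset GolayPt)) (t := Fᶜ) (lt_of_le_of_lt Finset.card_le_two (by omega))
    rw [Finset.mem_compl] at hx hy
    simp only [Finset.mem_insert, Finset.mem_singleton, not_or] at hyx
    have hx' : σ x ≠ x := fun e => hx (Finset.mem_filter.2 ⟨Finset.mem_univ x, e⟩)
    have hy' : σ y ≠ y := fun e => hy (Finset.mem_filter.2 ⟨Finset.mem_univ y, e⟩)
    have h13 : σ x ≠ σ y := fun e => hyx.1 (σ.injective e).symm
    have h03 : x ≠ σ y := fun e => hyx.2 (by rw [e, hσσ])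
    have hzσ := hfix z hz
    obtain ⟨k, k0, k1, k2, k3, k4⟩ := exists_to_five (a := x) (b := σ x) (c := y) (d := σ y)
      (e := z) (by
        have z0 : x ≠ z := fun e => hx (e ▸ hz)
        have z2 : y ≠ z := fun e => hy (e ▸ hz)
        have z1 : σ x ≠ z := fun e => z0 (σ.injective (e.trans hzσ.symm))
        have z3 : σ y ≠ z := fun e => z2 (σ.injective (e.trans hzσ.symm))
        simp [Ne.symm hx', Ne.symm hy', Ne.symm hyx.1, Ne.symm hyx.2, h13, h03, z0, z1, z2, z3])
    have hw : inM24 patTwo = true := hpat _ (by simp)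
    have hwp : ∀ i < 24, mkPerm patTwo (pt i) = pt (app patTwo i) :=
      fun i hi => mkPerm_pt (validT_of_inM24 hw) hi
    simp only [fivePos, List.map_cons, List.map_nil, List.cons.injEq, and_true] at hp2
    obtain ⟨t, ht, hv, e⟩ := five_pat hw (M24.mul_mem (M24.mul_mem k.2 hσ) (M24.inv_mem k.2)) (by
      intro i
      fin_cases i
      · show k.1 (σ (k.1⁻¹ (fivePt 0))) = mkPerm patTwo (pt 23)
        rw [← k0, hwp 23 (by norm_num), hp2.1, Equiv.Perm.coe_inv, Equiv.symm_apply_apply, k1]; rfl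
      · show k.1 (σ (k.1⁻¹ (fivePt 1))) = mkPerm patTwo (pt 0)
        rw [← k1, hwp 0 (by norm_num), hp2.2.1, Equiv.Perm.coe_inv, Equiv.symm_apply_apply, hσσ,
          k0]; rfl
      · show k.1 (σ (k.1⁻¹ (fivePt 2))) = mkPerm patTwo (pt 1)
        rw [← k2, hwp 1 (by norm_num), hp2.2.2.1, Equiv.Perm.coe_inv, Equiv.symm_apply_apply,
          k3]; rfl
      · show k.1 (σ (k.1⁻¹ (fivePt 3))) = mkPerm patTwo (pt 2)
        rw [← k3, hwp 2 (by norm_num), hp2.2.2.2.1, Equiv.Perm.coe_inv, Equiv.symm_apply_apply,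
          hσσ, k2]; rfl
      · show k.1 (σ (k.1⁻¹ (fivePt 4))) = mkPerm patTwo (pt 3)
        rw [← k4, hwp 3 (by norm_num), hp2.2.2.2.2, Equiv.Perm.coe_inv, Equiv.symm_apply_apply,
          hzσ, k4]; rfl)
    have hc := (hcp2 t ht).resolve_left (by
      rw [Bool.eq_false_iff, not_not, sqOne_iff hv, e, conj_pow, h2, mul_one, mul_inv_cancel])
    rw [← fixCnt_eq hv, e, fix_card_conj] at hc
    exact hc
  · obtain ⟨f, hf, hfu⟩ := exists_five_of_card (s := F) (by omega)
    obtain ⟨k, hk⟩ := exists_M24_map_five hf fivePt_injective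
    obtain ⟨t, ht, hv, e⟩ := five_fix (M24.mul_mem (M24.mul_mem k.2 hσ) (M24.inv_mem k.2)) (fun i => by
      rw [← hk i, Equiv.Perm.mul_apply, Equiv.Perm.mul_apply, Equiv.Perm.coe_inv,
        Equiv.symm_apply_apply, hfix _ (hfu i)])
    rcases hc2 t ht with (h | h) | h
    · rw [Bool.eq_false_iff] at h
      exact absurd (by rw [sqOne_iff hv, e, conj_pow, h2, mul_one, mul_inv_cancel]) h
    · rw [tblEq_iff hv idTbl_spec.1, idTbl_spec.2, e, conj_eq_one_iff] at h
      exact absurd h hne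
    · rw [← fixCnt_eq hv, e, fix_card_conj] at h
      exact h

/-- For an element of order three with six fixed points: some element swaps two given fixed
points, fixes the others and inverts it; what fixes all six commutes with it. -/
lemma six_fixed_inverters {σ : Equiv.Perm GolayPt} (hσ : σ ∈ M24) (h3 : σ ^ 3 = 1) (hne : σ ≠ 1)
    (h6 : (Finset.univ.filter fun x => σ x = x).card = 6) {a b : GolayPt} (ha : σ a = a)
    (hb : σ b = b) (hab : a ≠ b) :
    (∃ g ∈ M24, g * σ = σ⁻¹ * g ∧ g a = b ∧ g b = a ∧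
      ∀ p, p ≠ a → p ≠ b → σ p = p → g p = p) ∧
    ∀ u ∈ M24, (∀ p, σ p = p → u p = p) → u * σ = σ * u := by
  set F := Finset.univ.filter fun x => σ x = x with hF
  have haF : a ∈ F := by simp [hF, ha]
  have hbF : b ∈ F := by simp [hF, hb]
  have hfix : ∀ x ∈ F, σ x = x := fun x hx => (Finset.mem_filter.1 hx).2
  obtain ⟨c, d, e, hcd, hce, hde, hsub⟩ : ∃ c d e, c ≠ d ∧ c ≠ e ∧ d ≠ e ∧
      {c, d, e} ⊆ (F.erase a).erase b := by
    obtain ⟨t, ht, htc⟩ := Finset.exists_subset_card_eq (show 3 ≤ ((F.erase a).erase b).card by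
      rw [Finset.card_erase_of_mem (Finset.mem_erase.2 ⟨hab.symm, hbF⟩),
        Finset.card_erase_of_mem haF, h6]; norm_num)
    obtain ⟨c, d, e, h1, h2, h3, rfl⟩ := Finset.card_eq_three.1 htc
    exact ⟨c, d, e, h1, h2, h3, ht⟩
  have hc := hsub (by simp : c ∈ ({c, d, e} : Finset GolayPt))
  have hd := hsub (by simp : d ∈ ({c, d, e} : Finset GolayPt))
  have he := hsub (by simp : e ∈ ({c, d, e} : Finset GolayPt))
  simp only [Finset.mem_erase] at hc hd he
  obtain ⟨k, k0, k1, k2, k3, k4⟩ := exists_to_five (a := a) (b := b) (c := c) (d := d) (e := e) (by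
    simp [hab, hcd, hce, hde, Ne.symm hc.1, Ne.symm hc.2.1, Ne.symm hd.1, Ne.symm hd.2.1,
      Ne.symm he.1, Ne.symm he.2.1])
  obtain ⟨t, ht, hv, et⟩ := five_fix (M24.mul_mem (M24.mul_mem k.2 hσ) (M24.inv_mem k.2)) (by
    intro i
    rw [Equiv.Perm.mul_apply, Equiv.Perm.mul_apply]
    fin_cases i
    · show k.1 (σ (k.1⁻¹ (fivePt 0))) = fivePt 0
      rw [← k0, Equiv.Perm.coe_inv, Equiv.symm_apply_apply, ha]
    · show k.1 (σ (k.1⁻¹ (fivePt 1))) = fivePt 1
      rw [← k1, Equiv.Perm.coe_inv, Equiv.symm_apply_apply, hb]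
    · show k.1 (σ (k.1⁻¹ (fivePt 2))) = fivePt 2
      rw [← k2, Equiv.Perm.coe_inv, Equiv.symm_apply_apply, hfix c hc.2.2]
    · show k.1 (σ (k.1⁻¹ (fivePt 3))) = fivePt 3
      rw [← k3, Equiv.Perm.coe_inv, Equiv.symm_apply_apply, hfix d hd.2.2]
    · show k.1 (σ (k.1⁻¹ (fivePt 4))) = fivePt 4
      rw [← k4, Equiv.Perm.coe_inv, Equiv.symm_apply_apply, hfix e he.2.2])
  obtain ⟨hchk, -⟩ := five_checks
  simp only [Bool.and_eq_true, beq_iff_eq, decide_eq_true_eq] at hchk
  obtain ⟨⟨⟨⟨⟨⟨⟨⟨⟨⟨⟨⟨⟨-, -⟩, hin⟩, -⟩, -⟩, hpat⟩, -⟩, -⟩, hp1⟩, -⟩, -⟩, -⟩, -⟩, hkey⟩ := hchk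
  simp only [List.all_eq_true, Bool.or_eq_true, Bool.not_eq_true', List.any_eq_true,
    Bool.and_eq_true] at hkey hpat hin
  obtain ⟨⟨v, hvm, hinv, hkeep⟩, hcomm⟩ := (hkey t ht).resolve_left (by
    rintro (h | h)
    · rw [Bool.eq_false_iff] at h
      exact h (by rw [cubeOne_iff hv, et, conj_pow, h3, mul_one, mul_inv_cancel])
    · rw [tblEq_iff hv idTbl_spec.1, idTbl_spec.2, et, conj_eq_one_iff] at h
      exact hne h)
  have hvv : validT v = true := by
    have := hin v hvm
    simp only [inStab, Bool.and_eq_true] at this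
    exact validT_of_inM24 this.1.1
  have hw : inM24 patOne = true := hpat _ (by simp)
  have sw := tblMul_spec (validT_of_inM24 hw) hvv
  have sL := tblMul_spec sw.1 hv
  have stt := tblMul_spec hv hv
  have sR := tblMul_spec stt.1 sw.1
  rw [tblEq_iff sL.1 sR.1, sL.2, sR.2, stt.2] at hinv
  rw [keepsFix_iff hv sw.1] at hkeep
  set W := mkPerm (tblMul patOne v) with hW
  have hWM : W ∈ M24 := by
    rw [sw.2]
    exact M24.mul_mem (mem_M24_of_inM24 hw) (mem_stabGrp_of_inStab (hin v hvm)).1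
  have hv5 : ∀ i, mkPerm v (fivePt i) = fivePt i := by
    intro i
    refine (mem_stabGrp_of_inStab (hin v hvm)).2.2 _ ?_
    rw [five_checks.2]
    fin_cases i <;> simp [fivePt, fivePos]
  simp only [fivePos, List.map_cons, List.map_nil, List.cons.injEq, and_true] at hp1
  have hW0 : W (fivePt 0) = fivePt 1 := by
    rw [sw.2, Equiv.Perm.mul_apply, hv5]
    show mkPerm patOne (pt 23) = pt 0
    rw [mkPerm_pt (validT_of_inM24 hw) (by norm_num), hp1.1]
  have hW1 : W (fivePt 1) = fivePt 0 := by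
    rw [sw.2, Equiv.Perm.mul_apply, hv5]
    show mkPerm patOne (pt 0) = pt 23
    rw [mkPerm_pt (validT_of_inM24 hw) (by norm_num), hp1.2.1]
  refine ⟨⟨k.1⁻¹ * W * k.1, M24.mul_mem (M24.mul_mem (M24.inv_mem k.2) hWM) k.2, ?_, ?_, ?_, ?_⟩, ?_⟩
  · have hσ2 : σ⁻¹ = σ * σ := inv_eq_of_mul_eq_one_right (by rw [← pow_three, h3])
    rw [et] at hinv
    calc k.1⁻¹ * W * k.1 * σ = k.1⁻¹ * (W * (k.1 * σ * k.1⁻¹)) * k.1 := by group
      _ = σ⁻¹ * (k.1⁻¹ * W * k.1) := by rw [hinv, hσ2]; group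
  · rw [Equiv.Perm.mul_apply, Equiv.Perm.mul_apply, k0, hW0, ← k1, Equiv.Perm.coe_inv,
      Equiv.symm_apply_apply]
  · rw [Equiv.Perm.mul_apply, Equiv.Perm.mul_apply, k1, hW1, ← k0, Equiv.Perm.coe_inv,
      Equiv.symm_apply_apply]
  · intro p hpa hpb hp
    rw [Equiv.Perm.mul_apply, Equiv.Perm.mul_apply, hkeep (k.1 p) ?_ ?_, Equiv.Perm.coe_inv,
      Equiv.symm_apply_apply]
    · simp only [List.mem_cons, List.not_mem_nil, or_false, not_or]
      refine ⟨fun h => hpa ?_, fun h => hpb ?_⟩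
      · refine k.1.injective (idx_injective ?_)
        rw [h, k0]; rfl
      · refine k.1.injective (idx_injective ?_)
        rw [h, k1]; rfl
    · rw [et, Equiv.Perm.mul_apply, Equiv.Perm.mul_apply, Equiv.Perm.coe_inv,
        Equiv.symm_apply_apply, hp]
  · intro u hu hufix
    obtain ⟨t', ht', hv', et'⟩ := five_fix (M24.mul_mem (M24.mul_mem k.2 hu) (M24.inv_mem k.2)) (by
      intro i
      have : σ (k.1⁻¹ (fivePt i)) = k.1⁻¹ (fivePt i) := by
        have h5 := (mem_stabGrp_of_inStab (hin t ht)).2.2 (fivePt i) (by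
          rw [five_checks.2]; fin_cases i <;> simp [fivePt, fivePos])
        rw [et, Equiv.Perm.mul_apply, Equiv.Perm.mul_apply] at h5
        refine k.1.injective ?_
        rw [h5, Equiv.Perm.coe_inv, Equiv.apply_symm_apply]
      rw [Equiv.Perm.mul_apply, Equiv.Perm.mul_apply, hufix _ this, Equiv.Perm.coe_inv,
        Equiv.apply_symm_apply])
    have hh := (hcomm t' ht').resolve_left (by
      rw [Bool.eq_false_iff, not_not, keepsFix_iff hv hv']
      intro p _ hp
      rw [et', Equiv.Perm.mul_apply, Equiv.Perm.mul_apply]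
      rw [et, Equiv.Perm.mul_apply, Equiv.Perm.mul_apply] at hp
      rw [hufix _ (k.1.injective (by rw [hp, Equiv.Perm.coe_inv, Equiv.apply_symm_apply])),
        Equiv.Perm.coe_inv, Equiv.apply_symm_apply])
    have s1 := tblMul_spec hv' hv
    have s2 := tblMul_spec hv hv'
    rw [tblEq_iff s1.1 s2.1, s1.2, s2.2, et, et'] at hh
    calc u * σ = k.1⁻¹ * ((k.1 * u * k.1⁻¹) * (k.1 * σ * k.1⁻¹)) * k.1 := by group
      _ = σ * u := by rw [hh]; group

end Cfsg.Agent.H95
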