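import Cfsg.Agent.H95.TripleData
import Cfsg.Agent.H95.GolayFive

/-!
Kernel-checked generation certificates.
-/

set_option autoImplicit false
set_option maxRecDepth 100000

namespace Cfsg.Agent.H95

open Cfsg.Agent.Golay

/-- Powers of a table. -/
def tblPow (t : ℕ) : ℕ → ℕ
  | 0 => idTbl
  | n + 1 => tblMul (tblPow t n) t

/-- One certificate. -/
def tripleCert (c : (ℕ × ℕ × ℕ) × (ℕ × ℕ × ℕ) × List (ℕ × ℕ × ℕ)) : Bool :=
  [(c.1.1, c.2.1.1), (c.1.2.1, c.2.1.2.1), (c.1.2.2, c.2.1.2.2)].all (fun e =>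
      inStab [] (0 ||| 2 ^ 23) e.2 && tblEq (tblPow e.2 e.1) idTbl && !tblEq e.2 idTbl) &&
    tblEq (tblMul (tblMul c.2.1.1 c.2.1.2.1) c.2.1.2.2) idTbl &&
    checkSLP [c.2.1.1, c.2.1.2.1, idTbl] c.2.2 &&
    [m23Cyc, m23Aux].all (fun t =>
      ([c.2.1.1, c.2.1.2.1, idTbl] ++ c.2.2.map fun n => n.1).contains t)

lemma triples_cert : m23Triples.all tripleCert = true := by decide +kernel

lemma base_cert :
    (checkSLP [m23Cyc, m23Aux, idTbl] m23Base &&
      (m24Chain.drop 1).all fun l => l.2.all fun t =>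
        ([m23Cyc, m23Aux, idTbl] ++ m23Base.map fun n => n.1).contains t) = true := by
  decide +kernel

end Cfsg.Agent.H95
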