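import Cfsg.Agent.H95.GolayOrbitData
import Cfsg.Agent.H95.GolayBlockData

/-!
Block systems moved by checked tables: sameness of systems, distinct tables, the action of a
stabiliser on its blocks, and permutations generated by neighbouring swaps.
-/

set_option autoImplicit false

namespace Cfsg.Agent.H95

open Cfsg Cfsg.Agent.Golay
open scoped Pointwise

/-- The same blocks. -/
def sameSys (B C : List ℕ) : Bool := B.all (fun m => C.contains m) && C.all (fun m => B.contains m)

lemma sysOf_eq_of_sameSys {B C : List ℕ} (h : sameSys B C = true) : sysOf B = sysOf C := by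
  simp only [sameSys, Bool.and_eq_true, List.all_eq_true, List.contains_iff_mem] at h
  ext s
  simp only [mem_sysOf]
  exact ⟨fun ⟨m, hm, e⟩ => ⟨m, h.1 m hm, e⟩, fun ⟨m, hm, e⟩ => ⟨m, h.2 m hm, e⟩⟩

/-- The element of a table of the group, and one for other numbers. -/
noncomputable def tblElt (t : ℕ) : M24 :=
  if h : inM24 t = true then ⟨mkPerm t, mem_M24_of_inM24 h⟩ else 1

lemma coe_tblElt {t : ℕ} (h : inM24 t = true) : (tblElt t : Equiv.Perm GolayPt) = mkPerm t := by
  simp [tblElt, h]

lemma tblElt_smul_ptSet {t : ℕ} (h : inM24 t = true) (m : ℕ) :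
    (tblElt t : Equiv.Perm GolayPt) • ptSet m = ptSet (imgU t m) := by
  rw [coe_tblElt h, imgU_eq, ptSet_tblImg (validT_of_inM24 h)]

lemma tblElt_smul_sys {t : ℕ} (h : inM24 t = true) {B C : List ℕ}
    (hs : sameSys (imgSys t B) C = true) : tblElt t • sysOf B = sysOf C := by
  rw [coe_smul_sys, coe_tblElt h, ← sysOf_imgSys (validT_of_inM24 h), sysOf_eq_of_sameSys hs]

/-- The values of a table as one number. -/
def tblCode (t : ℕ) : ℕ :=
  sumU ((List.range 24).map fun i => Nat.mul (app t i) (Nat.pow 32 i))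

lemma tblCode_eq {a b : ℕ} (ha : inM24 a = true) (hb : inM24 b = true) (h : tblElt a = tblElt b) :
    tblCode a = tblCode b := by
  have e : mkPerm a = mkPerm b := by rw [← coe_tblElt ha, h, coe_tblElt hb]
  refine congrArg sumU (List.map_congr_left fun i hi => ?_)
  rw [List.mem_range] at hi
  rw [← idx_pt i hi, ← idx_mkPerm (validT_of_inM24 ha), ← idx_mkPerm (validT_of_inM24 hb), e]

lemma tblElt_mul {a b : ℕ} (ha : inM24 a = true) (hb : inM24 b = true) :
    ((tblElt a * tblElt b : M24) : Equiv.Perm GolayPt) = mkPerm (tblMul a b) := by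
  rw [(tblMul_spec (validT_of_inM24 ha) (validT_of_inM24 hb)).2, Subgroup.coe_mul, coe_tblElt ha,
    coe_tblElt hb]

/-- A family of tables with distinct values gives distinct elements. -/
lemma tblElt_injOn {l : List ℕ} (hM : ∀ t ∈ l, inM24 t = true)
    (hd : distinctB (l.map tblCode) = true) : (l.map tblElt).Nodup := by
  refine List.Nodup.map_on ?_ (List.Nodup.of_map _ (nodup_of_distinctB hd))
  intro a ha b hb e
  exact List.inj_on_of_nodup_map (nodup_of_distinctB hd) ha hb (tblCode_eq (hM a ha) (hM b hb) e)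

lemma le_card_subgroup {G : Type*} [Group G] [Finite G] (K : Subgroup G) {l : List G}
    (hl : l.Nodup) (hK : ∀ x ∈ l, x ∈ K) : l.length ≤ Nat.card K := by
  classical
  rw [← List.toFinset_card_of_nodup hl, ← Nat.card_eq_finsetCard]
  exact Nat.card_le_card_of_injective (fun x => (⟨x.1, hK _ (List.mem_toFinset.1 x.2)⟩ : K))
    fun a b h => Subtype.ext (congrArg (fun z : K => (z : G)) h)

lemma mem_of_card_eq_length {G : Type*} [Group G] [Finite G] (K : Subgroup G) {l : List G}
    (hl : l.Nodup) (hK : ∀ x ∈ l, x ∈ K) (hc : Nat.card K = l.length) {x : G} (hx : x ∈ K) :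
    x ∈ l := by
  classical
  have hsub : l.toFinset ⊆ (Set.toFinite (K : Set G)).toFinset := fun y hy => by
    simpa using hK y (List.mem_toFinset.1 hy)
  have he := Finset.eq_of_subset_of_card_le hsub (by
    rw [List.toFinset_card_of_nodup hl, ← hc, ← Nat.card_eq_card_finite_toFinset]; rfl)
  rw [← List.mem_toFinset, he]
  simpa using hx

/-! ### Action on blocks -/

lemma smul_mem_block {S : Finset (Finset GolayPt)} (x : MulAction.stabilizer M24 S)
    {t : Finset GolayPt} (ht : t ∈ S) : ((x : M24) : Equiv.Perm GolayPt) • t ∈ S := by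
  have hx : ((x : M24) : Equiv.Perm GolayPt) • S = S := x.2
  have h := Finset.smul_mem_smul_finset (a := ((x : M24) : Equiv.Perm GolayPt)) ht
  rwa [hx] at h

/-- The action of the stabiliser on the blocks. -/
def blockHom (S : Finset (Finset GolayPt)) : MulAction.stabilizer M24 S →* Equiv.Perm ↥S where
  toFun x :=
    { toFun := fun t => ⟨_, smul_mem_block x t.2⟩
      invFun := fun t => ⟨_, smul_mem_block x⁻¹ t.2⟩
      left_inv := fun t => Subtype.ext (inv_smul_smul ((x : M24) : Equiv.Perm GolayPt) t.1)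
      right_inv := fun t => Subtype.ext (smul_inv_smul ((x : M24) : Equiv.Perm GolayPt) t.1) }
  map_one' := Equiv.ext fun t => Subtype.ext (one_smul _ t.1)
  map_mul' x y := Equiv.ext fun t =>
    Subtype.ext (mul_smul ((x : M24) : Equiv.Perm GolayPt) ((y : M24) : Equiv.Perm GolayPt) t.1)

lemma blockHom_apply {S : Finset (Finset GolayPt)} (x : MulAction.stabilizer M24 S) (t : ↥S) :
    (blockHom S x t : Finset GolayPt) = ((x : M24) : Equiv.Perm GolayPt) • (t : Finset GolayPt) :=
  rfl

lemma mem_ker_blockHom {S : Finset (Finset GolayPt)} {x : MulAction.stabilizer M24 S} :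
    x ∈ (blockHom S).ker ↔ ∀ t ∈ S, ((x : M24) : Equiv.Perm GolayPt) • t = t := by
  rw [MonoidHom.mem_ker]
  refine ⟨fun h t ht => ?_, fun h => Equiv.ext fun t => Subtype.ext (h t.1 t.2)⟩
  exact congrArg Subtype.val (Equiv.congr_fun h ⟨t, ht⟩)

/-- Neighbouring swaps in the range give everything. -/
lemma surjective_of_swaps {G : Type*} [Group G] {n : ℕ} (f : G →* Equiv.Perm (Fin (n + 1)))
    (h : ∀ i : Fin n, ∃ x, f x = Equiv.swap i.castSucc i.succ) : Function.Surjective f := by
  rw [← MonoidHom.mrange_eq_top, ← top_le_iff, ← Equiv.Perm.mclosure_swap_castSucc_succ n,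
    Submonoid.closure_le]
  rintro _ ⟨i, rfl⟩
  exact h i

/-- Labels of the blocks of a conjugate system. -/
noncomputable def blockEquiv {n : ℕ} {S : Finset (Finset GolayPt)} (f : Fin n → Finset GolayPt)
    (hm : ∀ i, f i ∈ S) (hi : Function.Injective f) (hc : S.card = n) : Fin n ≃ ↥S :=
  Equiv.ofBijective (fun i => ⟨f i, hm i⟩) <| by
    rw [Fintype.bijective_iff_injective_and_card]
    exact ⟨fun a b h => hi (congrArg Subtype.val h), by simp [hc]⟩

end Cfsg.Agent.H95
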