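import Cfsg.Agent.H95.GolayInv
import Cfsg.Agent.H95.GolayCentData
import Cfsg.Agent.H95.GolaySys
import Cfsg.Agent.H89.MathieuTwo
import Cfsg.Agent.PGroups.Basic

/-!
The centraliser of an octad involution of the group of the code: a normal extraspecial group of
order 128 with complement the special linear group of degree three over two elements.
-/

set_option autoImplicit false
set_option maxRecDepth 100000

namespace Cfsg.Agent.H95

open Cfsg Cfsg.Agent.Golay
open Cfsg.Agent.H89.MathieuTwo (memT elems checkPC exists_group elems_valid fst_mem_elems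
  mkPerm_eq_of_memT)
open scoped Pointwise

/-- The matrix of a code. -/
def matOf (c : ℕ) : Matrix (Fin 3) (Fin 3) (ZMod 2) :=
  fun i j => if c.testBit (3 * i.val + j.val) then 1 else 0

/-- The code of a matrix. -/
def codeOf (M : Matrix (Fin 3) (Fin 3) (ZMod 2)) : ℕ :=
  sumU ((List.finRange 3).flatMap fun i => (List.finRange 3).map fun j =>
    if M i j = 1 then 2 ^ (3 * i.val + j.val) else 0)

lemma codeOf_data : ∀ c < 512, codeOf (matOf c) = c := by decide +kernel

lemma exists_matOf (M : Matrix (Fin 3) (Fin 3) (ZMod 2)) : ∃ c < 512, matOf c = M := by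
  have hbij : Function.Bijective fun c : Fin 512 => matOf c.val := by
    rw [Nat.bijective_iff_injective_and_card]
    refine ⟨fun a b h => Fin.ext ?_, ?_⟩
    · rw [← codeOf_data a.1 a.2, ← codeOf_data b.1 b.2]
      exact congrArg codeOf h
    · rw [Nat.card_fin]
      show 512 = Nat.card (Fin 3 → Fin 3 → ZMod 2)
      rw [Nat.card_fun, Nat.card_fun, Nat.card_zmod, Nat.card_fin]
      norm_num
  obtain ⟨c, hc⟩ := hbij.2 M
  exact ⟨c.1, c.2, hc⟩

lemma codeOf_lt (M : Matrix (Fin 3) (Fin 3) (ZMod 2)) : codeOf M < 512 := by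
  obtain ⟨c, hc, rfl⟩ := exists_matOf M
  rw [codeOf_data c hc]
  exact hc

lemma matOf_codeOf (M : Matrix (Fin 3) (Fin 3) (ZMod 2)) : matOf (codeOf M) = M := by
  obtain ⟨c, hc, rfl⟩ := exists_matOf M
  rw [codeOf_data c hc]

/-- Determinant of a code. -/
def detC (c : ℕ) : ZMod 2 :=
  let M := matOf c
  M 0 0 * M 1 1 * M 2 2 - M 0 0 * M 1 2 * M 2 1 - M 0 1 * M 1 0 * M 2 2 +
    M 0 1 * M 1 2 * M 2 0 + M 0 2 * M 1 0 * M 2 1 - M 0 2 * M 1 1 * M 2 0

lemma detC_eq (c : ℕ) : detC c = (matOf c).det := by
  rw [Matrix.det_fin_three]; rfl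

/-- Product of codes. -/
def mulC (a b : ℕ) : ℕ := codeOf (matOf a * matOf b)

/-- Value of the complement at a code. -/
def kVal (c : ℕ) : ℕ := ((centK.find? fun e => Nat.beq e.1 c).map fun e => e.2).getD 0

/-- Codes of one level of the word tree. -/
def nextC : List ℕ → List ℕ → List ℕ
  | c :: cs, w :: ws =>
      ((List.range matGens.length).filter fun j => w.testBit j).map
        (fun j => mulC (matGens.getD j 0) c) ++ nextC cs ws
  | _, _ => []

/-- Codes reached by the word tree. -/
def reachC : List ℕ → List (List ℕ) → List ℕ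
  | cur, [] => cur
  | cur, ws :: rest => cur ++ reachC (nextC cur ws) rest

/-- Seventh power is the identity. -/
def sevenOne (t : ℕ) : Bool :=
  tblEq (tblMul t (tblMul t (tblMul t (tblMul t (tblMul t (tblMul t t)))))) idTbl

/-- Commutator of entries. -/
def commT (x xi y yi : ℕ) : ℕ := tblMul (tblMul x y) (tblMul xi yi)

lemma cent_checks :
    (checkPC [] 0 centPc && (centPc.length == 7) &&
    memT (elems centPc) invEight && !tblEq invEight idTbl &&
    (centPc.all fun g => tblEq (tblMul g.1 invEight) (tblMul invEight g.1)) &&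
    (centPc.all fun g => centPc.all fun h =>
      memT [idTbl, invEight] (commT g.1 g.2 h.1 h.2)) &&
    ((elems centPc).all fun t => memT [idTbl, invEight] (tblMul t t)) &&
    ((elems centPc).all fun t => !(centPc.all fun g => tblEq (tblMul g.1 t) (tblMul t g.1)) ||
      memT [idTbl, invEight] t) &&
    ((lvlTrans m24Chain 6).all fun t =>
      (List.range 24).any (fun i => !Nat.beq (app t i) i && Nat.beq (app invEight i) i) ||
      memT (elems centPc) t) &&
    ((lvlTrans m24Chain 6).all fun t => tblEq t idTbl || Nat.beq (fixMask t) baseOctad) &&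
    Nat.beq (fixMask invEight) baseOctad) = true := by
  decide +kernel

lemma comp_checks :
    ((centK.length == 168) && distinctB (centK.map fun e => e.1) &&
    (centK.all fun e => decide (e.1 < 512) && decide (detC e.1 = 1) && Nat.beq (codeOf (matOf e.1)) e.1) &&
    ((List.range 512).all fun c => !decide (detC c = 1) || centK.any fun e => Nat.beq e.1 c) &&
    (centK.all fun e => Nat.beq (kVal e.1) e.2 && inM24 e.2) &&
    (centK.all fun e => tblEq (tblMul e.2 invEight) (tblMul invEight e.2)) &&
    tblEq (kVal 273) idTbl && Nat.beq (codeOf 1) 273 &&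
    (matGens.all fun g => centK.any (fun e => Nat.beq e.1 g) &&
      centK.all fun e => tblEq (kVal (mulC g e.1)) (tblMul (kVal g) e.2)) &&
    (centK.all fun e => (reachC [273] matProg).contains e.1) &&
    (centK.all fun e => Nat.beq e.1 273 || !memT (elems centPc) e.2) &&
    (matGens.all fun g => centK.any fun gi => tblEq (tblMul (kVal g) gi.2) idTbl &&
      centPc.all fun h => memT (elems centPc) (tblMul (tblMul (kVal g) h.1) gi.2)) &&
    (centK.all fun e => Nat.beq e.1 273 || centK.any fun s =>
      centK.any fun si => tblEq (tblMul s.2 si.2) idTbl &&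
        centK.any fun ei => tblEq (tblMul e.2 ei.2) idTbl &&
          (cubeOne (commT e.2 ei.2 s.2 si.2) || sevenOne (commT e.2 ei.2 s.2 si.2)) &&
          !tblEq (commT e.2 ei.2 s.2 si.2) idTbl)) = true := by
  decide +kernel

end Cfsg.Agent.H95
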