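import Cfsg.Agent.H95.GolayCent
import Cfsg.Prelude.Def_MonsterType
import Cfsg.Prelude.Def_Solvable
import Cfsg.Prelude.Def_Transfer

/-!
An octad involution of the group of the code has a large extraspecial centraliser core.
-/

set_option autoImplicit false

namespace Cfsg.Agent.H95

open Cfsg Cfsg.Agent.Golay
open Cfsg.Agent.H89.MathieuTwo (memT elems checkPC exists_group elems_valid fst_mem_elems
  mkPerm_eq_of_memT)
open scoped Pointwise commutatorElement

/-! ### The class of octad involutions -/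

lemma fix_eq_of_fixing {o : Finset GolayPt} (ho : o ∈ octads) {σ : Equiv.Perm GolayPt}
    (hσ : σ ∈ M24) (hne : σ ≠ 1) (hfix : ∀ p ∈ o, σ p = p) :
    σ ^ 2 = 1 ∧ (Finset.univ.filter fun x => σ x = x) = o := by
  have h2 : σ ^ 2 = 1 := by
    rw [pow_two]
    refine (octad_fixing ho).2 σ ⟨hσ, ?_⟩
    show σ ∈ fixingSubgroup (Equiv.Perm GolayPt) (o : Set GolayPt)
    rw [mem_fixingSubgroup_iff]
    exact fun p hp => hfix p (Finset.mem_coe.1 hp)
  refine ⟨h2, ?_⟩
  have hsub : o ⊆ Finset.univ.filter fun x => σ x = x := fun p hp =>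
    Finset.mem_filter.2 ⟨Finset.mem_univ _, hfix p hp⟩
  rcases fixed_octad hσ h2 hne with h | h
  · exact (Finset.eq_of_subset_of_card_le hsub (le_of_eq (h.2.trans ho.2.symm))).symm
  · obtain ⟨p, hp⟩ := Finset.card_pos.1 (show 0 < o.card by rw [ho.2]; norm_num)
    exact absurd (hfix p hp) (h p)

lemma ncard_octad_involutions :
    Nat.card {w : M24 // (Finset.univ.filter fun x => (w : Equiv.Perm GolayPt) x = x) ∈ octads}
      = 759 * 15 := by
  classical
  let f : {w : M24 // (Finset.univ.filter fun x => (w : Equiv.Perm GolayPt) x = x) ∈ octads} →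
      {o : Finset GolayPt // o ∈ octads} := fun w => ⟨_, w.2⟩
  have hfib : ∀ o, Nat.card {w // f w = o} = 15 := by
    rintro ⟨o, ho⟩
    have h16 := (octad_fixing ho).1
    set Fx := M24 ⊓ fixingSubgroup (Equiv.Perm GolayPt) (o : Set GolayPt) with hFx
    have hmem : ∀ σ, σ ∈ Fx ↔ σ ∈ M24 ∧ ∀ p ∈ o, σ p = p := fun σ => by
      rw [hFx, Subgroup.mem_inf, mem_fixingSubgroup_iff]
      exact and_congr_right fun _ => ⟨fun h p hp => h p (Finset.mem_coe.2 hp),
        fun h p hp => h p (Finset.mem_coe.1 hp)⟩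
    let e : {w // f w = ⟨o, ho⟩} ≃ {x : Fx // x ≠ 1} :=
      { toFun := fun w => ⟨⟨w.1.1.1, (hmem _).2 ⟨w.1.1.2, fun p hp => by
            have := congrArg Subtype.val w.2
            rw [← show (Finset.univ.filter fun x => (w.1.1 : Equiv.Perm GolayPt) x = x) = o from this]
              at hp
            exact (Finset.mem_filter.1 hp).2⟩⟩, fun h => by
          have h8 : (Finset.univ.filter fun x => (w.1.1 : Equiv.Perm GolayPt) x = x).card = 8 := w.1.2.2
          rw [show (w.1.1 : Equiv.Perm GolayPt) = 1 from congrArg Subtype.val h] at h8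
          simp [GolayPt, Fintype.card_option] at h8⟩
        invFun := fun x =>
          have hx := (hmem _).1 x.1.2
          have hfx := (fix_eq_of_fixing ho hx.1 (fun h => x.2 (Subtype.ext h)) hx.2).2
          ⟨⟨⟨x.1.1, hx.1⟩, hfx.symm ▸ ho⟩, Subtype.ext hfx⟩
        left_inv := fun w => rfl
        right_inv := fun x => rfl }
    rw [Nat.card_congr e]
    haveI : Fintype Fx := Fintype.ofFinite _
    rw [Nat.card_eq_fintype_card, Fintype.card_subtype_compl, Fintype.card_subtype_eq,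
      ← Nat.card_eq_fintype_card, h16]
  haveI : Fintype {o : Finset GolayPt // o ∈ octads} := Fintype.ofFinite _
  rw [← Nat.card_congr (Equiv.sigmaFiberEquiv f), Nat.card_sigma,
    Finset.sum_congr rfl (fun o _ => hfib o), Finset.sum_const, Finset.card_univ,
    ← Nat.card_eq_fintype_card, Nat.card_coe_set_eq, ncard_octads]
  rfl

lemma card_centralizer_invEight (z : M24)
    (hz : (Finset.univ.filter fun x => (z : Equiv.Perm GolayPt) x = x) ∈ octads) :
    Nat.card (Subgroup.centralizer ({z} : Set M24)) = 21504 := by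
  have horb : MulAction.orbit (ConjAct M24) z
      = {w : M24 | (Finset.univ.filter fun x => (w : Equiv.Perm GolayPt) x = x) ∈ octads} := by
    ext w
    constructor
    · rintro ⟨g, rfl⟩
      show (Finset.univ.filter fun x => ((g • z : M24) : Equiv.Perm GolayPt) x = x) ∈ octads
      rw [ConjAct.smul_def, Subgroup.coe_mul, Subgroup.coe_mul, Subgroup.coe_inv,
        fix_set_conj (ConjAct.ofConjAct g) z.1]
      exact smul_mem_octads (ConjAct.ofConjAct g).2 hz
    · intro hw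
      have hne : ∀ {v : M24}, (Finset.univ.filter fun x => (v : Equiv.Perm GolayPt) x = x) ∈ octads →
          (v : Equiv.Perm GolayPt) ≠ 1 := fun {v} h e => by
        have h8 := h.2
        rw [e] at h8
        simp [GolayPt, Fintype.card_option] at h8
      obtain ⟨a, ha, ea⟩ := conj_invEight z.2 (hne hz) hz
      obtain ⟨b, hb, eb⟩ := conj_invEight w.2 (hne hw) hw
      refine ⟨ConjAct.toConjAct ((⟨b, hb⟩ : M24)⁻¹ * ⟨a, ha⟩), Subtype.ext ?_⟩
      show b⁻¹ * a * z.1 * (b⁻¹ * a)⁻¹ = w.1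
      calc b⁻¹ * a * z.1 * (b⁻¹ * a)⁻¹ = b⁻¹ * (a * z.1 * a⁻¹) * b := by group
        _ = w.1 := by rw [ea, ← eb]; group
  have h := Subgroup.card_mul_index (MulAction.stabilizer (ConjAct M24) z)
  rw [MulAction.index_stabilizer, horb, ← Nat.card_coe_set_eq, ConjAct.stabilizer_eq_centralizer] at h
  rw [show Nat.card ↥{w : M24 | (Finset.univ.filter fun x => (w : Equiv.Perm GolayPt) x = x) ∈ octads}
    = 759 * 15 from ncard_octad_involutions, ← Nat.card_congr (ConjAct.toConjAct (G := M24)).toEquiv,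
    card_M24] at h
  have e : Nat.card (Subgroup.centralizer ({ConjAct.toConjAct z} : Set (ConjAct M24)))
      = Nat.card (Subgroup.centralizer ({z} : Set M24)) := rfl
  omega

/-! ### The structure from element-level facts -/

/-- Element-level facts about a candidate core `Q` and complement `K` at the involution `z`. -/
structure CentData {G : Type*} [Group G] (z : G) (Q K : Subgroup G) : Prop where
  z_mem : z ∈ Q
  z_ne : z ≠ 1
  z_sq : z * z = 1
  Q_le : Q ≤ Subgroup.centralizer {z}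
  K_le : K ≤ Subgroup.centralizer {z}
  card_Q : Nat.card Q = 128
  card_K : Nat.card K = 168
  comm_Q : ∀ x ∈ Q, ∀ y ∈ Q, x * y * x⁻¹ * y⁻¹ = 1 ∨ x * y * x⁻¹ * y⁻¹ = z
  sq_Q : ∀ x ∈ Q, x * x = 1 ∨ x * x = z
  center_Q : ∀ x ∈ Q, (∀ y ∈ Q, x * y = y * x) → x = 1 ∨ x = z
  disj : ∀ x ∈ K, x ∈ Q → x = 1
  norm : ∀ k ∈ K, ∀ x ∈ Q, k * x * k⁻¹ ∈ Q
  odd_comm : ∀ k ∈ K, k ≠ 1 → ∃ s ∈ K, k * s * k⁻¹ * s⁻¹ ≠ 1 ∧ (k * s * k⁻¹ * s⁻¹) ^ 21 = 1

variable {G : Type*} [Group G] [Finite G] {z : G} {Q K : Subgroup G}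

lemma CentData.isPGroup (h : CentData z Q K) : IsPGroup 2 Q :=
  IsPGroup.of_card (n := 7) (by rw [h.card_Q]; norm_num)

lemma CentData.conj_mem (h : CentData z Q K) (hC : Nat.card (Subgroup.centralizer ({z} : Set G)) = 21504) :
    (∀ c ∈ Subgroup.centralizer ({z} : Set G), ∃ q ∈ Q, ∃ k ∈ K, c = q * k) ∧
    ∀ c ∈ Subgroup.centralizer ({z} : Set G), ∀ x ∈ Q, c * x * c⁻¹ ∈ Q := by
  let f : Q × K → Subgroup.centralizer ({z} : Set G) :=
    fun p => ⟨p.1.1 * p.2.1, mul_mem (h.Q_le p.1.2) (h.K_le p.2.2)⟩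
  have hf : Function.Bijective f := by
    rw [Nat.bijective_iff_injective_and_card]
    refine ⟨fun a b hab => ?_, by rw [Nat.card_prod, h.card_Q, h.card_K, hC]⟩
    have e : a.1.1 * a.2.1 = b.1.1 * b.2.1 := congrArg Subtype.val hab
    have h1 : b.1.1⁻¹ * a.1.1 = b.2.1 * a.2.1⁻¹ := by
      rw [eq_mul_inv_iff_mul_eq, mul_assoc, e, inv_mul_cancel_left]
    have h2 := h.disj _ (mul_mem b.2.2 (inv_mem a.2.2)) (h1 ▸ mul_mem (inv_mem b.1.2) a.1.2)
    have hk : b.2.1 = a.2.1 := mul_inv_eq_one.1 h2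
    rw [hk] at e
    exact Prod.ext (Subtype.ext (mul_right_cancel e)) (Subtype.ext hk.symm)
  have hdec : ∀ c ∈ Subgroup.centralizer ({z} : Set G), ∃ q ∈ Q, ∃ k ∈ K, c = q * k := by
    intro c hc
    obtain ⟨p, hp⟩ := hf.2 ⟨c, hc⟩
    exact ⟨_, p.1.2, _, p.2.2, (congrArg Subtype.val hp).symm⟩
  refine ⟨hdec, fun c hc x hx => ?_⟩
  obtain ⟨q, hq, k, hk, rfl⟩ := hdec c hc
  rw [show q * k * x * (q * k)⁻¹ = q * (k * x * k⁻¹) * q⁻¹ by group]
  exact mul_mem (mul_mem hq (h.norm k hk x hx)) (inv_mem hq)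

lemma CentData.pCore_eq (h : CentData z Q K)
    (hC : Nat.card (Subgroup.centralizer ({z} : Set G)) = 21504) :
    (pCore 2 ↥(Subgroup.centralizer ({z} : Set G))).map
      (Subgroup.centralizer ({z} : Set G)).subtype = Q := by
  set C := Subgroup.centralizer ({z} : Set G)
  obtain ⟨hdec, hnorm⟩ := h.conj_mem hC
  have hQn : (Q.subgroupOf C).Normal := ⟨fun x hx c => by
    rw [Subgroup.mem_subgroupOf] at hx ⊢
    exact hnorm c.1 c.2 x.1 hx⟩
  have hQp : IsPGroup 2 (Q.subgroupOf C) :=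
    h.isPGroup.of_equiv (Subgroup.subgroupOfEquivOfLe h.Q_le).symm
  have hle : pCore 2 ↥C ≤ Q.subgroupOf C := by
    refine sSup_le ?_
    rintro N ⟨hNn, hNp⟩ x hx
    rw [Subgroup.mem_subgroupOf]
    set M := N ⊔ Q.subgroupOf C
    have hMp : IsPGroup 2 M := by
      haveI := hQn
      exact hNp.to_sup_of_normal_right hQp
    haveI hMn : M.Normal := by haveI := hNn; haveI := hQn; exact inferInstance
    obtain ⟨q, hq, k, hk, hxe⟩ := hdec x.1 x.2
    by_contra hxQ
    have hk1 : k ≠ 1 := fun e => hxQ (by rw [hxe, e, mul_one]; exact hq)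
    have hkM : (⟨k, h.K_le hk⟩ : C) ∈ M := by
      have e : (⟨k, h.K_le hk⟩ : C) = ⟨q, h.Q_le hq⟩⁻¹ * x := Subtype.ext (by
        show k = q⁻¹ * x.1
        rw [hxe, inv_mul_cancel_left])
      rw [e]
      exact mul_mem (inv_mem (Subgroup.mem_sup_right (Subgroup.mem_subgroupOf.2 hq)))
        (Subgroup.mem_sup_left hx)
    obtain ⟨s, hs, hne, h21⟩ := h.odd_comm k hk hk1
    set w : C := ⟨k, h.K_le hk⟩ * ⟨s, h.K_le hs⟩ * (⟨k, h.K_le hk⟩ : C)⁻¹ *
      (⟨s, h.K_le hs⟩ : C)⁻¹ with hw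
    have hwM : w ∈ M := by
      rw [hw, mul_assoc, mul_assoc]
      refine mul_mem hkM ?_
      rw [← mul_assoc]
      exact hMn.conj_mem _ (inv_mem hkM) _
    obtain ⟨n, hn⟩ := hMp ⟨w, hwM⟩
    have h2 : w.1 ^ 2 ^ n = 1 := congrArg (fun v : M => ((v : C) : G)) hn
    have hcop : Nat.gcd (2 ^ n) 21 = 1 := Nat.Coprime.pow_left n (by decide)
    have := (pow_gcd_eq_one (a := w.1)).2 ⟨h2, h21⟩
    rw [hcop, pow_one] at this
    exact hne this
  have hge : Q.subgroupOf C ≤ pCore 2 ↥C := le_sSup ⟨hQn, hQp⟩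
  rw [le_antisymm hle hge, Subgroup.map_subgroupOf_eq_of_le h.Q_le]

lemma CentData.isExtraspecial (h : CentData z Q K) :
    IsExtraspecial 2 Q ∧ (Subgroup.center Q).map Q.subtype = Subgroup.zpowers z := by
  haveI : Fact (Nat.Prime 2) := ⟨Nat.prime_two⟩
  set zz : Q := ⟨z, h.z_mem⟩
  have hzc : ∀ y ∈ Q, z * y = y * z := fun y hy =>
    (Subgroup.mem_centralizer_singleton_iff.1 (h.Q_le hy)).symm
  have hcen : ∀ x : Q, x ∈ Subgroup.center Q ↔ x = 1 ∨ x = zz := by
    intro x
    constructor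
    · intro hx
      rcases h.center_Q x.1 x.2 (fun y hy =>
        (congrArg Subtype.val (Subgroup.mem_center_iff.1 hx ⟨y, hy⟩)).symm) with e | e
      · exact Or.inl (Subtype.ext e)
      · exact Or.inr (Subtype.ext e)
    · rintro (rfl | rfl)
      · exact one_mem _
      · exact Subgroup.mem_center_iff.2 fun y => Subtype.ext (hzc y.1 y.2).symm
  have hz2 : orderOf zz = 2 := orderOf_eq_prime
    (Subtype.ext (by show z ^ 2 = 1; rw [pow_two, h.z_sq])) (fun e => h.z_ne (congrArg Subtype.val e))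
  have hceq : Subgroup.center Q = Subgroup.zpowers zz := by
    refine le_antisymm (fun x hx => ?_) (Subgroup.zpowers_le.2 ((hcen zz).2 (Or.inr rfl)))
    rcases (hcen x).1 hx with rfl | rfl
    · exact one_mem _
    · exact Subgroup.mem_zpowers zz
  have hcard : Nat.card (Subgroup.center Q) = 2 := by rw [hceq, Nat.card_zpowers, hz2]
  have hle : commutator Q ≤ Subgroup.center Q := by
    rw [commutator_def, Subgroup.commutator_le]
    intro x _ y _
    rw [hcen, commutatorElement_def]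
    exact (h.comm_Q x.1 x.2 y.1 y.2).imp (fun e => Subtype.ext e) (fun e => Subtype.ext e)
  have hne : commutator Q ≠ ⊥ := by
    intro hbot
    have hall : ∀ x : Q, x ∈ Subgroup.center Q := fun x => Subgroup.mem_center_iff.2 fun y => by
      have := Subgroup.commutator_mem_commutator (H₁ := (⊤ : Subgroup Q)) (H₂ := ⊤)
        (Subgroup.mem_top y) (Subgroup.mem_top x)
      rw [← commutator_def, hbot, Subgroup.mem_bot] at this
      exact commutatorElement_eq_one_iff_mul_comm.1 this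
    have : Nat.card Q = 2 := by
      rw [← hcard, show Subgroup.center Q = ⊤ from eq_top_iff.2 fun x _ => hall x, Subgroup.card_top]
    rw [h.card_Q] at this
    omega
  have hcomm : commutator Q = Subgroup.center Q := by
    refine Subgroup.eq_of_le_of_card_ge hle ?_
    rw [hcard]
    exact Nat.succ_le_of_lt ((Subgroup.one_lt_card_iff_ne_bot _).2 hne)
  have hnorm : commutator Q ≤ frattini Q := by
    refine le_iInf₂ (fun M hM => ?_)
    haveI : Group.IsNilpotent Q := h.isPGroup.isNilpotent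
    haveI : M.Normal := Subgroup.NormalizerCondition.normal_of_coatom M
      (normalizerCondition_of_isNilpotent (G := Q)) hM
    obtain ⟨c, hcc, hc1⟩ := (Subgroup.bot_or_exists_ne_one (commutator Q)).resolve_left hne
    rw [hcomm]
    by_contra hnot
    have hsup : M ⊔ Subgroup.center Q = ⊤ := hM.2 _ (lt_of_le_of_ne le_sup_left
      (fun e => hnot (e ▸ le_sup_right)))
    apply hnot
    rw [← hcomm, commutator_def, Subgroup.commutator_le]
    intro x _ y _
    have hx : x ∈ M ⊔ Subgroup.center Q := hsup ▸ Subgroup.mem_top x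
    have hy : y ∈ M ⊔ Subgroup.center Q := hsup ▸ Subgroup.mem_top y
    rw [Subgroup.mem_sup_of_normal_right] at hx hy
    obtain ⟨a, ha, u, hu, rfl⟩ := hx
    obtain ⟨b, hb, v, hv, rfl⟩ := hy
    have hu' := Subgroup.mem_center_iff.1 hu
    have hv' := Subgroup.mem_center_iff.1 hv
    have e : ⁅a * u, b * v⁆ = a * b * a⁻¹ * b⁻¹ := by
      rw [commutatorElement_def]
      calc a * u * (b * v) * (a * u)⁻¹ * (b * v)⁻¹
          = a * (u * b) * v * u⁻¹ * a⁻¹ * v⁻¹ * b⁻¹ := by group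
        _ = a * b * (u * v) * u⁻¹ * a⁻¹ * v⁻¹ * b⁻¹ := by rw [← hu' b]; group
        _ = a * b * (v * a⁻¹) * v⁻¹ * b⁻¹ := by rw [← hu' v]; group
        _ = a * b * a⁻¹ * b⁻¹ := by rw [← hv' a⁻¹]; group
    rw [e]
    exact M.mul_mem (M.mul_mem (M.mul_mem ha hb) (M.inv_mem ha)) (M.inv_mem hb)
  refine ⟨⟨⟨h.isPGroup, le_antisymm ?_ (hcomm ▸ hnorm), hcomm⟩, hcard⟩, ?_⟩
  · refine PGroups.frattini_le_of_commutator_le (p := 2) _ hle fun x => ?_
    rw [hcen, pow_two]
    exact (h.sq_Q x.1 x.2).imp (fun e => Subtype.ext e) (fun e => Subtype.ext e)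
  · rw [hceq, MonoidHom.map_zpowers]
    rfl

end Cfsg.Agent.H95
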