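import Cfsg.Agent.H95.GolayLarge

/-!
The candidate core and complement at the reference involution, and their transport.
-/

set_option autoImplicit false
set_option maxRecDepth 100000

namespace Cfsg.Agent.H95

open Cfsg Cfsg.Agent.Golay
open Cfsg.Agent.H89.MathieuTwo (memT elems checkPC exists_group elems_valid fst_mem_elems
  mkPerm_eq_of_memT tblEq_of_mkPerm_eq idTbl_mem_elems valid_inStab inv_of_tblEq)
open scoped Pointwise

lemma CentData.map {G H : Type*} [Group G] [Group H] {z : G} {Q K : Subgroup G}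
    (h : CentData z Q K) (φ : G ≃* H) : CentData (φ z) (Q.map φ.toMonoidHom) (K.map φ.toMonoidHom) where
  z_mem := ⟨z, h.z_mem, rfl⟩
  z_ne := fun e => h.z_ne (φ.injective (e.trans φ.map_one.symm))
  z_sq := by rw [← map_mul, h.z_sq, map_one]
  Q_le := by
    rintro _ ⟨x, hx, rfl⟩
    rw [Subgroup.mem_centralizer_singleton_iff]
    show φ x * φ z = φ z * φ x
    rw [← map_mul, ← map_mul, Subgroup.mem_centralizer_singleton_iff.1 (h.Q_le hx)]
  K_le := by
    rintro _ ⟨x, hx, rfl⟩
    rw [Subgroup.mem_centralizer_singleton_iff]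
    show φ x * φ z = φ z * φ x
    rw [← map_mul, ← map_mul, Subgroup.mem_centralizer_singleton_iff.1 (h.K_le hx)]
  card_Q := (Subgroup.card_map_of_injective φ.injective).trans h.card_Q
  card_K := (Subgroup.card_map_of_injective φ.injective).trans h.card_K
  comm_Q := by
    rintro _ ⟨x, hx, rfl⟩ _ ⟨y, hy, rfl⟩
    show φ x * φ y * (φ x)⁻¹ * (φ y)⁻¹ = 1 ∨ φ x * φ y * (φ x)⁻¹ * (φ y)⁻¹ = φ z
    rw [← map_inv, ← map_inv, ← map_mul, ← map_mul, ← map_mul]
    exact (h.comm_Q x hx y hy).imp (fun e => by rw [e, map_one]) (fun e => by rw [e])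
  sq_Q := by
    rintro _ ⟨x, hx, rfl⟩
    show φ x * φ x = 1 ∨ φ x * φ x = φ z
    rw [← map_mul]
    exact (h.sq_Q x hx).imp (fun e => by rw [e, map_one]) (fun e => by rw [e])
  center_Q := by
    rintro _ ⟨x, hx, rfl⟩ hc
    refine (h.center_Q x hx fun y hy => φ.injective ?_).imp
      (fun e => show φ x = 1 by rw [e, map_one]) (fun e => show φ x = φ z by rw [e])
    rw [map_mul, map_mul]
    exact hc _ ⟨y, hy, rfl⟩
  disj := by
    rintro _ ⟨x, hx, rfl⟩ ⟨y, hy, e⟩
    show φ x = 1
    rw [h.disj x hx (φ.injective e ▸ hy), map_one]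
  norm := by
    rintro _ ⟨k, hk, rfl⟩ _ ⟨x, hx, rfl⟩
    exact ⟨_, h.norm k hk x hx, by simp⟩
  odd_comm := by
    rintro _ ⟨k, hk, rfl⟩ hne
    obtain ⟨s, hs, h1, h2⟩ := h.odd_comm k hk fun e => hne (by show φ k = 1; rw [e, map_one])
    refine ⟨φ s, ⟨s, hs, rfl⟩, ?_, ?_⟩
    · show φ k * φ s * (φ k)⁻¹ * (φ s)⁻¹ ≠ 1
      rw [← map_inv, ← map_inv, ← map_mul, ← map_mul, ← map_mul]
      exact fun e => h1 (φ.injective (e.trans φ.map_one.symm))
    · show (φ k * φ s * (φ k)⁻¹ * (φ s)⁻¹) ^ 21 = 1
      rw [← map_inv, ← map_inv, ← map_mul, ← map_mul, ← map_mul, ← map_pow, h2, map_one]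

/-- Nontrivial elements of the complement act nontrivially on the core modulo its centre. -/
lemma moves_checks :
    (centK.all fun e => Nat.beq e.1 273 || centK.any fun ei => tblEq (tblMul e.2 ei.2) idTbl &&
      centPc.any fun g => !memT [idTbl, invEight] (commT e.2 ei.2 g.1 g.2)) = true := by
  decide +kernel

/-- The value of the complement at a matrix. -/
def kOf (X : Matrix.SpecialLinearGroup (Fin 3) (ZMod 2)) : ℕ :=
  kVal (codeOf (X : Matrix (Fin 3) (Fin 3) (ZMod 2)))

/-- The reference involution. -/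
noncomputable def invEightElt : M24 :=
  ⟨mkPerm invEight, exists_involutions.1.1⟩

lemma invEightElt_fix :
    (Finset.univ.filter fun p => (invEightElt : Equiv.Perm GolayPt) p = p) = ptSet baseOctad := by
  obtain ⟨hchk, -⟩ := inv_checks
  simp only [Bool.and_eq_true] at hchk
  have hv := validT_of_inM24 hchk.1.1.1.2
  have h := cent_checks
  simp only [Bool.and_eq_true] at h
  show (Finset.univ.filter fun p => mkPerm invEight p = p) = _
  rw [← ptSet_fixMask hv, Nat.beq_eq.mp h.2]

theorem exists_centData :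
    ∃ Q K : Subgroup M24, CentData invEightElt Q K ∧
      Nonempty (K ≃* Matrix.SpecialLinearGroup (Fin 3) (ZMod 2)) ∧
      (∀ w : M24, (∀ p, (invEightElt : Equiv.Perm GolayPt) p = p →
        (w : Equiv.Perm GolayPt) p = p) → w ∈ Q) ∧
      ∀ k ∈ K, (∀ x ∈ Q, k * x * k⁻¹ * x⁻¹ = 1 ∨ k * x * k⁻¹ * x⁻¹ = invEightElt) → k = 1 := by
  have hc := cent_checks
  simp only [Bool.and_eq_true, List.all_eq_true, Bool.or_eq_true, Bool.not_eq_true', beq_iff_eq,
    List.any_eq_true] at hc
  obtain ⟨⟨⟨⟨⟨⟨⟨⟨⟨⟨hpc, hlen⟩, hzQ⟩, hzne⟩, hcz⟩, hcomm⟩, hsq⟩, hcen⟩, htr⟩, -⟩, hfix⟩ := hc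
  have hk := comp_checks
  simp only [Bool.and_eq_true, List.all_eq_true, Bool.or_eq_true, Bool.not_eq_true', beq_iff_eq,
    List.any_eq_true, decide_eq_true_eq, decide_eq_false_iff_not, List.contains_iff_mem,
    Nat.beq_eq, List.mem_range] at hk
  obtain ⟨⟨⟨⟨⟨⟨⟨⟨⟨⟨⟨⟨hKlen, hKdist⟩, hKdet⟩, hKall⟩, hKval⟩, hKz⟩, hK1⟩, hcode1⟩, hhom⟩,
    hreach⟩, hdisj⟩, hnorm⟩, hodd⟩ := hk
  have hwM : inM24 invEight = true := by
    obtain ⟨hchk, -⟩ := inv_checks
    simp only [Bool.and_eq_true] at hchk
    exact hchk.1.1.1.2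
  have hwv := validT_of_inM24 hwM
  obtain ⟨H, hH, hHc, hHcard⟩ := exists_group centPc hpc
  have hval : ∀ t ∈ elems centPc, validT t = true ∧ mkPerm t ∈ M24 := fun t ht =>
    ⟨(elems_valid centPc hpc t ht).1, (elems_valid centPc hpc t ht).2.1⟩
  have hmemH : ∀ t, validT t = true → memT (elems centPc) t = true → mkPerm t ∈ H := fun t ht hm =>
    (hH _).2 (mkPerm_eq_of_memT (fun u hu => (hval u hu).1) ht hm)
  have hHM : H ≤ M24 := fun σ hσ => by
    obtain ⟨t, ht, rfl⟩ := (hH σ).1 hσ
    exact (hval t ht).2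
  have hzz : ∀ t, validT t = true → memT [idTbl, invEight] t = true →
      mkPerm t = 1 ∨ mkPerm t = mkPerm invEight := by
    intro t ht hm
    obtain ⟨u, hu, he⟩ := mkPerm_eq_of_memT (L := [idTbl, invEight]) (by
      intro u hu
      simp only [List.mem_cons, List.not_mem_nil, or_false] at hu
      rcases hu with rfl | rfl
      exacts [idTbl_spec.1, hwv]) ht hm
    simp only [List.mem_cons, List.not_mem_nil, or_false] at hu
    rcases hu with rfl | rfl
    · exact Or.inl (by rw [← he, idTbl_spec.2])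
    · exact Or.inr he.symm
  have hgen : ∀ g ∈ centPc, validT g.1 = true ∧ validT g.2 = true ∧
      mkPerm g.2 = (mkPerm g.1)⁻¹ := by
    have : ∀ pc, checkPC [] 0 pc = true → ∀ g ∈ pc, validT g.1 = true ∧ validT g.2 = true ∧
        mkPerm g.2 = (mkPerm g.1)⁻¹ := by
      intro pc
      induction pc with
      | nil => intro _ g hg; simp at hg
      | cons a rest ih =>
        intro h g hg
        simp only [checkPC, Bool.and_eq_true] at h
        rcases List.mem_cons.1 hg with rfl | hg
        · have h1 := valid_inStab h.1.1.1.1.1.1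
          have h2 := valid_inStab h.1.1.1.1.1.2
          exact ⟨h1, h2, inv_of_tblEq h1 h2 h.1.1.1.1.2⟩
        · exact ih h.2 g hg
    exact this centPc hpc
  have hcentz : ∀ σ ∈ H, σ * mkPerm invEight = mkPerm invEight * σ := by
    intro σ hσ
    rw [hHc] at hσ
    refine (show Commute σ (mkPerm invEight) from ?_).eq
    induction hσ using Subgroup.closure_induction with
    | mem x hx =>
      obtain ⟨g, hg, rfl⟩ := hx
      have s1 := tblMul_spec (hgen g hg).1 hwv
      have s2 := tblMul_spec hwv (hgen g hg).1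
      have h := (tblEq_iff s1.1 s2.1).1 (hcz g hg)
      rw [s1.2, s2.2] at h
      exact h
    | one => exact Commute.one_left _
    | mul a b _ _ ha hb => exact ha.mul_left hb
    | inv a _ ha => exact ha.inv_left
  have hcommH : ∀ x ∈ H, ∀ y ∈ H, x * y * x⁻¹ * y⁻¹ = 1 ∨ x * y * x⁻¹ * y⁻¹ = mkPerm invEight := by
    -- the commutator subgroup of generators with central commutators
    let S : Set (Equiv.Perm GolayPt) := {1, mkPerm invEight}
    have hz2 : mkPerm invEight * mkPerm invEight = 1 := by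
      rw [← pow_two]
      exact exists_involutions.1.2.1 ▸ pow_orderOf_eq_one _
    have hSmul : ∀ a ∈ S, ∀ b ∈ S, a * b ∈ S := by
      intro a ha b hb
      rcases ha with rfl | rfl <;> rcases hb with rfl | rfl <;> simp [S, hz2]
    have hScen : ∀ a ∈ S, ∀ x ∈ H, x * a = a * x := by
      intro a ha x hx
      rcases ha with rfl | rfl
      · simp
      · exact hcentz x hx
    have hgg : ∀ g ∈ centPc, ∀ y ∈ H, mkPerm g.1 * y * (mkPerm g.1)⁻¹ * y⁻¹ ∈ S := by
      intro g hg y hy
      have hgH : mkPerm g.1 ∈ H := (hH _).2 (fst_mem_elems centPc hpc g hg).2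
      rw [hHc] at hy
      induction hy using Subgroup.closure_induction with
      | mem x hx =>
        obtain ⟨h, hh, rfl⟩ := hx
        have s1 := tblMul_spec (hgen g hg).1 (hgen h hh).1
        have s2 := tblMul_spec (hgen g hg).2.1 (hgen h hh).2.1
        have s3 := tblMul_spec s1.1 s2.1
        have := hzz _ s3.1 (hcomm g hg h hh)
        rw [s3.2, s1.2, s2.2, (hgen g hg).2.2, (hgen h hh).2.2, ← mul_assoc] at this
        rcases this with e | e
        · exact Or.inl e
        · exact Or.inr e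
      | one => simp [S]
      | mul a b ha' hb' ha hb =>
        rw [← hHc] at ha' hb'
        rw [show mkPerm g.1 * (a * b) * (mkPerm g.1)⁻¹ * (a * b)⁻¹
          = (mkPerm g.1 * a * (mkPerm g.1)⁻¹ * a⁻¹) *
            (a * (mkPerm g.1 * b * (mkPerm g.1)⁻¹ * b⁻¹) * a⁻¹) by group]
        rw [hScen _ hb a ha', mul_inv_cancel_right]
        exact hSmul _ ha _ hb
      | inv a ha' ha =>
        rw [← hHc] at ha'
        rw [show mkPerm g.1 * a⁻¹ * (mkPerm g.1)⁻¹ * a⁻¹⁻¹
          = a⁻¹ * (mkPerm g.1 * a * (mkPerm g.1)⁻¹ * a⁻¹)⁻¹ * a by group]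
        have hinv : (mkPerm g.1 * a * (mkPerm g.1)⁻¹ * a⁻¹)⁻¹ ∈ S := by
          rcases ha with e | e <;> rw [e]
          · simp [S]
          · exact Or.inr (inv_eq_of_mul_eq_one_right hz2)
        rw [hScen _ hinv a⁻¹ (inv_mem ha'), inv_mul_cancel_right]
        exact hinv
    intro x hx y hy
    rw [hHc] at hx
    suffices h : x * y * x⁻¹ * y⁻¹ ∈ S by exact h
    induction hx using Subgroup.closure_induction generalizing y with
    | mem a ha =>
      obtain ⟨g, hg, rfl⟩ := ha
      exact hgg g hg y hy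
    | one => simp [S]
    | mul a b ha' hb' ha hb =>
      rw [← hHc] at ha' hb'
      rw [show a * b * y * (a * b)⁻¹ * y⁻¹
        = (a * (b * y * b⁻¹ * y⁻¹) * a⁻¹) * (a * y * a⁻¹ * y⁻¹) by group,
        hScen _ (hb y hy) a ha', mul_inv_cancel_right]
      exact hSmul _ (hb y hy) _ (ha y hy)
    | inv a ha' ha =>
      rw [← hHc] at ha'
      have hinv : (a * y * a⁻¹ * y⁻¹)⁻¹ ∈ S := by
        rcases ha y hy with e | e <;> rw [e]
        · simp [S]
        · exact Or.inr (inv_eq_of_mul_eq_one_right hz2)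
      rw [show a⁻¹ * y * a⁻¹⁻¹ * y⁻¹ = a⁻¹ * (a * y * a⁻¹ * y⁻¹)⁻¹ * a by group,
        hScen _ hinv a⁻¹ (inv_mem ha'), inv_mul_cancel_right]
      exact hinv
  -- the complement
  have hkey : ∀ X : Matrix.SpecialLinearGroup (Fin 3) (ZMod 2), ∃ e ∈ centK,
      e.1 = codeOf (X : Matrix (Fin 3) (Fin 3) (ZMod 2)) ∧ e.2 = kOf X := by
    intro X
    have hd : detC (codeOf (X : Matrix (Fin 3) (Fin 3) (ZMod 2))) = 1 := by
      rw [detC_eq, matOf_codeOf]; exact X.2
    rcases hKall _ (codeOf_lt _) with h | ⟨e, he, hee⟩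
    · exact absurd hd h
    · exact ⟨e, he, hee, by rw [kOf, ← hee]; exact ((hKval e he).1).symm⟩
  have hKv : ∀ X, validT (kOf X) = true ∧ mkPerm (kOf X) ∈ M24 := by
    intro X
    obtain ⟨e, he, -, h2⟩ := hkey X
    have := (hKval e he).2
    rw [h2] at this
    exact ⟨validT_of_inM24 this, mem_M24_of_inM24 this⟩
  have hmulC : ∀ X Y : Matrix.SpecialLinearGroup (Fin 3) (ZMod 2),
      codeOf ((X * Y : Matrix.SpecialLinearGroup (Fin 3) (ZMod 2)) : Matrix (Fin 3) (Fin 3) (ZMod 2))
        = mulC (codeOf (X : Matrix (Fin 3) (Fin 3) (ZMod 2))) (codeOf (Y : Matrix (Fin 3) (Fin 3) (ZMod 2))) := by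
    intro X Y
    rw [mulC, matOf_codeOf, matOf_codeOf, Matrix.SpecialLinearGroup.coe_mul]
  have hgenX : ∀ g ∈ matGens, ∃ A : Matrix.SpecialLinearGroup (Fin 3) (ZMod 2),
      codeOf (A : Matrix (Fin 3) (Fin 3) (ZMod 2)) = g := by
    intro g hg
    obtain ⟨e, he, hee⟩ := (hhom g hg).1
    obtain ⟨⟨-, hd⟩, hcd⟩ := hKdet e he
    exact ⟨⟨matOf e.1, by rw [← detC_eq]; exact hd⟩, hcd.trans hee⟩
  have hstep : ∀ A : Matrix.SpecialLinearGroup (Fin 3) (ZMod 2),
      codeOf (A : Matrix (Fin 3) (Fin 3) (ZMod 2)) ∈ matGens →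
      ∀ Y, mkPerm (kOf (A * Y)) = mkPerm (kOf A) * mkPerm (kOf Y) := by
    intro A hA Y
    obtain ⟨e, he, h1, h2⟩ := hkey Y
    have h := (hhom _ hA).2 e he
    have s := tblMul_spec (hKv A).1 (hKv Y).1
    have h' : tblEq (kOf (A * Y)) (tblMul (kOf A) (kOf Y)) = true := by
      rw [show kOf (A * Y) = kVal (codeOf ((A * Y : Matrix.SpecialLinearGroup (Fin 3) (ZMod 2)) :
        Matrix (Fin 3) (Fin 3) (ZMod 2))) from rfl, hmulC, ← h1, ← h2]
      exact h
    rw [← s.2]
    exact (tblEq_iff (hKv _).1 s.1).1 h'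
  have hone : mkPerm (kOf 1) = 1 := by
    have : kOf 1 = kVal 273 := by
      rw [kOf, Matrix.SpecialLinearGroup.coe_one, hcode1]
    rw [this, ← idTbl_spec.2]
    exact (tblEq_iff (this ▸ (hKv 1).1) idTbl_spec.1).1 hK1
  have hhomAll : ∀ X Y, mkPerm (kOf (X * Y)) = mkPerm (kOf X) * mkPerm (kOf Y) := by
    suffices h : ∀ c ∈ reachC [273] matProg, ∃ X : Matrix.SpecialLinearGroup (Fin 3) (ZMod 2),
        codeOf (X : Matrix (Fin 3) (Fin 3) (ZMod 2)) = c ∧
        ∀ Y, mkPerm (kOf (X * Y)) = mkPerm (kOf X) * mkPerm (kOf Y) by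
      intro X Y
      obtain ⟨e, he, h1, -⟩ := hkey X
      obtain ⟨X', hX', hP⟩ := h e.1 (hreach e he)
      have : X' = X := Subtype.ext (by
        rw [← matOf_codeOf (X' : Matrix (Fin 3) (Fin 3) (ZMod 2)), hX', h1, matOf_codeOf])
      exact this ▸ hP Y
    let P : ℕ → Prop := fun c => ∃ X : Matrix.SpecialLinearGroup (Fin 3) (ZMod 2),
        codeOf (X : Matrix (Fin 3) (Fin 3) (ZMod 2)) = c ∧
        ∀ Y, mkPerm (kOf (X * Y)) = mkPerm (kOf X) * mkPerm (kOf Y)
    have hnext : ∀ cur ws, (∀ c ∈ cur, P c) → ∀ c ∈ nextC cur ws, P c := by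
      intro cur
      induction cur with
      | nil => intro ws _ c hc; simp [nextC] at hc
      | cons a as ih =>
        intro ws hP c hc
        cases ws with
        | nil => simp [nextC] at hc
        | cons w ws =>
          simp only [nextC, List.mem_append, List.mem_map, List.mem_filter, List.mem_range] at hc
          rcases hc with ⟨j, ⟨hj, -⟩, rfl⟩ | hc
          · obtain ⟨X, hX, hXP⟩ := hP a (by simp)
            have hg : matGens.getD j 0 ∈ matGens := by
              rw [List.getD_eq_getElem _ _ hj]; exact List.getElem_mem hj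
            obtain ⟨A, hA⟩ := hgenX _ hg
            have hA' : codeOf (A : Matrix (Fin 3) (Fin 3) (ZMod 2)) ∈ matGens := hA ▸ hg
            refine ⟨A * X, by rw [hmulC, hA, hX], fun Y => ?_⟩
            rw [mul_assoc, hstep A hA', hXP, hstep A hA' X, mul_assoc]
          · exact ih ws (fun d hd => hP d (List.mem_cons_of_mem _ hd)) c hc
    have hall : ∀ prog cur, (∀ c ∈ cur, P c) → ∀ c ∈ reachC cur prog, P c := by
      intro prog
      induction prog with
      | nil => intro cur h c hc; exact h c hc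
      | cons ws rest ih =>
        intro cur h c hc
        simp only [reachC, List.mem_append] at hc
        rcases hc with hc | hc
        · exact h c hc
        · exact ih _ (hnext cur ws h) c hc
    refine hall matProg [273] ?_
    intro c hc
    rw [List.mem_singleton.1 hc]
    exact ⟨1, by rw [Matrix.SpecialLinearGroup.coe_one, hcode1],
      fun Y => by rw [one_mul, hone, one_mul]⟩
  let φ : Matrix.SpecialLinearGroup (Fin 3) (ZMod 2) →* M24 :=
    MonoidHom.mk' (fun X => ⟨mkPerm (kOf X), (hKv X).2⟩) fun X Y => Subtype.ext (hhomAll X Y)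
  have hkne : ∀ X, X ≠ 1 → ∃ e ∈ centK, ¬ e.1 = 273 ∧ e.2 = kOf X := by
    intro X hX
    obtain ⟨e, he, h1, h2⟩ := hkey X
    refine ⟨e, he, fun hh => hX (Subtype.ext ?_), h2⟩
    rw [← matOf_codeOf (X : Matrix (Fin 3) (Fin 3) (ZMod 2)), ← h1, hh, ← hcode1, matOf_codeOf,
      Matrix.SpecialLinearGroup.coe_one]
  have hnotH : ∀ X, X ≠ 1 → mkPerm (kOf X) ∉ H := by
    intro X hX hmem
    obtain ⟨e, he, hne, h2⟩ := hkne X hX
    obtain ⟨t, ht, hte⟩ := (hH _).1 hmem
    have hm : memT (elems centPc) e.2 = true := List.any_eq_true.2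
      ⟨t, ht, tblEq_of_mkPerm_eq (hval t ht).1 (h2 ▸ (hKv X).1) (h2 ▸ hte)⟩
    rw [(hdisj e he).resolve_left hne] at hm
    exact Bool.false_ne_true hm
  have hinj : Function.Injective φ := (injective_iff_map_eq_one φ).2 fun X hX => by
    by_contra hX1
    exact hnotH X hX1 (by
      rw [show mkPerm (kOf X) = 1 from congrArg Subtype.val hX]; exact one_mem H)
  have hSL : Nat.card (Matrix.SpecialLinearGroup (Fin 3) (ZMod 2)) = 168 := by
    have hnd := nodup_of_distinctB hKdist
    let f : {c // c ∈ centK.map fun e => e.1} → Matrix.SpecialLinearGroup (Fin 3) (ZMod 2) :=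
      fun c => ⟨matOf c.1, by
        obtain ⟨e, he, hec⟩ := List.mem_map.1 c.2
        rw [← detC_eq, ← hec]
        exact (hKdet e he).1.2⟩
    have hb : Function.Bijective f := by
      refine ⟨fun a b hab => Subtype.ext ?_, fun X => ?_⟩
      · obtain ⟨e, he, hec⟩ := List.mem_map.1 a.2
        obtain ⟨e', he', hec'⟩ := List.mem_map.1 b.2
        rw [← hec, ← hec', ← (hKdet e he).2, ← (hKdet e' he').2, hec, hec']
        exact congrArg (fun Z => codeOf (Subtype.val Z)) hab
      · obtain ⟨e, he, h1, -⟩ := hkey X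
        exact ⟨⟨e.1, List.mem_map.2 ⟨e, he, rfl⟩⟩,
          Subtype.ext ((congrArg matOf h1).trans (matOf_codeOf _))⟩
    rw [← Nat.card_eq_of_bijective f hb, Nat.card_eq_fintype_card,
      Fintype.card_of_subtype (centK.map fun e => e.1).toFinset (by simp),
      List.toFinset_card_of_nodup hnd, List.length_map, hKlen]
  refine ⟨H.comap M24.subtype, φ.range, ?_, ⟨(MonoidHom.ofInjective hinj).symm⟩, ?_, ?_⟩
  · refine
      { z_mem := hmemH _ hwv hzQ
        z_ne := ?_, z_sq := ?_, Q_le := ?_, K_le := ?_, card_Q := ?_, card_K := ?_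
        comm_Q := ?_, sq_Q := ?_, center_Q := ?_, disj := ?_, norm := ?_, odd_comm := ?_ }
    · intro e
      have h1 := exists_involutions.1.2.1
      rw [show mkPerm invEight = 1 from congrArg Subtype.val e, orderOf_one] at h1
      omega
    · refine Subtype.ext ?_
      show mkPerm invEight * mkPerm invEight = 1
      rw [← pow_two]
      exact exists_involutions.1.2.1 ▸ pow_orderOf_eq_one _
    · intro x hx
      rw [Subgroup.mem_centralizer_singleton_iff]
      exact Subtype.ext (hcentz x.1 hx)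
    · rintro _ ⟨X, rfl⟩
      rw [Subgroup.mem_centralizer_singleton_iff]
      obtain ⟨e, he, -, h2⟩ := hkey X
      have hv := (hKv X).1
      have s1 := tblMul_spec hv hwv
      have s2 := tblMul_spec hwv hv
      have h := (tblEq_iff s1.1 s2.1).1 (h2 ▸ hKz e he)
      rw [s1.2, s2.2] at h
      exact Subtype.ext h
    · rw [Nat.card_congr (Subgroup.equivMapOfInjective _ _ M24.subtype_injective).toEquiv,
        Subgroup.map_comap_eq_self (by rw [Subgroup.range_subtype]; exact hHM), hHcard, hlen]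
      norm_num
    · rw [← Nat.card_congr (MonoidHom.ofInjective hinj).toEquiv, hSL]
    · intro x hx y hy
      exact (hcommH x.1 hx y.1 hy).imp (fun e => Subtype.ext e) (fun e => Subtype.ext e)
    · intro x hx
      obtain ⟨t, ht, hte⟩ := (hH _).1 hx
      have hv := (hval t ht).1
      have s := tblMul_spec hv hv
      have := hzz _ s.1 (hsq t ht)
      rw [s.2, hte] at this
      exact this.imp (fun e => Subtype.ext e) (fun e => Subtype.ext e)
    · intro x hx hall
      obtain ⟨t, ht, hte⟩ := (hH _).1 hx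
      have hv := (hval t ht).1
      rcases hcen t ht with h | h
      · refine absurd h ?_
        rw [Bool.not_eq_false, List.all_eq_true]
        intro g hg
        have s1 := tblMul_spec (hgen g hg).1 hv
        have s2 := tblMul_spec hv (hgen g hg).1
        rw [tblEq_iff s1.1 s2.1, s1.2, s2.2, hte]
        have hgH : mkPerm g.1 ∈ H := (hH _).2 (fst_mem_elems centPc hpc g hg).2
        exact (congrArg Subtype.val (hall ⟨_, hHM hgH⟩ hgH)).symm
      · have := hzz t hv h
        rw [hte] at this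
        exact this.imp (fun e => Subtype.ext e) (fun e => Subtype.ext e)
    · rintro _ ⟨X, rfl⟩ hX
      by_cases hX1 : X = 1
      · rw [hX1, map_one]
      · exact absurd hX (hnotH X hX1)
    · have hg : ∀ A : Matrix.SpecialLinearGroup (Fin 3) (ZMod 2),
          codeOf (A : Matrix (Fin 3) (Fin 3) (ZMod 2)) ∈ matGens →
          ∀ x ∈ H, mkPerm (kOf A) * x * (mkPerm (kOf A))⁻¹ ∈ H := by
        intro A hA x hx
        obtain ⟨ei, hei, h1, h2⟩ := hnorm _ hA
        have hv := (hKv A).1
        have hiv := validT_of_inM24 (hKval ei hei).2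
        have hinv := inv_of_tblEq hv hiv h1
        have hle : H ≤ H.comap (MulAut.conj (mkPerm (kOf A))).toMonoidHom := by
          conv_lhs => rw [hHc]
          rw [Subgroup.closure_le]
          rintro _ ⟨b, hb, rfl⟩
          have s1 := tblMul_spec hv (hgen b hb).1
          have s2 := tblMul_spec s1.1 hiv
          have := hmemH _ s2.1 (h2 b hb)
          rw [s2.2, s1.2, hinv] at this
          exact this
        exact hle hx
      have hreachP : ∀ prog cur, (∀ c ∈ cur, ∃ X : Matrix.SpecialLinearGroup (Fin 3) (ZMod 2),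
          codeOf (X : Matrix (Fin 3) (Fin 3) (ZMod 2)) = c ∧
            ∀ x ∈ H, mkPerm (kOf X) * x * (mkPerm (kOf X))⁻¹ ∈ H) →
          ∀ c ∈ reachC cur prog, ∃ X : Matrix.SpecialLinearGroup (Fin 3) (ZMod 2),
          codeOf (X : Matrix (Fin 3) (Fin 3) (ZMod 2)) = c ∧
            ∀ x ∈ H, mkPerm (kOf X) * x * (mkPerm (kOf X))⁻¹ ∈ H := by
        intro prog
        induction prog with
        | nil => intro cur h c hc; exact h c hc
        | cons ws rest ih =>
          intro cur h c hc
          simp only [reachC, List.mem_append] at hc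
          rcases hc with hc | hc
          · exact h c hc
          refine ih _ ?_ c hc
          clear hc ih
          induction cur generalizing ws with
          | nil => intro c hc; simp [nextC] at hc
          | cons a as iha =>
            intro c hc
            cases ws with
            | nil => simp [nextC] at hc
            | cons w ws =>
              simp only [nextC, List.mem_append, List.mem_map, List.mem_filter, List.mem_range] at hc
              rcases hc with ⟨j, ⟨hj, -⟩, rfl⟩ | hc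
              · obtain ⟨X, hX, hXP⟩ := h a (by simp)
                have hg' : matGens.getD j 0 ∈ matGens := by
                  rw [List.getD_eq_getElem _ _ hj]; exact List.getElem_mem hj
                obtain ⟨A, hA⟩ := hgenX _ hg'
                refine ⟨A * X, by rw [hmulC, hA, hX], fun x hx => ?_⟩
                rw [hhomAll, show mkPerm (kOf A) * mkPerm (kOf X) * x *
                    (mkPerm (kOf A) * mkPerm (kOf X))⁻¹ = mkPerm (kOf A) *
                    (mkPerm (kOf X) * x * (mkPerm (kOf X))⁻¹) * (mkPerm (kOf A))⁻¹ by group]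
                exact hg A (hA ▸ hg') _ (hXP x hx)
              · exact iha ws (fun d hd => h d (List.mem_cons_of_mem _ hd)) c hc
      rintro _ ⟨X, rfl⟩ x hx
      obtain ⟨e, he, h1, -⟩ := hkey X
      obtain ⟨X', hX', hP⟩ := hreachP matProg [273] (fun c hc => ⟨1, by
          rw [List.mem_singleton.1 hc, Matrix.SpecialLinearGroup.coe_one, hcode1],
        fun x hx => by rw [hone, one_mul, inv_one, mul_one]; exact hx⟩) e.1 (hreach e he)
      have : X' = X := Subtype.ext (by
        rw [← matOf_codeOf (X' : Matrix (Fin 3) (Fin 3) (ZMod 2)), hX', h1, matOf_codeOf])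
      exact this ▸ hP x.1 hx
    · rintro _ ⟨X, rfl⟩ hne
      obtain ⟨e, he, he1, h2⟩ := hkne X fun h => hne (by rw [h, map_one])
      obtain ⟨s, hs, si, hsi, hsinv, ei, hei, ⟨heinv, hodd'⟩, hc1⟩ :=
        (hodd e he).resolve_left he1
      have hsd := hKdet s hs
      let Y : Matrix.SpecialLinearGroup (Fin 3) (ZMod 2) := ⟨matOf s.1, by rw [← detC_eq]; exact hsd.1.2⟩
      have hY : kOf Y = s.2 := by
        show kVal (codeOf (matOf s.1)) = s.2
        rw [hsd.2]
        exact (hKval s hs).1
      have ve := validT_of_inM24 (hKval e he).2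
      have vei := validT_of_inM24 (hKval ei hei).2
      have vs := validT_of_inM24 (hKval s hs).2
      have vsi := validT_of_inM24 (hKval si hsi).2
      have p1 := inv_of_tblEq ve vei heinv
      have p2 := inv_of_tblEq vs vsi hsinv
      have t1 := tblMul_spec ve vs
      have t2 := tblMul_spec vei vsi
      have t3 := tblMul_spec t1.1 t2.1
      have hval' : mkPerm (commT e.2 ei.2 s.2 si.2)
          = mkPerm (kOf X) * mkPerm (kOf Y) * (mkPerm (kOf X))⁻¹ * (mkPerm (kOf Y))⁻¹ := by
        rw [commT, t3.2, t1.2, t2.2, p1, p2, hY, h2, ← mul_assoc]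
      refine ⟨φ Y, ⟨Y, rfl⟩, fun h => ?_, Subtype.ext ?_⟩
      · rw [Bool.eq_false_iff] at hc1
        refine hc1 ((tblEq_iff t3.1 idTbl_spec.1).2 ?_)
        rw [idTbl_spec.2]
        exact hval'.trans (congrArg Subtype.val h)
      · show (mkPerm (kOf X) * mkPerm (kOf Y) * (mkPerm (kOf X))⁻¹ * (mkPerm (kOf Y))⁻¹) ^ 21 = 1
        rw [← hval']
        rcases hodd' with h | h
        · have h3 := (cubeOne_iff t3.1).1 h
          rw [commT, show (21 : ℕ) = 3 * 7 from rfl, pow_mul, h3, one_pow]
        · rw [sevenOne] at h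
          have a2 := tblMul_spec t3.1 t3.1
          have a3 := tblMul_spec t3.1 a2.1
          have a4 := tblMul_spec t3.1 a3.1
          have a5 := tblMul_spec t3.1 a4.1
          have a6 := tblMul_spec t3.1 a5.1
          have a7 := tblMul_spec t3.1 a6.1
          have h7 := (tblEq_iff a7.1 idTbl_spec.1).1 h
          rw [a7.2, a6.2, a5.2, a4.2, a3.2, a2.2, idTbl_spec.2] at h7
          have h7' : mkPerm (tblMul (tblMul e.2 s.2) (tblMul ei.2 si.2)) ^ 7 = 1 := by
            simp only [pow_succ', pow_zero, mul_one]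
            exact h7
          rw [show (21 : ℕ) = 7 * 3 from rfl, pow_mul]
          show (mkPerm (commT e.2 ei.2 s.2 si.2) ^ 7) ^ 3 = 1
          rw [commT, h7', one_pow]
  · intro w hw
    show (w : Equiv.Perm GolayPt) ∈ H
    have hb : baseOctad = 8536111 := by
      obtain ⟨hchk, -⟩ := inv_checks
      simp only [Bool.and_eq_true, beq_iff_eq] at hchk
      exact hchk.2
    have hbf := baseOctad_facts
    rw [drop_six] at hbf
    simp only [Bool.and_eq_true] at hbf
    obtain ⟨hb24, horb, -, hrest⟩ := orbit_of_checkChain hbf.1.1.2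
    have hgm : (w : Equiv.Perm GolayPt) ∈ stabGrp [] baseOctad := by
      refine ⟨w.2, by simp, fun p hp => hw p ?_⟩
      rw [← invEightElt_fix] at hp
      exact (Finset.mem_filter.1 hp).2
    set b := lvlBase m24Chain 6
    have hm : (w : Equiv.Perm GolayPt) (pt b) ∈ MulAction.orbit (stabGrp [] baseOctad) (pt b) :=
      ⟨⟨_, hgm⟩, rfl⟩
    rw [horb, Finset.mem_coe, mem_ptSet, testBit_orbitMask] at hm
    obtain ⟨t, ht, hta⟩ := hm
    have hts : inStab [] baseOctad t = true := by
      have h := hbf.1.1.2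
      simp only [checkChain, Bool.and_eq_true, List.all_eq_true] at h
      exact h.1.1.1.2 t ht
    have hv := valid_inStab hts
    have heq : (mkPerm t)⁻¹ * (w : Equiv.Perm GolayPt) ∈ stabGrp [] (baseOctad ||| 2 ^ b) := by
      rw [stabGrp_or [] _ hb24]
      refine ⟨(stabGrp [] baseOctad).mul_mem
        ((stabGrp [] baseOctad).inv_mem (mem_stabGrp_of_inStab hts)) hgm, ?_⟩
      show ((mkPerm t)⁻¹ * (w : Equiv.Perm GolayPt)) (pt b) = pt b
      rw [Equiv.Perm.mul_apply, Equiv.Perm.coe_inv, Equiv.symm_apply_eq, mkPerm_pt hv hb24, hta,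
        pt_idx]
    rw [stabGrp_eq_bot' hrest, Subgroup.mem_bot, inv_mul_eq_one] at heq
    rw [← heq]
    rcases htr t ht with ⟨i, hi, h1, h2⟩ | h
    · exfalso
      rw [List.mem_range] at hi
      rw [Nat.beq_eq] at h2
      have hp : mkPerm invEight (pt i) = pt i := by rw [mkPerm_pt hwv hi, h2]
      have := hw (pt i) hp
      rw [← heq, mkPerm_pt hv hi, pt_inj ((validT_bijective hv).2 i hi) hi] at this
      rw [this, Nat.beq_refl] at h1
      exact Bool.noConfusion h1
    · exact hmemH t hv h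
  · rintro _ ⟨X, rfl⟩ hall
    by_contra hne
    obtain ⟨e, he, he1, h2⟩ := hkne X fun h => hne (by rw [h, map_one])
    have hmv := moves_checks
    simp only [List.all_eq_true, Bool.or_eq_true, List.any_eq_true, Bool.and_eq_true,
      Bool.not_eq_true', Nat.beq_eq] at hmv
    obtain ⟨ei, hei, heinv, g, hg, hmove⟩ := (hmv e he).resolve_left he1
    have ve := validT_of_inM24 (hKval e he).2
    have vei := validT_of_inM24 (hKval ei hei).2
    have p1 := inv_of_tblEq ve vei heinv
    have t1 := tblMul_spec ve (hgen g hg).1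
    have t2 := tblMul_spec vei (hgen g hg).2.1
    have t3 := tblMul_spec t1.1 t2.1
    have hgH : mkPerm g.1 ∈ H := (hH _).2 (fst_mem_elems centPc hpc g hg).2
    have hval' : mkPerm (commT e.2 ei.2 g.1 g.2)
        = mkPerm (kOf X) * mkPerm g.1 * (mkPerm (kOf X))⁻¹ * (mkPerm g.1)⁻¹ := by
      rw [commT, t3.2, t1.2, t2.2, p1, (hgen g hg).2.2, h2, ← mul_assoc]
    rw [Bool.eq_false_iff] at hmove
    apply hmove
    rcases hall ⟨_, hHM hgH⟩ hgH with h | h
    · refine List.any_eq_true.2 ⟨idTbl, by simp, (tblEq_iff idTbl_spec.1 t3.1).2 ?_⟩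
      rw [idTbl_spec.2]
      exact ((congrArg Subtype.val h).symm).trans hval'.symm
    · refine List.any_eq_true.2 ⟨invEight, by simp, (tblEq_iff hwv t3.1).2 ?_⟩
      exact ((congrArg Subtype.val h).symm).trans hval'.symm

end Cfsg.Agent.H95
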