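import Cfsg.Agent.Golay.OctadCount
import Cfsg.Agent.Golay.Transport
import Cfsg.Agent.Golay.M24
import Cfsg.Prelude.Def_SporadicCombinatorics

/-!
Checked orbits of the stabiliser of a block system of the 24 points on block systems
(octads, trios, sextets).  A block system is given by the list of the masks of its blocks;
orbits come as breadth-first trees under given elements of the stabiliser, and are separated
by an intersection invariant.
-/

set_option autoImplicit false

namespace Cfsg.Agent.H95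

open Cfsg Cfsg.Agent.Golay
open scoped Pointwise

/-! ### Sorting keys -/

/-- Merge with fuel. -/
def mrg : ℕ → List ℕ → List ℕ → List ℕ
  | 0, a, b => a ++ b
  | _ + 1, [], b => b
  | _ + 1, a, [] => a
  | f + 1, x :: a, y :: b => bif Nat.ble x y then x :: mrg f a (y :: b) else y :: mrg f (x :: a) b

lemma mem_mrg : ∀ (f : ℕ) (a b : List ℕ) {z : ℕ}, z ∈ mrg f a b → z ∈ a ∨ z ∈ b
  | 0, a, b, z, h => List.mem_append.1 h
  | _ + 1, [], b, z, h => by simp only [mrg] at h; exact Or.inr h
  | _ + 1, x :: a, [], z, h => by simp only [mrg] at h; exact Or.inl h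
  | f + 1, x :: a, y :: b, z, h => by
    simp only [mrg] at h
    rw [Bool.cond_eq_ite] at h
    split at h <;> rcases List.mem_cons.1 h with rfl | h'
    · exact Or.inl (List.mem_cons_self ..)
    · rcases mem_mrg f _ _ h' with h'' | h''
      · exact Or.inl (List.mem_cons_of_mem _ h'')
      · exact Or.inr h''
    · exact Or.inr (List.mem_cons_self ..)
    · rcases mem_mrg f _ _ h' with h'' | h''
      · exact Or.inl h''
      · exact Or.inr (List.mem_cons_of_mem _ h'')

/-- One round of merging neighbours. -/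
def mrgPass : List (List ℕ) → List (List ℕ)
  | a :: b :: t => mrg (a.length + b.length) a b :: mrgPass t
  | l => l

lemma mem_mrgPass : ∀ (l : List (List ℕ)) {z : ℕ}, z ∈ (mrgPass l).flatten → z ∈ l.flatten
  | [], z, h => h
  | [a], z, h => h
  | a :: b :: t, z, h => by
    simp only [mrgPass, List.flatten_cons, List.mem_append] at h ⊢
    rcases h with h | h
    · rcases mem_mrg _ _ _ h with h' | h'
      · exact Or.inl h'
      · exact Or.inr (Or.inl h')
    · exact Or.inr (Or.inr (mem_mrgPass t h))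

/-- Repeated rounds. -/
def mrgAll : ℕ → List (List ℕ) → List (List ℕ)
  | 0, l => l
  | n + 1, l => mrgAll n (mrgPass l)

lemma mem_mrgAll : ∀ (n : ℕ) (l : List (List ℕ)) {z : ℕ}, z ∈ (mrgAll n l).flatten → z ∈ l.flatten
  | 0, _, _, h => h
  | n + 1, l, _, h => mem_mrgPass l (mem_mrgAll n _ h)

/-- Strictly increasing. -/
def incrB : List ℕ → Bool
  | a :: b :: t => Nat.blt a b && incrB (b :: t)
  | _ => true

lemma incrB_pairwise : ∀ (l : List ℕ), incrB l = true → l.Pairwise (· < ·)
  | [], _ => List.Pairwise.nil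
  | [a], _ => List.pairwise_singleton _ _
  | a :: b :: t, h => by
    simp only [incrB, Bool.and_eq_true, Nat.blt, Nat.ble_eq, Nat.succ_le_iff] at h
    have ih := incrB_pairwise (b :: t) h.2
    refine List.pairwise_cons.2 ⟨fun c hc => ?_, ih⟩
    rcases List.mem_cons.1 hc with rfl | hc
    · exact h.1
    · exact h.1.trans ((List.pairwise_cons.1 ih).1 c hc)

lemma nodup_of_card_toFinset {α : Type*} [DecidableEq α] {l : List α}
    (h : l.toFinset.card = l.length) : l.Nodup := by
  rw [List.card_toFinset] at h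
  exact (List.dedup_sublist l).eq_of_length h ▸ List.nodup_dedup l

/-- The entries are pairwise different: sort and look. -/
def distinctB (l : List ℕ) : Bool :=
  incrB (mrgAll 13 (l.map fun x => [x])).flatten &&
    ((mrgAll 13 (l.map fun x => [x])).flatten.length == l.length)

lemma nodup_of_distinctB {l : List ℕ} (h : distinctB l = true) : l.Nodup := by
  simp only [distinctB, Bool.and_eq_true, beq_iff_eq] at h
  set s := (mrgAll 13 (l.map fun x => [x])).flatten
  have hs : s.Nodup := (incrB_pairwise s h.1).imp fun hab => hab.ne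
  have hsub : s.toFinset ⊆ l.toFinset := by
    intro z hz
    have hz' := mem_mrgAll 13 _ (List.mem_toFinset.1 hz)
    simp only [List.mem_flatten, List.mem_map] at hz'
    obtain ⟨_, ⟨x, hx, rfl⟩, hzx⟩ := hz'
    rw [List.mem_singleton.1 hzx]
    exact List.mem_toFinset.2 hx
  have h2 := Finset.card_le_card hsub
  rw [List.toFinset_card_of_nodup hs, h.2] at h2
  exact nodup_of_card_toFinset (le_antisymm (List.toFinset_card_le l) h2)

/-! ### Block systems as mask lists -/

/-- The block system of a list of masks. -/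
def sysOf (B : List ℕ) : Finset (Finset GolayPt) := (B.map ptSet).toFinset

lemma mem_sysOf {B : List ℕ} {s : Finset GolayPt} : s ∈ sysOf B ↔ ∃ m ∈ B, ptSet m = s := by
  simp [sysOf]

/-- Distinct masks of 24 bits. -/
def GoodSys (B : List ℕ) : Prop := (sysOf B).card = B.length ∧ ∀ m ∈ B, m < 2 ^ 24

/-- Check of `GoodSys`. -/
def goodB (B : List ℕ) : Bool := B.all (fun m => decide (m < 2 ^ 24)) && distinctB B

lemma goodSys_of_goodB {B : List ℕ} (h : goodB B = true) : GoodSys B := by
  simp only [goodB, Bool.and_eq_true, List.all_eq_true, decide_eq_true_eq] at h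
  refine ⟨?_, h.1⟩
  rw [sysOf, List.toFinset_card_of_nodup, List.length_map]
  exact (nodup_of_distinctB h.2).map_on fun x hx y hy hxy => ptSet_injOn (h.1 x hx) (h.1 y hy) hxy

lemma GoodSys.nodup {B : List ℕ} (h : GoodSys B) : (B.map ptSet).Nodup := by
  refine nodup_of_card_toFinset ?_
  rw [List.length_map]
  exact h.1

/-- Image of a mask under a table, unrolled for speed in the kernel. -/
def imgU (T m : ℕ) : ℕ :=
  (Nat.lor (Nat.lor (Nat.lor (Nat.lor (Nat.lor (Nat.lor (Nat.lor (Nat.lor (Nat.lor (Nat.lor (Nat.lor (Nat.lor (Nat.lor (Nat.lor (Nat.lor (Nat.lor (Nat.lor (Nat.lor (Nat.lor (Nat.lor (Nat.lor (Nat.lor (Nat.lor (Nat.lor 0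
    (Nat.shiftLeft (Nat.land (Nat.shiftRight m 0) 1) (Nat.land (Nat.shiftRight T 0) 31)))
    (Nat.shiftLeft (Nat.land (Nat.shiftRight m 1) 1) (Nat.land (Nat.shiftRight T 5) 31)))
    (Nat.shiftLeft (Nat.land (Nat.shiftRight m 2) 1) (Nat.land (Nat.shiftRight T 10) 31)))
    (Nat.shiftLeft (Nat.land (Nat.shiftRight m 3) 1) (Nat.land (Nat.shiftRight T 15) 31)))
    (Nat.shiftLeft (Nat.land (Nat.shiftRight m 4) 1) (Nat.land (Nat.shiftRight T 20) 31)))
    (Nat.shiftLeft (Nat.land (Nat.shiftRight m 5) 1) (Nat.land (Nat.shiftRight T 25) 31)))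
    (Nat.shiftLeft (Nat.land (Nat.shiftRight m 6) 1) (Nat.land (Nat.shiftRight T 30) 31)))
    (Nat.shiftLeft (Nat.land (Nat.shiftRight m 7) 1) (Nat.land (Nat.shiftRight T 35) 31)))
    (Nat.shiftLeft (Nat.land (Nat.shiftRight m 8) 1) (Nat.land (Nat.shiftRight T 40) 31)))
    (Nat.shiftLeft (Nat.land (Nat.shiftRight m 9) 1) (Nat.land (Nat.shiftRight T 45) 31)))
    (Nat.shiftLeft (Nat.land (Nat.shiftRight m 10) 1) (Nat.land (Nat.shiftRight T 50) 31)))
    (Nat.shiftLeft (Nat.land (Nat.shiftRight m 11) 1) (Nat.land (Nat.shiftRight T 55) 31)))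
    (Nat.shiftLeft (Nat.land (Nat.shiftRight m 12) 1) (Nat.land (Nat.shiftRight T 60) 31)))
    (Nat.shiftLeft (Nat.land (Nat.shiftRight m 13) 1) (Nat.land (Nat.shiftRight T 65) 31)))
    (Nat.shiftLeft (Nat.land (Nat.shiftRight m 14) 1) (Nat.land (Nat.shiftRight T 70) 31)))
    (Nat.shiftLeft (Nat.land (Nat.shiftRight m 15) 1) (Nat.land (Nat.shiftRight T 75) 31)))
    (Nat.shiftLeft (Nat.land (Nat.shiftRight m 16) 1) (Nat.land (Nat.shiftRight T 80) 31)))
    (Nat.shiftLeft (Nat.land (Nat.shiftRight m 17) 1) (Nat.land (Nat.shiftRight T 85) 31)))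
    (Nat.shiftLeft (Nat.land (Nat.shiftRight m 18) 1) (Nat.land (Nat.shiftRight T 90) 31)))
    (Nat.shiftLeft (Nat.land (Nat.shiftRight m 19) 1) (Nat.land (Nat.shiftRight T 95) 31)))
    (Nat.shiftLeft (Nat.land (Nat.shiftRight m 20) 1) (Nat.land (Nat.shiftRight T 100) 31)))
    (Nat.shiftLeft (Nat.land (Nat.shiftRight m 21) 1) (Nat.land (Nat.shiftRight T 105) 31)))
    (Nat.shiftLeft (Nat.land (Nat.shiftRight m 22) 1) (Nat.land (Nat.shiftRight T 110) 31)))
    (Nat.shiftLeft (Nat.land (Nat.shiftRight m 23) 1) (Nat.land (Nat.shiftRight T 115) 31)))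

lemma imgU_eq (T : ℕ) : imgU T = tblImg T := rfl

/-- Image of a system under a table. -/
def imgSys (t : ℕ) (B : List ℕ) : List ℕ := B.map (imgU t)

lemma sysOf_imgSys {t : ℕ} (ht : validT t = true) (B : List ℕ) :
    sysOf (imgSys t B) = mkPerm t • sysOf B := by
  ext s
  rw [mem_sysOf, Finset.mem_smul_finset]
  simp only [imgSys, imgU_eq, List.mem_map, mem_sysOf]
  constructor
  · rintro ⟨_, ⟨m, hm, rfl⟩, rfl⟩
    exact ⟨_, ⟨m, hm, rfl⟩, (ptSet_tblImg ht m).symm⟩
  · rintro ⟨_, ⟨m, hm, rfl⟩, rfl⟩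
    exact ⟨_, ⟨m, hm, rfl⟩, ptSet_tblImg ht m⟩

lemma GoodSys.imgSys {t : ℕ} (ht : validT t = true) {B : List ℕ} (h : GoodSys B) :
    GoodSys (imgSys t B) := by
  refine ⟨?_, fun m hm => ?_⟩
  · rw [sysOf_imgSys ht, Finset.card_smul_finset, h.1, H95.imgSys, List.length_map]
  · obtain ⟨m', -, rfl⟩ := List.mem_map.1 hm
    rw [imgU_eq]
    exact tblImg_lt ht m'

/-- A table maps a system to itself. -/
def fixSys (t : ℕ) (A : List ℕ) : Bool :=
  A.all (fun m => (imgSys t A).contains m) && (imgSys t A).all (fun m => A.contains m)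

lemma smul_eq_of_fixSys {t : ℕ} (ht : validT t = true) {A : List ℕ} (h : fixSys t A = true) :
    mkPerm t • sysOf A = sysOf A := by
  simp only [fixSys, Bool.and_eq_true, List.all_eq_true, List.contains_iff_mem] at h
  rw [← sysOf_imgSys ht]
  ext s
  simp only [mem_sysOf]
  exact ⟨fun ⟨m, hm, e⟩ => ⟨m, h.2 m hm, e⟩, fun ⟨m, hm, e⟩ => ⟨m, h.1 m hm, e⟩⟩

lemma coe_smul_sys (g : M24) (S : Finset (Finset GolayPt)) :
    g • S = (g : Equiv.Perm GolayPt) • S := rfl

/-! ### Fast population count -/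

/-- Population counts of the bytes, one hexadecimal digit each. -/
def byteTable : ℕ := 95125173855764218123276304889944061997689682402263585766959741291920687686033329201817409157123347502415384089435969498586180241031507595463600295898153685276653211633572815512294064538494957912327413386667662218713394765509704508661031522276467630197481635010039778342554499416459730172574551513689147646224

/-- Population count of a byte. -/
def pc8 (b : ℕ) : ℕ := Nat.land (Nat.shiftRight byteTable (Nat.mul 4 b)) 15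

/-- Population count of 24 bits by bytes. -/
def pc24 (m : ℕ) : ℕ :=
  Nat.add (Nat.add (pc8 (Nat.land m 255)) (pc8 (Nat.land (Nat.shiftRight m 8) 255)))
    (pc8 (Nat.land (Nat.shiftRight m 16) 255))

/-- Sum of a list, for the kernel. -/
def sumU : List ℕ → ℕ
  | [] => 0
  | a :: t => Nat.add a (sumU t)

lemma sumU_eq : ∀ l : List ℕ, sumU l = l.sum
  | [] => rfl
  | a :: t => by rw [sumU, sumU_eq t, List.sum_cons]; rfl

lemma pc8_eq : ∀ b < 256, pc8 b = ((Finset.range 8).filter fun i => b.testBit i).card := by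
  decide +kernel

lemma pc24_eq (m : ℕ) : pc24 m = popCnt m := by
  have hb : ∀ x, pc8 (x &&& 255) = ∑ i ∈ Finset.range 8, (if x.testBit i then 1 else 0) := by
    intro x
    rw [pc8_eq _ (Nat.lt_succ_of_le Nat.and_le_right), Finset.card_filter]
    refine Finset.sum_congr rfl fun i hi => ?_
    rw [Finset.mem_range] at hi
    rw [Nat.testBit_and, show (255 : ℕ) = 2 ^ 8 - 1 from rfl, Nat.testBit_two_pow_sub_one,
      decide_eq_true hi, Bool.and_true]
  show pc8 (m &&& 255) + pc8 ((m >>> 8) &&& 255) + pc8 ((m >>> 16) &&& 255) = _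
  rw [popCnt, popCnt_aux, zero_add, Finset.card_filter, hb, hb, hb,
    show (24 : ℕ) = 8 + 8 + 8 from rfl, Finset.sum_range_add, Finset.sum_range_add]
  simp only [Nat.testBit_shiftRight]

/-! ### Keys and invariants -/

/-- Key of a system. -/
def keyL (B : List ℕ) : ℕ := sumU (B.map fun m => Nat.mul (Nat.mul m m) m)

/-- Set form of the key. -/
def keyF (S : Finset (Finset GolayPt)) : ℕ := ∑ s ∈ S, maskOf s * maskOf s * maskOf s

lemma maskOf_ptSet {m : ℕ} (hm : m < 2 ^ 24) : maskOf (ptSet m) = m :=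
  ptSet_injOn (maskOf_lt _) hm (ptSet_maskOf _)

lemma keyF_sysOf {B : List ℕ} (h : GoodSys B) : keyF (sysOf B) = keyL B := by
  rw [keyF, sysOf, List.sum_toFinset _ h.nodup, keyL, sumU_eq, List.map_map]
  congr 1
  refine List.map_congr_left fun m hm => ?_
  simp [maskOf_ptSet (h.2 m hm)]

/-- Intersection invariant of `B` relative to `A`. -/
def invL (A B : List ℕ) : ℕ :=
  sumU (B.map fun t => Nat.pow (sumU (A.map fun a => Nat.pow 16 (pc24 (Nat.land a t)))) 3)

/-- Set form of the invariant. -/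
def invF (A S : Finset (Finset GolayPt)) : ℕ :=
  ∑ t ∈ S, (∑ a ∈ A, 16 ^ (a ∩ t).card) ^ 3

lemma invF_sysOf {A B : List ℕ} (hA : GoodSys A) (hB : GoodSys B) :
    invF (sysOf A) (sysOf B) = invL A B := by
  rw [invF, sysOf, List.sum_toFinset _ hB.nodup, invL, sumU_eq, List.map_map]
  congr 1
  refine List.map_congr_left fun m _ => ?_
  show (∑ a ∈ sysOf A, 16 ^ (a ∩ ptSet m).card) ^ 3 = (sumU _) ^ 3
  rw [sysOf, List.sum_toFinset _ hA.nodup, sumU_eq, List.map_map]
  congr 2
  refine List.map_congr_left fun a _ => ?_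
  show 16 ^ (ptSet a ∩ ptSet m).card = 16 ^ pc24 (a &&& m)
  rw [← ptSet_and, card_ptSet, pc24_eq]

lemma invF_smul (σ : Equiv.Perm GolayPt) (A S : Finset (Finset GolayPt)) :
    invF (σ • A) (σ • S) = invF A S := by
  have hS : σ • S = S.image fun x => σ • x := Finset.smul_finset_def
  have hA : σ • A = A.image fun x => σ • x := Finset.smul_finset_def
  rw [invF, invF, hS, Finset.sum_image (fun _ _ _ _ h => MulAction.injective σ h)]
  refine Finset.sum_congr rfl fun t _ => ?_
  rw [hA, Finset.sum_image (fun _ _ _ _ h => MulAction.injective σ h)]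
  refine congrArg (· ^ 3) (Finset.sum_congr rfl fun a _ => ?_)
  rw [← Finset.smul_finset_inter, Finset.card_smul_finset]

/-! ### Trees -/

/-- Children of the systems of one level, as told by one bit mask of tables per parent. -/
def nextLevel (gs : List ℕ) : List (List ℕ) → List ℕ → List (List ℕ)
  | B :: Bs, w :: ws =>
      ((List.range gs.length).filter fun j => w.testBit j).map (fun j => imgSys (gs.getD j 0) B)
        ++ nextLevel gs Bs ws
  | _, _ => []

/-- All systems of the tree. -/
def reach (gs : List ℕ) : List (List ℕ) → List (List ℕ) → List (List ℕ)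
  | cur, [] => cur
  | cur, ws :: rest => cur ++ reach gs (nextLevel gs cur ws) rest

lemma nextLevel_pred {gs : List ℕ} {P : List ℕ → Prop}
    (h : ∀ t ∈ gs, ∀ B, P B → P (imgSys t B)) : ∀ (cur : List (List ℕ)) (ws : List ℕ),
    (∀ B ∈ cur, P B) → ∀ B ∈ nextLevel gs cur ws, P B
  | [], _, _, B, hB => by simp [nextLevel] at hB
  | _ :: _, [], _, B, hB => by simp [nextLevel] at hB
  | C :: Cs, w :: ws, hc, B, hB => by
    simp only [nextLevel, List.mem_append, List.mem_map, List.mem_filter, List.mem_range] at hB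
    rcases hB with ⟨j, ⟨hj, -⟩, rfl⟩ | hB
    · refine h _ ?_ _ (hc C (by simp))
      rw [List.getD_eq_getElem _ _ hj]
      exact List.getElem_mem hj
    · exact nextLevel_pred h Cs ws (fun D hD => hc D (List.mem_cons_of_mem _ hD)) B hB

lemma reach_pred {gs : List ℕ} {P : List ℕ → Prop}
    (h : ∀ t ∈ gs, ∀ B, P B → P (imgSys t B)) : ∀ (prog : List (List ℕ)) (cur : List (List ℕ)),
    (∀ B ∈ cur, P B) → ∀ B ∈ reach gs cur prog, P B
  | [], _, hc, B, hB => hc B hB
  | ws :: rest, cur, hc, B, hB => by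
    simp only [reach, List.mem_append] at hB
    rcases hB with hB | hB
    · exact hc B hB
    · exact reach_pred h rest _ (nextLevel_pred h cur ws hc) B hB

/-- The tree of a class `(root, program)`. -/
def classL (gs : List ℕ) (c : List ℕ × List (List ℕ)) : List (List ℕ) := reach gs [c.1] c.2

/-- Tree elements lie in the orbit of the root under the stabiliser of any systems all tables fix. -/
lemma mem_classL {gs : List ℕ} (H : Subgroup M24)
    (hgs : ∀ t ∈ gs, ∃ h : inM24 t = true, (⟨mkPerm t, mem_M24_of_inM24 h⟩ : M24) ∈ H)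
    {c : List ℕ × List (List ℕ)} (hc : GoodSys c.1) {B : List ℕ} (hB : B ∈ classL gs c) :
    GoodSys B ∧ sysOf B ∈ MulAction.orbit H (sysOf c.1) := by
  refine reach_pred (P := fun B => GoodSys B ∧ sysOf B ∈ MulAction.orbit H (sysOf c.1))
    (fun t ht B hP => ?_) _ _ (fun B hB => ?_) B hB
  · obtain ⟨hM, hmem⟩ := hgs t ht
    have hv := validT_of_inM24 hM
    refine ⟨hP.1.imgSys hv, ?_⟩
    obtain ⟨h, hh⟩ := hP.2
    refine ⟨⟨_, hmem⟩ * h, ?_⟩
    show ((⟨_, hmem⟩ : H) * h) • sysOf c.1 = _
    rw [mul_smul, show h • sysOf c.1 = sysOf B from hh, sysOf_imgSys hv]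
    rfl
  · rw [List.mem_singleton.1 hB]
    exact ⟨hc, MulAction.mem_orbit_self _⟩

/-! ### The certificate -/

/-- Check of a partition into orbits of the stabiliser of `A`, with `N` systems in all. -/
def orbitCert (A gs : List ℕ) (N : ℕ) (cs : List (List ℕ × List (List ℕ))) : Bool :=
  goodB A && gs.all (fun t => inM24 t && fixSys t A) && cs.all (fun c => goodB c.1) &&
    distinctB ((cs.flatMap (classL gs)).map keyL) && ((cs.flatMap (classL gs)).length == N) &&
    cs.all (fun c => (classL gs c).all fun B => invL A B == invL A c.1) &&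
    distinctB (cs.map fun c => invL A c.1)

variable {A gs : List ℕ} {N : ℕ} {cs : List (List ℕ × List (List ℕ))}

lemma orbitCert_gens (h : orbitCert A gs N cs = true) :
    ∀ t ∈ gs, ∃ hM : inM24 t = true,
      (⟨mkPerm t, mem_M24_of_inM24 hM⟩ : M24) ∈ MulAction.stabilizer M24 (sysOf A) := by
  simp only [orbitCert, Bool.and_eq_true, List.all_eq_true] at h
  intro t ht
  obtain ⟨h1, h2⟩ := h.1.1.1.1.1.2 t ht
  refine ⟨h1, ?_⟩
  rw [MulAction.mem_stabilizer_iff]
  exact smul_eq_of_fixSys (validT_of_inM24 h1) h2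

lemma orbitCert_mem (h : orbitCert A gs N cs = true) {c : List ℕ × List (List ℕ)} (hc : c ∈ cs)
    {B : List ℕ} (hB : B ∈ classL gs c) :
    GoodSys B ∧ sysOf B ∈ MulAction.orbit (MulAction.stabilizer M24 (sysOf A)) (sysOf c.1) := by
  refine mem_classL _ (orbitCert_gens h) ?_ hB
  simp only [orbitCert, Bool.and_eq_true, List.all_eq_true] at h
  exact goodSys_of_goodB (h.1.1.1.1.2 c hc)

lemma orbitCert_injOn (h : orbitCert A gs N cs = true) :
    ((cs.flatMap (classL gs)).map sysOf).Nodup := by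
  have h' := h
  simp only [orbitCert, Bool.and_eq_true] at h'
  have hn := nodup_of_distinctB h'.1.1.1.2
  refine List.Nodup.map_on ?_ (List.Nodup.of_map _ hn)
  intro x hx y hy hxy
  obtain ⟨c, hc, hxc⟩ := List.mem_flatMap.1 hx
  obtain ⟨d, hd, hyd⟩ := List.mem_flatMap.1 hy
  refine List.inj_on_of_nodup_map hn hx hy ?_
  rw [← keyF_sysOf (orbitCert_mem h hc hxc).1, ← keyF_sysOf (orbitCert_mem h hd hyd).1, hxy]

/-- The classes exhaust an invariant family of at most `N` systems containing the roots. -/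
theorem orbitCert_cover (h : orbitCert A gs N cs = true) {X : Set (Finset (Finset GolayPt))}
    (hinv : ∀ g : M24, ∀ S ∈ X, g • S ∈ X) (hN : X.ncard ≤ N) (hroot : ∀ c ∈ cs, sysOf c.1 ∈ X) :
    X = {S | ∃ c ∈ cs, ∃ B ∈ classL gs c, sysOf B = S} := by
  symm
  refine Set.eq_of_subset_of_ncard_le ?_ (hN.trans ?_) (Set.toFinite _)
  · rintro S ⟨c, hc, B, hB, rfl⟩
    obtain ⟨g, hg⟩ := (orbitCert_mem h hc hB).2
    rw [← show g • sysOf c.1 = sysOf B from hg]
    exact hinv g.1 _ (hroot c hc)
  · have e : {S | ∃ c ∈ cs, ∃ B ∈ classL gs c, sysOf B = S}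
        = (((cs.flatMap (classL gs)).map sysOf).toFinset : Set (Finset (Finset GolayPt))) := by
      ext S
      simp [List.mem_flatMap]
      aesop
    rw [e, Set.ncard_coe_finset, List.toFinset_card_of_nodup (orbitCert_injOn h), List.length_map]
    simp only [orbitCert, Bool.and_eq_true, beq_iff_eq] at h
    rw [h.1.1.2]

/-- Each class is an orbit. -/
theorem orbitCert_orbit (h : orbitCert A gs N cs = true) {X : Set (Finset (Finset GolayPt))}
    (hinv : ∀ g : M24, ∀ S ∈ X, g • S ∈ X) (hN : X.ncard ≤ N) (hroot : ∀ c ∈ cs, sysOf c.1 ∈ X)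
    {c : List ℕ × List (List ℕ)} (hc : c ∈ cs) :
    MulAction.orbit (MulAction.stabilizer M24 (sysOf A)) (sysOf c.1)
        = {S | ∃ B ∈ classL gs c, sysOf B = S} ∧
      (MulAction.orbit (MulAction.stabilizer M24 (sysOf A)) (sysOf c.1)).ncard
        = (classL gs c).length := by
  have h' := h
  simp only [orbitCert, Bool.and_eq_true, List.all_eq_true, beq_iff_eq] at h'
  obtain ⟨⟨⟨⟨⟨⟨hA, -⟩, hgood⟩, -⟩, -⟩, hinvc⟩, hdist⟩ := h'
  have hAg := goodSys_of_goodB hA
  have heq : MulAction.orbit (MulAction.stabilizer M24 (sysOf A)) (sysOf c.1)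
      = {S | ∃ B ∈ classL gs c, sysOf B = S} := by
    ext S
    constructor
    · intro hS
      obtain ⟨g, rfl⟩ := hS
      have hX : (fun m : MulAction.stabilizer M24 (sysOf A) => m • sysOf c.1) g ∈ X :=
        hinv g.1 _ (hroot c hc)
      rw [orbitCert_cover h hinv hN hroot] at hX
      obtain ⟨d, hd, B, hB, hBS⟩ := hX
      have hv : invL A d.1 = invL A c.1 := by
        rw [← hinvc d hd B hB, ← invF_sysOf hAg (orbitCert_mem h hd hB).1,
          ← invF_sysOf hAg (goodSys_of_goodB (hgood c hc)), hBS]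
        have hg : (g.1 : Equiv.Perm GolayPt) • sysOf A = sysOf A := g.2
        have hm := invF_smul (g.1 : Equiv.Perm GolayPt) (sysOf A) (sysOf c.1)
        rw [hg] at hm
        exact hm
      have hdc : d = c :=
        List.inj_on_of_nodup_map (nodup_of_distinctB hdist) hd hc hv
      exact ⟨B, hdc ▸ hB, hBS⟩
    · rintro ⟨B, hB, rfl⟩
      exact (orbitCert_mem h hc hB).2
  refine ⟨heq, ?_⟩
  have hnd : ((classL gs c).map sysOf).Nodup := by
    refine (orbitCert_injOn h).sublist ?_
    obtain ⟨l₁, l₂, hl⟩ := List.append_of_mem hc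
    rw [hl, List.flatMap_append, List.flatMap_cons]
    exact ((List.sublist_append_left _ _).trans (List.sublist_append_right _ _)).map _
  have e : {S | ∃ B ∈ classL gs c, sysOf B = S}
      = (((classL gs c).map sysOf).toFinset : Set (Finset (Finset GolayPt))) := by
    ext S; simp
  rw [heq, e, Set.ncard_coe_finset, List.toFinset_card_of_nodup hnd, List.length_map]

/-- The orbits cover the family. -/
theorem orbitCert_union (h : orbitCert A gs N cs = true) {X : Set (Finset (Finset GolayPt))}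
    (hinv : ∀ g : M24, ∀ S ∈ X, g • S ∈ X) (hN : X.ncard ≤ N) (hroot : ∀ c ∈ cs, sysOf c.1 ∈ X)
    {S : Finset (Finset GolayPt)} :
    S ∈ X ↔ ∃ c ∈ cs, S ∈ MulAction.orbit (MulAction.stabilizer M24 (sysOf A)) (sysOf c.1) := by
  rw [orbitCert_cover h hinv hN hroot]
  constructor
  · rintro ⟨c, hc, B, hB, rfl⟩
    exact ⟨c, hc, (orbitCert_mem h hc hB).2⟩
  · rintro ⟨c, hc, hS⟩
    rw [(orbitCert_orbit h hinv hN hroot hc).1] at hS
    exact ⟨c, hc, hS⟩

/-! ### Moving the base -/

lemma orbit_stabilizer_smul {G α β : Type*} [Group G] [MulAction G α] [MulAction G β] (g : G)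
    (a : α) (b : β) :
    MulAction.orbit (MulAction.stabilizer G (g • a)) (g • b)
      = (fun x => g • x) '' MulAction.orbit (MulAction.stabilizer G a) b := by
  ext x
  constructor
  · rintro ⟨⟨h, hh⟩, rfl⟩
    have hh' : g⁻¹ * h * g ∈ MulAction.stabilizer G a := by
      rw [MulAction.mem_stabilizer_iff, mul_smul, mul_smul,
        show h • g • a = g • a from hh, inv_smul_smul]
    refine ⟨(⟨_, hh'⟩ : MulAction.stabilizer G a) • b, ⟨⟨_, hh'⟩, rfl⟩, ?_⟩
    show g • ((g⁻¹ * h * g) • b) = h • g • b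
    rw [mul_smul, mul_smul, smul_inv_smul]
  · rintro ⟨_, ⟨⟨h, hh⟩, rfl⟩, rfl⟩
    have hh' : g * h * g⁻¹ ∈ MulAction.stabilizer G (g • a) := by
      rw [MulAction.mem_stabilizer_iff, mul_smul, mul_smul, inv_smul_smul,
        show h • a = a from hh]
    refine ⟨⟨_, hh'⟩, ?_⟩
    show (g * h * g⁻¹) • g • b = g • h • b
    rw [mul_smul, mul_smul, inv_smul_smul]

lemma ncard_orbit_stabilizer_smul {G α β : Type*} [Group G] [MulAction G α] [MulAction G β]
    (g : G) (a : α) (b : β) :
    (MulAction.orbit (MulAction.stabilizer G (g • a)) (g • b)).ncard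
      = (MulAction.orbit (MulAction.stabilizer G a) b).ncard := by
  rw [orbit_stabilizer_smul, Set.ncard_image_of_injective _ (MulAction.injective g)]

/-- Stabiliser of a set and of the system consisting of it alone. -/
lemma stabilizer_singleton_sys (s : Finset GolayPt) :
    MulAction.stabilizer M24 ({s} : Finset (Finset GolayPt)) = MulAction.stabilizer M24 s := by
  ext g
  simp [MulAction.mem_stabilizer_iff, Finset.smul_finset_singleton]

lemma orbit_singleton_sys (H : Subgroup M24) (s : Finset GolayPt) :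
    MulAction.orbit H ({s} : Finset (Finset GolayPt))
      = (fun t => {t}) '' MulAction.orbit H s := by
  ext x
  constructor
  · rintro ⟨g, rfl⟩
    exact ⟨g • s, ⟨g, rfl⟩, (Finset.smul_finset_singleton _).symm⟩
  · rintro ⟨_, ⟨g, rfl⟩, rfl⟩
    exact ⟨g, Finset.smul_finset_singleton _⟩

end Cfsg.Agent.H95
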