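import Cfsg.Agent.H95.GolayOrbit

/-!
Generated data: elements of stabilisers in the group of the code and breadth-first orbit
programs for them (see `Cfsg.Agent.H95.orbitCert`).
-/

set_option autoImplicit false

namespace Cfsg.Agent.H95

/-- Base system (octad). -/
def octadBase : List ℕ := [8536111]

/-- Elements of its stabiliser. -/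
def octadGens : List ℕ := [5849227751453501358825028334621761, 57734418779806568757888016680990816, 109500500654914374227855856019607086]

/-- Base system (sextet). -/
def sextetBase : List ℕ := [147496, 268544, 1082880, 2621632, 4268048, 8388615]

/-- Elements of its stabiliser. -/
def sextetGens : List ℕ := [716197290748889131222248010628675747, 540791415681891572414212849414953104, 556432205458555407581509387234820804]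

/-- Base system (trio). -/
def trioBase : List ℕ := [2460752, 5780352, 8536111]

/-- Elements of its stabiliser. -/
def trioGens : List ℕ := [894738311752654766080409278146267344, 690236624729279654473208660908135915, 916688518690299489119980563231682995]

/-- Base system (triad). -/
def triadBase : List ℕ := [8388611]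

/-- Elements of its stabiliser. -/
def triadGens : List ℕ := [981843889395304077170164246671443969, 18523045100634156358022991428819681, 959953084550056121976226682136767489]

/-- Base system (duum). -/
def duumBase : List ℕ := [340831, 16436384]

/-- Elements of its stabiliser. -/
def duumGens : List ℕ := [540326665021476508527165007053052398, 756138517776148648731347650971609735, 932429878655095317696585475608284578]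

/-- An orbit of size 1. -/
def octadOctSing1 : List ℕ × List (List ℕ) :=
  ([8536111], [
    ])

/-- An orbit of size 30. -/
def octadOctSing2 : List ℕ × List (List ℕ) :=
  ([337856], [
    [3],
    [7, 3],
    [3, 5, 3, 4, 1],
    [5, 3, 5, 3, 2, 0, 1, 0],
    [1, 5, 0, 0, 0, 0, 0, 0, 0, 0],
    [1, 0, 0]])

/-- An orbit of size 280. -/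
def octadOctSing3 : List ℕ × List (List ℕ) :=
  ([5279], [
    [7],
    [7, 7, 7],
    [7, 7, 7, 7, 7, 7, 7, 5, 7],
    [7, 7, 4, 7, 7, 5, 7, 7, 7, 7, 7, 0, 7, 6, 7, 7, 7, 6, 3, 6, 7, 5, 7, 6, 7, 3],
    [6, 7, 7, 7, 3, 6, 3, 4, 7, 7, 7, 7, 3, 5, 7, 7, 3, 0, 7, 4, 7, 1, 4, 1, 7, 7, 6, 5, 1, 2, 4, 6, 5, 1, 0, 7, 1, 1, 2, 2, 3, 3, 4, 3, 7, 0, 0, 6, 1, 2, 3, 4, 2, 4, 6, 6, 5, 4, 0, 0, 5, 1, 1, 6, 5],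
    [1, 1, 0, 0, 6, 1, 1, 4, 3, 5, 0, 2, 6, 3, 3, 0, 2, 0, 0, 5, 1, 2, 0, 0, 2, 0, 0, 6, 4, 0, 7, 4, 2, 5, 0, 1, 0, 0, 2, 4, 4, 0, 0, 0, 5, 0, 0, 1, 0, 3, 0, 2, 4, 0, 0, 0, 1, 0, 4, 2, 2, 0, 0, 0, 4, 0, 2, 1, 1, 0, 0, 4, 0, 0, 0, 0, 0, 2, 0, 0, 1, 0, 2, 0, 0, 0, 0, 0, 0, 0, 0, 2, 4, 0, 3, 0, 0, 0, 0, 0, 0, 0, 0, 2, 0, 0, 2, 0, 0, 0, 0],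
    [0, 0, 0, 0, 0, 0, 0, 0, 0, 0, 1, 0, 0, 0, 0, 0, 0, 0, 0, 0, 0, 0, 0, 0, 0, 0, 0, 0, 0, 0, 4, 0, 0, 0, 0, 0, 0, 0, 0, 0, 0, 0, 0, 0, 0, 0, 0, 0, 0, 0, 0, 0, 0, 0, 0, 0, 0, 0, 0, 0, 0, 0, 0]])

/-- An orbit of size 448. -/
def octadOctSing4 : List ℕ × List (List ℕ) :=
  ([15777], [
    [7],
    [7, 7, 7],
    [7, 7, 7, 6, 7, 7, 7, 7, 7],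
    [7, 7, 7, 7, 6, 3, 3, 5, 7, 7, 5, 3, 5, 7, 7, 5, 3, 3, 7, 7, 7, 6, 5, 7, 7, 3],
    [7, 7, 7, 7, 7, 1, 7, 7, 7, 4, 7, 7, 6, 7, 6, 2, 7, 3, 7, 6, 7, 5, 3, 4, 2, 7, 7, 3, 5, 3, 3, 7, 7, 7, 7, 7, 7, 7, 3, 6, 4, 5, 7, 5, 6, 5, 6, 7, 1, 3, 4, 4, 7, 1, 7, 1, 5, 6, 6, 4, 1, 4, 7, 3, 2],
    [0, 0, 3, 7, 2, 7, 7, 5, 7, 4, 2, 6, 2, 6, 4, 7, 7, 7, 1, 1, 5, 5, 5, 7, 1, 3, 6, 0, 0, 7, 7, 0, 3, 0, 7, 5, 4, 1, 2, 3, 2, 6, 3, 0, 4, 0, 1, 0, 5, 2, 1, 5, 3, 4, 0, 6, 4, 4, 2, 0, 0, 1, 6, 2, 6, 1, 7, 0, 0, 5, 0, 4, 1, 3, 1, 1, 0, 2, 2, 4, 1, 2, 4, 1, 0, 0, 2, 6, 0, 4, 2, 6, 6, 0, 5, 2, 4, 1, 2, 0, 0, 0, 0, 4, 0, 2, 1, 4, 4, 5, 2, 0, 0, 2, 1,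 0, 0, 4, 2, 0, 5, 1, 4, 0, 0, 4, 0, 7, 1, 3, 2, 1, 3, 1, 0, 3, 5, 0, 1, 2, 0, 0, 0],
    [3, 2, 0, 0, 6, 4, 1, 4, 0, 0, 0, 4, 0, 0, 0, 1, 1, 0, 0, 0, 2, 2, 0, 0, 0, 1, 0, 0, 0, 0, 0, 0, 4, 0, 0, 0, 0, 0, 2, 0, 2, 0, 0, 0, 0, 2, 0, 0, 0, 0, 0, 0, 0, 0, 0, 2, 0, 0, 0, 0, 0, 3, 0, 0, 2, 0, 0, 0, 0, 1, 0, 0, 0, 0, 0, 0, 0, 0, 0, 0, 0, 0, 0, 0, 4, 0, 1, 0, 0, 2, 0, 0, 0, 0, 0, 0, 0, 0, 0, 4, 4, 0, 0, 0, 1, 0, 7, 5, 0, 0, 0, 0, 0, 4, 0, 0, 0, 0, 0, 0, 0, 4, 0, 0, 0, 0, 0, 0, 0, 0, 0, 0, 0, 0, 0, 4, 0, 0, 0, 0, 0, 0, 0, 0, 0, 0, 0, 0, 0, 0, 0, 0, 1, 0, 0, 0, 0, 0, 0, 0, 0, 0, 0]])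

/-- The orbits. -/
def octadOctSing : List (List ℕ × List (List ℕ)) := [octadOctSing1, octadOctSing2, octadOctSing3, octadOctSing4]

/-- An orbit of size 15. -/
def octadTrio1 : List ℕ × List (List ℕ) :=
  ([337856, 7903248, 8536111], [
    [3],
    [6, 3],
    [5, 1, 4, 1],
    [5, 0, 0, 1, 0]])

/-- An orbit of size 420. -/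
def octadTrio2 : List ℕ × List (List ℕ) :=
  ([5279, 4038912, 12733024], [
    [7],
    [7, 7, 7],
    [7, 7, 7, 3, 7, 7, 7, 5, 7],
    [7, 5, 7, 7, 7, 3, 7, 7, 3, 7, 6, 1, 6, 7, 7, 7, 7, 7, 7, 7, 7, 7, 6, 7, 3],
    [5, 7, 7, 7, 3, 3, 2, 3, 5, 7, 7, 6, 7, 7, 5, 7, 7, 7, 3, 5, 4, 5, 1, 6, 7, 7, 6, 5, 2, 5, 5, 0, 6, 5, 1, 6, 7, 7, 7, 6, 7, 7, 7, 2, 1, 6, 7, 3, 1, 1, 3, 4, 7, 7, 5, 7, 6, 5, 5, 6, 6, 5, 1, 3, 5, 7],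
    [3, 7, 0, 4, 0, 1, 1, 3, 3, 1, 2, 1, 2, 2, 6, 7, 2, 0, 6, 2, 5, 5, 5, 3, 6, 2, 1, 1, 6, 1, 1, 7, 6, 0, 2, 5, 6, 0, 5, 0, 7, 6, 4, 6, 1, 0, 2, 5, 0, 5, 0, 5, 0, 1, 0, 4, 7, 4, 1, 1, 4, 4, 2, 4, 3, 3, 1, 7, 0, 5, 4, 1, 4, 0, 4, 7, 0, 0, 0, 5, 2, 1, 5, 1, 1, 2, 4, 0, 0, 5, 2, 2, 0, 5, 0, 0, 2, 5, 0, 0, 0, 2, 0, 0, 0, 0, 0, 0, 6, 4, 0, 1, 5, 0, 6, 6, 4, 1, 0, 0, 0, 0, 4, 4, 3, 0, 3, 1, 4, 1, 0, 0, 2, 0, 2, 2, 0, 1, 2, 0, 0, 0],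
    [0, 3, 0, 0, 5, 0, 2, 0, 0, 0, 4, 0, 0, 2, 0, 0, 0, 5, 0, 1, 0, 0, 0, 0, 1, 0, 0, 0, 0, 0, 0, 0, 2, 0, 0, 0, 2, 0, 2, 0, 0, 0, 0, 0, 4, 4, 0, 0, 5, 0, 0, 0, 0, 0, 0, 0, 0, 0, 0, 1, 0, 4, 0, 0, 0, 1, 0, 0, 0, 0, 0, 0, 0, 0, 0, 2, 0, 0, 0, 4, 0, 0, 0, 0, 0, 0, 0, 2, 0, 2, 0, 0, 0, 0, 0, 0, 0, 0, 0, 0, 0, 2, 0, 0, 1, 0, 0, 0, 0, 0, 0, 0, 0, 0, 0, 0, 0, 0, 0, 0, 0, 0, 0, 0, 4, 0, 0, 0, 0, 0, 0, 0, 0, 0, 0, 0, 0, 0, 0, 0, 0, 0, 0, 0, 0, 0]])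

/-- An orbit of size 3360. -/
def octadTrio3 : List ℕ × List (List ℕ) :=
  ([5279, 1009728, 15762208], [
    [7],
    [7, 7, 7],
    [7, 7, 7, 7, 7, 7, 7, 7, 7],
    [7, 7, 7, 7, 7, 7, 7, 7, 7, 7, 7, 3, 7, 7, 7, 7, 7, 7, 7, 7, 7, 7, 7, 7, 7, 7, 3],
    [7, 7, 7, 7, 3, 7, 7, 7, 7, 7, 7, 7, 7, 7, 7, 7, 7, 7, 7, 7, 7, 7, 7, 7, 7, 7, 3, 7, 7, 7, 7, 7, 7, 7, 7, 6, 6, 7, 7, 3, 7, 7, 7, 7, 7, 7, 7, 7, 6, 7, 7, 7, 1, 7, 7, 7, 7, 7, 7, 7, 5, 7, 7, 7, 7, 7, 7, 7, 7, 7, 7, 7, 5, 5, 7, 5, 7, 7, 7],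
    [3, 3, 5, 7, 3, 7, 7, 5, 7, 7, 7, 7, 7, 7, 7, 7, 7, 7, 7, 7, 7, 7, 7, 7, 7, 3, 6, 7, 5, 7, 7, 7, 7, 7, 5, 7, 5, 7, 6, 7, 7, 7, 7, 6, 3, 7, 7, 7, 5, 7, 7, 7, 3, 7, 7, 7, 7, 7, 7, 3, 7, 3, 6, 7, 7, 7, 5, 7, 7, 7, 7, 7, 7, 7, 7, 4, 1, 6, 7, 7, 5, 5, 5, 7, 7, 7, 7, 6, 7, 7, 7, 7, 7, 7, 7, 7, 7, 7, 7, 5, 7, 7, 7, 7, 7, 7, 7, 5, 7, 3, 7, 7, 7, 7, 0, 7, 7, 7, 6, 7, 7, 7, 7, 6, 7, 5, 3, 7, 7, 7, 5, 6, 7, 7, 5, 6, 3, 7, 7, 7, 6, 6, 2, 7, 6, 5, 7, 7, 5, 7, 7, 3, 3, 7, 7, 2, 7, 7, 7, 6, 5, 7, 7, 7, 7, 7, 7, 6, 7, 6, 7, 1, 1, 7, 5, 7, 2, 7, 7, 4, 6, 7, 7, 1, 7, 4, 2, 7, 1, 6, 6, 3, 7, 6, 7, 7, 6, 7, 7, 0, 7, 7, 5, 3, 6, 6, 7, 7, 7, 7,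 5, 7, 7, 7, 7, 3, 7, 5, 5, 6, 7, 3, 7, 5, 5],
    [3, 7, 6, 6, 5, 6, 7, 7, 7, 7, 5, 5, 5, 1, 7, 3, 5, 7, 5, 7, 7, 3, 2, 7, 6, 7, 2, 7, 7, 7, 7, 7, 7, 6, 7, 7, 7, 5, 4, 7, 2, 7, 3, 7, 3, 3, 3, 5, 7, 3, 7, 6, 7, 7, 7, 3, 3, 6, 7, 3, 7, 3, 3, 2, 7, 7, 7, 3, 5, 3, 7, 2, 7, 3, 6, 6, 3, 6, 3, 3, 6, 5, 3, 7, 7, 7, 5, 3, 6, 6, 6, 7, 2, 7, 7, 3, 7, 5, 7, 5, 7, 7, 7, 6, 7, 2, 3, 0, 5, 0, 7, 7, 5, 6, 7, 7, 7, 6, 5, 3, 5, 7, 2, 5, 1, 3, 1, 4, 7, 3, 7, 5, 3, 4, 5, 0, 6, 7, 7, 2, 5, 6, 7, 2, 6, 7, 3, 7, 7, 2, 5, 2, 1, 3, 1, 6, 7, 5, 3, 7, 5, 7, 7, 3, 7, 7, 1, 6, 7, 1, 7, 5, 7, 5, 3, 5, 7, 2, 2, 5, 5, 5, 3, 6, 6, 3, 3, 7, 7, 5, 7, 6, 5, 1,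 1, 7, 7, 7, 3, 5, 1, 3, 5, 7, 7, 3, 3, 3, 7, 7, 7, 1, 5, 6, 7, 3, 3, 7, 7, 4, 6, 7, 6, 3, 7, 4, 2, 5, 7, 2, 6, 3, 6, 6, 4, 3, 3, 1, 7, 1, 1, 7, 3, 3, 7, 3, 2, 3, 6, 6, 0, 7, 0, 4, 7, 2, 6, 6, 4, 0, 7, 3, 2, 2, 7, 6, 4, 6, 2, 7, 5, 3, 5, 2, 7, 3, 7, 7, 7, 6, 6, 4, 1, 6, 3, 2, 6, 1, 6, 6, 3, 5, 5, 7, 1, 6, 3, 3, 3, 7, 6, 6, 7, 6, 4, 0, 5, 3, 7, 6, 1, 7, 3, 0, 4, 4, 0, 2, 5, 0, 7, 7, 6, 7, 3, 7, 3, 3, 5, 5, 6, 7, 5, 4, 2, 4, 7, 6, 7, 6, 1, 6, 5, 1, 4, 3, 7, 6, 5, 7, 4, 7, 3, 6, 3, 2, 0, 7, 7, 3, 5, 5, 6, 7, 5, 3, 6, 1, 6, 3, 3, 7, 0, 7, 5, 7, 3, 3, 6, 0, 3, 1, 5, 1, 3, 7, 7, 7, 6, 0, 5, 7, 3, 7, 7, 1, 2, 2, 1, 1, 5, 3, 7, 7, 1,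 5, 6, 7, 1, 6, 5, 5, 3, 4, 2, 2, 1, 7, 3, 6, 6, 4, 4, 7, 2, 2, 3, 4, 1, 3, 5, 1, 1, 6, 3, 1, 6, 6, 7, 3, 7, 7, 5, 4, 5, 3, 3, 5, 0, 1, 2, 3, 7, 5, 2, 5, 1, 1, 7, 4, 6, 7, 6, 1, 5, 3, 5, 5, 3, 5, 1, 6, 6, 7, 7, 3, 7, 2, 6, 6, 5, 3, 5, 0, 7, 2, 7, 3, 6, 7, 5, 3, 3, 0, 2, 3, 2, 7, 7, 2, 0, 2, 5, 1, 0, 3, 6, 7, 1, 3, 3, 0, 7, 7, 1, 5, 0, 2, 1, 2, 4, 2, 6, 4, 0, 6, 4, 7, 0, 4, 6, 1, 1, 2, 4, 0, 1, 5, 1, 5, 5, 3, 7, 0, 7, 2, 6, 0, 2, 3, 5, 0, 1, 5, 5, 3, 6, 7, 3, 7, 7, 5, 6, 3, 0, 7, 3, 3, 5, 0, 6, 0, 1, 7, 5, 4, 3, 7, 6],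
    [7, 1, 0, 7, 5, 3, 6, 2, 1, 3, 7, 6, 2, 2, 6, 1, 1, 2, 6, 4, 6, 0, 2, 7, 7, 3, 4, 7, 7, 1, 2, 0, 3, 4, 4, 5, 0, 2, 1, 2, 0, 0, 7, 7, 4, 7, 6, 5, 0, 1, 2, 6, 3, 7, 5, 3, 4, 3, 7, 7, 3, 7, 0, 0, 5, 7, 3, 2, 2, 1, 4, 6, 6, 2, 1, 2, 3, 7, 0, 1, 7, 3, 0, 2, 5, 6, 5, 5, 0, 4, 0, 3, 6, 3, 4, 7, 2, 1, 6, 0, 1, 4, 1, 6, 6, 6, 0, 1, 4, 5, 2, 4, 0, 6, 3, 6, 6, 1, 0, 6, 5, 2, 4, 1, 0, 1, 5, 6, 0, 3, 5, 7, 1, 2, 7, 0, 3, 0, 6, 1, 6, 2, 5, 3, 6, 1, 1, 0, 5, 4, 0, 1, 4, 0, 4, 3, 2, 0, 3, 7, 4, 1, 2, 2, 5, 5, 1, 5, 2, 4, 4, 6, 3, 6, 0, 2, 1, 4, 1, 4, 6, 5, 7, 1, 0, 2, 3, 4, 2, 5, 7, 6, 1, 0, 0, 2, 1, 1, 7, 0, 0, 0, 4, 6, 4, 3, 1, 1, 6, 5,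 6, 4, 2, 4, 4, 7, 2, 5, 3, 4, 4, 2, 3, 6, 5, 5, 0, 2, 7, 4, 1, 1, 1, 0, 0, 0, 0, 4, 1, 6, 0, 2, 0, 0, 1, 0, 5, 0, 6, 6, 0, 6, 0, 1, 0, 5, 0, 2, 4, 1, 4, 2, 0, 0, 2, 7, 0, 1, 0, 1, 4, 7, 3, 0, 0, 6, 2, 1, 2, 4, 0, 0, 6, 1, 4, 6, 4, 2, 0, 0, 1, 0, 7, 6, 6, 2, 5, 6, 4, 1, 6, 0, 5, 5, 3, 7, 7, 3, 3, 5, 3, 2, 1, 3, 6, 0, 6, 3, 1, 5, 0, 7, 4, 0, 1, 1, 6, 2, 0, 2, 2, 1, 3, 2, 3, 7, 0, 5, 2, 5, 1, 5, 0, 2, 0, 3, 6, 6, 2, 0, 6, 1, 1, 4, 1, 2, 1, 0, 1, 4, 0, 0, 6, 0, 6, 2, 0, 3, 0, 0, 2, 1, 4, 2, 1, 1, 1, 0, 2, 1, 5, 0, 2, 0, 4, 0, 0, 5, 2, 2, 6, 3, 1, 7, 5, 4, 3, 1, 0, 3, 0, 3, 0, 2, 0, 2, 0, 5, 0, 1, 3, 4, 4, 4, 4, 0, 6, 6, 4, 0, 2,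 2, 0, 4, 1, 7, 3, 7, 3, 1, 6, 0, 0, 4, 7, 1, 2, 0, 4, 1, 1, 4, 0, 4, 6, 7, 4, 4, 2, 0, 1, 0, 3, 3, 4, 2, 4, 7, 0, 0, 7, 0, 1, 1, 1, 3, 7, 0, 4, 4, 2, 2, 1, 4, 0, 7, 4, 0, 3, 0, 5, 2, 1, 0, 5, 0, 2, 0, 0, 0, 7, 0, 4, 2, 0, 4, 5, 4, 1, 0, 7, 4, 0, 1, 3, 0, 0, 5, 5, 0, 0, 0, 0, 1, 3, 1, 0, 4, 5, 0, 6, 4, 4, 0, 2, 7, 6, 2, 4, 6, 1, 3, 1, 3, 4, 5, 5, 4, 2, 5, 0, 4, 7, 0, 2, 0, 5, 6, 0, 2, 0, 0, 4, 4, 0, 2, 1, 2, 3, 1, 1, 2, 0, 0, 5, 4, 3, 4, 1, 3, 0, 5, 1, 2, 2, 6, 0, 6, 2, 0, 1, 0, 7, 0, 6, 6, 4, 1, 6, 0, 0, 0, 2, 5, 5, 0, 5, 2, 2, 4, 1, 1, 0, 1, 4, 0, 1, 0, 4, 6, 0, 0, 0, 3, 0, 0, 2, 3, 1, 1, 2, 0, 2, 7, 1, 3, 0, 0, 0, 2, 2, 6,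 0, 0, 1, 2, 0, 4, 5, 0, 0, 1, 1, 0, 0, 1, 0, 5, 2, 1, 0, 5, 3, 1, 1, 3, 4, 0, 4, 4, 0, 0, 3, 1, 1, 0, 2, 1, 5, 0, 2, 0, 2, 0, 0, 3, 1, 0, 0, 6, 0, 6, 0, 4, 1, 0, 4, 5, 1, 1, 6, 6, 0, 0, 0, 2, 1, 4, 5, 2, 0, 0, 0, 0, 0, 0, 0, 0, 2, 0, 5, 5, 3, 1, 3, 4, 4, 0, 0, 0, 3, 4, 5, 0, 4, 1, 0, 0, 2, 6, 0, 0, 6, 2, 2, 4, 0, 4, 2, 2, 0, 1, 0, 1, 1, 7, 0, 0, 0, 0, 0, 2, 0, 4, 0, 0, 4, 0, 2, 1, 5, 1, 2, 0, 2, 3, 0, 3, 7, 0, 0, 2, 0, 6, 5, 6, 0, 4, 1, 2, 2, 2, 0, 0, 0, 6, 0, 0, 4, 0, 2, 0, 4, 4, 0, 4, 0, 0, 0, 1, 2, 2, 1, 0, 0, 0, 0, 1, 2, 4, 0, 5, 4, 5, 1, 0, 2, 0, 2, 3, 2, 6, 1, 2, 0, 0, 6, 1, 1, 2, 1, 4, 0, 1, 2, 2, 0, 0, 0, 1, 6, 1, 0,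 4, 0, 4, 4, 0, 2, 0, 1, 1, 0, 0, 6, 4, 4, 0, 0, 0, 3, 1, 0, 5, 3, 7, 4, 0, 0, 4, 0, 0, 2, 0, 0, 5, 4, 1, 0, 7, 0, 0, 1, 1, 3, 0, 0, 4, 0, 4, 4, 0, 1, 2, 5, 0, 6, 6, 4, 0, 0, 0, 0, 4, 2, 0, 2, 1, 1, 0, 6, 6, 0, 0, 0, 0, 4, 0, 0, 5, 1, 4, 0, 0, 0, 1, 6, 0, 0, 0, 6, 0, 1, 0, 0, 0, 3, 2, 0, 1, 0, 4, 0, 6, 5, 1, 0, 2, 1, 2, 5, 1, 0, 2, 1, 6, 0, 0, 0, 0, 2, 0, 0, 2, 0, 3, 1, 1, 0, 0, 2, 2, 4, 0, 0, 0, 0, 1, 2, 0, 0, 2, 0, 7, 4, 0, 5, 0, 0, 0, 4, 0, 4, 0, 0, 0, 0, 3, 0, 0, 4, 4, 5, 0, 1, 3, 1, 0, 0, 0, 0, 0, 0, 0, 0, 1, 2, 1, 0, 0, 2, 2, 4, 6, 0, 5, 0, 2, 0, 4, 1, 0, 0, 0, 2, 0, 1, 0, 0, 0, 4, 0, 0, 2, 0, 0, 0, 0, 0, 1, 0, 2, 0, 2,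 0, 1, 0, 0, 1, 4, 0, 0, 0, 0, 1, 0, 0, 0, 1, 6, 0, 1, 0, 4, 1, 2, 0, 1, 0, 5, 1, 2, 2, 0, 2, 3, 0, 1, 2, 0, 0, 0, 0, 0, 0, 1, 0, 5, 0, 0, 1, 1, 2, 2, 4, 0, 1, 4, 1, 0, 4, 1, 0, 0, 2, 1, 0, 0, 0, 0, 1, 6, 0, 2, 0, 4, 0, 0, 4, 0, 1, 0, 0],
    [0, 3, 0, 0, 0, 0, 2, 0, 4, 2, 0, 1, 0, 0, 5, 2, 0, 1, 4, 0, 1, 0, 0, 0, 4, 6, 0, 1, 0, 4, 1, 0, 0, 0, 0, 6, 0, 1, 0, 0, 0, 0, 0, 0, 0, 0, 0, 2, 0, 0, 0, 0, 0, 0, 0, 1, 2, 0, 1, 4, 0, 0, 0, 0, 0, 0, 1, 2, 0, 1, 0, 0, 2, 0, 0, 0, 0, 0, 6, 0, 2, 1, 0, 4, 4, 4, 5, 4, 1, 4, 0, 4, 4, 2, 0, 0, 1, 0, 0, 5, 0, 0, 0, 0, 0, 0, 2, 0, 0, 0, 0, 0, 0, 0, 0, 0, 0, 5, 0, 0, 4, 4, 0, 0, 4, 0, 0, 0, 0, 6,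 4, 0, 0, 6, 0, 0, 4, 0, 0, 0, 0, 4, 5, 0, 0, 0, 2, 5, 0, 0, 0, 0, 0, 2, 0, 0, 0, 2, 0, 1, 0, 6, 4, 0, 0, 0, 0, 0, 0, 2, 0, 0, 1, 0, 0, 2, 0, 0, 0, 0, 0, 0, 4, 0, 0, 0, 0, 0, 0, 2, 1, 0, 0, 1, 4, 2, 4, 0, 4, 0, 0, 1, 0, 2, 0, 0, 0, 3, 0, 0, 4, 0, 0, 0, 0, 0, 0, 2, 2, 0, 0, 0, 0, 0, 0, 1, 0, 0, 0, 0, 0, 0, 4, 1, 0, 0, 0, 0, 0, 0, 4, 2, 0, 0, 2, 0, 0, 0, 1, 1, 0, 1, 0, 0, 0, 0, 0, 0, 0, 0, 4, 1, 1, 1, 0, 0, 0, 0, 0, 0, 0, 0, 0, 0, 0, 0, 4, 0, 0, 0, 0, 0, 0, 4, 0, 0, 0, 0, 0, 0, 2, 0, 0, 1, 0, 0, 6, 4, 0, 0, 0, 2, 0, 6, 0, 4, 4, 4, 0, 0, 4, 2, 0, 0, 0, 0, 0, 0, 0, 3, 4, 0, 0, 4, 0, 0, 0, 2, 2, 0, 0, 0, 0, 0, 0, 1, 0, 0, 0, 0, 0,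 0, 0, 0, 0, 0, 4, 3, 1, 0, 0, 0, 0, 2, 0, 0, 0, 0, 6, 0, 4, 0, 0, 0, 3, 4, 0, 1, 0, 0, 1, 0, 0, 0, 0, 0, 0, 0, 0, 0, 0, 4, 0, 0, 0, 1, 0, 0, 0, 0, 0, 0, 0, 0, 4, 1, 0, 1, 4, 0, 0, 0, 0, 1, 0, 0, 0, 0, 0, 0, 0, 0, 0, 0, 2, 0, 0, 0, 0, 0, 0, 0, 0, 0, 0, 0, 1, 0, 0, 1, 1, 4, 3, 0, 0, 0, 0, 0, 0, 0, 0, 0, 0, 0, 0, 0, 0, 0, 1, 0, 0, 4, 0, 0, 0, 0, 0, 0, 0, 0, 0, 0, 0, 0, 0, 4, 0, 0, 0, 0, 0, 2, 0, 0, 0, 1, 1, 0, 0, 1, 0, 0, 0, 0, 2, 0, 0, 0, 0, 0, 0, 0, 0, 0, 0, 0, 0, 0, 0, 0, 0, 0, 0, 0, 0, 0, 2, 0, 0, 0, 0, 0, 3, 0, 0, 0, 0, 0, 0, 0, 0, 0, 0, 0, 0, 0, 0, 0, 1, 0, 2, 1, 0, 1, 0, 0, 0, 0, 0, 0, 0, 0, 0, 0, 0, 0, 0, 0, 0, 0, 0, 0,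 0, 1, 0, 0, 0, 0, 0, 0, 0, 0, 0, 0, 0, 0, 2, 0, 0, 0, 0, 0, 1, 4, 1, 4, 0, 2, 0, 0, 0, 0, 0, 4, 0, 0, 0, 0, 1, 0, 0, 1, 0, 0, 0, 0, 0, 0, 0, 0, 0, 1, 0, 0, 0, 1, 4, 0, 0, 0, 0, 2, 0, 2, 0, 0, 1, 0, 0, 0, 0, 0, 1, 0, 0, 0, 0, 2, 0, 0, 0, 1, 0, 0, 1, 0, 0, 0, 1, 0, 0, 0, 0, 0, 0, 0, 0, 0, 0, 4, 0, 1, 0, 0, 0, 0, 0, 0, 0, 0, 0, 0, 1, 0, 0, 0, 0, 0, 0, 0, 0, 0, 0, 0, 0, 0, 0, 0, 0, 0, 0, 0, 0, 0, 0, 0, 0, 0, 0, 0, 0, 0, 0, 0, 0, 0, 4, 0, 0, 0, 0, 0, 0, 0, 0, 0, 0, 0, 0, 0, 0, 0, 0, 0, 0, 0, 0, 0, 0, 0, 0, 0, 0, 0, 0, 0, 0, 0, 0, 0, 0, 0, 6, 0, 0, 0, 0, 0, 0, 0, 0, 0, 0, 0, 0, 0, 0, 0, 0, 0, 0, 0, 0, 0, 0, 0, 4, 0, 0, 0, 0, 0, 2,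 0, 0, 0, 0, 0, 0, 0, 0, 0, 1, 0, 0, 0, 0, 0, 0, 0, 0, 0, 0, 0, 0, 0, 0, 0, 0, 0, 0, 0, 0, 0, 0, 0, 0, 0, 0, 0, 1, 0, 0, 0, 0, 2, 0, 0, 0, 0, 0, 0, 0, 0, 0, 0, 0, 0, 0, 0, 0, 0, 0, 0, 0, 0, 0, 0, 4, 0, 0, 0, 0, 0, 0, 0, 0, 0, 0, 0, 2, 0, 0, 0, 0, 0, 0, 0, 0, 0, 0, 0, 0, 0, 0, 0, 0, 0, 0, 0, 0, 0, 1, 0, 0, 0, 0, 0, 0, 0, 0, 0, 0, 0, 0, 0, 0, 0, 0, 0, 0, 0, 0, 0, 0, 0, 0, 0, 0, 0, 0, 0, 0, 0, 0, 0, 0, 0, 0, 0, 0, 0, 0, 0, 0, 0, 0, 0, 0, 0, 0, 0, 0, 0, 0, 0, 0, 0, 0, 0, 0, 0, 0, 0, 0, 0, 0, 0, 0, 0, 0, 0, 0, 0, 0, 1, 0, 1, 0, 0, 0, 0, 0, 0, 0, 0, 0, 0, 0, 0, 0, 0, 0, 0, 0, 0, 0, 0, 0, 0, 0, 0, 0, 0, 0, 0, 0, 0, 0, 0, 0, 0, 0, 0,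 0, 0, 0, 0, 0, 0, 0, 0, 0, 0, 0, 0, 0, 0, 0, 0, 0, 0, 0, 0, 0, 0, 0, 0, 0, 0, 0, 0, 0, 0, 0, 0, 0, 0, 0, 0, 0, 0, 0, 0, 0, 0, 0, 0, 0, 0, 0, 0, 0, 0, 0, 0, 0, 0, 0, 0, 0, 0, 0, 0, 0, 0, 0, 0, 0, 0, 0, 0, 0, 0, 0, 0, 0, 0, 0, 0, 0, 0, 0, 0, 0, 0, 0, 0, 0, 0, 0, 0, 0, 0, 0, 0, 0, 0, 0, 0, 0, 0, 0, 0, 0, 0, 0, 0, 0, 0, 0, 0, 0, 0, 0, 0, 0, 0, 0, 0, 0, 0, 0, 0, 0, 0, 0, 0, 0],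
    [0, 0, 0, 0, 0, 0, 0, 0, 0, 0, 0, 0, 0, 0, 0, 0, 0, 0, 0, 0, 0, 0, 0, 0, 0, 0, 0, 0, 0, 0, 0, 0, 0, 0, 0, 0, 0, 0, 0, 0, 0, 0, 0, 0, 0, 0, 0, 0, 0, 0, 0, 0, 0, 0, 0, 0, 0, 0, 0, 0, 0, 0, 0, 0, 0, 0, 0, 0, 0, 0, 0, 0, 0, 0, 0, 0, 0, 0, 4, 0, 0, 0, 0, 0, 0, 0, 0, 0, 0, 0, 0, 0, 0, 0, 0, 0, 0, 0, 0, 0, 0, 0, 0, 0, 0, 0, 0, 0, 0, 0, 0, 0, 0, 0, 0, 0, 0, 0, 0, 0, 0, 0, 0, 0, 0, 0, 0, 0, 0, 0, 0, 0, 0, 0, 0, 0, 0, 0, 0, 0, 0, 0, 0, 0, 0, 0, 0, 0, 0, 0, 0, 0, 0, 0, 0, 0, 0, 0, 0, 0, 0, 0, 0, 0, 0, 0, 0, 0, 0, 0, 0, 0, 0, 0, 0, 0, 0, 0, 0, 0, 0, 0, 0, 0, 0, 0, 0, 0, 0, 0, 0, 0, 0, 0, 0, 0, 0, 0, 0, 0, 0, 0, 0, 0]])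

/-- The orbits. -/
def octadTrio : List (List ℕ × List (List ℕ)) := [octadTrio1, octadTrio2, octadTrio3]

/-- An orbit of size 35. -/
def octadSext1 : List ℕ × List (List ℕ) :=
  ([15, 5264, 622848, 3416064, 4196928, 8536096], [
    [7],
    [7, 7, 7],
    [6, 7, 7, 0, 5, 0, 2, 4, 2],
    [5, 0, 5, 0, 0, 5, 4, 1, 0, 0, 0, 0, 0],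
    [0, 2, 0, 0, 0, 0, 0, 0]])

/-- An orbit of size 840. -/
def octadSext2 : List ℕ × List (List ℕ) :=
  ([83, 272512, 1065220, 2162728, 4752384, 8524288], [
    [7],
    [7, 7, 7],
    [7, 7, 7, 7, 7, 7, 7, 7, 7],
    [7, 7, 7, 7, 5, 7, 4, 7, 7, 7, 5, 7, 7, 7, 7, 7, 7, 7, 7, 7, 7, 7, 7, 7, 7, 7, 3],
    [7, 7, 1, 7, 3, 5, 7, 7, 7, 3, 6, 7, 7, 7, 7, 7, 7, 6, 7, 7, 5, 3, 3, 3, 5, 7, 6, 3, 4, 7, 6, 7, 5, 7, 7, 7, 7, 7, 7, 7, 7, 7, 7, 2, 7, 5, 3, 4, 7, 3, 7, 7, 7, 5, 7, 5, 7, 7, 7, 4, 3, 3, 7, 6, 7, 4, 7, 6, 3, 6, 7, 6, 1, 7, 5, 7],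
    [7, 7, 7, 2, 3, 3, 5, 3, 6, 3, 4, 3, 7, 7, 7, 6, 7, 7, 6, 7, 7, 6, 3, 5, 7, 3, 7, 2, 4, 5, 0, 1, 5, 5, 3, 0, 1, 7, 2, 6, 6, 0, 7, 1, 1, 7, 4, 7, 6, 3, 1, 5, 2, 4, 3, 2, 3, 3, 4, 4, 1, 5, 7, 4, 7, 3, 7, 7, 2, 3, 7, 2, 1, 6, 2, 5, 2, 1, 3, 7, 5, 5, 5, 3, 2, 7, 5, 6, 1, 5, 7, 5, 5, 5, 7, 4, 5, 5, 2, 3, 4, 6, 0, 5, 1, 1, 5, 4, 6, 7, 0, 1, 0, 1, 5, 5, 5, 6, 3, 3, 0, 4, 3, 6, 2, 6, 6, 4, 6, 3, 7, 6, 3, 7, 4, 4, 1, 3, 4, 3, 0, 3, 1, 6, 1, 2, 3, 1, 1, 3, 0, 2, 5, 6, 1, 7, 4, 7, 1, 7, 0, 3, 1, 4, 1, 4, 6, 0, 2, 6, 4, 4, 1, 4, 4, 2, 4, 5, 1, 2, 1, 0, 0, 4, 0, 1, 1],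
    [3, 3, 0, 6, 5, 0, 6, 1, 3, 1, 4, 0, 7, 0, 1, 2, 3, 0, 2, 2, 0, 5, 1, 0, 5, 2, 6, 2, 7, 0, 2, 4, 6, 2, 0, 0, 0, 1, 1, 4, 0, 2, 4, 4, 5, 4, 0, 1, 2, 0, 0, 2, 2, 0, 0, 2, 1, 0, 0, 0, 2, 2, 1, 2, 3, 2, 1, 1, 0, 1, 0, 1, 3, 1, 2, 1, 0, 4, 4, 6, 2, 4, 7, 0, 0, 2, 4, 0, 6, 0, 1, 5, 2, 4, 1, 2, 0, 0, 6, 6, 0, 0, 2, 0, 4, 5, 0, 2, 0, 0, 0, 0, 2, 1, 4, 1, 2, 1, 2, 0, 3, 0, 3, 0, 0, 5, 0, 0, 1, 2, 5, 0, 0, 2, 0, 0, 3, 2, 6, 6, 4, 3, 2, 4, 0, 3, 0, 1, 0, 0, 0, 5, 2, 0, 0, 4, 1, 0, 6, 4, 4, 2, 1, 6, 1, 0, 0, 1, 0, 4, 0, 2, 0, 4, 2, 0, 4, 4, 3, 5, 0, 4, 0, 2, 0, 0, 0, 0, 0, 0, 0, 4, 4, 0, 0, 0, 0, 0, 0, 0, 4, 1, 0, 2, 3, 0, 0, 0, 0, 1,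 2, 4, 2, 0, 0, 0, 0, 0, 0, 2, 0, 0, 0, 0, 0, 1, 2, 0, 1, 0, 2, 0, 0, 0, 0, 4, 1, 0, 2, 4, 0, 0, 0, 0, 0, 5, 0, 5, 0, 4, 2, 2, 0, 0, 0, 0, 0, 0, 2, 1, 0, 2, 4, 2, 0, 0, 0, 1, 0, 0, 0, 2, 0, 2, 2, 2, 1, 0, 1, 0, 0, 0, 0, 6, 0, 0, 2, 0, 2, 0, 0, 2, 0, 0, 2, 0, 0, 1, 0, 0, 0, 0, 0, 0, 0, 1, 0, 0, 0],
    [0, 0, 4, 0, 0, 0, 1, 0, 4, 0, 2, 0, 0, 2, 0, 0, 0, 1, 0, 0, 0, 0, 0, 0, 0, 1, 0, 0, 0, 0, 0, 0, 0, 2, 0, 4, 0, 0, 0, 0, 0, 0, 0, 0, 0, 0, 2, 0, 0, 0, 0, 4, 0, 0, 0, 0, 0, 6, 0, 0, 2, 0, 0, 0, 0, 0, 0, 0, 0, 0, 0, 0, 0, 0, 0, 0, 0, 0, 0, 4, 0, 1, 0, 0, 0, 0, 0, 0, 0, 0, 0, 0, 0, 0, 0, 0, 0, 0, 0, 0, 0, 0, 0, 0, 0, 0, 0, 0, 0, 0,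 4, 0, 0, 0, 0, 0, 0, 0, 0, 2, 0, 0, 0, 0, 0, 0, 0, 0, 0, 0, 0, 0, 0, 0, 0, 0, 0, 1, 0, 0, 0, 0, 0, 0, 0, 0, 0, 0, 0, 0, 0, 0, 0, 0, 0, 0, 0, 0, 0, 0, 0, 0, 0, 0, 0, 0, 0, 0, 0, 0, 4, 0, 0, 0, 0, 0, 0, 0, 0, 0, 0, 0, 0, 0, 0, 0, 0, 0, 0, 0, 0, 0, 0, 0, 0, 0, 0, 0, 0, 0, 0, 0, 0, 0, 0, 0, 0, 0]])

/-- An orbit of size 896. -/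
def octadSext3 : List ℕ × List (List ℕ) :=
  ([23, 5256, 786976, 1065280, 2263040, 12656640], [
    [7],
    [7, 7, 7],
    [7, 7, 7, 7, 7, 7, 7, 7, 7],
    [7, 7, 7, 7, 7, 7, 7, 7, 7, 6, 7, 7, 7, 7, 7, 7, 7, 7, 7, 7, 7, 7, 7, 7, 7, 7, 1],
    [7, 7, 7, 7, 7, 6, 7, 4, 7, 4, 3, 7, 5, 7, 7, 7, 7, 7, 3, 6, 2, 6, 7, 7, 3, 7, 3, 7, 3, 1, 3, 1, 5, 3, 3, 5, 7, 7, 7, 7, 7, 6, 7, 7, 7, 7, 7, 3, 3, 0, 5, 7, 3, 5, 7, 5, 7, 5, 6, 7, 5, 7, 6, 3, 7, 3, 7, 7, 3, 7, 4, 2, 2, 2, 7, 1, 7, 7],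
    [1, 7, 3, 5, 1, 5, 7, 7, 6, 3, 7, 2, 5, 5, 6, 3, 2, 6, 6, 2, 5, 7, 5, 3, 7, 3, 7, 2, 7, 7, 7, 5, 6, 7, 5, 7, 7, 1, 3, 5, 0, 7, 7, 7, 6, 5, 1, 5, 3, 4, 4, 7, 7, 6, 7, 7, 7, 7, 3, 4, 7, 7, 5, 5, 4, 5, 2, 7, 0, 7, 7, 7, 0, 7, 5, 4, 4, 7, 3, 6, 3, 6, 1, 1, 0, 5, 3, 5, 7, 7, 5, 3, 7, 6, 1, 3, 6, 4, 3, 0, 6, 6, 4, 2, 7, 4, 2, 3, 7, 3, 1, 2, 3, 0, 6, 4, 3, 3, 1, 5, 0, 1, 7, 1, 3, 4, 1, 4, 2, 5, 2, 3, 3, 5, 7, 5, 0, 3, 3, 0, 7, 0, 5, 4, 1, 1, 0, 7, 0, 3, 7, 3, 1, 1, 2, 5, 1, 7, 3, 1, 3, 4, 1, 1, 1, 0, 0, 4, 3, 2, 4, 2, 5, 2, 4, 4, 5, 6, 1, 5, 6, 0, 7],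
    [1, 2, 1, 5, 7, 0, 5, 6, 1, 5, 1, 1, 5, 6, 3, 6, 5, 0, 2, 3, 4, 1, 2, 1, 1, 4, 5, 0, 0, 3, 2, 6, 0, 7, 6, 0, 4, 7, 0, 0, 4, 4, 3, 6, 2, 1, 0, 5, 2, 2, 4, 7, 4, 5, 1, 5, 3, 5, 1, 6, 0, 0, 3, 2, 5, 0, 0, 0, 2, 0, 7, 0, 1, 7, 1, 0, 7, 2, 5, 0, 0, 2, 4, 5, 2, 3, 5, 7, 1, 1, 2, 1, 2, 0, 0, 3, 1, 0, 2, 0, 0, 0, 0, 0, 2, 4, 2, 5, 4, 0, 2, 7, 0, 0, 4, 4, 6, 0, 1, 0, 4, 5, 1, 5, 0, 0, 4, 1, 0, 0, 2, 1, 2, 0, 6, 2, 1, 6, 0, 0, 4, 0, 0, 2, 2, 2, 4, 2, 4, 4, 3, 1, 1, 0, 0, 2, 2, 1, 6, 1, 2, 2, 0, 0, 3, 0, 0, 4, 0, 6, 2, 0, 2, 5, 4, 0, 4, 0, 0, 5, 0, 4, 0, 0, 0, 0, 0, 1, 0, 4, 4, 0, 4, 1, 0, 0, 0, 0, 0, 2, 0, 0, 1, 5, 4, 0, 4, 4, 1, 0,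 4, 1, 0, 0, 0, 0, 1, 2, 0, 1, 0, 0, 2, 1, 6, 0, 5, 0, 1, 1, 1, 0, 0, 0, 2, 0, 0, 0, 3, 3, 2, 0, 0, 2, 0, 0, 0, 0, 0, 0, 2, 1, 0, 1, 0, 2, 0, 0, 0, 0, 0, 0, 0, 0, 6, 0, 0, 0, 0, 5, 4, 0, 0, 4, 0, 0, 0, 0, 0, 0, 0, 2, 0, 6, 0, 0, 0, 2, 0, 0, 0, 0, 0, 4, 0, 0, 0, 0, 0, 4, 4, 1, 1, 0, 0, 0, 0, 0, 2, 5, 4, 0, 2, 0, 4, 2, 0, 0, 0, 0, 0, 0, 0, 0],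
    [0, 0, 0, 0, 0, 0, 0, 0, 0, 0, 0, 0, 0, 0, 0, 0, 0, 0, 4, 2, 0, 2, 0, 0, 1, 0, 2, 0, 0, 0, 0, 0, 0, 0, 0, 2, 0, 0, 0, 0, 0, 0, 0, 0, 1, 5, 0, 0, 0, 0, 0, 0, 0, 0, 5, 0, 0, 0, 0, 0, 0, 0, 0, 4, 2, 0, 0, 2, 0, 0, 0, 0, 0, 0, 0, 0, 0, 0, 0, 0, 4, 0, 0, 0, 0, 0, 0, 0, 0, 0, 0, 0, 0, 0, 0, 0, 4, 0, 0, 0, 0, 4, 0, 0, 0, 0, 0, 0, 4, 0, 4, 0, 0, 0, 0, 0, 0, 0, 0, 0, 0, 0, 0, 0, 0, 0, 0, 0, 0, 0, 0, 0, 0, 0, 0, 0, 0, 0, 0, 0, 0, 0, 0, 0, 0, 0, 0, 0, 0, 0, 0, 0, 0, 0, 0, 0, 2, 0, 0, 0, 0, 0, 0, 0, 0, 0, 0, 0, 0, 0, 0, 0, 0, 0, 0, 0, 0, 0, 0, 0, 0, 0, 0, 1, 0, 2, 0, 0, 0, 0, 0, 0, 0, 0, 0, 0, 0, 0, 0, 0, 0, 0, 2, 0, 0, 0, 0, 0, 0, 0,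 0, 0, 0, 0, 0, 0, 0, 0, 0, 0, 0, 0, 0, 0, 0, 0, 0, 0, 0, 0, 0, 0, 0, 0, 0, 0, 0, 0, 0, 0, 0, 0, 0, 0, 0, 0, 0, 0]])

/-- The orbits. -/
def octadSext : List (List ℕ × List (List ℕ)) := [octadSext1, octadSext2, octadSext3]

/-- An orbit of size 15. -/
def sextetOctSing1 : List ℕ × List (List ℕ) :=
  ([416040], [
    [7],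
    [3, 4, 2],
    [4, 4, 4, 1],
    [2, 0, 4, 1]])

/-- An orbit of size 360. -/
def sextetOctSing2 : List ℕ × List (List ℕ) :=
  ([10558], [
    [7],
    [7, 7, 7],
    [7, 7, 7, 7, 3, 7, 7, 7, 7],
    [6, 3, 7, 6, 7, 3, 7, 6, 7, 3, 7, 7, 7, 7, 6, 7, 6, 7, 7, 7, 7, 7, 7, 7, 6, 0],
    [3, 6, 6, 7, 7, 1, 5, 4, 7, 7, 7, 5, 7, 4, 7, 5, 3, 7, 6, 7, 7, 7, 2, 3, 6, 5, 5, 2, 7, 7, 3, 3, 7, 4, 2, 3, 5, 3, 3, 0, 4, 1, 1, 0, 6, 2, 7, 6, 5, 6, 7, 5, 7, 5, 4, 4, 5, 2, 4, 6, 0, 6, 7, 1, 1, 6],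
    [0, 6, 4, 1, 3, 2, 4, 5, 1, 7, 6, 5, 5, 0, 7, 0, 0, 2, 2, 4, 2, 0, 2, 5, 2, 1, 5, 4, 4, 0, 5, 4, 2, 5, 6, 0, 3, 0, 0, 4, 4, 1, 7, 1, 1, 2, 4, 3, 6, 5, 2, 2, 0, 1, 0, 0, 0, 0, 6, 4, 0, 4, 7, 2, 4, 0, 6, 0, 0, 4, 0, 2, 6, 5, 0, 4, 0, 0, 4, 1, 0, 3, 1, 0, 0, 0, 5, 0, 0, 0, 0, 6, 0, 1, 0, 2, 1, 0, 0, 0, 2, 0, 0, 0, 0, 0, 0, 0, 0, 0, 5, 5, 2, 2, 3, 0, 0, 0, 0, 3, 1, 0, 0, 0, 0, 1, 0],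
    [0, 0, 4, 0, 3, 6, 0, 0, 0, 2, 0, 2, 4, 0, 0, 0, 0, 0, 0, 1, 0, 0, 2, 0, 2, 0, 1, 0, 2, 0, 0, 0, 0, 2, 4, 0, 0, 4, 0, 0, 0, 0, 0, 0, 2, 0, 4, 0, 0, 0, 0, 0, 2, 0, 0, 0, 0, 0, 0, 0, 0, 0, 0, 0, 0, 0, 0, 0, 0, 0, 0, 0, 0, 0, 0, 0, 0, 0, 0, 0, 0, 0, 0, 0, 0, 0, 0, 0, 0, 4, 0, 0, 0, 0, 0, 0, 0, 0, 0, 0, 0, 0, 0, 0, 0, 0, 0, 0]])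

/-- An orbit of size 384. -/
def sextetOctSing3 : List ℕ × List (List ℕ) :=
  ([5279], [
    [7],
    [7, 7, 7],
    [7, 7, 7, 6, 7, 5, 3, 7, 7],
    [6, 7, 7, 7, 7, 7, 7, 7, 7, 3, 5, 7, 7, 4, 7, 6, 7, 7, 7, 3, 3, 7, 5, 7],
    [7, 6, 2, 7, 3, 7, 5, 1, 4, 7, 6, 7, 3, 6, 7, 7, 7, 1, 3, 7, 5, 7, 1, 7, 7, 4, 7, 7, 3, 5, 4, 5, 3, 3, 1, 6, 6, 6, 5, 7, 7, 7, 4, 7, 5, 3, 3, 5, 5, 5, 3, 7, 2, 7, 7, 0, 4, 6, 2, 7, 4, 1, 1],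
    [4, 7, 4, 2, 1, 5, 0, 1, 6, 1, 5, 6, 7, 5, 6, 7, 7, 7, 6, 6, 7, 7, 6, 7, 2, 7, 0, 4, 2, 5, 4, 0, 4, 2, 2, 0, 4, 5, 4, 4, 1, 2, 0, 0, 7, 5, 0, 1, 5, 2, 2, 0, 3, 1, 0, 4, 4, 0, 4, 3, 0, 4, 3, 1, 6, 4, 1, 0, 1, 0, 0, 2, 5, 2, 0, 0, 0, 2, 4, 1, 7, 7, 3, 1, 0, 1, 1, 0, 4, 3, 4, 0, 0, 2, 4, 1, 0, 2, 0, 1, 5, 2, 0, 0, 4, 0, 4, 1, 0, 0, 0, 0, 5, 0, 1, 0, 0, 0, 0, 4, 0, 0, 0, 0, 2, 0, 0, 1, 0, 0, 0],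
    [0, 0, 0, 0, 1, 1, 2, 3, 0, 4, 4, 0, 0, 0, 0, 2, 0, 0, 0, 0, 2, 0, 0, 0, 0, 0, 0, 0, 4, 0, 2, 0, 0, 0, 0, 0, 0, 0, 0, 0, 0, 0, 1, 2, 0, 0, 0, 0, 0, 0, 0, 0, 0, 0, 0, 0, 0, 0, 0, 2, 2, 0, 2, 0, 0, 0, 0, 0, 0, 0, 0, 4, 0, 0, 0, 0, 4, 0, 0, 0, 0, 0, 0, 0, 0, 0, 0, 0, 0, 0, 0, 0, 0, 0, 0, 0, 0, 0, 0, 0, 1, 2, 0, 0, 0, 0, 0, 0, 0, 0, 0, 0, 0, 0, 0, 0, 0, 0, 0, 0, 0, 0, 0, 0, 0, 0, 0, 0, 0, 0, 0, 0, 0]])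

/-- The orbits. -/
def sextetOctSing : List (List ℕ × List (List ℕ)) := [sextetOctSing1, sextetOctSing2, sextetOctSing3]

/-- An orbit of size 15. -/
def sextetTrio1 : List ℕ × List (List ℕ) :=
  ([416040, 3704512, 12656663], [
    [3],
    [7, 4],
    [5, 1, 5, 1],
    [4, 1, 0, 0, 0, 0]])

/-- An orbit of size 180. -/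
def sextetTrio2 : List ℕ × List (List ℕ) :=
  ([10558, 3704512, 13062145], [
    [7],
    [7, 7, 7],
    [7, 7, 7, 7, 3, 7, 7, 7, 5],
    [4, 3, 7, 6, 7, 3, 7, 6, 7, 2, 7, 7, 3, 6, 4, 7, 4, 6, 2, 7, 7, 7, 6, 4, 0],
    [2, 6, 7, 5, 1, 5, 0, 3, 7, 7, 1, 7, 4, 7, 1, 3, 6, 6, 3, 5, 7, 1, 2, 4, 5, 2, 5, 5, 1, 2, 2, 0, 0, 1, 0, 4, 0, 2, 2, 2, 0, 5, 5, 7, 5, 4, 4, 0, 0, 0, 0, 1],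
    [4, 2, 0, 0, 5, 1, 0, 1, 0, 0, 4, 0, 2, 4, 0, 0, 0, 4, 2, 0, 0, 0, 0, 0, 4, 2, 0, 0, 3, 0, 0, 0, 0, 1, 0, 1, 0, 2, 1, 0, 0, 0, 0, 0, 0, 0, 0, 0, 0, 0, 0, 0, 0, 0, 0, 0, 0, 0, 0, 0, 0, 0, 0, 0, 0, 0, 0, 0, 0, 0, 0]])

/-- An orbit of size 720. -/
def sextetTrio3 : List ℕ × List (List ℕ) :=
  ([10558, 2019456, 14747201], [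
    [7],
    [7, 7, 7],
    [7, 7, 7, 7, 7, 7, 7, 7, 7],
    [6, 7, 3, 6, 7, 5, 7, 7, 7, 7, 7, 7, 7, 7, 7, 2, 7, 7, 7, 7, 3, 7, 7, 7, 7, 7, 6],
    [3, 6, 7, 7, 5, 7, 5, 7, 3, 6, 7, 6, 7, 7, 7, 7, 3, 3, 5, 7, 7, 3, 7, 2, 6, 7, 7, 7, 7, 5, 7, 7, 7, 2, 7, 4, 6, 7, 7, 6, 7, 5, 7, 5, 7, 5, 4, 7, 2, 0, 2, 6, 7, 7, 6, 7, 5, 7, 7, 7, 2, 6, 2, 7, 7, 7, 6, 2, 3, 5, 7, 1, 3],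
    [3, 7, 3, 1, 7, 3, 3, 5, 3, 5, 2, 3, 0, 6, 7, 5, 7, 7, 6, 5, 2, 3, 6, 7, 6, 2, 6, 5, 7, 4, 6, 2, 5, 7, 7, 2, 3, 4, 6, 4, 7, 7, 0, 6, 1, 4, 5, 6, 4, 6, 7, 5, 3, 5, 7, 3, 6, 1, 3, 6, 4, 3, 5, 1, 5, 6, 2, 4, 7, 7, 3, 4, 1, 3, 2, 2, 2, 6, 5, 5, 2, 2, 6, 6, 6, 3, 3, 2, 3, 4, 5, 6, 4, 1, 0, 4, 0, 6, 0, 6, 7, 4, 7, 3, 5, 1, 4, 4, 0, 2, 6, 6, 2, 3, 7, 0, 0, 0, 7, 2, 2, 1, 1, 0, 4, 1, 1, 5, 4, 3, 5, 1, 0, 0, 2, 4, 4, 0, 4, 0, 7, 6, 7, 7, 2, 7, 6, 2, 3, 3, 5, 4, 2, 0, 0, 6, 1, 2, 5, 0, 3, 0, 7, 2, 0, 4, 2, 6, 1, 7],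
    [4, 6, 0, 2, 2, 1, 6, 2, 0, 0, 0, 4, 2, 4, 0, 7, 6, 0, 2, 5, 1, 5, 2, 3, 0, 5, 0, 3, 1, 2, 0, 1, 0, 0, 0, 1, 0, 0, 2, 6, 0, 0, 1, 0, 4, 0, 2, 1, 4, 2, 1, 1, 0, 7, 4, 4, 7, 0, 4, 1, 0, 0, 0, 0, 0, 0, 1, 7, 1, 1, 1, 5, 0, 0, 1, 0, 0, 1, 0, 2, 5, 2, 3, 0, 0, 5, 1, 2, 1, 0, 0, 2, 4, 0, 0, 0, 0, 0, 4, 0, 2, 4, 2, 1, 4, 0, 0, 1, 6, 1, 0, 4, 3, 0, 0, 3, 1, 1, 0, 2, 0, 0, 0, 0, 0, 0, 1, 0, 0, 1, 1, 1, 0, 0, 5, 0, 0, 3, 0, 2, 1, 0, 2, 0, 2, 2, 0, 0, 0, 0, 2, 0, 0, 0, 4, 0, 0, 6, 0, 0, 2, 0, 0, 0, 0, 0, 4, 3, 0, 4, 1, 2, 0, 0, 2, 2, 6, 2, 0, 0, 1, 5, 1, 4, 0, 0, 4, 1, 0, 0, 2, 0, 4, 2, 2, 0, 4, 0, 0, 0, 0, 2, 0, 0, 0, 0, 0, 0, 0, 0,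 2, 0, 1, 0, 0, 4, 0, 0, 0, 0, 0, 0, 2, 0, 0, 0, 0, 0, 0, 0, 2, 0, 0, 4, 0, 1, 0, 0, 0, 0, 0, 0, 1, 0, 2, 4, 2, 0, 0, 0, 0, 0, 0, 0, 0, 0, 0, 0, 0, 0, 0, 2, 0, 0, 1, 0, 0, 0, 2],
    [0, 0, 0, 0, 0, 0, 0, 0, 0, 0, 0, 0, 0, 0, 0, 0, 0, 0, 0, 0, 0, 0, 0, 0, 0, 0, 4, 2, 0, 0, 2, 1, 0, 0, 0, 0, 0, 0, 0, 0, 0, 0, 0, 1, 0, 0, 0, 0, 2, 0, 0, 0, 0, 2, 3, 0, 0, 0, 0, 0, 0, 0, 1, 0, 0, 4, 0, 0, 0, 2, 0, 0, 0, 0, 0, 0, 0, 0, 0, 0, 0, 0, 0, 0, 0, 0, 0, 0, 0, 0, 0, 0, 0, 0, 0, 0, 0, 0, 0, 0, 0, 0, 0, 0, 0, 0, 0, 0, 0, 2, 0, 0, 0, 0, 0, 0, 4, 4, 0, 0, 0, 0, 0, 0, 0, 0, 0, 0, 0, 0, 0, 0, 0, 0, 0, 0, 0, 0, 0, 0, 0, 0, 0, 0, 0, 0, 0, 0, 0, 0,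 0, 0, 0]])

/-- An orbit of size 2880. -/
def sextetTrio4 : List ℕ × List (List ℕ) :=
  ([5279, 1009728, 15762208], [
    [7],
    [7, 7, 7],
    [7, 7, 7, 7, 7, 7, 7, 7, 7],
    [6, 7, 7, 7, 7, 7, 7, 7, 7, 7, 7, 7, 7, 7, 5, 7, 7, 7, 7, 7, 7, 7, 6, 7, 7, 7, 7],
    [7, 7, 7, 7, 7, 5, 7, 7, 7, 7, 7, 7, 7, 7, 7, 7, 7, 7, 7, 3, 7, 7, 7, 3, 7, 7, 2, 7, 7, 7, 7, 5, 7, 7, 7, 7, 7, 7, 7, 5, 7, 7, 7, 7, 7, 7, 7, 3, 7, 7, 5, 7, 6, 7, 7, 7, 7, 7, 7, 7, 7, 7, 7, 7, 6, 3, 7, 7, 7, 7, 7, 5, 7, 7, 7, 7, 7, 2],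
    [7, 1, 6, 2, 7, 7, 7, 3, 7, 7, 7, 7, 7, 7, 7, 7, 3, 7, 7, 7, 0, 7, 7, 2, 5, 5, 6, 7, 7, 5, 7, 7, 7, 7, 7, 7, 7, 3, 7, 7, 7, 7, 7, 7, 7, 7, 7, 7, 7, 7, 6, 7, 7, 7, 7, 7, 3, 1, 7, 7, 7, 5, 3, 7, 3, 7, 3, 7, 7, 5, 5, 5, 6, 7, 3, 7, 7, 7, 7, 5, 7, 7, 7, 7, 6, 6, 7, 6, 7, 7, 7, 7, 6, 7, 5, 5, 7, 7, 7, 0, 7, 3, 7, 7, 7, 7, 5, 6, 3, 3, 3, 7, 7, 7, 7, 4, 2, 7, 2, 6, 7, 7, 4, 7, 7, 6, 5, 6, 4, 7, 7, 5, 7, 7, 7, 7, 7, 3, 7, 7, 7, 7, 1, 7, 5, 7, 3, 5, 3, 6, 3, 6, 1, 7, 6, 5, 3, 7, 6, 3, 2, 6, 5, 7, 7, 7, 3, 4, 7, 7, 7, 7, 2, 2, 0, 3, 7, 7, 5, 7, 7, 7, 7, 4, 3, 7, 5, 7, 4, 7, 3, 3, 7, 4, 7, 2, 3, 7, 4, 7, 5, 3, 7, 3, 3, 6, 6, 2, 3, 6,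 3, 7, 3, 7, 6, 7, 6, 7, 7],
    [6, 7, 7, 7, 7, 5, 3, 7, 5, 7, 7, 7, 3, 2, 1, 6, 7, 3, 4, 0, 6, 7, 5, 6, 1, 7, 5, 6, 7, 7, 7, 7, 5, 1, 7, 5, 6, 5, 3, 6, 7, 7, 3, 7, 7, 7, 4, 0, 4, 7, 3, 3, 6, 2, 4, 7, 2, 7, 2, 6, 3, 7, 3, 5, 7, 7, 7, 5, 3, 7, 7, 1, 3, 2, 7, 3, 5, 7, 3, 2, 0, 7, 5, 7, 6, 7, 6, 6, 1, 6, 3, 3, 6, 0, 7, 3, 7, 3, 2, 7, 3, 4, 4, 2, 7, 6, 2, 6, 3, 7, 7, 3, 7, 7, 7, 7, 7, 7, 7, 3, 2, 3, 3, 2, 4, 7, 7, 7, 7, 7, 3, 3, 2, 6, 3, 4, 3, 7, 3, 6, 7, 5, 4, 6, 4, 0, 7, 5, 5, 2, 2, 3, 7, 2, 5, 5, 7, 6, 4, 5, 7, 5, 7, 5, 2, 7, 5, 1, 6, 7, 5, 1, 7, 5, 2, 3, 6, 0, 7, 6, 2, 7, 7, 2, 5, 4, 7, 5, 3, 7, 6, 0, 7, 6, 6, 0, 3, 4, 2, 7,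 7, 1, 7, 7, 7, 3, 4, 6, 6, 0, 2, 3, 5, 4, 4, 2, 7, 2, 7, 5, 1, 7, 3, 6, 7, 7, 7, 6, 4, 5, 7, 2, 2, 6, 5, 6, 2, 7, 5, 2, 6, 6, 4, 6, 6, 3, 3, 3, 7, 7, 5, 7, 7, 2, 3, 1, 2, 7, 3, 1, 7, 7, 6, 0, 7, 7, 5, 2, 7, 5, 3, 4, 1, 7, 6, 0, 3, 6, 2, 2, 2, 0, 3, 6, 4, 3, 7, 7, 3, 7, 5, 5, 7, 1, 1, 2, 6, 4, 4, 2, 7, 7, 5, 7, 2, 4, 4, 5, 7, 7, 3, 3, 3, 5, 7, 7, 7, 2, 1, 5, 3, 5, 7, 3, 1, 0, 7, 5, 3, 1, 7, 7, 4, 0, 3, 0, 4, 2, 7, 2, 4, 4, 5, 7, 5, 1, 3, 7, 7, 2, 7, 7, 7, 3, 7, 6, 2, 5, 7, 6, 7, 7, 7, 2, 5, 7, 7, 1, 7, 5, 1, 7, 1, 7, 3, 3, 1, 2, 7, 0, 7, 2, 2, 6, 2, 6, 4, 1, 5, 2, 1, 2, 6, 0, 3, 5, 0, 5, 7, 2, 4, 4, 0, 6, 4, 3, 5, 0, 7, 5, 2,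 3, 5, 0, 5, 4, 0, 5, 4, 7, 7, 2, 6, 7, 3, 1, 2, 3, 5, 0, 5, 3, 3, 0, 7, 0, 7, 2, 3, 7, 6, 2, 4, 3, 6, 0, 7, 7, 6, 3, 3, 6, 1, 5, 2, 2, 6, 7, 4, 5, 3, 6, 5, 1, 6, 0, 7, 2, 1, 3, 4, 7, 0, 2, 6, 5, 5, 6, 5, 0, 0, 5, 7, 1, 3, 5, 0, 2, 1, 5, 3, 2, 4, 6, 3, 0, 5, 6, 2, 0, 4, 4, 4, 6, 0, 6, 4, 4, 5, 5, 5, 7, 6, 7, 4, 3, 4, 2, 3, 4, 2, 5, 6, 7, 6, 6, 7, 1, 4, 3, 5, 6, 5, 4],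
    [1, 5, 3, 4, 6, 5, 7, 6, 5, 3, 7, 2, 2, 6, 1, 5, 3, 4, 4, 4, 4, 2, 2, 0, 7, 7, 2, 0, 0, 1, 1, 3, 2, 4, 2, 5, 0, 2, 1, 7, 2, 3, 3, 4, 3, 6, 0, 0, 4, 1, 4, 2, 0, 4, 2, 0, 3, 3, 2, 4, 6, 2, 3, 4, 1, 7, 6, 2, 2, 4, 5, 1, 0, 2, 2, 6, 1, 4, 0, 5, 4, 2, 3, 5, 2, 0, 0, 4, 4, 6, 5, 3, 1, 0, 4, 0, 7, 3, 0, 3, 2, 5, 0, 5, 6, 0, 5, 3, 6, 4, 7, 5, 0, 0, 0, 3, 4, 6, 1, 0, 4, 5, 4, 6, 5, 4, 3, 5, 7, 3, 7, 2, 1, 3, 3, 3, 1, 4, 4, 0, 4, 0, 5, 0, 1, 6, 0, 0, 2, 5, 5, 4, 1, 1, 5, 7, 0, 0, 2, 3, 5, 2, 3, 1, 4, 7, 5, 5, 4, 6, 0, 0, 6, 5, 3, 3, 7, 0, 0, 4, 7, 2, 1, 1, 6, 5, 3, 2, 1, 0, 6, 3, 4, 2, 6, 7, 0, 7, 1, 3, 4, 2, 7, 3, 0, 6, 5, 2, 0, 3,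 1, 4, 0, 1, 4, 2, 1, 1, 4, 2, 3, 0, 2, 3, 1, 6, 2, 2, 4, 6, 4, 1, 1, 2, 4, 4, 4, 4, 6, 0, 5, 4, 3, 4, 1, 3, 0, 7, 5, 1, 2, 0, 4, 1, 0, 0, 4, 4, 4, 4, 2, 6, 0, 0, 3, 5, 2, 1, 0, 1, 3, 4, 4, 0, 0, 6, 7, 7, 4, 4, 1, 0, 3, 4, 4, 0, 6, 4, 0, 0, 1, 0, 2, 0, 0, 4, 2, 2, 2, 0, 3, 0, 1, 0, 2, 0, 7, 7, 0, 4, 1, 4, 4, 0, 0, 7, 6, 0, 0, 4, 0, 0, 0, 0, 5, 6, 3, 6, 0, 0, 0, 2, 0, 5, 0, 5, 0, 1, 2, 0, 5, 6, 2, 4, 1, 4, 5, 2, 5, 0, 5, 1, 3, 1, 3, 6, 0, 1, 4, 3, 0, 0, 2, 0, 1, 0, 3, 4, 5, 1, 1, 1, 0, 4, 6, 2, 3, 0, 0, 1, 5, 0, 2, 7, 3, 0, 2, 4, 5, 0, 5, 2, 2, 0, 0, 0, 3, 1, 5, 5, 0, 3, 2, 2, 2, 0, 3, 0, 0, 0, 7, 6, 1, 1, 2, 2, 0, 4, 1, 2, 1,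 2, 4, 0, 5, 3, 0, 0, 0, 0, 0, 5, 2, 1, 3, 7, 0, 2, 0, 1, 2, 6, 1, 3, 0, 0, 0, 2, 1, 0, 0, 1, 4, 4, 1, 2, 1, 1, 0, 3, 4, 4, 4, 2, 0, 2, 0, 1, 0, 0, 0, 0, 7, 0, 0, 2, 0, 0, 0, 0, 0, 0, 2, 0, 1, 2, 2, 4, 3, 5, 2, 5, 5, 5, 0, 0, 1, 2, 0, 1, 0, 4, 0, 1, 5, 2, 5, 1, 6, 5, 5, 2, 6, 0, 0, 0, 2, 0, 1, 0, 0, 0, 0, 1, 1, 0, 0, 3, 3, 0, 0, 6, 1, 0, 0, 0, 2, 0, 6, 0, 4, 1, 2, 0, 0, 0, 2, 5, 5, 7, 0, 0, 1, 0, 6, 2, 0, 0, 1, 0, 0, 2, 2, 0, 1, 0, 1, 1, 4, 1, 0, 4, 1, 0, 6, 0, 1, 1, 0, 2, 2, 0, 2, 2, 0, 2, 0, 0, 3, 0, 0, 0, 0, 0, 4, 0, 6, 2, 0, 2, 3, 1, 1, 2, 7, 0, 1, 0, 1, 1, 6, 0, 6, 5, 0, 0, 1, 6, 4, 0, 1, 0, 3, 0, 2, 0, 0, 0, 2, 0, 2, 0,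 3, 2, 0, 0, 0, 7, 1, 1, 0, 4, 0, 2, 2, 0, 0, 5, 2, 0, 4, 1, 5, 0, 0, 0, 6, 0, 2, 1, 1, 0, 0, 1, 4, 5, 0, 0, 4, 0, 7, 0, 4, 1, 2, 3, 2, 0, 4, 0, 0, 1, 6, 6, 0, 6, 0, 0, 2, 4, 0, 0, 0, 2, 0, 0, 4, 1, 0, 0, 2, 1, 5, 5, 0, 2, 1, 5, 1, 0, 0, 2, 3, 0, 0, 0, 0, 4, 0, 5, 0, 0, 1, 0, 5, 0, 3, 0, 0, 0, 5, 0, 7, 1, 0, 0, 2, 0, 2, 0, 4, 1, 0, 1, 0, 2, 1, 2, 0, 4, 4, 1, 0, 0, 1, 0, 0, 2, 5, 0, 1, 2, 0, 1, 2, 2, 6, 4, 0, 7, 4, 1, 0, 0, 0, 0, 4, 2, 2, 0, 1, 1, 0, 1, 0, 4, 0, 6, 0, 0, 0, 0, 5, 0, 0, 3, 0, 0, 3, 0, 2, 1, 0, 1, 0, 0, 4, 0, 0, 4, 1, 2, 2, 0, 0, 0, 0, 0, 0, 2, 4, 2, 0, 1, 2, 0, 2, 4, 7, 1, 0, 1, 2, 0, 2, 0, 0, 0, 0, 0, 4, 0, 0,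 6, 0, 0, 4, 2, 1, 0, 6, 0, 0, 2, 0, 1, 1, 0, 0, 1, 4, 0, 0, 0, 4, 0, 0, 0, 0, 0, 6, 0, 2, 0, 0, 1, 4, 0, 0, 0, 0, 0, 0, 0, 0, 4, 0, 0, 2, 6, 1, 4, 2, 1, 0, 0, 0, 0, 4, 0, 1, 2, 0, 2, 0, 3, 0, 1, 1, 0, 0, 0, 0, 0, 2, 4, 0, 0, 0, 0, 0, 0, 0, 0, 3, 2, 0, 0, 4, 0, 1, 0, 0, 0, 3, 0, 0, 2, 0, 2, 0, 0, 1, 0, 5, 1, 2, 6, 0, 0, 0, 0, 0, 0, 0, 0, 0, 0, 0, 0, 0, 0, 0, 0, 1, 0, 0, 1, 0, 4, 1, 2, 1, 0, 0, 0, 4, 0, 4, 0, 0, 4, 0, 0, 1, 5, 2, 2, 0, 1, 0, 0, 4, 1, 0, 0, 4, 0, 0, 2, 0, 0, 0, 5],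
    [0, 0, 0, 0, 0, 0, 2, 0, 4, 0, 0, 0, 1, 0, 4, 0, 0, 0, 0, 0, 7, 0, 1, 0, 0, 0, 0, 1, 0, 0, 0, 0, 0, 0, 0, 0, 0, 5, 0, 4, 1, 0, 2, 0, 1, 0, 0, 0, 0, 1, 0, 0, 0, 0, 0, 0, 0, 0, 0, 0, 0, 4, 0, 0, 0, 0, 1, 1, 1, 0, 0, 0, 0, 0, 0, 0, 0, 0, 5, 0, 1, 1, 3, 4, 4, 2, 0, 1, 0, 0, 0, 0, 0, 0, 0, 2, 4, 1, 4, 0, 3, 0, 0, 1, 0, 0, 0, 0, 4, 0, 0, 0, 1, 0, 4, 0, 0, 0, 0, 0, 0, 0, 2, 0, 0, 1, 0, 0, 0, 0, 0, 0, 0, 5, 0, 0, 1, 0, 0, 0, 3, 0, 1, 1, 0, 0, 4, 0, 4, 0, 0, 0, 0, 0, 0, 0, 0, 1, 0, 0, 0, 1, 0, 1, 0, 0, 0, 4, 2, 0, 0, 2, 2, 0, 0, 4, 0, 0, 0, 0, 4, 0, 0, 0, 0, 0, 0, 0, 0, 0, 0, 0, 1, 0, 0, 0, 0, 1, 0, 4, 0, 0, 0, 0, 0, 0, 4, 0, 0, 1,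 0, 4, 0, 2, 0, 2, 0, 2, 4, 2, 1, 0, 0, 0, 1, 0, 4, 4, 0, 0, 0, 0, 0, 0, 1, 0, 0, 0, 2, 2, 0, 0, 4, 0, 2, 0, 0, 0, 0, 0, 0, 0, 0, 0, 0, 0, 0, 0, 0, 0, 0, 0, 0, 2, 0, 0, 2, 0, 0, 0, 0, 0, 2, 0, 0, 0, 0, 0, 0, 0, 0, 0, 0, 1, 0, 4, 2, 0, 0, 0, 1, 0, 0, 0, 0, 0, 0, 0, 0, 2, 2, 0, 0, 0, 0, 0, 0, 0, 0, 3, 0, 0, 0, 0, 0, 0, 0, 0, 0, 0, 0, 0, 0, 0, 0, 0, 0, 0, 2, 0, 0, 0, 0, 2, 2, 4, 0, 0, 0, 0, 0, 0, 0, 0, 0, 2, 0, 0, 0, 0, 0, 4, 0, 0, 0, 0, 0, 0, 0, 0, 0, 0, 0, 0, 0, 0, 4, 0, 2, 0, 0, 0, 5, 2, 0, 0, 0, 0, 0, 0, 2, 0, 4, 0, 0, 0, 0, 0, 0, 0, 0, 0, 0, 4, 4, 0, 0, 0, 0, 1, 0, 0, 0, 0, 0, 0, 0, 0, 2, 0, 0, 0, 0, 0, 0, 0, 2, 0, 0, 0, 0,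 0, 4, 0, 5, 0, 0, 0, 0, 0, 0, 0, 0, 0, 0, 0, 0, 4, 0, 0, 0, 0, 0, 0, 4, 0, 0, 0, 0, 0, 0, 0, 0, 0, 0, 0, 3, 0, 0, 0, 2, 0, 0, 0, 0, 0, 0, 0, 0, 0, 0, 0, 0, 0, 0, 0, 0, 0, 0, 2, 0, 0, 0, 0, 0, 0, 0, 0, 0, 0, 0, 0, 0, 0, 0, 0, 0, 0, 0, 0, 0, 2, 0, 2, 0, 0, 0, 0, 0, 0, 0, 0, 0, 0, 0, 0, 0, 0, 0, 0, 0, 0, 0, 0, 0, 0, 0, 0, 0, 0, 0, 0, 1, 0, 0, 0, 0, 0, 0, 0, 0, 0, 0, 0, 0, 0, 0, 0, 0, 0, 0, 0, 0, 0, 0, 0, 0, 0, 0, 0, 0, 0, 0, 0, 0, 0, 0, 0, 0, 0, 0, 0, 0, 0, 0, 0, 0, 0, 0, 0, 0, 0, 0, 0, 0, 0, 0, 0, 0, 0, 0, 0, 0, 0, 1, 0, 0, 0, 0, 0, 0, 0, 0, 0, 0, 0, 0, 0, 0, 0, 0, 0, 0, 0, 0, 0, 0, 0, 0, 1, 1, 0, 0, 0, 0, 0, 0, 0, 0, 0, 0, 0,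 0, 1, 0, 0, 0, 0, 0, 0, 0, 0, 0, 0, 0, 0, 0, 0, 0, 0, 0, 0, 0, 0, 0, 0, 0, 0, 0, 0, 0, 0, 0, 0, 4, 0, 0, 0, 0, 0, 0, 0, 0, 0, 0, 0, 0, 0, 0, 0, 0, 0, 0, 0, 0, 0, 0, 0, 0, 0, 0, 0, 0, 0, 0, 0, 0, 0, 0, 0, 0, 0, 0, 0, 0, 0, 0, 0, 0, 0, 0, 0, 0, 0, 0, 0, 0, 0, 0, 0, 0, 0, 0, 0, 0, 0, 0, 0, 0, 0, 0, 0, 0, 0, 0, 0, 0, 0, 0, 0, 0, 0, 0, 0, 0, 0, 0, 0, 0, 0, 0, 0, 0, 0, 0, 2, 0, 0, 0, 0, 0, 0, 0, 0, 0, 0, 0, 0, 0, 0, 0, 0, 0, 0, 0, 0, 0, 0, 0, 0, 0, 0, 0, 0, 0, 0, 0, 0, 0, 0, 0, 0, 0, 0, 0, 0, 0, 0, 0, 0, 2, 0, 0, 0, 0, 0, 0, 0, 0, 0, 0, 0, 0, 0, 0, 0, 0, 0, 0, 0, 0, 0, 0, 0, 0, 0, 0, 0, 0, 0, 0, 0, 0, 0, 0, 0, 0, 0, 0, 0, 0, 0, 0,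 0, 0, 0, 0, 0, 0, 0, 0, 0, 0, 0, 0, 0, 0, 0, 0, 0, 0, 0, 0, 0, 0, 0, 0, 0, 0, 0, 0, 0, 0, 0, 0, 0],
    [0, 0, 0, 0, 0, 0, 0, 0, 0, 0, 2, 0, 0, 0, 0, 0, 0, 0, 0, 0, 0, 0, 0, 0, 0, 0, 0, 0, 0, 0, 0, 0, 0, 0, 0, 0, 0, 0, 0, 0, 0, 0, 0, 0, 0, 0, 0, 0, 0, 0, 0, 0, 0, 0, 0, 0, 0, 0, 0, 0, 0, 0, 0, 0, 0, 0, 0, 0, 0, 0, 0, 0, 0, 0, 0, 0, 0, 0, 0, 0, 0, 0, 0, 0, 0, 0, 0, 0, 0, 0, 0, 0, 0, 0, 0, 0, 0, 0, 0, 0, 0, 0, 0, 0, 0, 0, 0, 0, 0, 0, 0, 0, 0, 0, 0, 0, 0, 0, 0, 0, 0, 0, 0, 0, 0, 0, 0, 0]])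

/-- The orbits. -/
def sextetTrio : List (List ℕ × List (List ℕ)) := [sextetTrio1, sextetTrio2, sextetTrio3, sextetTrio4]

/-- An orbit of size 3. -/
def trioOctSing1 : List ℕ × List (List ℕ) :=
  ([2460752], [
    [3]])

/-- An orbit of size 84. -/
def trioOctSing2 : List ℕ × List (List ℕ) :=
  ([115766], [
    [7],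
    [7, 7, 7],
    [7, 5, 6, 7, 7, 7, 2, 6, 6],
    [7, 2, 5, 7, 7, 3, 5, 0, 7, 5, 2, 4, 2, 2, 0, 7, 4, 4, 4, 0, 0],
    [3, 4, 0, 1, 4, 1, 4, 0, 3, 1, 0, 4, 2, 0, 0, 1, 2, 2, 0, 0, 1, 4, 0, 0, 4, 0, 0, 0, 0, 0, 0],
    [0, 0, 0, 0, 4, 0, 0, 0, 0, 0, 0, 0, 0, 0, 0, 0, 0, 0]])

/-- An orbit of size 672. -/
def trioOctSing3 : List ℕ × List (List ℕ) :=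
  ([5279], [
    [7],
    [7, 7, 7],
    [7, 7, 7, 7, 7, 7, 7, 7, 3],
    [7, 6, 7, 7, 7, 7, 7, 7, 7, 7, 7, 7, 7, 5, 7, 7, 7, 3, 7, 7, 6, 7, 6, 5, 7, 7],
    [7, 7, 7, 6, 2, 5, 7, 4, 1, 7, 5, 6, 5, 7, 7, 3, 7, 7, 6, 7, 5, 6, 7, 5, 5, 7, 7, 5, 7, 7, 7, 7, 3, 2, 5, 6, 7, 5, 7, 5, 6, 3, 6, 7, 3, 7, 0, 7, 7, 5, 3, 7, 7, 4, 5, 4, 5, 5, 7, 7, 7, 7, 5, 5, 7, 4, 7, 5, 4, 2, 3, 6],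
    [6, 5, 1, 7, 5, 7, 5, 3, 7, 5, 3, 3, 5, 4, 5, 4, 5, 7, 7, 3, 7, 7, 1, 5, 7, 2, 6, 7, 7, 1, 3, 6, 6, 0, 4, 5, 7, 4, 5, 6, 7, 7, 4, 4, 7, 6, 6, 4, 5, 0, 3, 3, 3, 5, 5, 7, 3, 1, 7, 7, 7, 4, 3, 1, 4, 0, 6, 3, 4, 2, 4, 5, 1, 0, 0, 1, 0, 5, 0, 6, 1, 0, 6, 6, 7, 1, 4, 6, 0, 5, 6, 6, 0, 3, 2, 6, 5, 4, 4, 4, 0, 1, 5, 1, 0, 1, 3, 3, 5, 4, 5, 4, 5, 5, 2, 6, 1, 0, 5, 0, 3, 7, 6, 6, 6, 0, 4, 7, 4, 1, 1, 4, 0, 1, 1, 2, 2, 4, 0, 1, 4, 7, 2, 5, 2, 1, 5, 0, 1, 0, 1, 5, 5, 5, 1, 5, 4, 5, 1, 5, 2, 1, 0, 4],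
    [0, 6, 0, 3, 2, 5, 2, 2, 1, 4, 7, 3, 0, 6, 0, 1, 4, 0, 5, 1, 3, 3, 0, 3, 0, 0, 1, 3, 0, 0, 0, 1, 2, 6, 0, 0, 0, 0, 6, 0, 0, 2, 0, 1, 0, 0, 4, 2, 4, 0, 0, 0, 0, 2, 0, 2, 1, 0, 0, 0, 5, 4, 7, 4, 5, 0, 4, 1, 0, 2, 1, 0, 2, 0, 6, 4, 0, 0, 2, 0, 0, 0, 0, 2, 1, 3, 0, 4, 3, 0, 0, 5, 0, 3, 0, 4, 0, 2, 1, 0, 6, 1, 0, 4, 2, 0, 1, 2, 0, 4, 1, 4, 0, 4, 2, 0, 0, 0, 3, 0, 1, 0, 2, 0, 1, 0, 0, 0, 0, 0, 3, 0, 4, 0, 0, 0, 0, 4, 1, 0, 0, 4, 0, 2, 2, 0, 1, 0, 0, 0, 2, 0, 0, 0, 5, 0, 4, 4, 4, 2, 0, 0, 0, 0, 0, 2, 4, 0, 0, 4, 4, 0, 0, 4, 0, 0, 6, 1, 2, 2, 0, 0, 0, 4, 0, 0, 1, 0, 0, 1, 1, 0, 0, 0, 0, 0, 0, 5, 0, 1, 2, 0, 0, 0, 0, 0, 1, 0, 0, 0,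 0, 0, 0, 0, 2, 0, 0, 1, 0, 0, 1, 0, 0, 0, 2, 0, 4, 0, 0, 0, 0, 0, 0, 0, 0, 0, 2, 0, 0, 0, 0, 0, 0, 5, 0, 0, 0, 0, 0, 0, 4, 0, 0],
    [0, 2, 0, 0, 0, 4, 0, 0, 0, 0, 0, 0, 0, 0, 0, 0, 0, 0, 0, 2, 0, 0, 0, 0, 0, 0, 0, 0, 0, 0, 0, 0, 0, 0, 0, 0, 0, 0, 0, 0, 0, 0, 0, 4, 0, 0, 0, 0, 0, 0, 0, 0, 0, 0, 0, 0, 0, 0, 0, 0, 0, 0, 0, 0, 0, 4, 0, 0, 0, 0, 0, 0, 0, 0, 0, 0, 0, 0, 0, 0, 0, 0, 0, 0, 0, 0, 0, 0, 0, 0, 0, 0, 0, 0, 0, 0, 0, 0, 0, 0, 0, 0, 0, 0, 0, 0, 0, 0, 0, 0, 0, 0, 0, 0, 0, 0, 0, 0, 0, 0, 0, 0, 0, 0, 0, 0, 0, 0, 0, 0, 0, 0, 0, 0, 0, 0, 0, 0, 0]])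

/-- The orbits. -/
def trioOctSing : List (List ℕ × List (List ℕ)) := [trioOctSing1, trioOctSing2, trioOctSing3]

/-- An orbit of size 7. -/
def trioSext1 : List ℕ × List (List ℕ) :=
  ([43, 297984, 1053440, 2162768, 4726912, 8536068], [
    [5],
    [0, 6],
    [5, 0]])

/-- An orbit of size 84. -/
def trioSext2 : List ℕ × List (List ℕ) :=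
  ([15, 5264, 622848, 3416064, 4196928, 8536096], [
    [7],
    [7, 7, 7],
    [2, 5, 7, 5, 7, 6, 7, 5, 2],
    [4, 7, 7, 3, 7, 6, 5, 0, 5, 1, 7, 7, 2, 0, 6, 4, 1, 5, 0],
    [2, 0, 2, 0, 2, 1, 2, 6, 4, 0, 2, 4, 0, 2, 1, 0, 0, 0, 2, 4, 0, 4, 0, 1, 0, 0, 4, 1, 4, 0, 0, 0],
    [2, 0, 0, 0, 0, 0, 0, 0, 0, 0, 0, 0, 0, 0, 0, 0, 0, 0, 0]])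

/-- An orbit of size 336. -/
def trioSext3 : List ℕ × List (List ℕ) :=
  ([83, 272512, 1065220, 2162728, 4752384, 8524288], [
    [7],
    [7, 7, 7],
    [7, 3, 6, 7, 7, 6, 7, 5, 7],
    [7, 5, 7, 7, 7, 7, 6, 7, 7, 1, 3, 5, 7, 5, 7, 7, 5, 3, 7, 7, 7, 1, 7],
    [5, 1, 7, 2, 7, 7, 5, 5, 7, 5, 3, 5, 1, 2, 3, 4, 7, 4, 7, 5, 6, 3, 7, 7, 1, 3, 5, 2, 2, 4, 7, 5, 7, 3, 7, 5, 1, 7, 6, 5, 5, 3, 6, 2, 4, 7, 1, 3, 3, 2, 3, 6, 6, 5, 3, 1, 1, 7],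
    [0, 3, 7, 1, 6, 3, 0, 3, 7, 3, 2, 5, 2, 2, 7, 6, 4, 1, 4, 3, 2, 0, 0, 4, 6, 0, 3, 5, 0, 3, 2, 3, 4, 2, 0, 0, 4, 4, 0, 0, 0, 2, 3, 5, 0, 1, 0, 5, 0, 1, 1, 0, 0, 0, 2, 1, 0, 7, 0, 5, 0, 1, 5, 0, 1, 4, 5, 4, 4, 2, 2, 4, 6, 2, 0, 0, 0, 5, 0, 0, 2, 0, 1, 1, 3, 0, 2, 0, 4, 1, 0, 0, 4, 0, 2, 6, 0, 6, 4, 4, 1, 1, 6, 4, 1, 3, 0, 0, 2, 0, 6, 2, 0],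
    [2, 5, 4, 0, 0, 0, 2, 0, 1, 0, 4, 0, 0, 4, 0, 0, 0, 0, 2, 1, 0, 0, 0, 4, 0, 0, 0, 2, 0, 0, 0, 1, 0, 0, 0, 4, 0, 0, 0, 0, 1, 0, 0, 0, 0, 0, 0, 0, 0, 0, 0, 1, 0, 0, 0, 0, 0, 0, 0, 0, 0, 0, 0, 0, 0, 0, 0, 2, 0, 0, 0, 0, 0, 0, 0, 0, 0, 0, 0, 0, 0, 0, 0, 0, 0, 0, 0, 0, 0, 0, 0, 0, 0, 0, 0, 0, 0, 0, 0, 0, 0, 0, 0, 0, 2, 0, 0, 0, 0, 0, 0]])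

/-- An orbit of size 1344. -/
def trioSext4 : List ℕ × List (List ℕ) :=
  ([23, 5256, 786976, 1065280, 2263040, 12656640], [
    [7],
    [7, 7, 7],
    [7, 7, 7, 7, 7, 7, 7, 7, 3],
    [7, 7, 7, 7, 7, 7, 7, 7, 7, 7, 7, 7, 3, 5, 7, 7, 7, 7, 7, 3, 7, 7, 7, 7, 7, 7],
    [6, 7, 7, 7, 7, 7, 7, 3, 5, 7, 7, 7, 7, 5, 7, 7, 7, 7, 7, 7, 7, 7, 7, 7, 7, 5, 7, 5, 5, 7, 7, 6, 7, 3, 7, 7, 5, 6, 4, 6, 5, 7, 7, 7, 7, 7, 5, 7, 7, 7, 7, 7, 7, 5, 1, 6, 7, 3, 7, 3, 1, 6, 7, 7, 1, 7, 5, 6, 6, 7, 7, 6, 2, 7, 7],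
    [5, 7, 7, 7, 6, 7, 3, 7, 7, 7, 3, 7, 5, 7, 7, 7, 5, 7, 5, 6, 7, 6, 3, 7, 7, 2, 6, 7, 5, 7, 3, 3, 7, 7, 1, 7, 7, 6, 7, 3, 7, 7, 7, 7, 5, 1, 5, 7, 4, 6, 4, 7, 7, 0, 6, 6, 7, 5, 6, 3, 7, 1, 7, 5, 3, 5, 5, 7, 7, 6, 4, 7, 7, 7, 3, 7, 1, 1, 5, 6, 5, 3, 5, 0, 3, 6, 4, 7, 7, 7, 7, 2, 5, 1, 1, 7, 2, 4, 7, 7, 7, 3, 7, 3, 5, 5, 7, 7, 5, 3, 7, 7, 7, 7, 4, 3, 1, 6, 1, 6, 3, 7, 3, 1, 6, 7, 0, 7, 2, 6, 2, 7, 1, 7, 3, 3, 7, 6, 6, 7, 6, 7, 7, 1, 7, 5, 6, 7, 3, 0, 7, 1, 6, 7, 7, 7, 3, 3, 1, 6, 7, 2, 7, 2, 4, 4, 7, 3, 0, 7, 6, 4, 1, 7, 1, 4, 3, 3, 5, 7, 5, 5, 7, 7, 7, 3, 0, 5, 7, 3, 1, 1],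
    [6, 7, 6, 0, 0, 3, 3, 4, 2, 0, 3, 1, 2, 7, 6, 7, 1, 2, 7, 4, 0, 6, 6, 3, 5, 4, 3, 1, 2, 7, 6, 2, 0, 3, 3, 3, 0, 6, 0, 2, 5, 0, 1, 6, 6, 6, 0, 7, 4, 1, 6, 1, 2, 7, 6, 0, 4, 4, 6, 0, 2, 5, 6, 0, 2, 0, 5, 5, 4, 4, 6, 3, 7, 0, 3, 3, 2, 1, 5, 0, 0, 2, 7, 2, 6, 6, 3, 0, 1, 5, 0, 2, 6, 4, 2, 0, 4, 3, 1, 3, 0, 0, 4, 5, 0, 4, 0, 7, 7, 3, 6, 4, 1, 0, 5, 7, 7, 2, 6, 0, 7, 0, 7, 0, 0, 0, 6, 0, 5, 7, 4, 7, 1, 4, 7, 2, 0, 2, 3, 6, 1, 2, 2, 0, 0, 7, 0, 0, 0, 7, 2, 1, 4, 5, 7, 4, 1, 3, 4, 0, 3, 1, 5, 5, 4, 5, 3, 2, 2, 7, 4, 4, 6, 7, 7, 0, 5, 7, 2, 7, 6, 0, 4, 0, 5, 0, 4, 2, 0, 5, 4, 2, 5, 2, 0, 0, 4, 2, 1, 0, 4, 6, 4, 1, 1, 1, 1, 5, 5, 4,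 1, 0, 6, 1, 2, 0, 4, 2, 1, 5, 0, 4, 0, 0, 1, 0, 0, 0, 5, 0, 5, 0, 2, 2, 0, 0, 1, 4, 0, 4, 4, 0, 0, 2, 7, 6, 0, 2, 2, 0, 4, 5, 0, 0, 5, 5, 2, 1, 0, 2, 0, 1, 7, 0, 3, 1, 4, 4, 2, 0, 3, 5, 6, 2, 1, 2, 2, 5, 0, 7, 1, 2, 4, 5, 1, 4, 4, 3, 6, 6, 0, 0, 4, 4, 5, 2, 0, 7, 4, 1, 0, 4, 3, 6, 2, 0, 1, 0, 5, 0, 6, 2, 0, 5, 6, 4, 6, 0, 5, 6, 0, 1, 0, 2, 0, 0, 0, 7, 1, 0, 4, 4, 0, 0, 2, 2, 7, 6, 3, 5, 3, 0, 1, 0, 0, 6, 6, 0, 0, 6, 5, 0, 1, 0, 0, 0, 5, 0, 0, 1, 0, 3, 4, 0, 5, 0, 1, 2, 0, 2, 2, 0, 0, 0, 6, 0, 4, 0, 0, 1, 0, 4, 0, 6, 0, 6, 0, 2, 1, 0, 4, 0, 4, 0, 0, 1, 4, 6, 0, 0, 1, 1, 4, 0, 0, 0, 1, 0, 0, 0, 4, 6, 0, 2, 1],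
    [0, 0, 4, 4, 0, 1, 4, 6, 0, 0, 2, 1, 0, 5, 2, 1, 2, 4, 0, 0, 4, 4, 0, 4, 0, 0, 0, 0, 4, 1, 2, 0, 0, 0, 2, 0, 4, 0, 6, 0, 4, 1, 0, 0, 2, 0, 0, 0, 0, 0, 4, 0, 1, 0, 5, 2, 1, 0, 1, 0, 0, 1, 0, 4, 4, 5, 4, 2, 2, 0, 0, 4, 2, 6, 0, 1, 2, 0, 2, 0, 6, 0, 4, 4, 0, 4, 0, 1, 0, 4, 2, 0, 0, 0, 0, 6, 2, 0, 5, 0, 0, 0, 0, 1, 2, 0, 6, 0, 4, 1, 0, 0, 0, 0, 0, 1, 4, 0, 0, 0, 0, 0, 0, 0, 0, 0, 4, 3, 1, 0, 0, 0, 0, 0, 4, 1, 1, 0, 1, 2, 5, 0, 0, 0, 5, 0, 0, 0, 1, 0, 3, 0, 0, 0, 2, 1, 1, 0, 0, 0, 1, 0, 0, 2, 5, 0, 1, 0, 1, 1, 0, 0, 0, 2, 0, 0, 0, 1, 0, 0, 0, 0, 0, 0, 3, 0, 0, 0, 0, 0, 2, 0, 1, 0, 2, 2, 0, 0, 4, 0, 5, 2, 0, 4, 1, 0, 0, 0, 0, 0,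 0, 0, 0, 0, 0, 0, 4, 0, 0, 4, 2, 2, 4, 0, 2, 0, 1, 0, 0, 0, 2, 0, 0, 0, 0, 0, 0, 0, 4, 1, 0, 0, 0, 0, 2, 0, 0, 0, 0, 4, 0, 0, 0, 0, 0, 0, 0, 0, 0, 0, 0, 0, 0, 0, 0, 0, 0, 0, 4, 0, 0, 0, 0, 0, 0, 2, 0, 4, 0, 0, 1, 0, 0, 0, 0, 0, 0, 0, 0, 2, 0, 0, 0, 0, 0, 0, 0, 0, 0, 0, 0, 4, 1, 0, 0, 0, 6, 0, 0, 0, 0, 0, 0, 0, 0, 1, 0, 1, 0, 0, 1, 0, 0, 1, 0, 1, 0, 0, 0, 4, 0, 0, 1, 0, 0, 0, 0, 0, 2, 2, 3, 2, 0, 0, 0, 0, 4, 0, 0, 0, 2, 0, 0, 0, 0, 0, 0, 0, 0, 0, 0, 5, 0, 0, 0, 0, 0, 0, 0, 2, 0, 0, 0, 0, 0, 0, 0, 0, 0, 2, 0, 0, 0, 0, 0, 0, 4, 0, 0, 0, 0, 4, 0, 0, 0, 0, 0, 0, 0, 0, 0, 0, 0, 0, 0, 0, 0, 0, 0, 2, 3, 0, 0, 0, 0, 0, 0, 0, 0, 0, 0,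 0, 0, 0, 0, 0, 0, 0, 0, 4, 2, 0, 1, 0, 0, 0, 0, 0, 0, 0, 0, 0, 0, 0, 0, 4, 0, 0, 0, 0, 0, 0, 0, 0, 0, 0, 0, 0, 0, 0, 0, 0],
    [0, 0, 0, 0, 0, 2, 0, 0, 0, 0, 0, 0, 0, 0, 4, 0, 0, 0, 0, 0, 0, 0, 0, 0, 0, 0, 0, 0, 0, 0, 0, 0, 0, 4, 0, 0, 0, 0, 0, 0, 0, 0, 0, 0, 0, 0, 0, 0, 0, 0, 0, 0, 0, 0, 0, 0, 0, 0, 0, 0, 0, 0, 0, 0, 0, 0, 0, 0, 0, 0, 0, 0, 0, 0, 0, 0, 0, 0, 0, 0, 0, 0, 0, 0, 0, 0, 0, 0, 0, 0, 0, 0, 0, 0, 0, 0, 0, 0, 0, 0, 0, 0, 0, 0, 0, 0, 0, 0, 0, 0, 0, 0, 0, 0, 0, 0, 0, 0, 0, 0, 0, 0, 0, 0, 0, 0, 0, 0, 0, 0, 0, 0, 0, 0, 0, 0, 0, 0, 0, 0, 0, 0, 0, 0, 0, 0, 0, 0, 0, 0, 0, 0, 0, 0, 0, 0, 0, 0]])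

/-- The orbits. -/
def trioSext : List (List ℕ × List (List ℕ)) := [trioSext1, trioSext2, trioSext3, trioSext4]

/-- An orbit of size 21. -/
def triadSext1 : List ℕ × List (List ℕ) :=
  ([432, 84032, 925696, 1050116, 6295560, 8421379], [
    [7],
    [3, 5, 3],
    [5, 7, 1, 1, 5, 2],
    [0, 0, 0, 0, 2, 0, 0, 0, 0, 0]])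

/-- An orbit of size 630. -/
def triadSext2 : List ℕ × List (List ℕ) :=
  ([15, 5264, 622848, 3416064, 4196928, 8536096], [
    [7],
    [7, 7, 7],
    [7, 7, 7, 7, 7, 7, 7, 7, 7],
    [7, 7, 7, 6, 7, 7, 7, 7, 7, 7, 7, 7, 0, 7, 7, 3, 7, 7, 7, 7, 3, 7, 7, 7, 7, 5, 7],
    [7, 7, 7, 7, 1, 7, 7, 7, 7, 7, 6, 7, 7, 7, 2, 5, 7, 4, 7, 7, 7, 7, 6, 6, 7, 7, 6, 7, 3, 7, 5, 7, 3, 6, 6, 7, 7, 6, 7, 1, 6, 6, 7, 3, 3, 6, 6, 1, 5, 7, 3, 3, 7, 3, 3, 7, 3, 6, 7, 7, 7, 5, 3, 7, 3, 3, 3, 6, 6, 7, 7, 3, 7, 3],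
    [7, 7, 6, 7, 1, 3, 7, 3, 2, 1, 5, 2, 7, 4, 7, 7, 3, 1, 0, 6, 1, 2, 5, 5, 3, 2, 5, 3, 1, 4, 1, 5, 0, 3, 5, 7, 7, 2, 6, 7, 4, 6, 6, 2, 1, 6, 7, 0, 7, 7, 0, 1, 2, 3, 7, 3, 6, 6, 3, 3, 2, 6, 3, 1, 4, 5, 6, 3, 3, 4, 6, 6, 6, 6, 3, 2, 6, 3, 4, 4, 6, 7, 2, 1, 7, 0, 2, 6, 3, 1, 1, 2, 3, 1, 4, 4, 6, 4, 2, 5, 5, 4, 1, 0, 0, 6, 1, 3, 6, 2, 2, 4, 1, 0, 5, 1, 1, 5, 0, 0, 2, 4, 0, 5, 1, 1, 6, 7, 7, 0, 7, 1, 5, 2, 1, 0, 6, 1, 0, 5, 1, 0, 0, 3, 3, 4, 0, 0, 2, 0, 1, 4, 4, 0, 0, 2, 1, 5, 5, 0, 4, 0, 0, 4, 7, 0, 0, 3, 3, 6, 4, 6, 1, 0, 0, 0, 0, 0, 2],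
    [0, 7, 0, 0, 1, 0, 2, 3, 1, 0, 0, 0, 1, 0, 0, 3, 0, 1, 0, 0, 1, 7, 0, 4, 0, 2, 1, 0, 6, 4, 0, 6, 0, 4, 0, 5, 4, 0, 4, 0, 4, 1, 0, 2, 0, 4, 0, 2, 5, 0, 0, 0, 0, 2, 0, 1, 0, 0, 0, 0, 2, 0, 4, 2, 0, 0, 4, 0, 0, 3, 2, 0, 0, 0, 0, 2, 4, 1, 5, 1, 0, 0, 1, 0, 0, 4, 0, 1, 0, 0, 0, 2, 0, 0, 0, 0, 0, 1, 4, 0, 2, 2, 4, 0, 0, 0, 0, 1, 0, 0, 1, 0, 2, 0, 2, 1, 0, 0, 0, 0, 1, 2, 1, 0, 4, 0, 2, 0, 0, 5, 0, 0, 0, 2, 0, 0, 4, 0, 0, 0, 0, 0, 2, 1, 0, 0, 0, 4, 3, 0, 0, 0, 0, 0, 0, 1, 0, 0, 0, 0, 1, 0, 0, 0, 0, 0, 0, 0, 0, 0, 0, 0, 0, 0, 0, 0, 0, 0, 0, 0, 0, 1, 0, 0, 0, 0, 0, 0, 0, 0, 0, 0, 2, 0, 0, 4, 0, 2, 0, 0, 0, 1, 0, 0, 0, 0, 0, 0, 0, 0,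 0, 0, 0, 0, 0, 0, 0, 0, 0, 2, 0, 0, 0, 0, 0, 0, 0, 0, 0, 0, 0, 0, 0, 0, 0, 0, 0, 0, 0, 0, 0, 0, 0, 0, 0, 0, 0, 0, 0, 0]])

/-- An orbit of size 1120. -/
def triadSext3 : List ℕ × List (List ℕ) :=
  ([29, 5250, 346112, 663616, 5275680, 10486528], [
    [7],
    [7, 7, 7],
    [7, 7, 7, 7, 7, 7, 7, 7, 7],
    [5, 7, 7, 7, 7, 7, 7, 7, 7, 7, 7, 7, 7, 7, 7, 7, 7, 5, 7, 7, 6, 7, 3, 7, 7, 7, 7],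
    [7, 7, 7, 7, 7, 7, 1, 7, 3, 5, 7, 7, 7, 3, 7, 7, 7, 7, 3, 7, 7, 3, 7, 7, 5, 7, 6, 7, 7, 3, 7, 7, 7, 6, 7, 7, 7, 5, 7, 7, 7, 7, 5, 6, 3, 5, 7, 5, 7, 7, 7, 7, 1, 7, 7, 5, 6, 6, 3, 6, 5, 7, 5, 7, 7, 6, 6, 6, 5, 7, 7, 7, 3, 7, 7, 3, 5],
    [7, 5, 6, 5, 3, 7, 7, 1, 7, 2, 5, 7, 5, 7, 7, 5, 3, 6, 7, 5, 7, 5, 5, 7, 7, 7, 7, 7, 7, 7, 7, 7, 6, 5, 7, 1, 2, 7, 3, 7, 7, 2, 5, 7, 2, 2, 2, 7, 4, 7, 5, 7, 7, 7, 7, 5, 3, 7, 3, 3, 1, 3, 5, 5, 7, 7, 7, 3, 5, 3, 5, 5, 7, 6, 6, 2, 3, 7, 3, 7, 5, 6, 7, 5, 7, 1, 5, 5, 5, 6, 3, 2, 5, 4, 7, 3, 2, 1, 5, 7, 0, 6, 5, 0, 2, 6, 4, 7, 4, 3, 3, 0, 6, 7, 7, 0, 4, 1, 3, 6, 7, 7, 6, 6, 6, 7, 3, 3, 4, 3, 2,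 4, 7, 7, 4, 2, 6, 5, 3, 2, 7, 7, 3, 6, 1, 5, 0, 7, 1, 7, 7, 1, 3, 1, 1, 0, 1, 5, 6, 5, 7, 3, 5, 5, 7, 6, 2, 7, 5, 5, 6, 7, 7, 6, 1, 0, 7, 7, 5, 7, 6, 6, 0, 1, 1, 3, 6, 4, 2, 2, 5, 3, 5, 7, 6, 2, 2, 0],
    [6, 6, 7, 7, 1, 7, 3, 2, 2, 7, 1, 4, 0, 0, 0, 1, 0, 6, 0, 0, 6, 7, 4, 0, 0, 1, 0, 6, 4, 5, 1, 2, 7, 6, 1, 0, 1, 3, 1, 2, 4, 3, 0, 0, 6, 4, 4, 1, 1, 1, 1, 1, 4, 0, 3, 7, 5, 3, 4, 0, 1, 5, 7, 0, 5, 6, 7, 1, 0, 2, 7, 4, 7, 1, 1, 1, 0, 2, 1, 6, 3, 2, 5, 4, 7, 5, 0, 5, 0, 0, 2, 5, 3, 2, 2, 2, 5, 4, 4, 4, 0, 5, 0, 0, 3, 6, 2, 1, 4, 2, 5, 4, 0, 2, 2, 1, 0, 0, 4, 4, 2, 2, 4, 4, 6, 2, 0, 0, 7, 6, 2, 3, 1, 1, 5, 5, 0, 0, 0, 3, 1, 0,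 7, 0, 0, 0, 7, 4, 5, 0, 1, 4, 1, 2, 4, 0, 2, 2, 3, 4, 0, 0, 0, 0, 1, 2, 0, 4, 2, 3, 2, 2, 2, 0, 5, 0, 7, 2, 0, 2, 1, 0, 0, 2, 6, 0, 0, 0, 0, 6, 0, 3, 3, 0, 2, 7, 3, 7, 5, 1, 4, 2, 5, 6, 2, 5, 0, 0, 1, 0, 6, 0, 0, 5, 4, 0, 4, 0, 1, 4, 0, 5, 0, 0, 2, 2, 2, 0, 1, 4, 4, 1, 0, 5, 1, 1, 1, 0, 2, 4, 4, 6, 0, 2, 4, 1, 1, 1, 4, 1, 0, 1, 4, 0, 0, 1, 4, 2, 2, 0, 1, 0, 0, 1, 3, 1, 4, 4, 0, 0, 0, 5, 0, 0, 0, 1, 1, 0, 0, 1, 6, 6, 2, 0, 0, 4, 0, 0, 0, 0, 0, 0, 0, 0, 0, 2, 0, 1, 6, 1, 0, 1, 7, 6, 0, 2, 0, 1, 1, 1, 2, 0, 0, 2, 1, 3, 4, 4, 0, 4, 0, 0, 2, 3, 0, 2, 0, 0, 4, 4, 0, 0, 0, 0, 0, 0, 0, 0, 0, 4, 0, 0, 6, 2, 5, 0, 0, 0, 1, 0, 2, 0, 1,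 0, 1, 0, 0, 0, 0, 0, 2, 0, 2, 3, 0, 4, 0, 0, 1, 0, 1, 0, 0, 0, 0, 0, 0, 1, 1, 0, 0, 4, 0, 0, 0, 0, 0, 4, 0, 2, 0, 6, 0, 0, 1, 0, 0, 4],
    [2, 0, 0, 1, 0, 0, 0, 0, 0, 1, 0, 4, 0, 1, 0, 4, 2, 0, 0, 0, 0, 0, 4, 5, 0, 0, 4, 0, 0, 0, 0, 0, 4, 0, 2, 0, 0, 0, 1, 1, 0, 2, 0, 0, 0, 0, 2, 2, 0, 0, 2, 0, 0, 0, 0, 0, 0, 2, 0, 2, 0, 0, 4, 0, 0, 0, 0, 2, 0, 0, 1, 0, 3, 0, 0, 0, 0, 0, 4, 0, 0, 0, 0, 0, 6, 0, 0, 4, 0, 4, 0, 2, 0, 0, 0, 0, 0, 0, 0, 0, 0, 0, 0, 4, 0, 0, 0, 0, 0, 0, 0, 0, 4, 0, 0, 0, 0, 1, 0, 0, 0, 3, 0, 1, 0, 2, 0, 0, 0, 0, 0, 0, 0, 0, 2, 2, 0, 0, 1, 0, 0, 0, 0, 0, 0, 0, 0, 0, 2, 0, 0, 0, 0, 0, 0, 0, 0, 0, 0, 0, 0, 0, 0, 1,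 0, 0, 0, 0, 2, 0, 0, 0, 0, 0, 4, 0, 0, 0, 0, 0, 0, 0, 0, 0, 0, 0, 0, 0, 0, 0, 0, 1, 0, 0, 0, 0, 0, 0, 0, 0, 0, 0, 0, 5, 0, 0, 0, 0, 0, 0, 0, 0, 0, 2, 0, 0, 0, 0, 0, 0, 0, 0, 0, 1, 0, 0, 0, 0, 0, 0, 0, 0, 0, 0, 0, 0, 0, 0, 4, 0, 0, 0, 2, 0, 0, 0, 0, 0, 0, 0, 0, 0, 0, 0, 0, 0, 0, 1, 0, 0, 0, 0, 0, 0, 0, 0, 0, 0, 0, 0, 0, 0, 0, 0, 2, 0, 0, 0, 0, 0, 0, 0, 0, 0, 0, 0, 0, 0, 0, 1, 0, 0, 0, 0, 0, 0, 0, 0, 0, 0, 0, 0, 0, 0, 0, 0, 0, 0, 0, 0, 0, 0, 0, 0, 0, 0, 0, 0, 0, 0, 0, 0, 0, 0, 0, 0, 0, 0, 0, 0, 0, 0, 0, 0, 0, 0, 0, 0, 0, 0, 0, 0, 0, 0, 0, 0, 0, 0, 0, 0, 0]])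

/-- The orbits. -/
def triadSext : List (List ℕ × List (List ℕ)) := [triadSext1, triadSext2, triadSext3]

/-- An orbit of size 396. -/
def duumSext1 : List ℕ × List (List ℕ) :=
  ([163, 17984, 1116164, 2494464, 4726792, 8421648], [
    [7],
    [7, 7, 7],
    [7, 7, 5, 7, 7, 7, 7, 7, 5],
    [5, 5, 7, 7, 7, 6, 7, 7, 7, 7, 7, 7, 7, 7, 7, 7, 5, 3, 7, 3, 3, 3, 1, 3, 7],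
    [7, 5, 7, 5, 7, 7, 7, 6, 7, 5, 1, 3, 6, 6, 6, 3, 5, 7, 5, 7, 7, 6, 4, 7, 7, 3, 7, 6, 3, 6, 2, 5, 3, 6, 6, 7, 3, 7, 6, 7, 6, 2, 6, 7, 2, 7, 5, 0, 6, 2, 6, 5, 5, 4, 5, 3, 7, 3, 3, 6, 4, 5, 5, 0],
    [3, 4, 1, 5, 4, 1, 2, 7, 7, 2, 4, 3, 7, 0, 2, 5, 7, 2, 4, 4, 2, 0, 2, 2, 1, 2, 1, 7, 4, 4, 4, 4, 0, 6, 6, 0, 3, 7, 4, 3, 0, 0, 5, 5, 5, 4, 4, 7, 3, 6, 1, 0, 1, 5, 4, 2, 2, 4, 0, 5, 6, 2, 1, 0, 2, 3, 0, 4, 0, 0, 0, 3, 4, 0, 5, 6, 1, 0, 1, 0, 0, 1, 0, 2, 0, 3, 0, 2, 1, 4, 0, 2, 3, 4, 6, 2, 6, 0, 0, 0, 0, 2, 0, 0, 1, 0, 0, 6, 0, 0, 5, 6, 0, 0, 1, 0, 2, 0, 2, 0, 3, 4, 0, 4, 2, 1, 0, 0, 2, 1, 0, 0, 2, 0],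
    [0, 0, 3, 0, 2, 0, 0, 0, 1, 2, 5, 4, 0, 0, 1, 0, 2, 1, 1, 0, 3, 0, 0, 0, 4, 0, 0, 0, 0, 0, 0, 4, 0, 0, 0, 0, 0, 0, 0, 1, 0, 0, 0, 0, 0, 0, 0, 0, 0, 0, 0, 0, 4, 0, 0, 0, 0, 2, 0, 2, 2, 0, 2, 0, 1, 0, 0, 0, 0, 0, 0, 0, 0, 0, 0, 0, 4, 0, 0, 0, 0, 0, 0, 0, 0, 0, 0, 0, 0, 0, 0, 0, 0, 1, 0, 0, 0, 0, 0, 0, 0, 0, 0, 0, 0, 0, 0, 0, 0, 0, 0, 0, 0, 0, 0, 0, 0, 1, 0, 0, 0, 0, 0, 0, 0, 0, 0, 0, 0, 0, 0, 0, 0, 0]])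

/-- An orbit of size 495. -/
def duumSext2 : List ℕ × List (List ℕ) :=
  ([15, 5264, 622848, 3416064, 4196928, 8536096], [
    [7],
    [7, 7, 7],
    [7, 7, 7, 7, 7, 7, 7, 7, 7],
    [7, 7, 7, 6, 6, 4, 7, 7, 7, 3, 7, 7, 7, 7, 5, 7, 7, 7, 7, 7, 7, 7, 7, 7, 7, 5, 1],
    [7, 4, 7, 4, 3, 7, 3, 5, 7, 4, 6, 5, 3, 2, 1, 4, 7, 6, 7, 7, 7, 7, 7, 7, 6, 7, 6, 6, 7, 7, 5, 7, 3, 3, 5, 3, 7, 7, 3, 7, 7, 3, 7, 5, 5, 7, 1, 3, 6, 7, 6, 4, 1, 3, 3, 5, 6, 5, 3, 0, 5, 7, 0, 4, 4, 3, 7, 4, 0, 3, 6, 7],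
    [5, 3, 7, 7, 2, 6, 5, 1, 7, 5, 4, 1, 3, 1, 6, 6, 5, 1, 0, 4, 1, 1, 2, 0, 0, 7, 5, 0, 0, 7, 3, 0, 4, 5, 0, 3, 5, 3, 7, 2, 7, 5, 5, 4, 4, 3, 4, 3, 4, 1, 7, 4, 6, 3, 3, 7, 6, 4, 6, 0, 0, 3, 4, 4, 3, 6, 3, 4, 2, 3, 4, 0, 6, 0, 1, 6, 3, 1, 2, 5, 2, 1, 0, 0, 0, 5, 1, 0, 0, 6, 6, 1, 4, 0, 3, 4, 1, 7, 0, 0, 0, 0, 6, 0, 5, 1, 0, 0, 0, 4, 1, 4, 2, 2, 0, 0, 4, 0, 1, 7, 0, 0, 0, 0, 7, 0, 0, 0, 0, 4, 0, 4, 0, 3, 1, 0, 4, 1, 4, 0, 2, 1, 0, 0, 1, 3, 4, 2, 1, 1, 2],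
    [0, 0, 4, 2, 1, 0, 0, 0, 1, 5, 0, 0, 3, 0, 5, 1, 4, 3, 0, 0, 4, 4, 4, 4, 0, 1, 0, 2, 0, 4, 0, 4, 0, 1, 1, 0, 0, 2, 0, 2, 2, 0, 0, 0, 0, 0, 1, 1, 0, 1, 0, 4, 0, 4, 0, 0, 0, 0, 0, 1, 0, 4, 0, 5, 0, 2, 0, 4, 0, 6, 4, 0, 4, 0, 0, 0, 0, 1, 1, 0, 0, 0, 6, 0, 0, 0, 0, 0, 0, 0, 0, 0, 0, 0, 0, 0, 0, 0, 2, 0, 0, 0, 0, 0, 0, 0, 0, 0, 0, 4, 0, 0, 0, 0, 4, 0, 0, 0, 0, 0, 0, 0, 4, 2, 4, 0, 5, 6, 0, 0, 0, 0, 0, 0, 0, 0, 1, 0, 0, 0, 0, 0, 0, 0, 0, 0, 0, 0, 0, 0, 0, 0, 0, 0, 0, 0, 0, 0, 0, 0, 1, 0, 0, 0, 0, 0, 0, 0, 0, 0, 0, 0, 0, 0]])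

/-- An orbit of size 880. -/
def duumSext3 : List ℕ × List (List ℕ) :=
  ([39, 45120, 786960, 1116288, 6292736, 8536072], [
    [7],
    [7, 7, 7],
    [7, 7, 7, 7, 7, 7, 7, 7, 7],
    [7, 7, 7, 7, 6, 5, 7, 7, 7, 7, 7, 7, 7, 7, 7, 7, 7, 7, 7, 6, 3, 7, 7, 3, 7, 7, 7],
    [6, 1, 5, 7, 7, 7, 7, 7, 7, 5, 5, 7, 7, 3, 7, 7, 7, 6, 7, 7, 7, 3, 7, 7, 7, 7, 5, 3, 1, 7, 5, 6, 7, 7, 7, 7, 6, 7, 7, 7, 7, 1, 2, 7, 5, 7, 6, 5, 3, 7, 7, 5, 5, 7, 7, 5, 5, 7, 6, 7, 2, 4, 7, 7, 7, 7, 7, 5, 7, 3, 7, 7, 2, 7, 7, 5],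
    [4, 7, 7, 6, 7, 7, 6, 6, 7, 7, 7, 3, 6, 7, 6, 4, 5, 1, 5, 3, 7, 3, 4, 7, 7, 4, 7, 7, 2, 1, 7, 7, 5, 7, 4, 2, 7, 4, 3, 7, 7, 3, 6, 5, 0, 6, 1, 6, 4, 4, 0, 7, 5, 4, 1, 3, 2, 4, 7, 4, 5, 6, 6, 3, 7, 6, 2, 5, 7, 6, 7, 7, 6, 7, 7, 4, 6, 6, 3, 7, 2, 7, 3, 6, 2, 6, 0, 1, 6, 6, 4, 7, 5, 7, 1, 7, 4, 1, 5, 0, 2, 5, 6, 5, 6, 1, 3, 7, 6, 7, 1, 4, 0, 1, 6, 5, 7, 1, 1, 7, 1, 2, 1, 7, 7, 6, 3, 7, 7, 3, 1, 0, 5, 1, 4, 3, 5, 3, 2, 7, 2, 2, 1, 2, 0, 5, 1, 5, 2, 1, 2, 6, 6, 0, 0, 3, 1, 6, 2, 5, 6, 4, 2, 6, 0, 4, 6, 5, 2, 3, 2, 0, 6, 3, 6, 5, 2, 2, 1, 1, 3, 7, 3, 4, 2, 0, 3, 2, 0, 6],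
    [6, 4, 4, 0, 0, 4, 6, 6, 5, 0, 0, 1, 6, 6, 5, 1, 4, 3, 0, 5, 5, 5, 0, 3, 5, 5, 2, 4, 5, 3, 4, 0, 0, 4, 0, 1, 7, 0, 0, 1, 7, 0, 6, 6, 4, 0, 6, 4, 0, 1, 1, 6, 4, 5, 4, 0, 0, 4, 5, 0, 2, 5, 0, 0, 3, 4, 4, 4, 1, 0, 0, 4, 1, 5, 1, 0, 1, 1, 4, 1, 2, 2, 4, 2, 0, 6, 1, 1, 0, 0, 0, 0, 3, 0, 0, 2, 4, 0, 4, 2, 0, 2, 2, 5, 0, 3, 4, 0, 1, 6, 0, 6, 3, 1, 1, 2, 1, 0, 6, 1, 0, 3, 3, 0, 0, 1, 5, 0, 5, 0, 4, 0, 0, 1, 1, 0, 1, 4, 4, 4, 2, 3, 6, 1, 1, 7, 0, 4, 1, 3, 0, 1, 0, 6, 1, 2, 4, 2, 1, 2, 0, 0, 0, 0, 2, 0, 2, 6, 0, 0, 2, 0, 4, 1, 4, 0, 0, 0, 0, 0, 5, 0, 4, 1, 4, 6, 4, 0, 2, 0, 0, 0, 0, 4, 0, 6, 4, 0, 0, 0, 0, 0, 0, 2, 0, 2, 4, 4, 1, 0,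 1, 0, 0, 0, 0, 0, 4, 0, 0, 1, 2, 4, 0, 3, 0, 4, 2, 0, 2, 1, 0, 0, 0, 4, 0, 0, 0, 0, 5, 0, 0, 0, 2, 0, 0, 0, 0, 0, 5, 4, 4, 2, 0, 0, 4, 0, 0, 0, 0, 1, 0, 0, 0, 0, 0, 0, 0, 0, 0, 0, 0, 0, 0, 0, 0, 0, 0, 1, 0, 4, 2, 1, 4, 0, 0, 0, 0, 0, 0, 0, 2, 0, 0, 1, 0, 1, 0, 0, 5, 0, 0, 0, 0, 0, 0, 0, 0, 0, 1, 0, 0, 0, 0, 0, 0, 2, 2, 0, 0, 0, 0, 1, 0, 0, 0, 0, 4, 4, 0, 0, 0, 4, 0],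
    [0, 0, 0, 0, 0, 0, 0, 0, 0, 0, 0, 0, 2, 0, 0, 0, 3, 0, 0, 0, 0, 0, 0, 0, 0, 0, 0, 0, 0, 0, 1, 2, 0, 0, 1, 1, 0, 0, 0, 4, 0, 0, 0, 0, 0, 0, 0, 0, 0, 0, 0, 2, 0, 0, 0, 0, 0, 0, 0, 0, 0, 0, 0, 0, 0, 2, 0, 0, 2, 0, 0, 0, 0, 0, 0, 0, 0, 0, 0, 0, 0, 0, 0, 4, 0, 0, 0, 0, 0, 0, 0, 0, 0, 0, 0, 0, 0, 0, 0, 0, 0, 0, 0, 4, 0, 0, 0, 0, 4, 0, 0, 0, 0, 0, 0, 0, 0, 0, 0, 0, 0, 0, 0, 0, 0, 0, 0, 0, 0, 0, 0, 0, 0, 0, 0, 0, 0, 0, 0, 0, 0, 0, 0, 0, 0, 0, 0, 0, 0, 0, 0, 0, 0, 0, 0, 0, 0, 0, 4, 0, 0, 0, 0, 0, 0, 0, 0, 0, 0, 0, 0, 0, 0, 0, 0, 0, 0, 0, 0, 0, 0, 0, 0, 0, 0, 0, 0, 0, 0, 0, 0, 0, 0, 0, 0, 0, 0, 0, 0, 0, 0, 0, 0, 0, 0, 0, 0, 0, 0, 0,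 0, 0, 0, 0, 0, 0, 0, 0, 0, 0, 0, 0, 0, 0, 0, 0]])

/-- The orbits. -/
def duumSext : List (List ℕ × List (List ℕ)) := [duumSext1, duumSext2, duumSext3]

/-- An orbit of size 3795. -/
def allTrio1 : List ℕ × List (List ℕ) :=
  ([2460752, 5780352, 8536111], [
    [7],
    [7, 5, 5],
    [7, 5, 5, 7, 5, 7, 5],
    [7, 5, 5, 7, 5, 7, 5, 7, 5, 5, 7, 5, 7, 5, 5, 7, 5],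
    [7, 5, 5, 7, 5, 7, 5, 7, 4, 5, 7, 5, 7, 5, 5, 7, 5, 7, 5, 5, 7, 5, 7, 5, 7, 5, 5, 7, 5, 7, 5, 5, 7, 5, 7, 5, 7, 5, 5, 7, 1],
    [7, 5, 5, 7, 5, 7, 5, 7, 4, 5, 7, 5, 7, 5, 5, 7, 5, 7, 5, 5, 5, 7, 5, 7, 5, 5, 5, 1, 7, 5, 5, 7, 5, 6, 5, 7, 5, 5, 7, 0, 7, 5, 5, 7, 5, 7, 5, 7, 4, 5, 7, 5, 4, 5, 4, 7, 5, 7, 5, 5, 7, 5, 7, 1, 7, 5, 5, 7, 1, 7, 5, 5, 1, 5, 7, 5, 7, 4, 1, 7, 5, 7, 5, 5, 7, 5, 7, 5, 5, 7, 5, 7, 5, 7, 5, 5, 7],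
    [7, 5, 1, 5, 4, 7, 5, 7, 4, 5, 7, 1, 7, 5, 5, 7, 5, 7, 5, 5, 5, 5, 5, 7, 5, 4, 7, 5, 7, 5, 4, 7, 5, 7, 5, 7, 5, 5, 7, 1, 7, 5, 5, 7, 5, 7, 5, 7, 1, 6, 5, 5, 7, 5, 7, 5, 5, 6, 5, 6, 5, 7, 5, 7, 7, 1, 4, 7, 5, 7, 5, 7, 4, 5, 7, 4, 5, 5, 7, 5, 6, 5, 5, 7, 1, 3, 4, 7, 5, 5, 6, 5, 5, 5, 5, 7, 5, 7, 4, 5, 7, 5, 7, 5, 5, 6, 5, 5, 5, 1, 5, 7, 5, 7, 5, 5, 6, 1, 5, 3, 5, 5, 7, 5, 5, 6, 1, 7, 5, 5, 7, 5, 7, 5, 7, 4, 5, 7, 1, 7, 5, 5, 7, 3, 4, 5, 7, 1, 6, 4, 7, 5, 5, 7, 7, 4, 5, 7, 5, 7, 4, 7, 7, 5, 7, 5, 5, 7, 5, 7, 5, 1, 1, 3, 7, 5, 4, 5, 5, 7, 5, 0, 7, 5, 7, 4, 7, 4, 1, 4, 1, 7, 5, 1, 3, 5, 7, 5, 7, 4, 5, 7, 5, 7, 5, 5, 7, 4, 2, 4,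 5, 3, 5, 7, 1, 7, 4, 5],
    [7, 5, 5, 1, 1, 7, 7, 5, 5, 3, 5, 5, 5, 5, 6, 5, 4, 5, 7, 1, 3, 5, 5, 7, 7, 5, 4, 7, 5, 7, 4, 5, 5, 5, 7, 1, 7, 4, 5, 7, 5, 7, 4, 5, 5, 7, 5, 3, 5, 0, 5, 5, 5, 5, 1, 7, 5, 5, 3, 1, 3, 5, 5, 7, 5, 5, 7, 4, 5, 6, 5, 6, 5, 5, 7, 5, 1, 5, 1, 6, 5, 1, 5, 7, 5, 5, 7, 1, 5, 1, 4, 4, 6, 4, 7, 4, 5, 6, 4, 7, 5, 5, 7, 4, 7, 4, 4, 7, 5, 1, 7, 4, 7, 5, 7, 4, 5, 7, 1, 5, 4, 1, 7, 5, 7, 5, 0, 4, 7, 1, 5, 1, 7, 5, 7, 0, 5, 7, 5, 7, 4, 5, 7, 5, 5, 2, 5, 5, 4, 1, 7, 5, 7, 5, 1, 7, 1, 7, 5, 5, 4, 0, 5, 7, 5, 5, 1, 5, 5, 1, 5, 3, 1, 4, 7, 1, 5, 5, 3, 4, 7, 5, 1, 4, 5, 1, 3, 1, 5, 6, 5, 5, 2, 5, 3, 5, 5, 5, 7, 5, 3,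 1, 7, 5, 7, 4, 7, 5, 1, 6, 5, 7, 5, 5, 5, 3, 1, 4, 1, 4, 3, 1, 7, 5, 5, 6, 5, 7, 0, 5, 5, 5, 0, 7, 1, 4, 1, 6, 7, 5, 4, 5, 5, 5, 1, 1, 5, 5, 6, 5, 7, 4, 5, 4, 7, 3, 5, 3, 0, 5, 5, 7, 1, 1, 5, 4, 7, 5, 6, 5, 5, 4, 6, 5, 5, 0, 7, 5, 5, 5, 7, 4, 5, 5, 5, 7, 5, 1, 3, 4, 6, 5, 5, 5, 5, 5, 6, 5, 5, 3, 6, 1, 5, 7, 5, 5, 5, 7, 0, 0, 7, 1, 5, 7, 5, 7, 4, 5, 7, 5, 4, 5, 1, 5, 5, 7, 5, 6, 5, 7, 5, 5, 3, 5, 1, 5, 7, 5, 5, 0, 5, 7, 5, 7, 5, 5, 5, 5, 5, 5, 1, 5, 5, 7, 1, 1, 1, 1, 7, 1, 3, 1, 5, 5, 5, 7, 1, 1, 5, 5, 7, 0, 0, 1, 7, 1, 7, 5, 5, 4, 4, 5, 7, 5, 5, 0, 7, 5, 5, 3, 1, 7, 4, 5, 7, 4, 7, 5, 5, 5, 6, 5, 4, 0, 1, 0, 4, 7, 5, 5, 2, 1,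 7, 3, 0, 3, 5, 6, 5, 5, 5, 5, 0, 5, 5, 5, 7, 4, 6, 5, 5, 6, 1, 3, 5, 5, 3, 5, 3, 1, 5, 5, 5, 1, 0, 5, 5, 4, 7, 0, 7, 1, 4, 5, 4, 7, 7, 5, 4, 5, 3, 1],
    [6, 4, 5, 7, 4, 3, 5, 3, 5, 7, 4, 5, 1, 4, 5, 4, 4, 5, 5, 3, 0, 7, 5, 5, 5, 7, 1, 3, 1, 5, 1, 7, 4, 5, 7, 1, 2, 4, 4, 3, 7, 1, 7, 4, 2, 1, 7, 4, 4, 3, 5, 5, 3, 0, 4, 7, 4, 5, 3, 5, 3, 4, 5, 5, 5, 5, 7, 5, 5, 5, 1, 4, 5, 7, 3, 1, 5, 4, 6, 0, 7, 0, 5, 5, 4, 2, 5, 1, 0, 7, 5, 3, 5, 0, 0, 4, 3, 4, 3, 1, 4, 1, 7, 4, 6, 0, 7, 5, 4, 1, 2, 7, 4, 1, 3, 5, 4, 5, 5, 1, 5, 3, 1, 7, 1, 2, 5, 2, 4, 5, 7, 4, 4, 5, 2, 0, 4, 4, 5, 5, 4, 5, 6, 5, 4, 5, 7, 1, 1, 4, 1, 0, 5, 1, 1, 6, 4, 1, 7,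 0, 5, 7, 4, 2, 1, 5, 7, 4, 4, 3, 4, 3, 5, 5, 4, 1, 6, 6, 1, 7, 5, 5, 5, 4, 4, 7, 5, 1, 5, 7, 4, 1, 1, 5, 7, 0, 0, 3, 4, 1, 0, 7, 4, 4, 1, 4, 5, 4, 5, 4, 3, 5, 1, 7, 1, 0, 3, 4, 0, 4, 5, 0, 0, 6, 0, 3, 0, 4, 5, 4, 1, 1, 4, 1, 4, 3, 1, 1, 0, 3, 0, 5, 7, 0, 2, 5, 4, 2, 0, 1, 6, 4, 1, 3, 7, 1, 7, 7, 5, 5, 6, 1, 4, 1, 0, 6, 4, 3, 4, 5, 3, 1, 7, 4, 4, 5, 7, 5, 5, 0, 4, 5, 4, 5, 1, 0, 7, 5, 7, 4, 0, 7, 0, 1, 1, 3, 0, 7, 5, 5, 7, 0, 6, 4, 5, 1, 1, 7, 5, 1, 0, 4, 5, 4, 5, 4, 1, 4, 4, 5, 7, 5, 4, 1, 3, 4, 4, 3, 1, 5, 7, 4, 4, 0, 7, 5, 1, 5, 5, 6, 6, 4, 0, 1, 3, 0, 4, 6, 5, 1, 7, 1, 7, 4, 7, 5, 3, 0, 1, 4, 7, 1, 5, 0, 5, 4, 6, 1, 0, 1,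 5, 4, 1, 5, 0, 3, 5, 3, 4, 4, 4, 5, 5, 0, 0, 1, 1, 6, 4, 5, 2, 1, 1, 0, 1, 5, 1, 4, 4, 1, 1, 1, 5, 1, 3, 1, 0, 4, 0, 1, 5, 0, 1, 6, 1, 0, 1, 2, 4, 7, 5, 4, 1, 4, 4, 1, 0, 4, 5, 0, 1, 4, 5, 6, 1, 5, 5, 4, 1, 5, 7, 1, 3, 4, 3, 5, 4, 6, 5, 5, 5, 1, 0, 1, 4, 3, 1, 0, 0, 5, 6, 4, 3, 0, 5, 5, 0, 0, 4, 1, 4, 5, 5, 1, 3, 5, 1, 5, 5, 5, 5, 0, 4, 0, 7, 1, 1, 1, 6, 1, 7, 5, 6, 1, 6, 0, 5, 6, 7, 7, 0, 0, 7, 4, 4, 7, 5, 1, 5, 7, 0, 2, 4, 0, 0, 1, 0, 1, 3, 0, 6, 4, 0, 7, 5, 5, 5, 6, 0, 3, 5, 1, 5, 5, 5, 3, 5, 3, 0, 3, 5, 0, 4, 0, 2, 7, 0, 0, 4, 0, 6, 1, 1, 4, 6, 4, 1, 0, 6, 0, 5, 4, 1, 4, 6, 4, 7, 1, 1, 1, 3, 6, 5, 4, 4, 4, 3, 5, 4, 0, 6,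 5, 7, 4, 1, 6, 5, 4, 5, 7, 4, 7, 4, 4, 5, 1, 3, 5, 1, 0, 6, 5, 1, 4, 5, 7, 4, 4, 4, 1, 2, 7, 0, 7, 4, 1, 4, 1, 1, 4, 0, 4, 4, 5, 5, 0, 0, 0, 5, 7, 5, 4, 0, 2, 1, 7, 0, 0, 1, 5, 4, 1, 4, 0, 0, 6, 4, 1, 0, 0, 1, 4, 6, 4, 4, 5, 5, 5, 0, 5, 1, 2, 0, 6, 4, 6, 1, 4, 2, 1, 2, 0, 5, 0, 0, 4, 0, 0, 4, 0, 4, 0, 4, 5, 1, 3, 0, 5, 2, 5, 7, 4, 2, 0, 0, 0, 0, 3, 4, 5, 5, 6, 4, 0, 2, 4, 1, 4, 7, 0, 5, 0, 4, 1, 1, 0, 4, 1, 0, 0, 4, 0, 1, 2, 1, 2, 5, 0, 4, 5, 1, 4, 4, 4, 7, 0, 4, 1, 4, 5, 5, 0, 0, 0, 5, 5, 4, 3, 0, 1, 6, 5, 7, 5, 7, 0, 4, 1, 0, 4, 1, 5, 1, 2, 4, 1, 5, 4, 3, 0, 0, 1, 0, 4, 0, 5, 0, 0, 0, 7, 5, 4, 4, 5, 5, 1, 1, 0, 4, 3, 0, 1,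 4, 5, 5, 0, 5, 1, 4, 1, 4, 5, 0, 0, 5, 3, 5, 5, 5, 2, 3, 1, 6, 4, 5, 0, 5, 0, 4, 1, 4, 1, 2, 3, 5, 0, 4, 7, 1, 0, 4, 0, 3, 5, 1, 7, 0, 4, 0, 4, 5, 6, 4, 2, 1, 0, 5, 1, 0, 1, 5, 1, 0, 0, 4, 3, 1, 3, 1, 5],
    [5, 4, 1, 3, 4, 5, 0, 0, 4, 3, 0, 6, 5, 4, 0, 5, 4, 4, 1, 0, 4, 3, 0, 0, 0, 7, 4, 5, 0, 2, 0, 4, 0, 7, 0, 4, 4, 1, 0, 1, 0, 0, 6, 1, 6, 1, 1, 0, 1, 0, 0, 7, 1, 0, 0, 4, 0, 4, 4, 0, 3, 0, 1, 0, 0, 0, 0, 0, 0, 7, 5, 0, 0, 2, 4, 0, 1, 0, 5, 0, 5, 1, 1, 5, 0, 0, 7, 4, 0, 5, 4, 0, 0, 2, 4, 0, 4, 7, 4, 0, 1, 3, 0, 2, 1, 4, 3, 0, 0, 0, 6, 1, 3, 4, 0, 4, 4, 0, 1, 6, 5, 0, 0, 0, 4, 2, 0, 4, 1, 5, 2, 0, 0, 0, 5, 0, 0, 4, 7, 1, 0,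 0, 4, 4, 0, 0, 0, 6, 0, 4, 7, 5, 4, 7, 4, 6, 1, 2, 0, 0, 5, 0, 4, 3, 1, 5, 1, 2, 2, 4, 4, 0, 5, 0, 0, 5, 1, 0, 0, 0, 4, 0, 4, 5, 1, 1, 5, 6, 0, 5, 1, 0, 0, 0, 3, 0, 6, 1, 1, 2, 1, 0, 4, 0, 4, 2, 1, 3, 1, 1, 4, 2, 5, 1, 4, 1, 1, 4, 7, 0, 0, 5, 5, 5, 1, 1, 1, 0, 0, 0, 1, 0, 6, 1, 0, 7, 0, 3, 0, 0, 5, 1, 0, 0, 0, 1, 2, 5, 5, 0, 5, 2, 1, 4, 5, 3, 4, 2, 4, 4, 5, 1, 0, 4, 1, 1, 0, 4, 4, 1, 1, 0, 5, 1, 0, 5, 4, 1, 1, 0, 1, 0, 4, 4, 4, 1, 0, 4, 1, 5, 1, 3, 5, 4, 4, 0, 1, 0, 0, 0, 0, 1, 0, 2, 4, 4, 0, 0, 0, 0, 4, 2, 1, 7, 0, 0, 1, 0, 0, 4, 3, 5, 4, 0, 0, 4, 0, 0, 5, 0, 2, 4, 0, 1, 1, 5, 0, 5, 2, 0, 4, 0, 1, 1, 1, 1, 5, 5, 5, 0, 4, 1,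 4, 1, 0, 0, 1, 1, 0, 4, 0, 1, 0, 2, 2, 6, 0, 0, 4, 0, 4, 1, 0, 4, 1, 4, 0, 3, 5, 4, 0, 2, 0, 1, 0, 4, 0, 0, 3, 4, 0, 1, 5, 4, 4, 1, 7, 0, 0, 0, 2, 0, 1, 0, 0, 0, 0, 0, 0, 0, 5, 1, 1, 7, 4, 0, 1, 4, 0, 1, 1, 2, 0, 0, 0, 0, 5, 5, 1, 0, 4, 1, 5, 0, 5, 4, 4, 1, 0, 1, 2, 4, 5, 0, 6, 5, 1, 0, 4, 1, 1, 1, 1, 0, 2, 4, 0, 0, 6, 4, 1, 4, 0, 1, 3, 1, 0, 3, 2, 0, 4, 1, 0, 1, 0, 4, 5, 1, 4, 0, 1, 0, 5, 4, 3, 1, 1, 0, 0, 4, 0, 0, 4, 0, 0, 1, 1, 0, 1, 2, 0, 4, 4, 1, 1, 1, 1, 0, 4, 0, 5, 0, 0, 2, 0, 4, 4, 4, 0, 0, 0, 0, 1, 5, 0, 0, 5, 0, 3, 0, 0, 0, 1, 0, 2, 4, 0, 4, 0, 0, 0, 0, 6, 4, 0, 0, 5, 0, 2, 0, 0, 0, 6, 0, 1, 5, 0, 1, 0, 0, 0, 0, 0,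 0, 0, 4, 4, 3, 0, 2, 4, 2, 0, 0, 4, 4, 5, 5, 0, 0, 0, 4, 0, 0, 0, 0, 0, 0, 0, 1, 5, 1, 1, 0, 0, 4, 4, 0, 3, 0, 0, 5, 4, 0, 1, 0, 2, 0, 0, 5, 4, 0, 1, 0, 0, 1, 0, 4, 1, 0, 0, 0, 1, 0, 0, 1, 4, 3, 0, 0, 1, 0, 1, 4, 4, 0, 0, 1, 0, 4, 0, 0, 0, 0, 4, 4, 0, 2, 1, 0, 0, 0, 0, 4, 0, 0, 0, 5, 1, 5, 5, 0, 0, 0, 0, 0, 1, 3, 0, 1, 3, 5, 0, 0, 1, 1, 0, 0, 4, 4, 0, 1, 4, 0, 0, 0, 0, 0, 2, 6, 1, 6, 0, 2, 5, 1, 0, 4, 0, 0, 0, 4, 0, 0, 5, 4, 3, 0, 0, 4, 4, 0, 4, 0, 0, 4, 0, 0, 0, 5, 0, 4, 0, 0, 1, 0, 0, 0, 0, 0, 0, 0, 4, 4, 4, 1, 0, 0, 4, 0, 1, 0, 0, 0, 0, 2, 0, 4, 0, 0, 1, 4, 0, 0, 0, 0, 0, 0, 5, 0, 3, 0, 2, 0, 2, 0, 5, 0, 0, 0, 2, 1, 0, 2,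 4, 0, 0, 5, 0, 6, 0, 0, 4, 6, 0, 4, 0, 0, 0, 1, 0, 0, 4, 4, 0, 0, 0, 0, 2, 0, 4, 0, 0, 0, 5, 4, 2, 0, 4, 0, 4, 4, 0, 0, 7, 0, 0, 0, 0, 0, 1, 0, 4, 0, 4, 0, 0, 4, 0, 4, 0, 0, 5, 0, 5, 0, 0, 0, 0, 4, 5, 1, 4, 4, 0, 4, 4, 4, 0, 4, 0, 0, 1, 0, 4, 0, 4, 0, 0, 0, 0, 2, 2, 0, 0, 0, 1, 0, 1, 4, 0, 0, 4, 0, 4, 4, 4, 1, 0, 1, 4, 0, 0, 1, 4, 1, 0, 4, 1, 5, 0, 0, 0, 0, 5, 4, 0, 0, 0, 0, 0, 0, 0, 0, 0, 0, 0, 4, 0, 0, 0, 2, 0, 0, 2, 0, 0, 5, 0, 0, 4, 4, 0, 0, 2, 0, 0, 0, 4, 1, 0, 1, 5, 0, 0, 1, 0, 4, 6, 0, 0, 0, 1, 1, 4, 0, 4, 0, 0, 1, 0, 0, 0, 0, 0, 4, 2, 4, 1, 1, 0, 4, 0, 0, 1, 4, 0, 0, 5, 4, 0, 4, 0, 1, 2, 1, 0, 0, 5, 4, 0, 0, 1, 2, 0,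 0, 0, 0, 0, 0, 0, 5, 1, 1, 0, 0, 2, 0, 4, 0, 3, 1, 0, 0, 0, 3, 5, 0, 0, 0, 0, 0, 0, 0, 0, 0, 1, 0, 0, 5, 4, 0, 0, 0, 0, 0, 1, 0, 0, 3, 4, 1, 4, 0, 1, 5, 0, 5, 4, 0, 0, 0, 2, 1, 0, 0, 0, 0, 0, 2, 0, 0, 2, 0, 3, 0, 4, 0, 0, 1, 1, 1, 0, 5, 0, 0, 0, 0, 0, 0, 0, 1, 0, 0, 0, 0, 4, 0, 0, 4, 0, 0, 5, 0, 0, 0, 0, 0, 0, 0, 4, 0, 0, 0, 0, 0, 2, 0, 0, 1, 1, 0, 4, 0, 1, 0, 0, 0, 1, 0, 0, 0, 0, 0, 0, 0, 4, 1, 0, 0, 4, 4, 5, 0, 0, 0, 0, 1, 4, 0, 5, 0, 0, 0, 0, 1, 0, 0, 1, 0, 0, 0, 0, 0, 0, 1, 1, 0, 0, 0, 0, 6, 2, 1, 3, 0, 0],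
    [2, 4, 0, 0, 0, 0, 0, 0, 0, 4, 4, 0, 4, 0, 4, 0, 0, 0, 0, 4, 0, 0, 0, 0, 1, 0, 1, 0, 0, 2, 4, 0, 0, 0, 0, 1, 4, 0, 0, 1, 4, 0, 0, 4, 5, 0, 0, 0, 0, 0, 4, 0, 0, 1, 0, 1, 0, 0, 0, 4, 1, 4, 0, 0, 0, 0, 1, 0, 1, 0, 0, 1, 0, 0, 0, 0, 0, 4, 0, 0, 0, 0, 1, 0, 0, 1, 0, 0, 4, 0, 0, 0, 0, 0, 1, 0, 4, 1, 4, 0, 1, 1, 0, 0, 0, 0, 0, 0, 0, 0, 0, 1, 0, 0, 0, 0, 0, 0, 0, 6, 1, 0, 0, 1, 0, 4, 4, 0, 0, 4, 0, 0, 0, 0, 1, 1, 0, 0, 0, 0, 5, 0, 0, 0, 0, 0, 0, 0, 0, 0, 4, 0, 0, 1, 0, 3, 0, 0, 1, 0, 0, 0, 1, 0, 0, 0, 1, 0, 0, 0, 0, 0, 1, 3, 0, 0, 0, 0, 0, 0, 4, 4, 4, 0, 0, 0, 0, 0, 2, 0, 0, 0, 0, 0, 0, 0, 0, 0, 0, 0, 4, 4, 0, 0, 0, 0, 1, 0, 2, 0,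 0, 0, 0, 4, 0, 5, 0, 0, 0, 0, 0, 0, 0, 0, 0, 0, 0, 0, 0, 0, 0, 4, 0, 0, 0, 0, 0, 4, 0, 4, 0, 1, 0, 0, 4, 6, 1, 1, 0, 0, 0, 0, 1, 0, 0, 4, 0, 1, 0, 0, 1, 1, 0, 2, 0, 0, 0, 0, 0, 0, 0, 4, 0, 0, 0, 0, 0, 0, 0, 0, 0, 0, 0, 0, 0, 0, 0, 0, 0, 0, 0, 0, 0, 4, 4, 1, 0, 0, 0, 0, 0, 0, 4, 0, 0, 0, 2, 0, 0, 0, 4, 0, 1, 0, 0, 0, 0, 0, 1, 0, 0, 4, 0, 0, 0, 0, 1, 0, 1, 0, 0, 0, 0, 0, 0, 0, 0, 0, 0, 0, 2, 0, 0, 0, 1, 0, 1, 0, 0, 0, 0, 3, 0, 0, 0, 0, 0, 1, 0, 0, 4, 0, 0, 0, 0, 0, 0, 0, 0, 0, 4, 4, 0, 0, 0, 0, 0, 0, 0, 4, 0, 0, 0, 0, 0, 1, 0, 0, 4, 0, 0, 0, 4, 0, 0, 4, 0, 0, 0, 0, 0, 4, 0, 1, 0, 4, 0, 0, 0, 0, 0, 0, 4, 0, 0, 0, 6, 0, 0, 0, 4,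 0, 0, 0, 0, 0, 0, 0, 0, 0, 0, 2, 0, 0, 0, 0, 1, 0, 0, 0, 0, 0, 0, 0, 4, 0, 0, 4, 0, 0, 4, 0, 2, 0, 0, 0, 0, 0, 4, 0, 0, 0, 0, 0, 0, 0, 1, 0, 0, 1, 0, 0, 0, 0, 0, 0, 0, 4, 0, 4, 4, 0, 0, 0, 0, 1, 0, 0, 0, 4, 0, 0, 0, 0, 1, 0, 0, 0, 0, 0, 0, 0, 0, 0, 0, 0, 0, 0, 0, 0, 0, 4, 4, 0, 4, 0, 0, 0, 0, 4, 0, 0, 0, 0, 0, 0, 0, 0, 0, 0, 0, 0, 0, 0, 0, 0, 0, 0, 0, 0, 0, 0, 0, 0, 0, 0, 4, 0, 1, 0, 0, 0, 0, 0, 0, 4, 0, 0, 0, 0, 0, 1, 0, 0, 0, 0, 0, 0, 0, 0, 4, 0, 2, 0, 0, 0, 0, 0, 0, 0, 0, 0, 0, 0, 0, 0, 0, 0, 0, 0, 0, 0, 0, 0, 0, 0, 0, 0, 0, 0, 0, 0, 0, 4, 0, 0, 0, 0, 0, 0, 0, 0, 0, 0, 0, 0, 0, 0, 0, 4, 0, 0, 0, 0, 4, 0, 0, 0, 0, 0, 0, 0,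 0, 0, 0, 0, 0, 0, 0, 4, 0, 0, 0, 0, 0, 0, 0, 0, 0, 0, 0, 0, 1, 0, 0, 0, 0, 0, 0, 0, 0, 4, 0, 0, 0, 0, 0, 0, 0, 0, 0, 0, 0, 0, 0, 0, 0, 0, 0, 0, 0, 0, 0, 0, 0, 0, 0, 0, 0, 0, 2, 0, 0, 0, 4, 0, 0, 0, 0, 0, 0, 0, 0, 0, 0, 0, 0, 4, 0, 0, 0, 0, 1, 4, 0, 0, 0, 0, 0, 0, 0, 3, 1, 0, 0, 0, 0, 0, 0, 0, 0, 0, 0, 0, 0, 0, 0, 0, 0, 0, 0, 0, 0, 0, 0, 0, 0, 0, 0, 0, 0, 0, 0, 0, 0, 0, 0, 0, 0, 0, 0, 0, 0, 0, 0, 0, 0, 0, 0, 0, 0],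
    [0, 0, 0, 1, 0, 0, 0, 0, 0, 0, 0, 1, 0, 2, 0, 4, 0, 0, 0, 0, 0, 0, 0, 0, 0, 0, 0, 0, 0, 0, 0, 0, 0, 0, 0, 0, 0, 0, 0, 0, 0, 0, 0, 0, 0, 0, 0, 0, 0, 0, 0, 0, 0, 0, 0, 0, 0, 0, 0, 0, 0, 0, 0, 0, 0, 0, 0, 0, 0, 0, 0, 0, 0, 0, 0, 0, 0, 0, 0, 0, 0, 0, 0, 0, 0, 0, 0, 0, 0, 0, 0, 0, 0, 0, 0, 0, 0, 0, 0, 0, 0, 0, 0, 0, 0, 0, 0, 0, 0, 0, 0, 0, 0, 0, 0, 0, 0, 0, 0, 0, 0, 0, 0, 0, 0, 0, 0, 0, 0, 0, 0, 0, 0, 0, 0, 0, 0, 0, 0, 0, 0, 0, 0, 0, 0, 0, 0, 0, 0, 0, 0, 0, 0, 0, 0, 0, 0]])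

/-- The orbits. -/
def allTrio : List (List ℕ × List (List ℕ)) := [allTrio1]

/-- An orbit of size 1771. -/
def allSext1 : List ℕ × List (List ℕ) :=
  ([147496, 268544, 1082880, 2621632, 4268048, 8388615], [
    [7],
    [7, 5, 5],
    [7, 5, 5, 7, 5, 7, 5],
    [7, 5, 5, 7, 5, 7, 5, 7, 5, 5, 7, 5, 7, 5, 5, 6, 5],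
    [7, 5, 5, 7, 5, 7, 5, 7, 4, 5, 3, 5, 7, 5, 5, 7, 5, 7, 5, 5, 4, 5, 7, 5, 7, 5, 5, 7, 5, 7, 5, 5, 7, 5, 1, 5, 5, 5, 7, 1],
    [7, 5, 5, 7, 4, 3, 5, 7, 4, 5, 7, 5, 3, 5, 4, 7, 5, 3, 4, 5, 5, 7, 5, 7, 1, 7, 5, 7, 5, 5, 7, 5, 7, 5, 5, 5, 5, 3, 1, 7, 5, 1, 7, 5, 7, 5, 5, 5, 5, 7, 5, 1, 7, 5, 6, 1, 4, 7, 5, 7, 5, 7, 5, 4, 5, 0, 7, 5, 5, 3, 5, 7, 5, 7, 4, 5, 3, 5, 7, 7, 5, 7, 5, 5, 5, 7, 5, 5, 4],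
    [7, 5, 5, 5, 4, 7, 5, 4, 4, 5, 5, 7, 1, 5, 5, 7, 5, 5, 5, 5, 5, 7, 4, 5, 7, 5, 6, 1, 7, 5, 5, 7, 5, 5, 1, 0, 7, 1, 5, 7, 5, 7, 5, 6, 4, 5, 3, 5, 7, 5, 0, 7, 7, 5, 5, 7, 1, 7, 1, 5, 3, 5, 6, 5, 7, 4, 1, 5, 4, 6, 5, 5, 7, 1, 2, 4, 5, 5, 7, 5, 1, 1, 3, 3, 5, 1, 5, 1, 3, 5, 4, 5, 7, 5, 7, 5, 5, 2, 5, 3, 5, 7, 1, 7, 1, 7, 4, 1, 4, 0, 7, 7, 5, 5, 6, 1, 5, 5, 4, 5, 5, 4, 5, 7, 5, 7, 1, 4, 7, 1, 7, 5, 5, 7, 4, 5, 6, 5, 7, 5, 1, 4, 1, 6, 4, 3, 0, 7, 5, 7, 5, 5, 7, 4, 6, 5, 5, 1, 6, 5, 6, 0, 1, 5, 7, 0, 1, 7, 5, 5, 5, 1, 6, 0, 4, 7, 4, 5, 1, 7, 1, 3, 4, 5, 7, 5, 7, 5, 5],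
    [6, 5, 1, 3, 1, 5, 4, 7, 5, 5, 5, 5, 4, 7, 5, 5, 0, 5, 5, 2, 4, 7, 4, 5, 7, 6, 4, 4, 1, 6, 5, 5, 5, 5, 5, 4, 7, 1, 7, 5, 3, 5, 6, 4, 5, 1, 6, 5, 4, 5, 5, 7, 0, 5, 5, 3, 7, 4, 4, 0, 1, 6, 5, 5, 5, 5, 6, 4, 2, 1, 7, 6, 4, 5, 1, 6, 5, 4, 5, 4, 4, 5, 0, 5, 5, 4, 5, 5, 0, 5, 3, 1, 5, 1, 3, 1, 7, 5, 1, 7, 0, 6, 4, 5, 7, 1, 4, 1, 0, 6, 4, 1, 4, 1, 7, 3, 5, 5, 3, 7, 1, 5, 0, 7, 1, 4, 5, 7, 0, 3, 5, 0, 0, 5, 7, 5, 1, 5, 1, 6, 5, 0, 0, 7, 5, 5, 7, 0, 5, 2, 1, 7, 4, 7, 5, 0, 0, 1, 5, 4, 4, 1, 6, 1, 5, 1, 5, 1, 5, 3, 0, 0, 4, 5, 5, 7, 4, 1, 5, 4, 3, 4, 6, 0, 4, 7, 5, 3, 5, 0, 4, 0, 6, 1, 2, 1, 7, 4, 0, 6, 4, 5, 0, 7, 3, 5, 0, 1, 1, 4,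 7, 5, 5, 0, 5, 4, 1, 5, 6, 5, 0, 4, 0, 3, 4, 5, 1, 1, 3, 0, 7, 4, 5, 7, 0, 4, 1, 0, 5, 0, 7, 4, 1, 3, 5, 7, 1, 1, 7, 3, 5, 5, 4, 5, 3, 4, 4, 4, 1, 4, 3, 0, 4, 1, 5, 5, 4, 4, 5, 1, 0, 7, 5, 3, 4, 0, 1, 1, 0, 1, 4, 1, 6, 4, 6, 4, 1, 6, 4, 6, 0, 4, 5, 1, 1, 5, 5, 1, 5, 6, 5, 6, 5, 1, 5, 5, 4, 5, 3, 7, 0, 5, 0, 5, 6, 4, 5, 1, 7, 5, 3, 1, 4, 4, 3, 5, 4, 0, 6, 4, 1, 0, 2, 5, 2, 2, 1, 4, 0, 3, 1, 4, 5, 1, 2, 4, 4, 3, 1, 2, 4, 4, 1, 4, 0, 0],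
    [0, 0, 0, 0, 0, 0, 0, 5, 1, 0, 0, 2, 1, 5, 4, 1, 0, 1, 0, 0, 6, 5, 1, 5, 1, 1, 6, 0, 5, 0, 4, 4, 4, 5, 1, 0, 1, 0, 0, 1, 4, 0, 4, 0, 5, 4, 1, 1, 5, 3, 4, 5, 4, 1, 4, 5, 0, 0, 4, 0, 3, 0, 5, 4, 4, 5, 0, 7, 4, 0, 0, 1, 0, 1, 5, 0, 0, 0, 1, 6, 5, 6, 5, 1, 2, 5, 0, 3, 5, 0, 5, 2, 0, 0, 1, 5, 0, 0, 0, 0, 0, 4, 5, 0, 4, 6, 1, 4, 0, 0, 6, 0, 2, 0, 0, 0, 4, 0, 1, 1, 1, 0, 0, 0, 1, 0, 5, 5, 0, 0, 4, 0, 4, 5, 4, 7, 1, 0, 5, 1, 0, 4, 4, 4, 0, 4, 7, 0, 1, 0, 5, 1, 0, 1, 7, 2, 5, 5, 0, 1, 1, 4, 0, 5, 0, 1, 1, 7, 4, 5, 5, 1, 4, 2, 5, 3, 4, 0, 6, 0, 3, 1, 0, 0, 7, 0, 1, 6, 4, 5, 2, 0, 4, 1, 4, 0, 5, 0, 0, 4, 1, 2, 0, 1, 3, 4, 1, 0, 5, 4,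 5, 4, 5, 1, 7, 1, 1, 1, 0, 1, 4, 0, 0, 0, 1, 6, 7, 0, 2, 4, 0, 0, 0, 4, 4, 0, 7, 0, 1, 4, 0, 4, 0, 2, 4, 0, 2, 3, 0, 4, 0, 0, 4, 0, 2, 1, 0, 6, 4, 0, 0, 0, 5, 0, 5, 3, 4, 5, 5, 0, 1, 0, 0, 0, 0, 0, 4, 4, 5, 5, 2, 4, 5, 5, 4, 5, 4, 0, 1, 1, 0, 0, 4, 5, 5, 0, 4, 0, 0, 0, 0, 7, 4, 1, 5, 0, 6, 0, 1, 1, 0, 0, 0, 1, 0, 1, 6, 0, 2, 4, 4, 0, 0, 0, 0, 0, 4, 1, 0, 0, 1, 7, 1, 0, 0, 0, 5, 1, 1, 4, 1, 0, 4, 7, 0, 0, 6, 0, 0, 0, 1, 5, 0, 1, 0, 4, 0, 4, 0, 4, 0, 1, 5, 0, 0, 4, 0, 0, 0, 1, 4, 1, 0, 3, 0, 0, 4, 3, 1, 5, 5, 0, 0, 0, 0, 3, 1, 1, 5, 1, 4, 0, 4, 0, 6, 0, 4, 0, 0, 0, 0, 1, 0, 0, 1, 6, 4, 1, 4, 1, 4, 6, 5, 0, 0, 4, 0, 0, 0, 3, 0,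 0, 0, 2, 5, 0, 0, 4, 0, 0, 4, 5, 0, 6, 4, 5, 0, 0, 1, 0, 5, 0, 0, 4, 0, 4, 0, 4, 6, 4, 4, 1, 5, 4, 4, 4, 0, 0, 0, 4, 3, 0, 1, 0, 0, 0, 0, 0, 0, 6, 4, 0, 5, 0, 1, 0, 4, 0, 1, 4, 0, 0, 0, 0, 0, 4, 0, 4, 0, 2, 1, 0, 0, 0, 0, 4, 0, 5, 0, 0, 0, 0, 1, 4, 0, 0, 0, 0, 5, 0, 4, 1, 1, 4, 0, 0, 4, 0, 0, 0, 0, 1, 0, 0, 4, 1],
    [4, 1, 3, 1, 4, 0, 0, 0, 0, 0, 4, 1, 3, 0, 2, 1, 4, 4, 0, 5, 0, 0, 0, 1, 0, 0, 1, 0, 4, 0, 0, 0, 1, 3, 4, 1, 5, 3, 0, 0, 0, 0, 0, 5, 4, 4, 0, 0, 0, 4, 0, 2, 0, 0, 1, 0, 4, 0, 4, 0, 1, 1, 1, 2, 4, 0, 0, 0, 0, 0, 0, 0, 4, 0, 1, 1, 0, 0, 0, 0, 4, 0, 5, 4, 4, 0, 0, 0, 0, 0, 1, 0, 0, 0, 4, 0, 0, 0, 0, 0, 0, 0, 0, 0,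 0, 0, 0, 0, 0, 4, 0, 0, 0, 0, 0, 4, 0, 4, 1, 2, 0, 0, 0, 1, 1, 0, 0, 4, 0, 0, 0, 0, 1, 0, 0, 0, 1, 0, 1, 1, 0, 0, 0, 4, 1, 4, 0, 4, 0, 2, 0, 0, 0, 0, 0, 0, 1, 0, 0, 1, 0, 0, 0, 0, 0, 4, 5, 0, 0, 0, 0, 0, 0, 0, 4, 0, 4, 0, 1, 0, 1, 0, 0, 0, 0, 0, 2, 0, 0, 2, 0, 0, 0, 0, 4, 0, 0, 4, 0, 0, 0, 0, 0, 4, 0, 0, 0, 0, 1, 0, 0, 0, 0, 0, 4, 0, 0, 0, 0, 0, 0, 0, 4, 5, 0, 0, 0, 0, 0, 0, 0, 0, 0, 0, 0, 0, 0, 0, 1, 0, 0, 0, 0, 0, 1, 0, 4, 0, 0, 0, 0, 1, 4, 1, 3, 0, 0, 4, 0, 0, 0, 0, 4, 4, 0, 0, 0, 0, 0, 1, 0, 4, 0, 0, 0, 0, 0, 0, 0, 0, 0, 4, 0, 0, 0, 0, 0, 0, 0, 0, 0, 0, 0, 1, 1, 0, 0, 0, 0, 0, 0, 0, 1, 0, 0, 0, 0, 4, 0, 0, 0, 0, 0, 0, 2,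 0, 0, 0, 0, 2, 0, 0, 0, 0, 0, 0, 0, 0, 0, 1, 0, 0, 0, 0, 0, 2, 0, 0, 0, 4, 0, 0, 0, 0, 0, 0, 0, 1, 0, 0, 0, 0, 0, 0, 0, 0, 4, 0, 2, 0, 0, 0, 0, 0, 0, 0, 0, 0, 0, 0, 0, 0, 0, 0, 0, 0, 1, 0, 0, 4, 0, 0, 0, 0, 0, 0, 2, 0, 0, 0, 0, 1, 0, 0, 0, 0, 0, 0, 0, 0, 0, 0, 0, 0, 4, 0, 0, 0, 0, 0, 1, 0, 0, 0, 0, 0, 0, 0, 0, 0, 0, 0, 0]])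

/-- The orbits. -/
def allSext : List (List ℕ × List (List ℕ)) := [allSext1]

end Cfsg.Agent.H95
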