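import Cfsg.Agent.H95.GolayOrbitData

/-!
Generated data: orbit programs of the sextet stabiliser on sextets and of the trio stabiliser on
trios (see `Cfsg.Agent.H95.orbitCert`).
-/

set_option autoImplicit false

namespace Cfsg.Agent.H95

/-- An orbit of size 1. -/
def sextetSext1 : List ℕ × List (List ℕ) :=
  ([147496, 268544, 1082880, 2621632, 4268048, 8388615], [])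

/-- An orbit of size 90. -/
def sextetSext2 : List ℕ × List (List ℕ) :=
  ([43, 297984, 1053440, 2162768, 4726912, 8536068], [
    [7],
    [6, 3, 3],
    [7, 7, 7, 7, 1, 6],
    [3, 7, 6, 7, 7, 3, 3, 1, 0, 2, 0, 7, 7, 1, 0],
    [6, 3, 2, 3, 2, 6, 2, 4, 1, 1, 5, 5, 5, 2, 0, 0, 7, 2, 0, 3, 5, 0, 0, 0, 0, 0],
    [5, 2, 6, 0, 0, 0, 0, 0, 0, 2, 0, 0, 0, 0, 1, 0, 0, 0, 0, 1, 0, 0, 0, 2, 1, 0, 0, 0, 0]])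

/-- An orbit of size 240. -/
def sextetSext3 : List ℕ × List (List ℕ) :=
  ([15, 5264, 622848, 3416064, 4196928, 8536096], [
    [7],
    [7, 7, 7],
    [7, 7, 7, 7, 7, 7, 7, 6, 7],
    [6, 5, 7, 3, 7, 5, 3, 5, 7, 7, 6, 6, 2, 6, 6, 7, 5, 5, 5, 6, 7, 3, 7, 5, 7, 3],
    [6, 7, 3, 1, 5, 7, 7, 7, 3, 7, 2, 3, 5, 7, 1, 3, 5, 4, 3, 1, 5, 2, 7, 7, 1, 4, 7, 0, 3, 6, 0, 2, 0, 2, 1, 3, 2, 5, 6, 2, 0, 4, 2, 2, 5, 1, 4, 5, 4, 6, 5, 4, 2, 6, 0, 0, 2, 4, 0],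
    [5, 1, 2, 5, 0, 2, 6, 0, 0, 0, 0, 4, 4, 3, 0, 1, 0, 0, 0, 0, 2, 4, 1, 1, 0, 2, 2, 2, 0, 1, 5, 0, 0, 0, 4, 4, 0, 6, 4, 5, 0, 0, 0, 0, 0, 2, 4, 1, 4, 0, 0, 0, 1, 0, 2, 0, 2, 0, 1, 0, 0, 3, 0, 0, 2, 2, 0, 0, 6, 0, 0, 0, 0, 4, 2, 0, 4, 0, 0, 4, 0, 0, 0, 0, 0, 0, 1, 0, 0, 0],
    [0, 0, 0, 0, 0, 0, 0, 0, 1, 0, 0, 0, 0, 0, 0, 0, 2, 0, 0, 0, 0, 0, 0, 0, 0, 0, 0, 0, 0, 0, 0, 0, 0, 0, 0, 0, 0, 0, 0, 0, 0, 0, 0, 0, 0, 0, 0, 0, 0, 0]])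

/-- An orbit of size 1440. -/
def sextetSext4 : List ℕ × List (List ℕ) :=
  ([27, 5252, 57856, 2162784, 4587776, 9963520], [
    [7],
    [7, 7, 7],
    [7, 7, 7, 7, 7, 7, 7, 7, 7],
    [6, 7, 7, 7, 7, 7, 7, 7, 7, 7, 7, 7, 7, 7, 7, 3, 7, 3, 6, 7, 7, 7, 7, 7, 7, 4, 7],
    [3, 7, 7, 7, 7, 7, 7, 6, 7, 7, 7, 3, 3, 7, 5, 7, 7, 7, 7, 7, 7, 7, 7, 7, 5, 7, 2, 7, 7, 7, 7, 7, 7, 7, 7, 7, 7, 7, 3, 5, 7, 7, 7, 7, 7, 7, 7, 7, 6, 6, 5, 7, 6, 5, 7, 7, 7, 5, 6, 5, 0, 7, 5, 7, 7, 7, 7, 7, 5, 7, 3, 7, 5, 7, 2],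
    [7, 7, 5, 3, 2, 5, 7, 7, 7, 7, 7, 7, 7, 7, 7, 7, 7, 6, 7, 3, 7, 7, 2, 7, 7, 7, 7, 6, 5, 7, 7, 6, 7, 6, 7, 5, 5, 7, 7, 7, 7, 7, 3, 4, 7, 7, 6, 3, 3, 7, 1, 7, 7, 3, 7, 3, 6, 7, 3, 7, 3, 7, 7, 4, 5, 2, 7, 6, 6, 3, 7, 2, 6, 4, 5, 4, 7, 7, 1, 6, 6, 3, 5, 5, 7, 7, 5, 5, 2, 6, 6, 6, 7, 2, 1, 0, 7, 2, 2, 7, 7, 5, 6, 2, 4, 7, 7, 2, 7, 7, 6, 7, 3, 0, 7, 5, 5, 5, 7, 6, 7, 5, 6, 4, 2, 7, 7, 7, 7, 7, 3, 4, 7, 7, 7, 6, 0, 1, 5, 7, 7, 5, 7, 4, 0, 0, 2, 6, 7, 2, 3, 7, 6, 7, 3, 7, 0, 6, 5, 6, 2, 1, 5, 1, 3, 6, 1, 1, 7, 3, 6, 7, 5, 0, 3, 3, 0, 3, 7, 5, 7, 5, 6, 3, 6, 4, 7, 6, 5, 2, 3, 7, 5, 6, 5, 5, 7, 7],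
    [3, 7, 6, 2, 5, 6, 7, 2, 4, 5, 7, 2, 2, 1, 7, 0, 3, 3, 7, 7, 6, 7, 1, 1, 2, 0, 1, 7, 6, 6, 7, 1, 3, 4, 7, 3, 0, 6, 7, 7, 6, 6, 5, 3, 4, 4, 1, 1, 1, 0, 6, 2, 6, 6, 7, 4, 7, 3, 2, 1, 2, 3, 2, 3, 2, 7, 0, 0, 5, 6, 7, 6, 7, 3, 3, 1, 3, 5, 0, 3, 7, 7, 2, 7, 1, 3, 1, 3, 7, 7, 5, 0, 6, 5, 7, 3, 0, 7, 3, 0, 4, 5, 2, 0, 7, 7, 2, 0, 1, 4, 3, 4, 6, 5, 6, 2, 5, 3, 4, 3, 7, 3, 2, 2, 2, 0, 4, 1, 2, 6, 1, 7, 7, 1, 7, 2, 6, 5, 1, 4, 7, 0, 4, 2, 5, 1, 0, 7, 0, 0, 2, 3, 3, 7, 0, 2, 6, 0, 5, 3, 6, 5, 6, 7, 6, 0, 0, 1, 7, 4, 5, 4, 1, 4, 6, 3, 3, 5, 0, 4, 5, 5, 0, 3, 1, 1, 0, 0, 5, 2, 5, 6, 4, 4, 1, 0, 5, 4, 4, 6, 4, 4, 4, 6, 5, 6, 2, 1, 4,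 2, 6, 7, 0, 0, 0, 1, 0, 0, 2, 1, 1, 0, 2, 3, 0, 2, 0, 1, 4, 1, 2, 2, 3, 2, 0, 1, 4, 5, 4, 4, 1, 0, 0, 0, 1, 2, 4, 1, 0, 0, 1, 4, 0, 6, 2, 4, 1, 2, 4, 0, 5, 0, 3, 1, 4, 2, 4, 3, 5, 1, 5, 5, 0, 2, 4, 0, 0, 6, 0, 5, 0, 2, 6, 5, 0, 1, 5, 1, 0, 0, 0, 0, 0, 1, 2, 6, 4, 6, 6, 0, 2, 1, 6, 1, 2, 4, 0, 0, 0, 0, 0, 3, 0, 5, 1, 4, 5, 0, 5, 4, 2, 6, 5, 0, 4, 2, 3, 2, 3, 4, 4, 0, 0, 0, 0, 3, 0, 1, 3, 6, 0, 0, 6, 0, 5, 1, 2, 3, 3, 6, 4, 2, 5, 5, 0, 2, 6, 4, 4, 0, 2, 4, 1, 0, 5, 4, 0, 1, 0, 1, 4, 0, 4, 0, 0, 0, 5, 0, 1, 1, 0, 1, 0, 3, 0, 5, 0, 5, 4, 0, 2, 5, 0, 0, 4, 0, 0, 4, 5, 4, 0, 1, 6, 0, 1, 2, 0, 4, 0, 0, 1, 0, 2, 0, 0, 0, 0, 0, 2, 0,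 4, 2, 0, 2, 1, 0, 6, 0],
    [0, 6, 2, 2, 0, 4, 1, 0, 0, 6, 1, 1, 0, 6, 0, 6, 0, 0, 5, 0, 0, 6, 3, 1, 0, 1, 2, 2, 0, 0, 4, 0, 0, 2, 3, 2, 1, 4, 0, 0, 0, 0, 5, 0, 5, 3, 0, 0, 0, 0, 1, 2, 0, 0, 0, 2, 1, 0, 0, 1, 0, 0, 0, 1, 0, 0, 0, 2, 4, 0, 0, 0, 0, 2, 0, 2, 3, 1, 0, 3, 0, 0, 2, 2, 0, 0, 0, 0, 0, 0, 0, 0, 4, 0, 0, 2, 1, 0, 0, 0, 0, 1, 4, 0, 0, 1, 0, 1, 2, 0, 4, 0, 0, 5, 3, 0, 4, 0, 0, 0, 2, 0, 0, 4, 0, 0, 0, 0, 0, 0, 0, 1, 0, 1, 1, 2, 4, 0, 1, 1, 5, 2, 5, 0, 1, 4, 0, 0, 4, 1, 0, 1, 1, 0, 0, 1, 2, 4, 1, 4, 2, 6, 4, 4, 0, 0, 2, 0, 1, 0, 0, 4, 0, 0, 0, 0, 1, 0, 0, 5, 0, 1, 0, 0, 0, 0, 0, 0, 7, 0, 0, 0, 0, 0, 2, 3, 1, 3, 0, 0, 0,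 0, 0, 2, 0, 0, 2, 0, 0, 0, 1, 1, 0, 4, 0, 0, 0, 0, 0, 0, 0, 0, 0, 0, 1, 0, 2, 0, 0, 5, 0, 0, 0, 4, 4, 0, 0, 2, 0, 0, 0, 0, 2, 0, 1, 2, 4, 0, 0, 0, 0, 0, 0, 0, 1, 0, 2, 0, 0, 0, 2, 0, 0, 4, 0, 4, 0, 4, 0, 0, 0, 0, 0, 1, 0, 2, 0, 0, 0, 0, 0, 0, 0, 0, 4, 0, 4, 0, 0, 3, 0, 0, 2, 0, 0, 1, 0, 0, 4, 4, 2, 0, 2, 0, 0, 0, 0, 0, 0, 0, 0, 0, 0, 1, 0, 0, 0, 0, 0, 0, 2, 2, 0, 0, 0, 0, 1, 0, 1, 0, 0, 0, 0, 0, 0, 0, 0, 0, 3, 4, 0, 0, 1, 0, 0, 0, 0, 1, 0, 0, 0, 0, 0, 0, 0, 0, 0, 0, 0, 0, 0, 0, 0, 0, 0, 0, 0, 0, 0, 3, 0, 0, 0, 0, 0, 0, 0, 0, 0, 0, 0, 0, 0, 0, 0, 0, 0, 0, 2, 0, 1, 0, 1, 0, 0, 0, 2, 0, 0, 0, 4, 0, 0, 0, 0, 0, 0, 0, 0, 0, 0, 0,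 0, 4, 0, 0, 0, 0, 1, 0, 0, 0, 0, 0, 0, 0, 0, 0, 0, 0, 0, 0, 0, 0, 0, 0, 0, 0, 0, 0, 0, 0, 0, 0, 0, 1, 0, 0, 0, 0, 0, 0, 0, 1, 0, 0, 0, 0, 0, 0, 0, 0, 0, 0, 0, 4, 0, 0, 0, 0, 0, 0, 0, 0, 0, 0, 0, 4, 0, 0, 0, 0, 0, 0, 0, 0, 0, 0, 1, 0, 0, 2, 0, 0, 0, 0, 0, 1, 0, 0, 0, 0, 0, 0, 1, 0, 0, 0, 0, 0, 0, 0, 0, 0, 0, 0, 0, 2, 0],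
    [0, 0, 0, 0, 0, 0, 0, 0, 0, 0, 0, 0, 0, 0, 0, 0, 4, 0, 0, 0, 0, 0, 4, 0, 0, 0, 0, 0, 0, 0, 0, 0, 0, 0, 0, 0, 0, 0, 0, 0, 0, 0, 0, 0, 0, 0, 0, 0, 0, 0, 0, 0, 0, 0, 0, 0, 0, 0, 0, 0, 0, 0, 0, 0, 0, 0, 0, 0, 0, 0, 0, 0, 0, 0, 0, 0, 0, 0, 0, 0, 0, 0, 0, 0, 0, 0, 0, 0, 0, 0, 0, 0, 0, 0, 0, 0, 0, 0, 0, 0, 0, 0, 0, 0, 2, 0, 0, 0, 0, 0, 0, 0, 0, 0, 0, 0, 0, 0, 0, 0, 0, 0, 0, 0, 0, 0, 0, 0, 0, 0, 0, 0, 0, 1, 0, 0, 0, 0, 0, 0, 0, 0, 0, 0, 0, 0, 0, 0, 0, 0, 0, 0, 0, 0, 0, 0, 0, 0, 0, 0, 0, 0, 0, 0, 0, 0, 0, 0, 0, 0, 0, 0, 0, 0, 0, 0]])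

/-- The orbits. -/
def sextetSext : List (List ℕ × List (List ℕ)) := [sextetSext1, sextetSext2, sextetSext3, sextetSext4]

/-- An orbit of size 1. -/
def trioTrio1 : List ℕ × List (List ℕ) :=
  ([2460752, 5780352, 8536111], [])

/-- An orbit of size 42. -/
def trioTrio2 : List ℕ × List (List ℕ) :=
  ([115766, 5780352, 10881097], [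
    [7],
    [7, 5, 7],
    [7, 5, 6, 1, 7, 2, 6, 4],
    [2, 2, 1, 7, 1, 1, 5, 0, 0, 0, 4, 0, 0, 4, 0],
    [4, 0, 0, 4, 0, 1, 0, 0, 0, 0, 0, 0]])

/-- An orbit of size 56. -/
def trioTrio3 : List ℕ × List (List ℕ) :=
  ([115766, 2890176, 13771273], [
    [7],
    [7, 7, 7],
    [7, 5, 2, 5, 5, 5, 2, 4, 6],
    [4, 4, 4, 7, 7, 4, 4, 3, 0, 0, 2, 7, 5, 4, 0, 0],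
    [0, 3, 0, 4, 0, 2, 0, 0, 0, 0, 0, 0, 0, 0, 0, 0, 4, 0, 4, 0],
    [0, 0, 0, 1, 0, 0]])

/-- An orbit of size 1008. -/
def trioTrio4 : List ℕ × List (List ℕ) :=
  ([5279, 4038912, 12733024], [
    [7],
    [7, 7, 7],
    [7, 7, 7, 7, 7, 7, 7, 7, 7],
    [7, 6, 7, 7, 6, 7, 7, 7, 7, 7, 7, 7, 7, 5, 7, 7, 7, 7, 6, 6, 7, 5, 6, 5, 7, 7, 7],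
    [7, 7, 7, 6, 2, 5, 6, 6, 7, 7, 7, 5, 7, 7, 7, 7, 6, 7, 7, 7, 6, 7, 5, 7, 6, 7, 7, 7, 7, 7, 7, 3, 7, 7, 5, 7, 7, 7, 7, 6, 3, 6, 7, 7, 7, 7, 3, 6, 5, 3, 7, 3, 4, 4, 7, 7, 5, 7, 7, 7, 5, 7, 7, 6, 5, 4, 7, 3, 7, 7, 3, 6, 6],
    [4, 6, 1, 3, 1, 6, 6, 3, 7, 5, 2, 7, 5, 7, 6, 1, 5, 7, 7, 1, 1, 3, 7, 6, 3, 5, 7, 7, 7, 7, 1, 3, 4, 7, 4, 6, 5, 6, 7, 6, 5, 3, 6, 7, 7, 2, 5, 7, 2, 5, 7, 1, 0, 6, 7, 1, 7, 7, 7, 1, 3, 1, 7, 7, 7, 3, 7, 5, 7, 4, 4, 3, 4, 6, 7, 5, 1, 0, 6, 7, 1, 7, 6, 7, 7, 7, 7, 7, 7, 3, 7, 5, 4, 4, 6, 3, 2, 7, 6, 6, 5, 4, 5, 2, 2, 3, 5, 6, 7, 5, 1, 4, 1, 2, 1, 7, 3, 3, 7, 5, 0, 0, 5, 5, 7, 6, 4, 5, 0, 6, 1, 5, 7, 5,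 4, 2, 4, 4, 4, 1, 1, 3, 7, 6, 4, 0, 5, 3, 0, 4, 1, 2, 5, 2, 0, 6, 0, 1, 3, 2, 1, 4, 7, 5, 5, 5, 4, 2, 5, 3, 0, 7, 6, 0, 4, 7, 4, 2, 0, 5, 0, 5, 6, 7],
    [3, 1, 4, 2, 7, 2, 2, 5, 5, 0, 0, 2, 6, 5, 7, 1, 3, 2, 3, 4, 0, 1, 2, 3, 0, 5, 0, 0, 2, 2, 2, 5, 0, 0, 4, 2, 4, 0, 2, 7, 0, 3, 3, 1, 6, 0, 3, 4, 3, 1, 7, 5, 7, 5, 2, 1, 0, 0, 5, 7, 4, 3, 7, 3, 4, 0, 5, 2, 0, 5, 3, 1, 1, 1, 1, 5, 2, 5, 7, 4, 5, 0, 2, 2, 0, 2, 0, 6, 0, 2, 2, 7, 0, 4, 0, 3, 7, 5, 6, 3, 4, 0, 3, 5, 0, 0, 2, 4, 0, 2, 2, 5, 4, 4, 4, 5, 2, 1, 4, 4, 3, 2, 1, 4, 0, 5, 3, 0, 0, 7, 1, 0, 4, 3, 0, 6, 4, 1, 6, 6, 2, 0, 5, 0, 4, 2, 3, 7, 0, 2, 4, 6, 2, 0, 1, 2, 3, 1, 0,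 5, 0, 1, 4, 3, 0, 1, 3, 5, 3, 7, 0, 1, 5, 6, 4, 2, 1, 2, 4, 7, 0, 2, 6, 6, 1, 4, 0, 0, 1, 2, 0, 2, 0, 0, 5, 1, 0, 0, 6, 7, 4, 4, 1, 0, 5, 2, 4, 6, 2, 0, 1, 0, 4, 1, 0, 0, 1, 2, 2, 0, 2, 0, 2, 2, 0, 4, 4, 4, 2, 1, 4, 3, 0, 6, 5, 2, 0, 0, 0, 1, 2, 0, 3, 0, 4, 0, 5, 6, 5, 3, 0, 0, 6, 0, 1, 4, 0, 0, 1, 4, 0, 4, 1, 0, 1, 0, 4, 0, 0, 0, 4, 0, 0, 4, 0, 0, 0, 0, 0, 0, 2, 2, 4, 0, 4, 0, 0, 0, 0, 4, 1, 4, 0, 0, 0, 4, 0, 2, 0, 0, 0, 0, 4, 0, 0, 4, 5, 0, 0, 0, 6, 2, 0, 4, 0, 2, 1, 2, 4, 0, 1, 0, 0, 0, 0, 3, 0, 2, 0, 0, 4, 1, 2],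
    [0, 0, 1, 2, 0, 2, 4, 0, 0, 4, 0, 2, 2, 4, 0, 0, 2, 2, 0, 0, 0, 0, 1, 0, 0, 0, 0, 0, 0, 0, 0, 4, 0, 0, 0, 0, 0, 0, 1, 0, 3, 0, 0, 0, 0, 0, 1, 0, 0, 0, 0, 0, 0, 0, 4, 2, 0, 1, 0, 1, 0, 0, 0, 0, 0, 0, 4, 0, 0, 0, 1, 0, 2, 6, 0, 0, 5, 0, 6, 0, 0, 0, 1, 4, 2, 0, 0, 0, 0, 0, 1, 0, 0, 0, 0, 0, 0, 0, 0, 4, 0, 0, 0, 2, 0, 1, 0, 4, 0, 0, 0, 4, 0, 0, 0, 0, 1, 0, 0, 0, 4, 0, 0, 0, 0, 4, 0, 0, 0, 2, 4, 0, 0, 0, 0, 0, 0, 0, 0, 0, 2, 0, 0, 0, 0, 0, 0, 0, 0, 0, 0, 0, 0, 0, 0, 0, 0, 0, 0, 0, 0, 0, 0, 4, 0, 0, 0, 0, 0, 0, 0, 0, 0, 0, 0, 0, 0, 0, 0, 0, 0, 0, 0, 0, 0, 0, 0, 0, 0, 2, 0, 0, 0, 0, 1, 0, 0, 0, 0, 0, 0, 0, 0, 0, 0, 0, 0, 0, 0,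 0, 0, 0, 0, 0, 0, 0, 0, 0, 0, 2, 0, 0, 0, 0, 0, 0, 0, 0, 0, 0, 0, 0, 0, 0, 4, 0, 0, 0, 0, 0, 0, 0, 0, 0, 0, 0, 0, 0, 0, 0, 0, 0, 0, 0, 0, 0, 0, 0, 0, 0, 0, 0, 0, 0, 0, 0, 0, 0, 0, 2, 0, 0, 0, 0, 0, 0, 0, 0, 0, 0, 0, 0, 0, 0, 0, 0, 0, 0, 0, 0, 0, 0, 0, 0, 0, 0, 4, 0, 0, 0, 0, 0, 0, 0, 0, 0, 0, 0, 0, 0, 0, 0, 0, 0, 0, 0, 0, 0, 1, 0, 0, 0, 0, 0, 0, 0]])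

/-- An orbit of size 2688. -/
def trioTrio5 : List ℕ × List (List ℕ) :=
  ([5279, 1009728, 15762208], [
    [7],
    [7, 7, 7],
    [7, 7, 7, 7, 7, 7, 7, 7, 7],
    [7, 7, 7, 7, 7, 7, 7, 7, 7, 7, 7, 7, 7, 5, 7, 7, 7, 7, 7, 7, 7, 7, 6, 7, 5, 7, 7],
    [7, 7, 5, 7, 7, 7, 7, 7, 6, 7, 7, 7, 7, 5, 3, 7, 7, 7, 5, 7, 7, 7, 6, 7, 5, 7, 7, 7, 7, 7, 7, 7, 7, 3, 7, 7, 7, 7, 7, 7, 5, 7, 7, 6, 7, 7, 7, 7, 5, 7, 7, 7, 7, 7, 7, 5, 7, 5, 3, 7, 7, 7, 7, 7, 7, 5, 7, 7, 7, 7, 7, 7, 3, 7, 7, 7, 7, 7],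
    [6, 3, 7, 7, 5, 7, 3, 7, 3, 7, 7, 3, 5, 3, 7, 7, 3, 5, 7, 7, 7, 7, 7, 7, 7, 7, 3, 3, 7, 7, 7, 3, 7, 7, 6, 7, 6, 7, 3, 3, 7, 6, 6, 5, 7, 5, 7, 7, 7, 7, 3, 6, 7, 7, 6, 7, 7, 7, 7, 7, 5, 1, 3, 5, 7, 7, 7, 7, 7, 7, 5, 7, 7, 7, 7, 7, 7, 7, 7, 7, 7, 5, 5, 6, 7, 7, 3, 5, 7, 7, 6, 7, 6, 7, 7, 7, 7, 3, 7, 7, 7, 7, 7, 7, 7, 3, 3, 2, 7, 7, 7, 7, 6, 5, 7, 6, 7, 7, 6, 7, 7, 6, 5, 7, 5, 7, 7, 7, 7, 3, 7, 7, 1, 7, 7, 7, 7, 7, 7, 7, 7, 7, 3, 7, 3, 7, 6, 6, 5, 7, 7, 7, 6, 6, 7, 7, 7, 5, 7, 4, 6, 7, 3, 7, 5, 7, 7, 7, 7, 1, 7, 5, 2, 5, 7, 1, 6, 3, 2, 5, 3, 3, 7, 5, 3, 1, 6, 2, 7, 5, 6, 6, 2, 7, 6, 6, 1, 5, 7, 5, 2, 6, 1, 6, 1, 4, 5, 7, 7,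 7, 6, 7, 6, 6, 7, 7, 7, 3],
    [3, 7, 4, 7, 3, 5, 7, 7, 7, 5, 7, 7, 6, 7, 5, 4, 6, 7, 7, 7, 7, 7, 0, 7, 4, 3, 7, 7, 2, 6, 5, 0, 6, 3, 5, 5, 7, 7, 7, 7, 7, 5, 7, 6, 7, 7, 7, 7, 5, 6, 2, 7, 7, 1, 5, 2, 6, 7, 7, 7, 7, 5, 6, 7, 7, 4, 6, 3, 3, 3, 7, 7, 2, 7, 7, 6, 5, 3, 2, 6, 7, 5, 3, 7, 7, 7, 7, 6, 6, 7, 7, 7, 3, 3, 4, 6, 2, 7, 5, 2, 5, 4, 7, 3, 4, 0, 6, 7, 2, 7, 5, 6, 5, 1, 2, 5, 5, 5, 7, 7, 7, 5, 1, 4, 6, 1, 2, 7, 7, 2, 7, 6, 3, 6, 6, 6, 5, 5, 7, 1, 7, 5, 0, 7, 5, 6, 6, 3, 7, 7, 3, 7, 3, 7, 4, 3, 0, 6, 2, 5, 4, 7, 7, 7, 2, 2, 2, 7, 7, 4, 1, 4, 7, 3, 6, 2, 4, 1, 4, 1, 5, 7, 3, 6, 7, 6, 3, 4, 4, 6, 3, 1, 6, 3, 0, 3, 4, 0, 7, 7,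 6, 2, 6, 1, 7, 1, 0, 3, 3, 6, 2, 6, 5, 0, 7, 3, 7, 2, 7, 7, 0, 7, 2, 1, 2, 1, 0, 4, 4, 3, 4, 7, 4, 1, 7, 7, 4, 2, 5, 4, 0, 3, 3, 2, 6, 7, 7, 4, 2, 5, 3, 6, 4, 6, 7, 7, 6, 0, 7, 3, 7, 4, 6, 5, 3, 6, 5, 1, 7, 2, 3, 6, 7, 6, 1, 5, 3, 2, 6, 5, 4, 6, 4, 6, 3, 7, 7, 5, 6, 7, 5, 0, 7, 6, 1, 7, 7, 6, 5, 2, 7, 7, 6, 2, 3, 2, 1, 7, 7, 0, 2, 3, 5, 1, 0, 2, 4, 2, 4, 2, 4, 4, 0, 5, 7, 4, 6, 3, 7, 4, 5, 5, 2, 7, 6, 1, 3, 2, 7, 2, 2, 3, 3, 2, 7, 1, 6, 0, 3, 5, 6, 7, 7, 4, 2, 5, 6, 4, 1, 7, 3, 7, 3, 2, 5, 2, 0, 7, 5, 1, 3, 1, 5, 0, 1, 2, 2, 5, 7, 2, 7, 7, 0, 0, 5, 3, 1, 4, 0, 0, 7, 5, 6, 7, 5, 5, 5, 0, 0, 1, 2, 3, 6, 3, 7, 7, 3, 7, 5, 1, 3,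 0, 2, 2, 2, 3, 1, 4, 6, 0, 4, 2, 5, 7, 5, 3, 0, 0, 7, 6, 2, 0, 3, 0, 2, 4, 6, 5, 5, 4, 3, 2, 0, 3, 1, 3, 3, 7, 3, 1, 0, 5, 5, 2, 0, 5, 7, 4, 3, 6, 1, 7, 0, 2, 4, 5, 6, 5, 0, 0, 7, 1, 3, 5, 7, 4, 4, 6, 3, 3, 5, 7, 4, 6, 2, 7, 4, 4, 5, 2, 1, 7, 4, 2, 2, 7, 5, 7, 6, 0, 1, 7, 7, 7, 6, 2, 0, 6, 1, 7, 0, 0, 2, 1, 0, 7, 1, 6, 5, 0, 7, 0, 1, 0, 7, 4, 1, 0, 5, 5, 0, 6, 7, 5, 4, 4, 5, 1, 1, 4, 2],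
    [1, 1, 3, 1, 0, 3, 5, 1, 5, 0, 4, 0, 1, 5, 5, 6, 4, 7, 7, 0, 7, 5, 1, 3, 4, 1, 0, 0, 2, 7, 2, 6, 2, 2, 7, 6, 1, 0, 0, 7, 2, 2, 7, 5, 5, 0, 0, 1, 5, 6, 2, 7, 3, 1, 5, 5, 0, 3, 7, 1, 2, 6, 3, 3, 5, 6, 1, 0, 7, 0, 3, 5, 0, 2, 1, 0, 5, 0, 1, 3, 0, 5, 1, 6, 4, 0, 5, 1, 5, 3, 3, 6, 6, 1, 1, 0, 5, 0, 4, 3, 0, 2, 0, 6, 7, 2, 1, 6, 5, 5, 2, 0, 5, 2, 0, 7, 4, 3, 3, 4, 2, 6, 2, 6, 5, 2, 3, 1, 5, 6, 7, 3, 0, 5, 3, 7, 4, 0, 0, 0, 4, 1, 5, 0, 0, 0, 0, 1, 2, 1, 3, 2, 1, 3, 4, 4, 6, 3, 0, 2, 0, 5, 2, 7, 5, 2, 1, 7, 4, 0, 0, 5, 2, 4, 7, 0, 4, 0, 1, 0, 4, 1, 4, 6, 4, 0, 2, 3, 4, 7, 2, 7, 0, 4, 0, 4, 6, 4, 0, 0, 0, 7, 2, 2, 1, 2, 4, 0, 4,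 0, 2, 3, 1, 0, 6, 3, 0, 0, 6, 4, 0, 0, 0, 1, 1, 6, 4, 0, 0, 4, 0, 5, 2, 6, 7, 7, 7, 1, 2, 3, 7, 4, 0, 4, 1, 6, 1, 4, 4, 1, 1, 3, 2, 2, 4, 4, 2, 1, 1, 5, 5, 0, 4, 2, 1, 7, 6, 1, 3, 0, 1, 0, 2, 1, 2, 4, 4, 4, 0, 0, 1, 2, 3, 0, 0, 1, 7, 1, 2, 5, 4, 0, 7, 6, 0, 0, 2, 2, 0, 3, 4, 0, 3, 4, 0, 0, 1, 5, 2, 4, 1, 5, 3, 5, 0, 0, 0, 1, 4, 1, 1, 1, 0, 3, 0, 3, 5, 2, 0, 7, 0, 0, 5, 2, 1, 2, 0, 6, 0, 2, 0, 2, 6, 5, 7, 2, 1, 0, 1, 2, 0, 3, 1, 4, 3, 0, 5, 0, 2, 0, 2, 0, 4, 1, 1, 6, 5, 4, 0, 0, 6, 0, 5, 5, 2, 2, 3, 4, 0, 0, 3, 0, 5, 0, 3, 2, 4, 0, 0, 2, 6, 0, 4, 1, 4, 4, 0, 0, 1, 0, 4, 0, 3, 1, 0, 1, 4, 3, 0, 4, 1, 4, 0, 1, 3, 0, 1, 0, 1, 1,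 1, 0, 0, 0, 0, 1, 4, 0, 4, 2, 2, 0, 2, 4, 0, 1, 1, 0, 2, 1, 2, 2, 0, 1, 0, 1, 0, 2, 0, 1, 0, 0, 4, 4, 2, 0, 0, 0, 0, 2, 4, 2, 4, 4, 4, 3, 2, 0, 3, 2, 0, 1, 4, 4, 0, 3, 1, 0, 0, 4, 7, 2, 0, 1, 0, 1, 0, 0, 0, 2, 0, 0, 2, 5, 2, 4, 0, 2, 1, 2, 1, 6, 1, 0, 3, 6, 0, 1, 2, 7, 0, 5, 5, 0, 0, 6, 0, 1, 7, 0, 1, 4, 1, 0, 4, 4, 0, 2, 7, 4, 4, 2, 2, 0, 0, 0, 2, 4, 4, 0, 0, 0, 2, 4, 4, 0, 1, 0, 0, 0, 0, 3, 0, 2, 4, 3, 4, 4, 2, 0, 4, 1, 6, 4, 2, 1, 0, 0, 2, 7, 0, 4, 1, 1, 0, 0, 4, 2, 0, 0, 2, 0, 0, 3, 0, 0, 2, 1, 0, 1, 0, 4, 4, 0, 0, 2, 5, 0, 0, 0, 4, 2, 1, 0, 0, 0, 0, 5, 0, 0, 0, 4, 0, 4, 0, 1, 0, 0, 2, 0, 0, 0, 4, 0, 6, 2, 0, 4, 1, 0, 0,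 0, 0, 0, 0, 0, 0, 0, 0, 0, 0, 4, 0, 1, 0, 1, 0, 0, 4, 0, 0, 0, 1, 1, 3, 0, 0, 0, 6, 0, 4, 0, 4, 4, 2, 0, 0, 0, 0, 4, 0, 0, 2, 0, 0, 4, 0, 4, 2, 4, 4, 2, 0, 5, 0, 0, 0, 4, 0, 5, 1, 0, 7, 0, 0, 0, 4, 0, 0, 4, 0, 4, 0, 1, 0, 0, 1, 0, 2, 0, 4, 1, 0, 0, 0, 0, 2, 0, 0, 2, 0, 3, 1, 2, 0, 0, 0, 2, 2, 0, 4, 0, 2, 2, 0, 0, 1, 0, 2, 1, 0, 1, 0, 0, 2, 0, 1, 0, 0, 0, 0, 0, 0, 1, 0, 4, 0, 2, 0, 0, 0, 0, 0, 0, 0, 0, 4, 0, 0, 0, 0, 0, 0, 0, 1, 0, 4, 0, 0, 1, 0, 0, 4, 4, 2, 4, 4, 0, 1, 1, 4, 0, 0, 0, 0, 0, 0, 0, 0, 1, 4, 0, 0, 2, 2, 2, 0, 2, 0, 0, 0, 0, 0, 0, 1, 0, 0, 0, 0, 0, 2, 0, 2, 0, 0, 0, 0, 0, 0, 4, 0, 0, 4, 0, 1, 4, 0, 0, 0, 1, 1, 1,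 1, 0, 0, 0, 2, 2, 1, 0, 0, 2, 2, 2, 0, 2, 3, 0, 2, 0, 0, 0, 0, 0, 0, 1, 0, 0, 0, 0, 1, 0, 0, 3, 2, 0, 1, 0, 0, 0, 0, 0, 0, 2, 0, 0, 1, 0, 0, 0, 0, 0, 0, 0, 0, 4, 4, 0, 1, 0, 0, 0, 1, 0, 1, 1, 0, 0, 6, 2, 0, 0, 5, 4, 5, 5, 0, 0, 0, 1, 0, 0, 0, 0, 0, 0, 0, 0, 1, 0, 0, 5, 4, 2, 0, 0, 4, 0, 0, 4, 4, 0, 0, 0, 0, 4, 0, 0, 0, 0, 0, 0, 1, 0, 6, 0, 0, 0, 0, 0, 0, 0, 0, 0, 0, 4, 1, 2],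
    [0, 0, 0, 0, 0, 0, 3, 4, 0, 0, 0, 2, 2, 0, 2, 4, 0, 0, 0, 0, 0, 0, 0, 0, 0, 0, 0, 0, 0, 4, 2, 2, 0, 0, 0, 2, 0, 0, 0, 0, 0, 0, 0, 5, 0, 0, 1, 0, 2, 0, 0, 0, 0, 1, 0, 0, 0, 2, 0, 0, 0, 0, 4, 0, 0, 0, 0, 0, 0, 0, 2, 1, 1, 0, 4, 1, 0, 0, 1, 0, 0, 4, 0, 0, 0, 0, 0, 0, 1, 2, 0, 0, 0, 0, 4, 0, 0, 0, 0, 0, 0, 0, 0, 0, 2, 0, 0, 0, 0, 0, 0, 0, 0, 0, 0, 0, 0, 0, 4, 0, 0, 0, 0, 0, 0, 0, 2, 0, 1, 0, 0, 0, 0, 0, 4, 0, 0, 0, 0, 0, 0, 0, 0, 0, 0, 0, 0, 0, 0, 0, 0, 0, 0, 0, 0, 0, 0, 0, 0, 2, 0, 0, 0, 1, 0, 0, 0, 0, 0, 0, 0, 0, 0, 0, 4, 0, 0, 0, 1, 2, 0, 0, 0, 0, 0, 0, 0, 0, 0, 0, 0, 0, 3, 0, 0, 0, 0, 0, 0, 0, 0, 0, 0, 0, 0, 0, 0, 4, 4,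 0, 1, 0, 0, 0, 0, 0, 0, 0, 0, 0, 0, 0, 0, 1, 0, 0, 0, 0, 0, 0, 0, 0, 0, 2, 0, 0, 0, 0, 1, 1, 0, 4, 0, 0, 0, 0, 0, 0, 0, 0, 0, 0, 0, 0, 0, 0, 1, 0, 0, 0, 0, 0, 0, 0, 1, 0, 0, 4, 0, 1, 0, 0, 0, 0, 0, 0, 0, 4, 2, 0, 0, 0, 4, 0, 0, 0, 0, 0, 0, 0, 0, 4, 0, 0, 0, 0, 0, 0, 0, 0, 0, 0, 0, 0, 0, 0, 0, 0, 0, 0, 4, 0, 0, 1, 0, 5, 0, 0, 0, 0, 0, 0, 0, 0, 0, 0, 0, 0, 0, 0, 0, 0, 0, 0, 0, 0, 0, 0, 0, 0, 0, 0, 0, 0, 0, 0, 0, 0, 0, 0, 0, 2, 4, 0, 0, 0, 0, 0, 0, 0, 0, 0, 0, 0, 0, 0, 0, 0, 0, 0, 0, 0, 0, 0, 0, 0, 0, 0, 0, 0, 0, 0, 0, 0, 0, 0, 0, 0, 0, 0, 0, 0, 0, 0, 0, 0, 0, 0, 0, 0, 0, 0, 0, 0, 0, 0, 0, 0, 0, 0, 0, 0, 0, 4, 0, 0, 0, 0, 0, 0,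 0, 0, 0, 0, 1, 0, 0, 0, 0, 0, 0, 0, 0, 4, 0, 0, 0, 0, 0, 0, 0, 0, 0, 0, 0, 0, 0, 0, 0, 0, 0, 0, 0, 0, 0, 0, 0, 0, 0, 0, 0, 0, 0, 0, 0, 0, 0, 0, 0, 0, 0, 0, 0, 0, 0, 0, 0, 0, 0, 0, 0, 0, 0, 0, 0, 0, 0, 0, 0, 0, 0, 2, 0, 0, 0, 0, 0, 0, 0, 4, 0, 0, 0, 0, 0, 0, 0, 1, 0, 0, 0, 0, 0, 0, 0, 0, 0, 0, 0, 4, 0, 0, 0, 0, 0, 0, 0, 0, 0, 0, 0, 0, 4, 0, 0, 0, 0, 0, 0, 0, 0, 0, 0, 0, 0, 0, 0, 0, 0, 0, 0, 0, 0, 0, 0, 0, 0, 0, 0, 0, 0, 0, 0, 0, 0, 0, 0, 0, 0, 0, 0, 0, 0, 0, 0, 0, 0, 0, 0, 0, 0, 0, 0, 0, 0, 0, 0, 0, 0, 0, 0, 0, 0, 0, 0, 0, 0, 0, 0, 0, 0, 0, 0, 0, 0, 0, 0, 0, 0, 0, 0, 0, 0, 0, 0, 0, 0, 0, 0, 0, 0, 0, 0, 0, 0, 0, 0, 1, 0, 0, 0,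 0, 0, 0, 0, 0, 0, 0, 0, 0, 0, 0, 0, 0, 0, 0, 0, 0, 0, 0, 0, 0, 0, 0, 0, 0, 0, 0, 0, 0, 0, 0, 0, 0, 0, 0, 0, 0, 0, 0, 0, 0, 0, 0, 0, 0, 0, 0, 4, 0, 0, 0, 0, 0, 0, 0, 0, 0, 0, 0, 0, 0, 0, 0, 0, 0, 0, 0, 0, 0, 0, 1, 0, 0, 0, 0, 0, 0, 0, 0, 0, 0, 0, 0, 0, 0, 0, 0, 0, 0, 0, 0, 0, 0, 0, 0, 0, 0, 0, 0, 0, 0, 4, 0, 0, 0, 0, 0, 0, 0, 0, 0, 0, 0, 0, 0, 0, 0, 0, 0, 0, 0, 0, 0, 0, 0, 0, 0, 0, 0, 0, 0, 0, 0, 0, 0, 0, 0, 0]])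

/-- The orbits. -/
def trioTrio : List (List ℕ × List (List ℕ)) := [trioTrio1, trioTrio2, trioTrio3, trioTrio4, trioTrio5]

end Cfsg.Agent.H95
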