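import Cfsg.Agent.H95.GolayStab
import Cfsg.Agent.H95.GolayPairData
import Cfsg.Agent.Golay.Suborbit

/-!
Suborbits and maximality of a system stabiliser from an orbit certificate of the stabiliser
acting on the orbit of its own base system.
-/

set_option autoImplicit false

namespace Cfsg.Agent.H95

open Cfsg Cfsg.Agent.Golay
open scoped Pointwise

/-- Maximality of the stabiliser of `sysOf A`, and hence of any conjugate. -/
theorem isCoatom_of_cert {A gs : List ℕ} {N k : ℕ} {cs : Fin (k + 1) → List ℕ × List (List ℕ)}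
    (h : orbitCert A gs N (List.ofFn cs) = true) {X : Set (Finset (Finset GolayPt))}
    (hinv : ∀ g : M24, ∀ S ∈ X, g • S ∈ X) (hN : X.ncard ≤ N)
    (hroot : ∀ c ∈ List.ofFn cs, sysOf c.1 ∈ X)
    (htrans : ∀ S ∈ X, ∃ g : M24, g • sysOf A = S) (hA : (cs 0).1 = A)
    (n : Fin (k + 1) → ℕ) (hlen : ∀ i, (classL gs (cs i)).length = n i) (h0 : n 0 = 1)
    (h1 : 1 < ∑ i, n i)
    (hS : ∀ S : Finset (Fin (k + 1)), 0 ∈ S → (∑ i ∈ S, n i) ∣ ∑ i, n i →
      S = {0} ∨ S = Finset.univ) (g : M24) :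
    IsCoatom (MulAction.stabilizer M24 (g • sysOf A)) := by
  classical
  set H := MulAction.stabilizer M24 (sysOf A) with hH
  have hmem : ∀ i, cs i ∈ List.ofFn cs := fun i => by
    rw [List.mem_ofFn]; exact ⟨i, rfl⟩
  have hX : MulAction.orbit M24 (sysOf A) = X := by
    ext S
    refine ⟨?_, fun hS => ?_⟩
    · rintro ⟨g, rfl⟩
      exact hinv g _ (hA ▸ hroot _ (hmem 0))
    · obtain ⟨g, hg⟩ := htrans S hS
      exact ⟨g, hg⟩
  have hv : ∀ i, ∀ S ∈ MulAction.orbit H (sysOf (cs i).1),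
      invF (sysOf A) S = invF (sysOf A) (sysOf (cs i).1) := by
    rintro i _ ⟨a, rfl⟩
    have hm := invF_smul ((a : M24) : Equiv.Perm GolayPt) (sysOf A) (sysOf (cs i).1)
    rw [show ((a : M24) : Equiv.Perm GolayPt) • sysOf A = sysOf A from a.2] at hm
    exact hm
  have hdis : ∀ i j, ∀ S, S ∈ MulAction.orbit H (sysOf (cs i).1) →
      S ∈ MulAction.orbit H (sysOf (cs j).1) → i = j := by
    intro i j S hi hj
    have h' := h
    simp only [orbitCert, Bool.and_eq_true, List.all_eq_true, beq_iff_eq] at h'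
    obtain ⟨⟨⟨⟨⟨⟨hgA, -⟩, hgood⟩, -⟩, -⟩, -⟩, hdist⟩ := h'
    have e := (hv i S hi).symm.trans (hv j S hj)
    rw [invF_sysOf (goodSys_of_goodB hgA) (goodSys_of_goodB (hgood _ (hmem i))),
      invF_sysOf (goodSys_of_goodB hgA) (goodSys_of_goodB (hgood _ (hmem j)))] at e
    have hn := nodup_of_distinctB hdist
    rw [List.map_ofFn] at hn
    exact List.nodup_ofFn.1 hn e
  have hcov : ∀ S ∈ MulAction.orbit M24 (sysOf A), ∃ i, S ∈ MulAction.orbit H (sysOf (cs i).1) := by
    intro S hS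
    rw [hX, orbitCert_union h hinv hN hroot] at hS
    obtain ⟨c, hc, hSc⟩ := hS
    obtain ⟨i, rfl⟩ := List.mem_ofFn.1 hc
    exact ⟨i, hSc⟩
  let label : Finset (Finset GolayPt) → Fin (k + 1) := fun S =>
    if hS : ∃ i, S ∈ MulAction.orbit H (sysOf (cs i).1) then hS.choose else 0
  have hlabel : ∀ i S, S ∈ MulAction.orbit H (sysOf (cs i).1) → label S = i := by
    intro i S hS
    have he : ∃ i, S ∈ MulAction.orbit H (sysOf (cs i).1) := ⟨i, hS⟩
    simp only [label, dif_pos he]
    exact hdis _ _ S he.choose_spec hS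
  have hco : IsCoatom H := by
    refine isCoatom_stabilizer_of_labels label n
      (hlabel 0 _ (hA.symm ▸ MulAction.mem_orbit_self _)) h0 (fun i => ?_) (fun y hy z hz hyz => ?_)
      h1 hS
    · have e : {y | y ∈ MulAction.orbit M24 (sysOf A) ∧ label y = i}
          = MulAction.orbit H (sysOf (cs i).1) := by
        ext y
        refine ⟨fun ⟨hy, hl⟩ => ?_, fun hy => ⟨?_, hlabel i y hy⟩⟩
        · obtain ⟨j, hj⟩ := hcov y hy
          rwa [← hl, hlabel j y hj]
        · rw [hX, orbitCert_union h hinv hN hroot]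
          exact ⟨_, hmem i, hy⟩
      rw [e, (orbitCert_orbit h hinv hN hroot (hmem i)).2, hlen]
    · obtain ⟨i, hi⟩ := hcov y hy
      obtain ⟨j, hj⟩ := hcov z hz
      rw [hlabel i y hi, hlabel j z hj] at hyz
      subst hyz
      rw [← MulAction.orbit_eq_iff.2 hi] at hj
      obtain ⟨a, ha⟩ := hj
      exact ⟨a.1, a.2, ha⟩
  rw [MulAction.stabilizer_smul_eq_stabilizer_map_conj]
  exact ((MulAut.conj g).mapSubgroup.isCoatom_iff H).2 hco

/-- An orbit of a point stabiliser on its own point. -/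
lemma orbit_stabilizer_self {G α : Type*} [Group G] [MulAction G α] (x : α) :
    MulAction.orbit (MulAction.stabilizer G x) x = {x} := by
  ext y
  exact ⟨by rintro ⟨a, rfl⟩; exact a.2, by rintro rfl; exact MulAction.mem_orbit_self _⟩

end Cfsg.Agent.H95
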