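import Cfsg.Agent.H95.GolayBlock
import Cfsg.Agent.Golay.Systems
import Cfsg.Agent.H95.GolayFive

/-!
The action of a sextet stabiliser on its six tetrads.
-/

set_option autoImplicit false
set_option maxRecDepth 100000

namespace Cfsg.Agent.H95

open Cfsg Cfsg.Agent.Golay
open scoped Pointwise

/-- The masks of the base tetrads. -/
def tet6 (i : Fin 6) : ℕ := sextetBase.getD i 0

lemma sextetBase_checks :
    isSextB sextetBase = true ∧
    ((List.finRange 5).all fun i =>
      let t := sextetSwaps.getD i 0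
      inM24 t && fixSys t sextetBase &&
        (List.finRange 6).all fun j =>
          imgU t (tet6 j) == tet6 (Equiv.swap i.castSucc i.succ j)) = true ∧
    (sextetKer.all fun t => inM24 t && fixSys t sextetBase &&
      (List.finRange 6).all fun j => imgU t (tet6 j) == tet6 j) = true ∧
    distinctB (sextetKer.map tblCode) = true ∧ sextetKer.length = 192 := by
  decide +kernel

lemma sextetKer_square :
    (sextetKer.filter fun t => tblEq (tblMul t t) idTbl).length = 64 ∧
    ((sextetKer.filter fun t => tblEq (tblMul t t) idTbl).all fun a =>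
      (sextetKer.filter fun t => tblEq (tblMul t t) idTbl).all fun b =>
        tblEq (tblMul a b) (tblMul b a)) = true := by
  decide +kernel

lemma sextetBase_mem : sysOf sextetBase ∈ sextets := sextet_of_isSextB sextetBase_checks.1

lemma tet6_mem (i : Fin 6) : ptSet (tet6 i) ∈ sysOf sextetBase :=
  mem_sysOf.2 ⟨_, by revert i; decide, rfl⟩

lemma tet6_injective : Function.Injective fun i => ptSet (tet6 i) := by
  intro i j h
  have hlt : ∀ k, tet6 k < 2 ^ 24 := by decide
  have e := ptSet_injOn (hlt i) (hlt j) h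
  revert i j; decide

/-- The labelling of the base tetrads. -/
noncomputable def lab6 : Fin 6 ≃ ↥(sysOf sextetBase) :=
  blockEquiv _ tet6_mem tet6_injective sextetBase_mem.1

lemma coe_lab6 (i : Fin 6) : (lab6 i : Finset GolayPt) = ptSet (tet6 i) := rfl

theorem blockHom_sextet_surjective : Function.Surjective (blockHom (sysOf sextetBase)) := by
  have h : Function.Surjective ((Equiv.permCongrHom lab6.symm).toMonoidHom.comp
      (blockHom (sysOf sextetBase))) := by
    refine surjective_of_swaps (n := 5) _ fun i => ?_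
    have hc := List.all_eq_true.1 sextetBase_checks.2.1 i (List.mem_finRange i)
    simp only [Bool.and_eq_true, List.all_eq_true, List.mem_finRange, forall_const, beq_iff_eq]
      at hc
    obtain ⟨⟨hM, hf⟩, hj⟩ := hc
    have hst : tblElt (sextetSwaps.getD i 0) ∈ MulAction.stabilizer M24 (sysOf sextetBase) := by
      rw [MulAction.mem_stabilizer_iff, coe_smul_sys, coe_tblElt hM]
      exact smul_eq_of_fixSys (validT_of_inM24 hM) hf
    refine ⟨⟨_, hst⟩, Equiv.ext fun j => lab6.injective (Subtype.ext ?_)⟩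
    show (lab6 (lab6.symm (blockHom _ ⟨_, hst⟩ (lab6 j))) : Finset GolayPt) = _
    rw [Equiv.apply_symm_apply, blockHom_apply, coe_lab6, coe_lab6, tblElt_smul_ptSet hM, hj]
  intro e
  obtain ⟨x, hx⟩ := h (Equiv.permCongrHom lab6.symm e)
  exact ⟨x, (Equiv.permCongrHom lab6.symm).injective hx⟩

lemma card_stabilizer_sextetBase : Nat.card (MulAction.stabilizer M24 (sysOf sextetBase)) = 138240 := by
  have ho : MulAction.orbit M24 (sysOf sextetBase) = sextets := by
    ext S
    refine ⟨?_, fun hS => ?_⟩
    · rintro ⟨g, rfl⟩; exact sextets_smul g _ sextetBase_mem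
    · obtain ⟨g, hg⟩ := exists_smul_sextet_pair sextetBase_mem hS
      exact ⟨g, hg⟩
  have h := Subgroup.card_mul_index (MulAction.stabilizer M24 (sysOf sextetBase))
  rw [MulAction.index_stabilizer, ho, ncard_sextets, card_M24] at h
  omega

theorem card_ker_sextet : Nat.card (blockHom (sysOf sextetBase)).ker = 192 := by
  have h := Subgroup.card_mul_index (blockHom (sysOf sextetBase)).ker
  rw [Subgroup.index_ker, MonoidHom.range_eq_top.2 blockHom_sextet_surjective,
    Subgroup.card_top, card_stabilizer_sextetBase, Nat.card_perm,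
    Nat.card_eq_fintype_card (α := ↥(sysOf sextetBase)), Fintype.card_coe, sextetBase_mem.1,
    show Nat.factorial 6 = 720 from rfl] at h
  omega

/-- The elements of the kernel list, in the stabiliser. -/
lemma sextetKer_elt {t : ℕ} (ht : t ∈ sextetKer) :
    inM24 t = true ∧ ∃ h : tblElt t ∈ MulAction.stabilizer M24 (sysOf sextetBase),
      (⟨_, h⟩ : MulAction.stabilizer M24 (sysOf sextetBase)) ∈ (blockHom _).ker := by
  have hc := List.all_eq_true.1 sextetBase_checks.2.2.1 t ht
  simp only [Bool.and_eq_true, List.all_eq_true, List.mem_finRange, forall_const, beq_iff_eq] at hc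
  obtain ⟨⟨hM, hf⟩, hj⟩ := hc
  refine ⟨hM, ?_, mem_ker_blockHom.2 fun s hs => ?_⟩
  · rw [MulAction.mem_stabilizer_iff, coe_smul_sys, coe_tblElt hM]
    exact smul_eq_of_fixSys (validT_of_inM24 hM) hf
  · obtain ⟨j, hj'⟩ := lab6.surjective ⟨s, hs⟩
    have e : s = ptSet (tet6 j) := by rw [← coe_lab6, hj']
    subst e
    rw [tblElt_smul_ptSet hM, hj]

/-- Every element fixing the tetrads is in the list. -/
theorem exists_tbl_of_mem_ker {x : MulAction.stabilizer M24 (sysOf sextetBase)}
    (hx : x ∈ (blockHom (sysOf sextetBase)).ker) : ∃ t ∈ sextetKer, tblElt t = (x : M24) := by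
  have hnd := tblElt_injOn (fun t ht => (sextetKer_elt ht).1) sextetBase_checks.2.2.2.1
  have hK : ∀ y ∈ sextetKer.map tblElt,
      y ∈ (blockHom (sysOf sextetBase)).ker.map (Subgroup.subtype _) := by
    intro y hy
    obtain ⟨t, ht, rfl⟩ := List.mem_map.1 hy
    obtain ⟨_, hh⟩ := (sextetKer_elt ht).2
    exact ⟨_, hh, rfl⟩
  have hc : Nat.card ((blockHom (sysOf sextetBase)).ker.map
      (Subgroup.subtype (MulAction.stabilizer M24 (sysOf sextetBase)))) =
      (sextetKer.map tblElt).length := by
    rw [Subgroup.card_map_of_injective Subtype.val_injective, card_ker_sextet, List.length_map,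
      sextetBase_checks.2.2.2.2]
  simpa using mem_of_card_eq_length _ hnd hK hc (Subgroup.mem_map_of_mem _ hx)

/-- The involutions fixing each tetrad form a normal subgroup of order 64. -/
theorem exists_sextet_normal :
    ∃ N : Subgroup (MulAction.stabilizer M24 (sysOf sextetBase)), N.Normal ∧ Nat.card N = 64 ∧
      ∀ x ∈ N, x * x = 1 := by
  set K := (blockHom (sysOf sextetBase)).ker
  set L := sextetKer.filter fun t => tblEq (tblMul t t) idTbl
  have hin : ∀ x, x ∈ K → x * x = 1 → ∃ t ∈ L, tblElt t = (x : M24) := by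
    intro x hx h2
    obtain ⟨t, ht, e⟩ := exists_tbl_of_mem_ker hx
    refine ⟨t, List.mem_filter.2 ⟨ht, ?_⟩, e⟩
    have hM := (sextetKer_elt ht).1
    have hs := tblMul_spec (validT_of_inM24 hM) (validT_of_inM24 hM)
    rw [tblEq_iff hs.1 idTbl_spec.1, idTbl_spec.2, ← tblElt_mul hM hM, e, ← Subgroup.coe_mul, h2]
    rfl
  have hcomm : ∀ x y, x ∈ K → y ∈ K → x * x = 1 → y * y = 1 → x * y = y * x := by
    intro x y hx hy hx2 hy2
    obtain ⟨a, ha, ea⟩ := hin x hx hx2
    obtain ⟨b, hb, eb⟩ := hin y hy hy2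
    have hM : ∀ t ∈ L, inM24 t = true := fun t ht =>
      (sextetKer_elt (List.mem_filter.1 ht).1).1
    have h := List.all_eq_true.1 (List.all_eq_true.1 sextetKer_square.2 a ha) b hb
    have va := validT_of_inM24 (hM a ha)
    have vb := validT_of_inM24 (hM b hb)
    rw [tblEq_iff (tblMul_spec va vb).1 (tblMul_spec vb va).1, ← tblElt_mul (hM a ha) (hM b hb),
      ← tblElt_mul (hM b hb) (hM a ha), ea, eb] at h
    exact Subtype.ext (Subtype.ext h)
  let N : Subgroup (MulAction.stabilizer M24 (sysOf sextetBase)) :=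
    { carrier := {x | x ∈ K ∧ x * x = 1}
      one_mem' := ⟨K.one_mem, one_mul 1⟩
      mul_mem' := fun {x y} hx hy => ⟨K.mul_mem hx.1 hy.1, by
        rw [mul_assoc, ← mul_assoc y, ← hcomm x y hx.1 hy.1 hx.2 hy.2, mul_assoc x, hy.2, mul_one,
          hx.2]⟩
      inv_mem' := fun {x} hx => ⟨K.inv_mem hx.1, by rw [← mul_inv_rev, hx.2, inv_one]⟩ }
  refine ⟨N, ⟨fun x hx g => ⟨(MonoidHom.normal_ker _).conj_mem x hx.1 g, ?_⟩⟩, ?_, fun x hx => hx.2⟩
  · rw [show g * x * g⁻¹ * (g * x * g⁻¹) = g * (x * x) * g⁻¹ by group, hx.2, mul_one, mul_inv_cancel]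
  · have hnd : (L.map tblElt).Nodup :=
      (tblElt_injOn (fun t ht => (sextetKer_elt ht).1) sextetBase_checks.2.2.2.1).sublist
        (List.filter_sublist.map _)
    have e : Nat.card (N.map (Subgroup.subtype _)) = Nat.card N :=
      Subgroup.card_map_of_injective Subtype.val_injective
    have h1 : ∀ y ∈ L.map tblElt, y ∈ N.map (Subgroup.subtype _) := by
      intro y hy
      obtain ⟨t, ht, rfl⟩ := List.mem_map.1 hy
      obtain ⟨ht1, ht2⟩ := List.mem_filter.1 ht
      obtain ⟨hM, _, hh⟩ := sextetKer_elt ht1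
      refine ⟨_, ⟨hh, Subtype.ext (Subtype.ext ?_)⟩, rfl⟩
      show ((tblElt t * tblElt t : M24) : Equiv.Perm GolayPt) = 1
      have hs := tblMul_spec (validT_of_inM24 hM) (validT_of_inM24 hM)
      rw [tblElt_mul hM hM, (tblEq_iff hs.1 idTbl_spec.1).1 ht2, idTbl_spec.2]
    have h2 := le_card_subgroup _ hnd h1
    rw [List.length_map, sextetKer_square.1, e] at h2
    refine le_antisymm ?_ h2
    classical
    have h3 : (N.map (Subgroup.subtype _) : Set M24) ⊆ ((L.map tblElt).toFinset : Set M24) := by
      rintro _ ⟨x, hx, rfl⟩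
      obtain ⟨t, ht, ht'⟩ := hin x hx.1 hx.2
      exact Finset.mem_coe.2 (List.mem_toFinset.2 (List.mem_map.2 ⟨t, ht, ht'⟩))
    have h4 := Set.ncard_le_ncard h3 (Finset.finite_toSet _)
    rw [← Nat.card_coe_set_eq, Set.ncard_coe_finset, List.toFinset_card_of_nodup hnd,
      List.length_map, sextetKer_square.1] at h4
    rw [← e]
    exact h4

end Cfsg.Agent.H95
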