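import Cfsg.Agent.Golay.Stabilisers
import Cfsg.Agent.Golay.OctadCount
import Cfsg.Prelude.Def_SporadicCombinatorics

/-!
Subgroups of the group of the code acting on a six-element set.
-/

set_option autoImplicit false

namespace Cfsg.Agent.H95

open Cfsg Cfsg.Agent.Golay
open scoped Pointwise

/-- A group of order 720 acting faithfully on a set of six points is the symmetric group. -/
theorem nonempty_iso_perm_six (H : Subgroup M24) (C : Finset GolayPt) (hC6 : C.card = 6)
    (hC : ∀ g ∈ H, g • C = C)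
    (hfaith : ∀ g ∈ H, (∀ p ∈ C, ((g : M24) : Equiv.Perm GolayPt) p = p) → g = 1)
    (hcard : Nat.card H = 720) : Nonempty (H ≃* Equiv.Perm (Fin 6)) := by
  have hiff : ∀ (g : H) (x : GolayPt),
      ((g : M24) : Equiv.Perm GolayPt) x ∈ C ↔ x ∈ C := by
    intro g x
    have h : ((g : M24) : Equiv.Perm GolayPt) • C = C := hC g g.2
    conv_lhs => rw [← h]
    exact Finset.smul_mem_smul_finset_iff _
  let φ : H →* Equiv.Perm {x : GolayPt // x ∈ C} :=
    { toFun := fun g => ((g : M24) : Equiv.Perm GolayPt).subtypePerm (hiff g)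
      map_one' := Equiv.ext fun x => Subtype.ext rfl
      map_mul' := fun g h => Equiv.ext fun x => Subtype.ext rfl }
  have hinj : Function.Injective φ := by
    rw [injective_iff_map_eq_one]
    intro g hg
    refine Subtype.ext (hfaith g g.2 fun p hp => ?_)
    have := Equiv.congr_fun hg ⟨p, hp⟩
    exact congrArg Subtype.val this
  have hbij : Function.Bijective φ := by
    rw [Nat.bijective_iff_injective_and_card]
    refine ⟨hinj, ?_⟩
    rw [hcard, Nat.card_perm, Nat.card_eq_finsetCard, hC6]
    rfl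
  exact ⟨(MulEquiv.ofBijective φ hbij).trans (C.equivFinOfCardEq hC6).permCongrHom⟩

/-- Five points of a dodecad determine a symmetry of it. -/
theorem dodecad_stab_eq_one {d : Finset GolayPt} (hd : d ∈ dodecads) {g : M24} (hg : g • d = d)
    {s : Finset GolayPt} (hs : 5 ≤ s.card) (hsd : s ⊆ d)
    (hfix : ∀ p ∈ s, (g : Equiv.Perm GolayPt) p = p) : g = 1 := by
  obtain ⟨a, ha, has⟩ := exists_five_of_card hs
  obtain ⟨u, -, huniq⟩ := dodecad_sharply_five_transitive hd ⟨a, ha⟩ ⟨a, ha⟩
    (fun i => hsd (has i)) (fun i => hsd (has i))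
  have h1 := huniq ⟨g, hg⟩ fun i => hfix _ (has i)
  have h2 := huniq 1 fun i => rfl
  exact congrArg Subtype.val (h1.trans h2.symm)

theorem symmDiff_mem_dodecads {o o' : Finset GolayPt} (ho : o ∈ octads) (ho' : o' ∈ octads)
    (h₂ : (o ∩ o').card = 2) : symmDiff o o' ∈ dodecads := by
  refine ⟨symmDiff_mem_supports ho.1 ho'.1, ?_⟩
  have := card_symmDiff_add (s := o) (t := o')
  have h1 : o.card = 8 := ho.2
  have h3 : o'.card = 8 := ho'.2
  omega

end Cfsg.Agent.H95
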