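import Cfsg.Agent.H95.GolaySys
import Cfsg.Agent.H95.CertAllTrio
import Cfsg.Agent.H95.CertAllSext

/-!
Statements about orbits of octad, trio and sextet stabilisers in the shape "exactly k orbits".
-/

set_option autoImplicit false

namespace Cfsg.Agent.H95

open Cfsg Cfsg.Agent.Golay
open scoped Pointwise

lemma allTrio_eq : allTrio = [allTrio1] := rfl

lemma allSext_eq : allSext = [allSext1] := rfl

theorem exists_smul_trio {T : Finset (Finset GolayPt)} (hT : T ∈ trios) :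
    ∃ g : M24, g • sysOf allTrio1.1 = T := by
  have h := List.all_eq_true.1 allTrio_roots allTrio1 (by simp [allTrio_eq])
  exact exists_smul_of_cert (allTrio_eq ▸ allTrio_cert) trios_smul ncard_trios_le
    (trio_of_isTrioB h) hT

theorem exists_smul_sextet {S : Finset (Finset GolayPt)} (hS : S ∈ sextets) :
    ∃ g : M24, g • sysOf allSext1.1 = S := by
  have h := List.all_eq_true.1 allSext_roots allSext1 (by simp [allSext_eq])
  exact exists_smul_of_cert (allSext_eq ▸ allSext_cert) sextets_smul ncard_sextets_le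
    (sextet_of_isSextB h) hS

theorem exists_smul_trio_pair {T T' : Finset (Finset GolayPt)} (hT : T ∈ trios) (hT' : T' ∈ trios) :
    ∃ g : M24, g • T = T' := by
  obtain ⟨a, rfl⟩ := exists_smul_trio hT
  obtain ⟨b, rfl⟩ := exists_smul_trio hT'
  exact ⟨b * a⁻¹, by rw [mul_smul, inv_smul_smul]⟩

theorem exists_smul_sextet_pair {T T' : Finset (Finset GolayPt)} (hT : T ∈ sextets)
    (hT' : T' ∈ sextets) : ∃ g : M24, g • T = T' := by
  obtain ⟨a, rfl⟩ := exists_smul_sextet hT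
  obtain ⟨b, rfl⟩ := exists_smul_sextet hT'
  exact ⟨b * a⁻¹, by rw [mul_smul, inv_smul_smul]⟩

theorem exists_smul_octadSys {A : List ℕ} (hA : isOctB A = true) {o : Finset GolayPt}
    (ho : o ∈ octads) : ∃ g : M24, g • sysOf A = {o} := by
  obtain ⟨a, ha, hea⟩ := octadSys_of_isOctB hA
  obtain ⟨g, hg⟩ := exists_M24_map_octad ha ho
  refine ⟨g, ?_⟩
  rw [← hea]
  show g • ({a} : Finset (Finset GolayPt)) = {o}
  rw [Finset.smul_finset_singleton, hg]

variable {A gs : List ℕ} {N : ℕ} {X : Set (Finset (Finset GolayPt))}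

theorem three_orbits {cs : List (List ℕ × List (List ℕ))} {c₁ c₂ c₃ : List ℕ × List (List ℕ)}
    (hcs : cs = [c₁, c₂, c₃]) (h : orbitCert A gs N cs = true)
    {n₁ n₂ n₃ : ℕ} (hlen : (cs.map fun c => (classL gs c).length) = [n₁, n₂, n₃])
    (hinv : ∀ g : M24, ∀ S ∈ X, g • S ∈ X) (hN : X.ncard ≤ N) (hroot : ∀ c ∈ cs, sysOf c.1 ∈ X)
    (g : M24) :
    let H := MulAction.stabilizer M24 (g • sysOf A)
    ∃ X₁ ∈ X, ∃ X₂ ∈ X, ∃ X₃ ∈ X, (MulAction.orbit H X₁).ncard = n₁ ∧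
      (MulAction.orbit H X₂).ncard = n₂ ∧ (MulAction.orbit H X₃).ncard = n₃ ∧
      X = MulAction.orbit H X₁ ∪ MulAction.orbit H X₂ ∪ MulAction.orbit H X₃ := by
  intro H
  obtain ⟨h1, h2⟩ := orbit_split h hinv hN hroot g
  subst hcs
  simp only [List.map_cons, List.map_nil, List.cons.injEq, and_true] at hlen
  obtain ⟨hm1, hc1⟩ := h1 c₁ (by simp)
  obtain ⟨hm2, hc2⟩ := h1 c₂ (by simp)
  obtain ⟨hm3, hc3⟩ := h1 c₃ (by simp)
  refine ⟨_, hm1, _, hm2, _, hm3, hc1.trans hlen.1, hc2.trans hlen.2.1, hc3.trans hlen.2.2, ?_⟩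
  refine h2.trans ?_
  ext S
  simp [H, or_assoc]

theorem four_orbits {cs : List (List ℕ × List (List ℕ))}
    {c₁ c₂ c₃ c₄ : List ℕ × List (List ℕ)}
    (hcs : cs = [c₁, c₂, c₃, c₄]) (h : orbitCert A gs N cs = true)
    {n₁ n₂ n₃ n₄ : ℕ} (hlen : (cs.map fun c => (classL gs c).length) = [n₁, n₂, n₃, n₄])
    (hinv : ∀ g : M24, ∀ S ∈ X, g • S ∈ X) (hN : X.ncard ≤ N) (hroot : ∀ c ∈ cs, sysOf c.1 ∈ X)
    (g : M24) :
    let H := MulAction.stabilizer M24 (g • sysOf A)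
    ∃ X₁ ∈ X, ∃ X₂ ∈ X, ∃ X₃ ∈ X, ∃ X₄ ∈ X, (MulAction.orbit H X₁).ncard = n₁ ∧
      (MulAction.orbit H X₂).ncard = n₂ ∧ (MulAction.orbit H X₃).ncard = n₃ ∧
      (MulAction.orbit H X₄).ncard = n₄ ∧
      X = MulAction.orbit H X₁ ∪ MulAction.orbit H X₂ ∪ MulAction.orbit H X₃ ∪
        MulAction.orbit H X₄ := by
  intro H
  obtain ⟨h1, h2⟩ := orbit_split h hinv hN hroot g
  subst hcs
  simp only [List.map_cons, List.map_nil, List.cons.injEq, and_true] at hlen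
  obtain ⟨hm1, hc1⟩ := h1 c₁ (by simp)
  obtain ⟨hm2, hc2⟩ := h1 c₂ (by simp)
  obtain ⟨hm3, hc3⟩ := h1 c₃ (by simp)
  obtain ⟨hm4, hc4⟩ := h1 c₄ (by simp)
  refine ⟨_, hm1, _, hm2, _, hm3, _, hm4, hc1.trans hlen.1, hc2.trans hlen.2.1,
    hc3.trans hlen.2.2.1, hc4.trans hlen.2.2.2, ?_⟩
  refine h2.trans ?_
  ext S
  simp [H, or_assoc]

/-- Passing from one-block systems to octads. -/
theorem three_orbits_octads {H : Subgroup M24} {n₁ n₂ n₃ : ℕ}
    (h : ∃ X₁ ∈ octadSys, ∃ X₂ ∈ octadSys, ∃ X₃ ∈ octadSys, (MulAction.orbit H X₁).ncard = n₁ ∧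
      (MulAction.orbit H X₂).ncard = n₂ ∧ (MulAction.orbit H X₃).ncard = n₃ ∧
      octadSys = MulAction.orbit H X₁ ∪ MulAction.orbit H X₂ ∪ MulAction.orbit H X₃) :
    ∃ X₁ ∈ octads, ∃ X₂ ∈ octads, ∃ X₃ ∈ octads, (MulAction.orbit H X₁).ncard = n₁ ∧
      (MulAction.orbit H X₂).ncard = n₂ ∧ (MulAction.orbit H X₃).ncard = n₃ ∧
      octads = MulAction.orbit H X₁ ∪ MulAction.orbit H X₂ ∪ MulAction.orbit H X₃ := by
  obtain ⟨_, ⟨a, ha, rfl⟩, _, ⟨b, hb, rfl⟩, _, ⟨c, hc, rfl⟩, h1, h2, h3, hu⟩ := h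
  have hinj : Function.Injective fun o : Finset GolayPt => ({o} : Finset (Finset GolayPt)) :=
    fun x y e => by simpa using e
  rw [orbit_singleton_sys, Set.ncard_image_of_injective _ hinj] at h1 h2 h3
  refine ⟨a, ha, b, hb, c, hc, h1, h2, h3, ?_⟩
  rw [orbit_singleton_sys, orbit_singleton_sys, orbit_singleton_sys, ← Set.image_union,
    ← Set.image_union, octadSys] at hu
  exact hinj.image_injective hu

end Cfsg.Agent.H95
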