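import Cfsg.Agent.H95.GolayBlock

/-!
Moving statements about the action of a stabiliser on blocks along an element of the group.
-/

set_option autoImplicit false

namespace Cfsg.Agent.H95

open Cfsg Cfsg.Agent.Golay
open scoped Pointwise

variable (g : M24) (S : Finset (Finset GolayPt))

/-- Conjugation between stabilisers. -/
def stabConj : MulAction.stabilizer M24 S ≃* MulAction.stabilizer M24 (g • S) where
  toFun x := ⟨g * x * g⁻¹, by
    rw [MulAction.mem_stabilizer_iff, mul_smul, mul_smul, inv_smul_smul,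
      show (x : M24) • S = S from x.2]⟩
  invFun x := ⟨g⁻¹ * x * g, by
    rw [MulAction.mem_stabilizer_iff, mul_smul, mul_smul,
      show (x : M24) • g • S = g • S from x.2, inv_smul_smul]⟩
  left_inv x := Subtype.ext (by simp [mul_assoc])
  right_inv x := Subtype.ext (by simp [mul_assoc])
  map_mul' x y := Subtype.ext (by simp [mul_assoc])

lemma coe_stabConj (x : MulAction.stabilizer M24 S) :
    ((stabConj g S x : MulAction.stabilizer M24 (g • S)) : M24) = g * x * g⁻¹ := rfl

/-- The blocks of a moved system. -/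
def blockMove : ↥S ≃ ↥(g • S) where
  toFun t := ⟨(g : Equiv.Perm GolayPt) • t.1, Finset.smul_mem_smul_finset t.2⟩
  invFun t := ⟨(g : Equiv.Perm GolayPt)⁻¹ • t.1, Finset.inv_smul_mem_iff.2 t.2⟩
  left_inv t := Subtype.ext (inv_smul_smul _ t.1)
  right_inv t := Subtype.ext (smul_inv_smul _ t.1)

lemma blockHom_stabConj (x : MulAction.stabilizer M24 S) :
    blockHom (g • S) (stabConj g S x) = Equiv.permCongrHom (blockMove g S) (blockHom S x) := by
  refine Equiv.ext fun t => Subtype.ext ?_
  show ((g * x * g⁻¹ : M24) : Equiv.Perm GolayPt) • t.1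
    = (g : Equiv.Perm GolayPt) • ((x : M24) : Equiv.Perm GolayPt) •
        ((g : Equiv.Perm GolayPt)⁻¹ • t.1)
  simp [mul_smul]

lemma blockHom_surjective_smul (h : Function.Surjective (blockHom S)) :
    Function.Surjective (blockHom (g • S)) := by
  intro e
  obtain ⟨x, hx⟩ := h ((Equiv.permCongrHom (blockMove g S)).symm e)
  exact ⟨stabConj g S x, by rw [blockHom_stabConj, hx, MulEquiv.apply_symm_apply]⟩

lemma ker_blockHom_smul :
    (blockHom (g • S)).ker = (blockHom S).ker.map (stabConj g S).toMonoidHom := by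
  ext y
  obtain ⟨x, rfl⟩ := (stabConj g S).surjective y
  rw [MonoidHom.mem_ker, blockHom_stabConj]
  constructor
  · intro h
    refine ⟨x, ?_, rfl⟩
    exact (Equiv.permCongrHom (blockMove g S)).injective (h.trans (map_one _).symm)
  · rintro ⟨x', hx', e⟩
    rw [← (stabConj g S).injective e, MonoidHom.mem_ker.1 hx', map_one]

lemma card_ker_blockHom_smul : Nat.card (blockHom (g • S)).ker = Nat.card (blockHom S).ker := by
  rw [ker_blockHom_smul]
  exact Subgroup.card_map_of_injective (stabConj g S).injective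

lemma exists_normal_smul {n : ℕ}
    (h : ∃ N : Subgroup (MulAction.stabilizer M24 S), N.Normal ∧ Nat.card N = n ∧
      ∀ x ∈ N, x * x = 1) :
    ∃ N : Subgroup (MulAction.stabilizer M24 (g • S)), N.Normal ∧ Nat.card N = n ∧
      ∀ x ∈ N, x * x = 1 := by
  obtain ⟨N, hN, hc, hs⟩ := h
  refine ⟨N.map (stabConj g S).toMonoidHom, hN.map _ (stabConj g S).surjective,
    (Subgroup.card_map_of_injective (stabConj g S).injective).trans hc, ?_⟩
  rintro _ ⟨x, hx, rfl⟩
  rw [← map_mul, hs x hx, map_one]

end Cfsg.Agent.H95
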