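import Cfsg.Agent.H95.GolayBlock
import Cfsg.Agent.H95.GolayFive
import Cfsg.Agent.H95.CertTrioSext
import Cfsg.Agent.Golay.Systems
import Mathlib.LinearAlgebra.Matrix.GeneralLinearGroup.Card
import Mathlib.LinearAlgebra.Matrix.Transvection

/-!
The action of a trio stabiliser on its three octads and on the seven sextets refining it.
-/

set_option autoImplicit false
set_option maxRecDepth 100000

namespace Cfsg.Agent.H95

open Cfsg Cfsg.Agent.Golay Matrix
open scoped Pointwise

/-- Nonzero vectors of the space of dimension three over two elements. -/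
abbrev Vec7 : Type := {v : Fin 3 → ZMod 2 // v ≠ 0}

/-- Binary value of a vector. -/
def vidx (v : Fin 3 → ZMod 2) : ℕ := (v 0).val + 2 * (v 1).val + 4 * (v 2).val

/-- The sextet of a vector. -/
def sx (v : Fin 3 → ZMod 2) : List ℕ := trioSexts.getD (vidx v) []

/-- Effect of a transvection on binary values. -/
def tvIdx (i j : Fin 3) (k : ℕ) : ℕ := bif k.testBit j then k ^^^ 2 ^ (i : ℕ) else k

/-- The masks of the base octads. -/
def oct3 (i : Fin 3) : ℕ := trioBase.getD i 0

lemma trioBase_checks :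
    isTrioB trioBase = true ∧
    ((List.finRange 3).all fun i => (List.finRange 3).all fun j => i == j ||
      trioTransv.any fun t => inM24 t && fixSys t trioBase &&
        ((List.finRange 3).all fun o => imgU t (oct3 o) == oct3 o) &&
        ((List.range 7).all fun k => sameSys (imgSys t (trioSexts.getD (k + 1) []))
          (trioSexts.getD (tvIdx i j (k + 1)) []))) = true ∧
    ((List.finRange 2).all fun i =>
      let t := trioSwaps.getD i 0
      inM24 t && fixSys t trioBase &&
        ((List.finRange 3).all fun o => imgU t (oct3 o) == oct3 (Equiv.swap i.castSucc i.succ o)) &&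
        ((List.range 7).all fun k => sameSys (imgSys t (trioSexts.getD (k + 1) []))
          (trioSexts.getD (k + 1) []))) = true ∧
    (trioKer.all fun t => inM24 t && fixSys t trioBase &&
      ((List.finRange 3).all fun o => imgU t (oct3 o) == oct3 o) &&
      ((List.range 7).all fun k => sameSys (imgSys t (trioSexts.getD (k + 1) []))
        (trioSexts.getD (k + 1) [])) && tblEq (tblMul t t) idTbl) = true ∧
    distinctB (trioKer.map tblCode) = true ∧ trioKer.length = 64 := by
  decide +kernel

lemma trioSexts_checks :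
    ((List.range 7).all fun k => goodB (trioSexts.getD (k + 1) []) &&
      (classL trioGens trioSext1).any fun B => sameSys B (trioSexts.getD (k + 1) [])) = true ∧
    distinctB ((List.range 7).map fun k => keyL (trioSexts.getD (k + 1) [])) = true ∧
    (classL trioGens trioSext1).length = 7 := by
  decide +kernel

lemma vidx_vec : ∀ v : Fin 3 → ZMod 2, v ≠ 0 → ∃ k < 7, vidx v = k + 1 := by decide +kernel

lemma vidx_injective : ∀ v w : Fin 3 → ZMod 2, vidx v = vidx w → v = w := by decide +kernel

lemma vidx_transvec : ∀ i j : Fin 3, i ≠ j → ∀ v : Fin 3 → ZMod 2,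
    vidx (Matrix.transvection i j (1 : ZMod 2) *ᵥ v) = tvIdx i j (vidx v) := by
  decide +kernel

lemma trioBase_mem : sysOf trioBase ∈ trios := trio_of_isTrioB trioBase_checks.1

/-- The stabiliser of the base trio. -/
abbrev TStab : Subgroup M24 := MulAction.stabilizer M24 (sysOf trioBase)

/-- The orbit of the seven sextets refining the base trio. -/
abbrev Refining : Set (Finset (Finset GolayPt)) :=
  MulAction.orbit TStab (sysOf trioSext1.1)

lemma trioSext1_mem : trioSext1 ∈ trioSext := by simp [trioSext]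

lemma ncard_refining : Refining.ncard = 7 := by
  rw [(orbitCert_orbit trioSext_cert sextets_smul ncard_sextets_le
    (fun c hc => sextet_of_isSextB (List.all_eq_true.1 trioSext_roots c hc)) trioSext1_mem).2,
    trioSexts_checks.2.2]

lemma sx_mem (v : Vec7) : sysOf (sx v.1) ∈ Refining := by
  obtain ⟨k, hk, e⟩ := vidx_vec v.1 v.2
  have h := List.all_eq_true.1 trioSexts_checks.1 k (List.mem_range.2 hk)
  rw [Bool.and_eq_true, List.any_eq_true] at h
  obtain ⟨-, B, hB, hs⟩ := h
  rw [sx, e, ← sysOf_eq_of_sameSys hs]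
  exact (orbitCert_mem trioSext_cert trioSext1_mem hB).2

lemma sx_injective : Function.Injective fun v : Vec7 => sysOf (sx v.1) := by
  intro v w h
  obtain ⟨k, hk, e⟩ := vidx_vec v.1 v.2
  obtain ⟨l, hl, e'⟩ := vidx_vec w.1 w.2
  have hg : ∀ m < 7, GoodSys (trioSexts.getD (m + 1) []) := fun m hm =>
    goodSys_of_goodB (Bool.and_eq_true _ _ ▸
      List.all_eq_true.1 trioSexts_checks.1 m (List.mem_range.2 hm)).1
  have hkey : keyL (sx v.1) = keyL (sx w.1) := by
    rw [sx, sx, e, e', ← keyF_sysOf (hg k hk), ← keyF_sysOf (hg l hl)]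
    exact congrArg keyF (by rw [← e, ← e']; exact h)
  rw [sx, sx, e, e'] at hkey
  have hkl : k = l := List.inj_on_of_nodup_map (nodup_of_distinctB trioSexts_checks.2.1)
    (List.mem_range.2 hk) (List.mem_range.2 hl) hkey
  exact Subtype.ext (vidx_injective _ _ (by rw [e, e', hkl]))

/-- Vectors label the refining sextets. -/
noncomputable def lab7 : Vec7 ≃ ↥Refining :=
  Equiv.ofBijective (fun v => ⟨sysOf (sx v.1), sx_mem v⟩) <| by
    rw [Nat.bijective_iff_injective_and_card]
    refine ⟨fun v w h => sx_injective (congrArg Subtype.val h), ?_⟩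
    rw [Nat.card_coe_set_eq, ncard_refining, Nat.card_eq_fintype_card]
    decide

lemma coe_lab7 (v : Vec7) : (lab7 v : Finset (Finset GolayPt)) = sysOf (sx v.1) := rfl

lemma oct3_mem (i : Fin 3) : ptSet (oct3 i) ∈ sysOf trioBase :=
  mem_sysOf.2 ⟨_, by revert i; decide, rfl⟩

lemma oct3_injective : Function.Injective fun i => ptSet (oct3 i) := by
  intro i j h
  have hlt : ∀ k, oct3 k < 2 ^ 24 := by decide
  have e := ptSet_injOn (hlt i) (hlt j) h
  revert i j; decide

/-- The labelling of the base octads. -/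
noncomputable def lab3 : Fin 3 ≃ ↥(sysOf trioBase) :=
  blockEquiv _ oct3_mem oct3_injective trioBase_mem.1

lemma coe_lab3 (i : Fin 3) : (lab3 i : Finset GolayPt) = ptSet (oct3 i) := rfl

/-- The action on vectors. -/
noncomputable def vecAct : TStab →* Equiv.Perm Vec7 :=
  (Equiv.permCongrHom lab7.symm).toMonoidHom.comp (MulAction.toPermHom TStab ↥Refining)

lemma vecAct_iff (x : TStab) (v w : Vec7) :
    vecAct x v = w ↔ (x : M24) • sysOf (sx v.1) = sysOf (sx w.1) := by
  show lab7.symm (x • lab7 v) = w ↔ _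
  rw [Equiv.symm_apply_eq, Subtype.ext_iff]
  exact Iff.rfl

/-- The action on octads. -/
noncomputable def octAct : TStab →* Equiv.Perm (Fin 3) :=
  (Equiv.permCongrHom lab3.symm).toMonoidHom.comp (blockHom (sysOf trioBase))

lemma octAct_iff (x : TStab) (i j : Fin 3) :
    octAct x i = j ↔ ((x : M24) : Equiv.Perm GolayPt) • ptSet (oct3 i) = ptSet (oct3 j) := by
  show lab3.symm (blockHom _ x (lab3 i)) = j ↔ _
  rw [Equiv.symm_apply_eq, Subtype.ext_iff]
  exact Iff.rfl

/-- An element from a checked table. -/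
lemma exists_act {t : ℕ} {f : Fin 3 → Fin 3} {σ : Vec7 → Vec7} {p : ℕ → ℕ}
    (hM : inM24 t = true) (hf : fixSys t trioBase = true)
    (ho : ∀ o, imgU t (oct3 o) = oct3 (f o))
    (hs : ∀ k < 7, sameSys (imgSys t (trioSexts.getD (k + 1) []))
      (trioSexts.getD (p (k + 1)) []) = true)
    (hp : ∀ v : Vec7, vidx (σ v).1 = p (vidx v.1)) :
    ∃ x : TStab, (x : M24) = tblElt t ∧ (∀ o, octAct x o = f o) ∧ ∀ v, vecAct x v = σ v := by
  have hst : tblElt t ∈ TStab := by
    rw [MulAction.mem_stabilizer_iff, coe_smul_sys, coe_tblElt hM]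
    exact smul_eq_of_fixSys (validT_of_inM24 hM) hf
  refine ⟨⟨_, hst⟩, rfl, fun o => ?_, fun v => ?_⟩
  · rw [octAct_iff, tblElt_smul_ptSet hM, ho]
  · obtain ⟨k, hk, e⟩ := vidx_vec v.1 v.2
    rw [vecAct_iff]
    refine tblElt_smul_sys hM ?_
    rw [sx, sx, hp, e]
    exact hs k hk

/-- Linear maps as permutations of the nonzero vectors. -/
def glPerm : GL (Fin 3) (ZMod 2) →* Equiv.Perm Vec7 where
  toFun A :=
    { toFun := fun v => ⟨(A : Matrix (Fin 3) (Fin 3) (ZMod 2)) *ᵥ v.1, fun h => v.2 (by
        simpa [Matrix.mulVec_mulVec] using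
          congrArg ((↑A⁻¹ : Matrix (Fin 3) (Fin 3) (ZMod 2)) *ᵥ ·) h)⟩
      invFun := fun v => ⟨(↑A⁻¹ : Matrix (Fin 3) (Fin 3) (ZMod 2)) *ᵥ v.1, fun h => v.2 (by
        simpa [Matrix.mulVec_mulVec] using
          congrArg ((A : Matrix (Fin 3) (Fin 3) (ZMod 2)) *ᵥ ·) h)⟩
      left_inv := fun v => Subtype.ext (by simp [Matrix.mulVec_mulVec])
      right_inv := fun v => Subtype.ext (by simp [Matrix.mulVec_mulVec]) }
  map_one' := Equiv.ext fun v => Subtype.ext (by simp)
  map_mul' A B := Equiv.ext fun v => Subtype.ext (by simp [Matrix.mulVec_mulVec])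

lemma glPerm_injective : Function.Injective glPerm := by
  intro A B h
  refine Units.ext (Matrix.ext fun i j => ?_)
  have hv : (Pi.single j (1 : ZMod 2) : Fin 3 → ZMod 2) ≠ 0 := fun e => by
    simpa using congrFun e j
  have e := congrFun (congrArg Subtype.val (Equiv.congr_fun h ⟨_, hv⟩)) i
  simpa [glPerm] using e

lemma exists_linear (A : GL (Fin 3) (ZMod 2)) : ∃ x, octAct x = 1 ∧ vecAct x = glPerm A := by
  suffices h : ∀ M : Matrix (Fin 3) (Fin 3) (ZMod 2), M.det ≠ 0 →
      ∃ x, octAct x = 1 ∧ ∀ v, (vecAct x v).1 = M *ᵥ v.1 by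
    obtain ⟨x, h1, h2⟩ := h A.1 (isUnit_iff_ne_zero.1
      ((Matrix.isUnit_iff_isUnit_det _).1 A.isUnit))
    exact ⟨x, h1, Equiv.ext fun v => Subtype.ext (h2 v)⟩
  intro M hM
  refine Matrix.diagonal_transvection_induction_of_det_ne_zero
    (fun N => ∃ x, octAct x = 1 ∧ ∀ v, (vecAct x v).1 = N *ᵥ v.1) M hM ?_ ?_ ?_
  · intro D hD
    have hone : Matrix.diagonal D = 1 := by
      rw [← Matrix.diagonal_one]
      refine congrArg Matrix.diagonal (funext fun i => ?_)
      rw [Matrix.det_diagonal, Finset.prod_ne_zero_iff] at hD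
      exact (show ∀ a : ZMod 2, a ≠ 0 → a = 1 by decide) _ (hD i (Finset.mem_univ i))
    exact ⟨1, map_one _, fun v => by simp [hone]⟩
  · rintro ⟨i, j, hij, c⟩
    rcases (show ∀ a : ZMod 2, a = 0 ∨ a = 1 by decide) c with rfl | rfl
    · exact ⟨1, map_one _, fun v => by simp [Matrix.TransvectionStruct.toMatrix]⟩
    · have h := List.all_eq_true.1 (List.all_eq_true.1 trioBase_checks.2.1 i
        (List.mem_finRange i)) j (List.mem_finRange j)
      simp only [Bool.or_eq_true, beq_iff_eq, hij, false_or, List.any_eq_true, Bool.and_eq_true,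
        List.all_eq_true, List.mem_finRange, forall_const, List.mem_range] at h
      obtain ⟨t, -, ⟨⟨hT, hf⟩, ho⟩, hs⟩ := h
      have hu : IsUnit (Matrix.transvection i j (1 : ZMod 2)).det := by
        rw [Matrix.det_transvection_of_ne _ _ hij]; exact isUnit_one
      obtain ⟨x, -, hxo, hxv⟩ := exists_act (f := id)
        (σ := glPerm (Matrix.GeneralLinearGroup.mk'' _ hu)) (p := tvIdx i j) hT hf ho hs
        (fun v => vidx_transvec i j hij v.1)
      exact ⟨x, Equiv.ext hxo, fun v => congrArg Subtype.val (hxv v)⟩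
  · rintro P Q - - ⟨x, hx1, hx2⟩ ⟨y, hy1, hy2⟩
    refine ⟨x * y, by rw [map_mul, hx1, hy1, one_mul], fun v => ?_⟩
    rw [map_mul, Equiv.Perm.mul_apply, hx2, hy2, Matrix.mulVec_mulVec]

lemma exists_octad_perm (e : Equiv.Perm (Fin 3)) : ∃ x, octAct x = e ∧ vecAct x = 1 := by
  have h : Function.Surjective (octAct.comp vecAct.ker.subtype) := by
    refine surjective_of_swaps (n := 2) _ fun i => ?_
    have h := List.all_eq_true.1 trioBase_checks.2.2.1 i (List.mem_finRange i)
    simp only [Bool.and_eq_true, List.all_eq_true, List.mem_finRange, forall_const, beq_iff_eq,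
      List.mem_range] at h
    obtain ⟨⟨⟨hT, hf⟩, ho⟩, hs⟩ := h
    obtain ⟨x, -, hxo, hxv⟩ := exists_act (σ := id) (p := id) hT hf ho hs fun _ => rfl
    exact ⟨⟨x, Equiv.ext hxv⟩, Equiv.ext hxo⟩
  obtain ⟨⟨x, hx⟩, he⟩ := h e
  exact ⟨x, he, hx⟩

/-- Both actions together. -/
noncomputable def trioAct : TStab →* Equiv.Perm Vec7 × Equiv.Perm (Fin 3) := vecAct.prod octAct

/-- The two factors as permutations. -/
def factorPerm : GL (Fin 3) (ZMod 2) × Equiv.Perm (Fin 3) →* Equiv.Perm Vec7 × Equiv.Perm (Fin 3) :=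
  glPerm.prodMap (MonoidHom.id _)

lemma factorPerm_injective : Function.Injective factorPerm := fun a b h =>
  Prod.ext (glPerm_injective (congrArg Prod.fst h)) (congrArg Prod.snd h :)

lemma range_factorPerm_le : factorPerm.range ≤ trioAct.range := by
  rintro _ ⟨⟨A, e⟩, rfl⟩
  obtain ⟨x, hx1, hx2⟩ := exists_linear A
  obtain ⟨y, hy1, hy2⟩ := exists_octad_perm e
  refine ⟨x * y, Prod.ext ?_ ?_⟩
  · show vecAct (x * y) = glPerm A
    rw [map_mul, hx2, hy2, mul_one]
  · show octAct (x * y) = e
    rw [map_mul, hx1, hy1, one_mul]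

lemma card_TStab : Nat.card TStab = 64512 := by
  have ho : MulAction.orbit M24 (sysOf trioBase) = trios := by
    ext S
    refine ⟨?_, fun hS => ?_⟩
    · rintro ⟨g, rfl⟩; exact trios_smul g _ trioBase_mem
    · obtain ⟨g, hg⟩ := exists_smul_trio_pair trioBase_mem hS
      exact ⟨g, hg⟩
  have h := Subgroup.card_mul_index TStab
  rw [MulAction.index_stabilizer, ho, ncard_trios, card_M24] at h
  omega

lemma card_factors : Nat.card (GL (Fin 3) (ZMod 2) × Equiv.Perm (Fin 3)) = 1008 := by
  rw [Nat.card_prod, Matrix.card_GL_field, Nat.card_perm]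
  simp [Fin.prod_univ_three, ZMod.card, Nat.factorial]

lemma trioKer_elt {t : ℕ} (ht : t ∈ trioKer) :
    inM24 t = true ∧ tblEq (tblMul t t) idTbl = true ∧
      tblElt t ∈ trioAct.ker.map TStab.subtype := by
  have hc := List.all_eq_true.1 trioBase_checks.2.2.2.1 t ht
  simp only [Bool.and_eq_true, List.all_eq_true, List.mem_finRange, forall_const, beq_iff_eq,
    List.mem_range] at hc
  obtain ⟨⟨⟨⟨hT, hf⟩, ho⟩, hs⟩, hsq⟩ := hc
  obtain ⟨x, hx, hxo, hxv⟩ := exists_act (f := id) (σ := id) (p := id) hT hf ho hs fun _ => rfl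
  exact ⟨hT, hsq, x, Prod.ext (Equiv.ext hxv) (Equiv.ext hxo), hx⟩

lemma trioAct_counts : Nat.card trioAct.ker = 64 ∧ trioAct.range = factorPerm.range := by
  have hk : 64 ≤ Nat.card trioAct.ker := by
    have h := le_card_subgroup (trioAct.ker.map TStab.subtype)
      (tblElt_injOn (fun t ht => (trioKer_elt ht).1) trioBase_checks.2.2.2.2.1)
      (fun y hy => by
        obtain ⟨t, ht, rfl⟩ := List.mem_map.1 hy
        exact (trioKer_elt ht).2.2)
    rwa [List.length_map, trioBase_checks.2.2.2.2.2,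
      Subgroup.card_map_of_injective Subtype.val_injective] at h
  have hf : Nat.card factorPerm.range = 1008 :=
    (Nat.card_congr (MonoidHom.ofInjective factorPerm_injective).toEquiv).symm.trans card_factors
  have hr := Subgroup.card_le_of_le range_factorPerm_le
  have hprod := Subgroup.card_mul_index trioAct.ker
  rw [Subgroup.index_ker, card_TStab] at hprod
  rw [hf] at hr
  have hker : Nat.card trioAct.ker = 64 := by nlinarith
  refine ⟨hker, (Subgroup.eq_of_le_of_card_ge range_factorPerm_le ?_).symm⟩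
  rw [hker] at hprod
  omega

lemma sq_of_mem_ker {x : TStab} (hx : x ∈ trioAct.ker) : x * x = 1 := by
  have hm := mem_of_card_eq_length (trioAct.ker.map TStab.subtype)
    (tblElt_injOn (fun t ht => (trioKer_elt ht).1) trioBase_checks.2.2.2.2.1)
    (fun y hy => by
      obtain ⟨t, ht, rfl⟩ := List.mem_map.1 hy
      exact (trioKer_elt ht).2.2)
    (by rw [Subgroup.card_map_of_injective Subtype.val_injective, trioAct_counts.1,
      List.length_map, trioBase_checks.2.2.2.2.2])
    (Subgroup.mem_map_of_mem _ hx)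
  obtain ⟨t, ht, e⟩ := List.mem_map.1 hm
  obtain ⟨hT, hsq, -⟩ := trioKer_elt ht
  refine Subtype.ext (Subtype.ext ?_)
  have hs := tblMul_spec (validT_of_inM24 hT) (validT_of_inM24 hT)
  show ((TStab.subtype x * TStab.subtype x : M24) : Equiv.Perm GolayPt) = 1
  rw [← e, tblElt_mul hT hT, (tblEq_iff hs.1 idTbl_spec.1).1 hsq, idTbl_spec.2]

theorem blockHom_trio_surjective : Function.Surjective (blockHom (sysOf trioBase)) := by
  intro e
  obtain ⟨x, hx, -⟩ := exists_octad_perm (Equiv.permCongrHom lab3.symm e)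
  exact ⟨x, (Equiv.permCongrHom lab3.symm).injective hx⟩

/-- The quotient by the kernel of both actions. -/
noncomputable def trioQuot : TStab ⧸ trioAct.ker ≃* GL (Fin 3) (ZMod 2) × Equiv.Perm (Fin 3) :=
  (QuotientGroup.quotientKerEquivRange trioAct).trans
    ((MulEquiv.subgroupCongr trioAct_counts.2).trans
      (MonoidHom.ofInjective factorPerm_injective).symm)

end Cfsg.Agent.H95
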