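/-
Non-degenerate unitary forms on F^ι as functions, over a finite field.
-/
import Cfsg.Agent.H95.Fan

set_option autoImplicit false

namespace Cfsg.Agent.H95

open scoped MatrixGroups Matrix
open Matrix

variable {ι : Type} [Fintype ι] [DecidableEq ι] {F : Type*} [Field F]
  {σ : F ≃+* F} {f : (ι → F) → (ι → F) → F} (hf : Geo.IsUnitaryForm σ f)
include hf

set_option linter.unusedSectionVars false

lemma u_add_left (x y v : ι → F) : f (x + y) v = f x v + f y v := hf.add_left x y v
lemma u_smul_left (c : F) (x v : ι → F) : f (c • x) v = c * f x v := hf.smul_left c x v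
lemma u_conj (x y : ι → F) : σ (f x y) = f y x := (hf.herm y x).symm
lemma u_add_right (v x y : ι → F) : f v (x + y) = f v x + f v y := by
  rw [← u_conj hf, u_add_left hf, map_add, u_conj hf, u_conj hf]
lemma u_smul_right (c : F) (v x : ι → F) : f v (c • x) = σ c * f v x := by
  rw [← u_conj hf, u_smul_left hf, map_mul, u_conj hf]
lemma u_zero_left (v : ι → F) : f 0 v = 0 := by simpa using u_smul_left hf 0 0 v
lemma u_zero_right (v : ι → F) : f v 0 = 0 := by simpa using u_smul_right hf 0 v 0
lemma u_neg_left (x v : ι → F) : f (-x) v = -f x v := by simpa using u_smul_left hf (-1) x v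
lemma u_sub_left (x y v : ι → F) : f (x - y) v = f x v - f y v := by
  rw [sub_eq_add_neg, u_add_left hf, u_neg_left hf, ← sub_eq_add_neg]
lemma u_sub_right (v x y : ι → F) : f v (x - y) = f v x - f v y := by
  rw [← u_conj hf, u_sub_left hf, map_sub, u_conj hf, u_conj hf]
lemma u_symm_zero {x y : ι → F} (h : f x y = 0) : f y x = 0 := by
  rw [← u_conj hf, h, map_zero]
lemma u_inv (c : F) : σ (σ c) = c := hf.involutive c

lemma u_dot (a x : ι → F) : (fun j => f (Pi.single j 1) a) ⬝ᵥ x = f x a := by
  let L : (ι → F) →ₗ[F] F :=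
    { toFun := fun y => f y a
      map_add' := fun y z => u_add_left hf y z a
      map_smul' := fun c y => u_smul_left hf c y a }
  calc (fun j => f (Pi.single j 1) a) ⬝ᵥ x = ∑ j, x j • L (Pi.single j 1) := by
        simp [dotProduct, L, mul_comm]
    _ = L (∑ j, x j • Pi.single j 1) := by rw [map_sum]; simp only [map_smul]
    _ = L x := by rw [← pi_eq_sum_univ']
    _ = f x a := rfl

lemma exists_skew_ne_zero : ∃ d : F, d ≠ 0 ∧ σ d = -d := by
  obtain ⟨a, ha⟩ : ∃ a, σ a ≠ a := by
    by_contra h
    push Not at h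
    exact hf.ne_refl (RingEquiv.ext h)
  exact ⟨a - σ a, sub_ne_zero.2 (Ne.symm ha), by rw [map_sub, u_inv hf, neg_sub]⟩

lemma exists_trace_eq {s : F} (hs : σ s = s) : ∃ t : F, t + σ t = s := by
  obtain ⟨t, ht⟩ : ∃ t : F, t + σ t ≠ 0 := by
    by_contra h
    push Not at h
    apply hf.ne_refl
    refine RingEquiv.ext fun a => ?_
    have h1 : (1 : F) + 1 = 0 := by simpa using h 1
    show σ a = a
    linear_combination h a - a * h1
  refine ⟨s * t / (t + σ t), ?_⟩
  rw [map_div₀, map_mul, map_add, u_inv hf, hs, add_comm (σ t) t, ← add_div, ← mul_add,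
    mul_div_assoc, div_self ht, mul_one]

/-- `F` is spanned over the fixed field by two elements not proportional over it. -/
lemma exists_fixed_combination {v w : F} (h : v * σ w - σ v * w ≠ 0) (c : F) :
    ∃ p r : F, σ p = p ∧ σ r = r ∧ c = p * v + r * w := by
  refine ⟨(c * σ w - σ c * w) / (v * σ w - σ v * w), (v * σ c - σ v * c) / (v * σ w - σ v * w),
    ?_, ?_, ?_⟩
  · rw [map_div₀]
    simp only [map_sub, map_mul, u_inv hf]
    rw [← neg_sub (c * σ w), ← neg_sub (v * σ w), neg_div_neg_eq]
  · rw [map_div₀]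
    simp only [map_sub, map_mul, u_inv hf]
    rw [← neg_sub (v * σ c), ← neg_sub (v * σ w), neg_div_neg_eq]
  · rw [div_mul_eq_mul_div, div_mul_eq_mul_div, ← add_div, eq_div_iff h]
    ring

lemma exists_u_perp_one {u x : ι → F} (hx : ∀ t : F, x ≠ t • u) : ∃ y, f y u = 0 ∧ f y x = 1 := by
  suffices ∃ y, f y u = 0 ∧ f y x ≠ 0 by
    obtain ⟨y, h1, h2⟩ := this
    exact ⟨(f y x)⁻¹ • y, by rw [u_smul_left hf, h1, mul_zero],
      by rw [u_smul_left hf]; exact inv_mul_cancel₀ h2⟩
  have hx0 : x ≠ 0 := by simpa using hx 0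
  by_cases hu : u = 0
  · obtain ⟨⟨y, hy⟩, -⟩ := hf.nondegenerate x hx0
    exact ⟨y, by rw [hu]; exact u_zero_right hf y, hy⟩
  obtain ⟨⟨w, hw⟩, -⟩ := hf.nondegenerate u hu
  by_contra hcon
  push Not at hcon
  apply hx (σ (f w x / f w u))
  rw [← sub_eq_zero]
  by_contra hne
  obtain ⟨⟨z, hz⟩, -⟩ := hf.nondegenerate _ hne
  apply hz
  have h1 : f (z - (f z u / f w u) • w) u = 0 := by
    rw [u_sub_left hf, u_smul_left hf, div_mul_cancel₀ _ hw, sub_self]
  have h2 := hcon _ h1
  rw [u_sub_left hf, u_smul_left hf] at h2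
  rw [u_sub_right hf, u_smul_right hf, u_inv hf]
  rw [← h2]
  ring

lemma exists_aniso_perp3 (hn : 7 ≤ Fintype.card ι) (a b c : ι → F) :
    ∃ z, f z a = 0 ∧ f z b = 0 ∧ f z c = 0 ∧ f z z ≠ 0 := by
  let L : (ι → F) →ₗ[F] (Fin 3 → F) :=
    { toFun := fun y => ![f y a, f y b, f y c]
      map_add' := fun y z => by ext i; fin_cases i <;> simp [u_add_left hf]
      map_smul' := fun t y => by ext i; fin_cases i <;> simp [u_smul_left hf] }
  by_contra hcon
  push Not at hcon
  have hK : ∀ y ∈ LinearMap.ker L, f y y = 0 := by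
    intro y hy
    rw [LinearMap.mem_ker] at hy
    exact hcon y (congrFun hy 0) (congrFun hy 1) (congrFun hy 2)
  have hiso : ∀ x ∈ LinearMap.ker L, ∀ y ∈ LinearMap.ker L, f x y = 0 := by
    intro x hx y hy
    by_contra hne
    obtain ⟨t, ht⟩ := exists_trace_eq hf (s := 1) (map_one σ)
    have h := hK (((t / f x y) • x) + y) (Submodule.add_mem _ (Submodule.smul_mem _ _ hx) hy)
    rw [u_add_left hf, u_add_right hf, u_add_right hf, u_smul_left hf, u_smul_left hf,
      u_smul_right hf, u_smul_right hf, hK x hx, hK y hy, map_div₀, ← u_conj hf x y,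
      div_mul_cancel₀ _ hne, div_mul_cancel₀ _ (fun h => hne (σ.injective (by rw [h, map_zero]))),
      mul_zero, mul_zero, zero_add, add_zero, ht] at h
    exact one_ne_zero h
  set K := LinearMap.ker L
  let bK := Module.finBasis F K
  let R : (ι → F) →ₗ[F] (Fin (Module.finrank F K) → F) :=
    { toFun := fun z j => f z (bK j)
      map_add' := fun z w => funext fun j => u_add_left hf _ _ _
      map_smul' := fun t z => funext fun j => u_smul_left hf _ _ _ }
  have hker : K ≤ LinearMap.ker R := fun x hx => LinearMap.mem_ker.2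
    (funext fun j => hiso x hx _ (bK j).2)
  have hrange : LinearMap.range R = ⊤ := by
    by_contra hne
    obtain ⟨ψ, hψ0, hψ⟩ := Submodule.exists_le_ker_of_lt_top _ (lt_top_iff_ne_top.2 hne)
    set w : ι → F := ((∑ j, σ (ψ (Pi.single j 1)) • bK j : K) : ι → F) with hw
    have hw' : ∀ z, f z w = ψ (R z) := by
      intro z
      let P : (ι → F) →+ F :=
        { toFun := fun y => f z y, map_zero' := u_zero_right hf z
          map_add' := fun a b => u_add_right hf z a b }
      rw [show f z w = P w from rfl, hw]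
      simp only [Submodule.coe_sum, map_sum, SetLike.val_smul]
      conv_rhs => rw [pi_eq_sum_univ' (R z), map_sum]
      refine Finset.sum_congr rfl fun j _ => ?_
      show f z _ = _
      rw [u_smul_right hf, u_inv hf, map_smul, smul_eq_mul, mul_comm]
      rfl
    have hw0 : w = 0 := by
      by_contra h
      obtain ⟨⟨z, hz⟩, -⟩ := hf.nondegenerate w h
      exact hz (by rw [hw']; exact hψ (LinearMap.mem_range_self R z))
    apply hψ0
    refine LinearMap.ext fun v => ?_
    rw [pi_eq_sum_univ' v, map_sum, LinearMap.zero_apply]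
    refine Finset.sum_eq_zero fun j _ => ?_
    have h0 : ∀ j, σ (ψ (Pi.single j 1)) = 0 :=
      Fintype.linearIndependent_iff.1 bK.linearIndependent _ (Subtype.ext (hw ▸ hw0))
    rw [map_smul, σ.injective ((h0 j).trans (map_zero σ).symm), smul_zero]
  have h1 := LinearMap.finrank_range_add_finrank_ker R
  rw [hrange, finrank_top, Module.finrank_fin_fun, Module.finrank_fintype_fun_eq_card] at h1
  have h2 := LinearMap.finrank_range_add_finrank_ker L
  have h3 := Submodule.finrank_le (LinearMap.range L)
  rw [Module.finrank_fin_fun] at h3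
  rw [Module.finrank_fintype_fun_eq_card] at h2
  have h4 := Submodule.finrank_mono hker
  have h5 : Module.finrank F K = Module.finrank F (LinearMap.ker L) := rfl
  omega

/-- A non-zero isotropic vector orthogonal to `u` and outside its line. -/
lemma exists_isotropic [Fintype F] (hn : 7 ≤ Fintype.card ι) (u : ι → F) :
    ∃ e, f e e = 0 ∧ f e u = 0 ∧ ∀ t : F, e ≠ t • u := by
  classical
  obtain ⟨x, hxu, -, -, hx⟩ := exists_aniso_perp3 hf hn u u u
  obtain ⟨y, hyu, hyx, -, hy⟩ := exists_aniso_perp3 hf hn u x x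
  obtain ⟨z, hzu, hzx, hzy, hz⟩ := exists_aniso_perp3 hf hn u x y
  have hfix : ∀ v, σ (f v v) = f v v := fun v => u_conj hf v v
  let K : Subfield F :=
    { carrier := {c | σ c = c}
      mul_mem' := fun {a b} ha hb => by
        show σ (a * b) = a * b; rw [map_mul, ha, hb]
      one_mem' := map_one σ
      add_mem' := fun {a b} ha hb => by
        show σ (a + b) = a + b; rw [map_add, ha, hb]
      zero_mem' := map_zero σ
      neg_mem' := fun {a} ha => by show σ (-a) = -a; rw [map_neg, ha]
      inv_mem' := fun a ha => by show σ a⁻¹ = a⁻¹; rw [map_inv₀, ha] }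
  obtain ⟨p, r, hpr⟩ : ∃ p r : K, f x x * (p : F) ^ 2 + f y y * (r : F) ^ 2 + f z z = 0 := by
    by_cases hK : ringChar K = 2
    · obtain ⟨p, hp⟩ := FiniteField.isSquare_of_char_two hK
        (⟨-(f z z) / f x x, by
          show σ (-(f z z) / f x x) = _; rw [map_div₀, map_neg, hfix, hfix]⟩ : K)
      refine ⟨p, 0, ?_⟩
      have h := congrArg Subtype.val hp
      simp only [Subfield.coe_mul] at h
      rw [sq (p : F), ← h]
      field_simp
      simp
    · obtain ⟨p, r, h⟩ := FiniteField.exists_root_sum_quadratic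
        (f := Polynomial.C (⟨f x x, hfix x⟩ : K) * Polynomial.X ^ 2 +
          Polynomial.C (⟨f z z, hfix z⟩ : K))
        (g := Polynomial.C (⟨f y y, hfix y⟩ : K) * Polynomial.X ^ 2)
        (by
          rw [Polynomial.degree_add_eq_left_of_degree_lt]
          · rw [Polynomial.degree_C_mul_X_pow]
            · rfl
            · exact fun e => hx (congrArg Subtype.val e)
          · rw [Polynomial.degree_C_mul_X_pow _ (fun e => hx (congrArg Subtype.val e))]
            exact lt_of_le_of_lt Polynomial.degree_C_le (by decide))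
        (by
          rw [Polynomial.degree_C_mul_X_pow]
          · rfl
          · exact fun e => hy (congrArg Subtype.val e))
        (Nat.odd_iff.1 (Nat.odd_iff.2 (FiniteField.odd_card_of_char_ne_two hK)))
      refine ⟨p, r, ?_⟩
      have h' := congrArg Subtype.val h
      simp at h'
      linear_combination h'
  set e := (p : F) • x + (r : F) • y + z with he
  refine ⟨e, ?_, ?_, ?_⟩
  · simp only [he, u_add_left hf, u_add_right hf, u_smul_left hf, u_smul_right hf, hyx, hzx, hzy,
      u_symm_zero hf hyx, u_symm_zero hf hzx, u_symm_zero hf hzy, show σ (p : F) = p from p.2,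
      show σ (r : F) = r from r.2]
    linear_combination hpr
  · rw [he, u_add_left hf, u_add_left hf, u_smul_left hf, u_smul_left hf, hxu, hyu, hzu]
    ring
  · intro t ht
    have h1 : f z e = 0 := by rw [ht, u_smul_right hf, hzu, mul_zero]
    rw [he, u_add_right hf, u_add_right hf, u_smul_right hf, u_smul_right hf, hzx, hzy, mul_zero,
      mul_zero, zero_add, zero_add] at h1
    exact hz h1

/-- An isotropic partner. -/
lemma exists_partner {u e : ι → F} (he : f e e = 0) (heu : f e u = 0)
    (hne : ∀ t : F, e ≠ t • u) : ∃ d, f d d = 0 ∧ f d u = 0 ∧ f e d = 1 := by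
  obtain ⟨y, hy1, hy2⟩ := exists_u_perp_one hf hne
  obtain ⟨t, ht⟩ := exists_trace_eq hf (s := -f y y) (by rw [map_neg, u_conj hf])
  have hey : f e y = 1 := by rw [← u_conj hf, hy2, map_one]
  refine ⟨y + t • e, ?_, ?_, ?_⟩
  · rw [u_add_left hf, u_add_right hf, u_add_right hf, u_smul_left hf, u_smul_left hf,
      u_smul_right hf, u_smul_right hf, hy2, hey, he]
    linear_combination ht
  · rw [u_add_left hf, u_smul_left hf, hy1, heu]; ring
  · rw [u_add_right hf, u_smul_right hf, hey, he]; ring

/-- Isotropic vectors orthogonal to `u` and non-orthogonal to a given one span the orthogonal. -/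
lemma mem_of_perp {D : Submodule F (ι → F)} {u e : ι → F} (he : f e e = 0) (heu : f e u = 0)
    (hne : ∀ t : F, e ≠ t • u)
    (hD : ∀ d, f d d = 0 → f d u = 0 → f e d ≠ 0 → d ∈ D) {y : ι → F} (hy : f y u = 0) : y ∈ D := by
  obtain ⟨d0, hd, hdu, hed⟩ := exists_partner hf he heu hne
  have hde : f d0 e = 1 := by rw [← u_conj hf, hed, map_one]
  have hd0 : d0 ∈ D := hD d0 hd hdu (by rw [hed]; exact one_ne_zero)
  obtain ⟨δ, hδ0, hδ⟩ := exists_skew_ne_zero hf
  have heD : e ∈ D := by
    have h := hD (d0 + δ • e)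
      (by rw [u_add_left hf, u_add_right hf, u_add_right hf, u_smul_left hf, u_smul_left hf,
        u_smul_right hf, u_smul_right hf, hd, he, hed, hde, hδ]; ring)
      (by rw [u_add_left hf, u_smul_left hf, hdu, heu]; ring)
      (by rw [u_add_right hf, u_smul_right hf, hed, he]; simp)
    have h2 := D.smul_mem δ⁻¹ (D.sub_mem h hd0)
    rwa [add_sub_cancel_left, smul_smul, inv_mul_cancel₀ hδ0, one_smul] at h2
  set y0 := y - (f y d0 • e + f y e • d0) with hy0
  have a1 : f y0 e = 0 := by
    rw [hy0, u_sub_left hf, u_add_left hf, u_smul_left hf, u_smul_left hf, he, hde]; ring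
  have a2 : f y0 d0 = 0 := by
    rw [hy0, u_sub_left hf, u_add_left hf, u_smul_left hf, u_smul_left hf, hd, hed]; ring
  obtain ⟨t, ht⟩ := exists_trace_eq hf (s := -f y0 y0) (by rw [map_neg, u_conj hf])
  have h := hD (d0 + y0 + t • e)
    (by
      simp only [u_add_left hf, u_add_right hf, u_smul_left hf, u_smul_right hf, hd, he, hed, hde,
        a1, a2, u_symm_zero hf a1, u_symm_zero hf a2]
      linear_combination ht)
    (by rw [u_add_left hf, u_add_left hf, u_smul_left hf, hdu, heu, hy0, u_sub_left hf,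
      u_add_left hf, u_smul_left hf, u_smul_left hf, hy, hdu, heu]; ring)
    (by rw [u_add_right hf, u_add_right hf, u_smul_right hf, hed, u_symm_zero hf a1, he]; simp)
  have hy0D : y0 ∈ D := by
    have := D.sub_mem (D.sub_mem h hd0) (D.smul_mem t heD)
    have e' : d0 + y0 + t • e - d0 - t • e = y0 := by abel
    rwa [e'] at this
  have := D.add_mem hy0D (D.add_mem (D.smul_mem (f y d0) heD) (D.smul_mem (f y e) hd0))
  rwa [hy0, sub_add_cancel] at this

end Cfsg.Agent.H95
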