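import Cfsg.Agent.H95.J3InvDefs
import Cfsg.Agent.H95.J3InvData

/-!
Kernel checks for an involution of 3·J₃, a Sylow 2-subgroup, and the centraliser 3 × 2^{1+4}:A5.
-/

set_option autoImplicit false
set_option Elab.async false

namespace Cfsg.Agent.H95.J3Inv

open Cfsg.Agent.Compute
open Cfsg.Agent.H44.J3

noncomputable def sylC : LCert := ⟨sylGens, sylElts, sylTree, sylTab⟩
noncomputable def qC : LCert := ⟨qGens, qElts, qTree, qTab⟩
noncomputable def altC : LCert := ⟨altGens, altElts, altTree, altTab⟩

theorem syl_mem : sylC.memOK = true := by decide +kernel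
theorem syl_tree : sylC.treeChk = true := by decide +kernel
theorem syl_close : sylC.closeChk = true := by decide +kernel
theorem syl_dist : sylC.distChk = true := by decide +kernel
theorem syl_card : sylC.elts.length = 128 := by decide +kernel

theorem q_mem : qC.memOK = true := by decide +kernel
theorem q_tree : qC.treeChk = true := by decide +kernel
theorem q_close : qC.closeChk = true := by decide +kernel
theorem q_dist : qC.distChk = true := by decide +kernel
theorem q_scal : qC.scalChk = true := by decide +kernel
theorem q_card : qC.elts.length = 32 := by decide +kernel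

theorem alt_mem : altC.memOK = true := by decide +kernel
theorem alt_tree : altC.treeChk = true := by decide +kernel
theorem alt_close : altC.closeChk = true := by decide +kernel
theorem alt_dist : altC.distChk = true := by decide +kernel
theorem alt_scal : altC.scalChk = true := by decide +kernel
theorem alt_card : altC.elts.length = 60 := by decide +kernel

theorem t_ok : (cert.inT tCert && Nat.beq tCert.1.1 tCode && Nat.beq (mulM tCode tCode) oneM &&
    !Nat.beq tCode oneM && Nat.beq (qC.elt qZeta) tCode &&
    Nat.ble (Nat.add qZeta 1) qC.elts.length) = true := by decide +kernel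

/-- Every involution of the Sylow group is conjugate to the involution `tCode`. -/
noncomputable def witChk : Bool :=
  allN sylC.elts.length (fun i =>
    cond (Nat.beq i 0 || !Nat.beq (mulM (sylC.elt i) (sylC.elt i)) oneM) true
      (Option.rec false (fun w => cert.inT w.2 &&
          Nat.beq (mulM (sylC.elt i) w.2.1.1) (mulM w.2.1.1 tCode))
        (lfind sylWit (fun w => Nat.beq w.1 i))))

theorem wit_ok : witChk = true := by decide +kernel

/-- The generators of the centraliser commute with the involution. -/
theorem comm_ok : lall (qGens ++ altGens)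
    (fun p => Nat.beq (mulM p.1.1 tCode) (mulM tCode p.1.1)) = true := by decide +kernel

noncomputable def qM (i j : ℕ) : ℕ := nth 0 (nth [] qMul i) j

theorem qMul_ok : allN 32 (fun i => allN 32 (fun j => Nat.ble (Nat.add (qM i j) 1) 32 &&
    Nat.beq (mulM (qC.elt i) (qC.elt j)) (qC.elt (qM i j)))) = true := by decide +kernel

/-- Q is extraspecial and has no elementary abelian subgroup of order eight. -/
theorem qShape_ok : allN 32 (fun i =>
    (Nat.beq (qM i i) 0 || Nat.beq (qM i i) qZeta) &&
    Nat.beq (qM i qZeta) (qM qZeta i) &&
    (Nat.beq i 0 || Nat.beq i qZeta || !allN 32 (fun j => Nat.beq (qM i j) (qM j i))) &&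
    allN 32 (fun j =>
      (Nat.beq (qM i j) (qM j i) || Nat.beq (qM i j) (qM qZeta (qM j i))) &&
      (Nat.beq i 0 || Nat.beq i qZeta || !Nat.beq (qM i i) 0 || !Nat.beq (qM j j) 0 ||
        !Nat.beq (qM i j) (qM j i) ||
        Nat.beq j 0 || Nat.beq j qZeta || Nat.beq j i || Nat.beq j (qM i qZeta)))) = true := by
  decide +kernel

noncomputable def qCj (g i : ℕ) : ℕ := nth 0 (nth [] qConj g) i

/-- The complement normalises Q. -/
theorem qConj_ok : allN altC.gens.length (fun g => allN 32 (fun i =>
    Nat.ble (Nat.add (qCj g i) 1) 32 &&
      Nat.beq (mulM (altC.gen g) (mulM (qC.elt i) (altC.gInv g))) (qC.elt (qCj g i)))) = true := by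
  decide +kernel

/-- Q meets the product of the complement with the scalars trivially. -/
theorem disj_ok : allN 60 (fun a =>
    let m := altC.elt a
    let m1 := mulM m scalM
    let m2 := mulM m1 scalM
    allN 32 (fun i => Nat.beq i 0 ||
      (!Nat.beq (qC.elt i) m && !Nat.beq (qC.elt i) m1 && !Nat.beq (qC.elt i) m2))) = true := by
  decide +kernel

/-- The permutation image of an element of the complement. -/
noncomputable def imgA (a x : ℕ) : ℕ := nth 0 (nth [] altImg a) x

noncomputable def imgG (g x : ℕ) : ℕ := nth 0 (nth [] altGenImg g) x

theorem altImg_ok : (allN 60 (fun a => allN 5 (fun x => Nat.ble (Nat.add (imgA a x) 1) 5)) &&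
    allN 2 (fun g => allN 5 (fun x => Nat.ble (Nat.add (imgG g x) 1) 5)) &&
    allN 5 (fun x => Nat.beq (imgA 0 x) x) &&
    allN 2 (fun g => allN 60 (fun a => allN 5 (fun x =>
      Nat.beq (imgA (altC.act g a) x) (imgG g (imgA a x)))))) = true := by decide +kernel

theorem altImg_inj : allN 60 (fun a => allN a (fun b =>
    !allN 5 (fun x => Nat.beq (imgA a x) (imgA b x)))) = true := by decide +kernel

/-- The fixed lines of the involution in the orbit are listed. -/
theorem fix_ok : allB oCert.n (fun i =>
    !Nat.beq (appM tCode (oCert.code i)) (oCert.code i) ||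
      Option.isSome (lfind fixList (fun j => Nat.beq j i))) = true := by decide +kernel

theorem fix_len : fixList.length = 136 := by decide +kernel

/-- Distinct involutions of the point stabiliser. -/
theorem invH_ok : lall invHList (fun h => validM h && sift mOps cert.chain h &&
    Nat.beq (mulM h h) oneM && !Nat.beq h oneM) = true := by decide +kernel

theorem invH_sorted : allN 152 (fun i =>
    Nat.ble (Nat.add (nth 0 invHList i) 1) (nth 0 invHList (Nat.add i 1))) = true := by
  decide +kernel

theorem invH_len : invHList.length = 153 := by decide +kernel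

end Cfsg.Agent.H95.J3Inv
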