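import Cfsg.Agent.H95.J3InvList
import Cfsg.Agent.H95.J3InvCheck

/-!
J₃ has one class of involutions and an involution centraliser of order at most 1920.
-/

set_option autoImplicit false

namespace Cfsg.Agent.H95.J3Inv

open Cfsg.Agent.Compute
open Cfsg.Agent.H44.J3
open Cfsg.Spor (F9)

attribute [local irreducible] validM invM mulM appM oneM wmul sift checkChain normOK scalM denM

theorem syl_lok : LOK sylC := ⟨syl_mem, syl_tree, syl_close, syl_dist⟩
theorem q_lok : LOK qC := ⟨q_mem, q_tree, q_close, q_dist⟩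
theorem alt_lok : LOK altC := ⟨alt_mem, alt_tree, alt_close, alt_dist⟩

theorem fact_two : (150698880 : ℕ).factorization 2 = 7 := by
  have h2 : Fact (Nat.Prime 2) := ⟨Nat.prime_two⟩
  rw [Nat.factorization_def _ Nat.prime_two, show (150698880 : ℕ) = 2 ^ 7 * 1177335 by norm_num,
    padicValNat.mul (by norm_num) (by norm_num), padicValNat.prime_pow,
    padicValNat.eq_zero_of_not_dvd (by norm_num)]

section
variable {F : Type*} [Field F] [Fintype F] {ω : F} (hf : Four F ω)
include hf

theorem t_spec : (snd hf).ok tCode ∧ (snd hf).den tCode ∈ Cfsg.Spor.threeJ3 F ω ∧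
    (snd hf).den tCode * (snd hf).den tCode = 1 ∧ (snd hf).den tCode ≠ 1 ∧
    qZeta < qC.elts.length ∧ el hf qC qZeta = (snd hf).den tCode := by
  have h := t_ok
  simp only [Bool.and_eq_true, Nat.beq_eq, Bool.not_eq_true', Nat.ble_eq] at h
  obtain ⟨⟨⟨⟨⟨hc, he⟩, hsq⟩, hne⟩, hz⟩, hlt⟩ := h
  obtain ⟨o, hm⟩ := mem_of_inT hf hc
  rw [he] at o hm
  refine ⟨o, hm, ?_, fun e => ?_, hlt, by rw [el, hz]⟩
  · rw [← (snd hf).den_mul o o, show mOps.mul tCode tCode = mOps.one from hsq, (snd hf).den_one]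
  · have := ((snd hf).eqv_iff o (snd hf).ok_one).2 (e.trans (snd hf).den_one.symm)
    rw [show Nat.beq tCode oneM = mOps.eqv tCode mOps.one from rfl, this] at hne
    exact absurd hne (by simp)

/-- The involution of 3·J₃. -/
noncomputable def tG : Cfsg.Spor.threeJ3 F ω := ⟨(snd hf).den tCode, (t_spec hf).2.1⟩

theorem tG_sq : tG hf * tG hf = 1 := Subtype.ext (t_spec hf).2.2.1

theorem tG_ne : tG hf ≠ 1 := fun e => (t_spec hf).2.2.2.1 (congrArg Subtype.val e)

theorem finite_threeJ3 : Finite (Cfsg.Spor.threeJ3 F ω) :=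
  Nat.finite_of_card_ne_zero (by rw [card_threeJ3 hf]; norm_num)

/-- All involutions of 3·J₃ are conjugate. -/
theorem isConj_tG {x : Cfsg.Spor.threeJ3 F ω} (hx : orderOf x = 2) : IsConj x (tG hf) := by
  have := finite_threeJ3 hf
  have : Fact (Nat.Prime 2) := ⟨Nat.prime_two⟩
  let P : Sylow 2 (Cfsg.Spor.threeJ3 F ω) := Sylow.ofCard (sub hf syl_lok) (by
    rw [card_sub hf syl_lok, syl_card, card_threeJ3 hf, fact_two]; norm_num)
  have hp : IsPGroup 2 (Subgroup.zpowers x) :=
    IsPGroup.of_card (n := 1) (by rw [Nat.card_zpowers, hx, pow_one])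
  obtain ⟨R, hR⟩ := hp.exists_le_sylow
  obtain ⟨a, ha⟩ := MulAction.exists_smul_eq (Cfsg.Spor.threeJ3 F ω) R P
  have hy : a * x * a⁻¹ ∈ sub hf syl_lok := by
    show a * x * a⁻¹ ∈ (P : Subgroup (Cfsg.Spor.threeJ3 F ω))
    rw [← ha]
    exact ⟨x, hR (Subgroup.mem_zpowers x), rfl⟩
  obtain ⟨i, hi, ei⟩ := (mem_grp hf syl_lok).1 ((mem_sub hf syl_lok).1 hy)
  have hy2 : (a * x * a⁻¹) * (a * x * a⁻¹) = 1 := by
    have hxx : x * x = 1 := by
      have := pow_orderOf_eq_one x
      rwa [hx, pow_two] at this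
    calc (a * x * a⁻¹) * (a * x * a⁻¹) = a * (x * x) * a⁻¹ := by group
      _ = 1 := by rw [hxx]; group
  have hy2' : el hf sylC i * el hf sylC i = 1 := by
    rw [← ei]
    exact congrArg Subtype.val hy2
  have oi := (elt_spec hf syl_lok hi).1
  have hi0 : i ≠ 0 := by
    rintro rfl
    rw [el_zero hf syl_lok] at ei
    have e1 : a * x * a⁻¹ = 1 := Subtype.ext ei
    rw [mul_inv_eq_one, mul_eq_left] at e1
    rw [e1, orderOf_one] at hx
    norm_num at hx
  have hsq : Nat.beq (mulM (sylC.elt i) (sylC.elt i)) oneM = true := by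
    refine ((snd hf).eqv_iff ((snd hf).ok_mul oi oi) (snd hf).ok_one).2 ?_
    rw [(snd hf).den_mul oi oi, (snd hf).den_one]
    exact hy2'
  have h := (allN_iff _ _).1 (show allN sylC.elts.length _ = true from wit_ok) i hi
  rw [hsq, show Nat.beq i 0 = false by rw [Bool.eq_false_iff, Ne, Nat.beq_eq]; exact hi0] at h
  simp only [Bool.not_true, Bool.or_self, cond_false] at h
  cases hw : lfind sylWit (fun w => Nat.beq w.1 i) with
  | none => rw [hw] at h; exact absurd h (by simp)
  | some w =>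
    rw [hw] at h
    simp only [Bool.and_eq_true, Nat.beq_eq] at h
    obtain ⟨ow, mw⟩ := mem_of_inT hf h.1
    have e : el hf sylC i * (snd hf).den w.2.1.1 = (snd hf).den w.2.1.1 * (snd hf).den tCode := by
      rw [el, ← (snd hf).den_mul oi ow, ← (snd hf).den_mul ow (t_spec hf).1]
      exact congrArg _ h.2
    have e' : IsConj (a * x * a⁻¹) (tG hf) := by
      refine isConj_iff.2 ⟨(⟨_, mw⟩ : Cfsg.Spor.threeJ3 F ω)⁻¹, ?_⟩
      rw [inv_inv, mul_assoc, inv_mul_eq_iff_eq_mul]
      apply Subtype.ext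
      show (((a * x * a⁻¹ : Cfsg.Spor.threeJ3 F ω)) : GL F9 F) * (snd hf).den w.2.1.1 = _
      rw [ei]
      exact e
    exact (isConj_iff.2 ⟨a, rfl⟩ : IsConj x (a * x * a⁻¹)).trans e'

theorem hGrp_le : hGrp hf cert ≤ Cfsg.Spor.threeJ3 F ω := by
  intro g hg
  rw [threeJ3_eq hf]
  exact Subgroup.subset_closure (Or.inl hg)

theorem invH_spec {k : ℕ} (hk : k < invHList.length) :
    ((snd hf).ok (nth 0 invHList k) ∧ (snd hf).den (nth 0 invHList k) ∈ hGrp hf cert) ∧
      ((snd hf).den (nth 0 invHList k) * (snd hf).den (nth 0 invHList k) = 1 ∧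
        (snd hf).den (nth 0 invHList k) ≠ 1) := by
  have h := (lall_iff _ _).1 invH_ok _ (nth_mem 0 invHList k hk)
  simp only [Bool.and_eq_true, Nat.beq_eq, Bool.not_eq_true'] at h
  obtain ⟨⟨⟨hv, hs⟩, h2⟩, hne⟩ := h
  have o : (snd hf).ok (nth 0 invHList k) := ⟨hv, isUnit_of_sift hf cert_ok hv hs⟩
  refine ⟨⟨o, sift_mem hf cert_ok o hs⟩, ?_, fun e => ?_⟩
  · rw [← (snd hf).den_mul o o, show mOps.mul _ _ = mOps.one from h2, (snd hf).den_one]
  · have := ((snd hf).eqv_iff o (snd hf).ok_one).2 (e.trans (snd hf).den_one.symm)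
    rw [show Nat.beq (nth 0 invHList k) oneM = mOps.eqv (nth 0 invHList k) mOps.one from rfl,
      this] at hne
    exact absurd hne (by simp)

omit [Field F] [Fintype F] hf in
theorem invH_lt : ∀ {i j : ℕ}, i < j → j < 153 → nth 0 invHList i < nth 0 invHList j := by
  intro i j hij hj
  induction j with
  | zero => omega
  | succ m ih =>
    have h := (allN_iff _ _).1 invH_sorted m (by omega)
    rw [Nat.ble_eq] at h
    have h1 : nth 0 invHList m < nth 0 invHList (m + 1) := h
    rcases Nat.lt_succ_iff_lt_or_eq.1 hij with q | rfl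
    · exact lt_trans (ih q (by omega)) h1
    · exact h1

/-- The centraliser of the involution of 3·J₃ has order at most 5760. -/
theorem card_centralizer_tG_le :
    Nat.card (Subgroup.centralizer ({tG hf} : Set (Cfsg.Spor.threeJ3 F ω))) ≤ 5760 := by
  classical
  have := finite_threeJ3 hf
  have := hGrp_finite hf cert_ok
  let x : Fin invHList.length → Cfsg.Spor.threeJ3 F ω := fun k =>
    ⟨(snd hf).den (nth 0 invHList k), hGrp_le hf (invH_spec hf k.2).1.2⟩
  have hx : ∀ k, orderOf (x k) = 2 := fun k => orderOf_eq_prime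
    (by rw [pow_two]; exact Subtype.ext (invH_spec hf k.2).2.1)
    (fun e => (invH_spec hf k.2).2.2 (congrArg Subtype.val e))
  have hxinj : Function.Injective x := by
    intro i j e
    have e' : nth 0 invHList i = nth 0 invHList j := Nat.eq_of_beq_eq_true
      (((snd hf).eqv_iff (invH_spec hf i.2).1.1 (invH_spec hf j.2).1.1).2 (congrArg Subtype.val e))
    have hi : (i : ℕ) < 153 := invH_len ▸ i.2
    have hj : (j : ℕ) < 153 := invH_len ▸ j.2
    rcases lt_trichotomy (i : ℕ) j with q | q | q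
    · have := invH_lt q hj; omega
    · exact Fin.ext q
    · have := invH_lt q hi; omega
  choose c hc using fun k => isConj_iff.1 (isConj_tG hf (hx k))
  let S := {g : Cfsg.Spor.threeJ3 F ω //
    ((g⁻¹ * tG hf * g : Cfsg.Spor.threeJ3 F ω) : GL F9 F) ∈ hGrp hf cert}
  let C := Subgroup.centralizer ({tG hf} : Set (Cfsg.Spor.threeJ3 F ω))
  have key : ∀ (d : C) k, ((d : Cfsg.Spor.threeJ3 F ω) * c k)⁻¹ * tG hf * (d * c k) = x k := by
    intro d k
    have hd : (d : Cfsg.Spor.threeJ3 F ω) * tG hf = tG hf * d :=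
      Subgroup.mem_centralizer_singleton_iff.1 d.2
    calc ((d : Cfsg.Spor.threeJ3 F ω) * c k)⁻¹ * tG hf * (d * c k)
        = (c k)⁻¹ * ((d : Cfsg.Spor.threeJ3 F ω)⁻¹ * (tG hf * d)) * c k := by group
      _ = (c k)⁻¹ * tG hf * c k := by rw [← hd, inv_mul_cancel_left]
      _ = x k := by rw [← hc k]; group
  let f : C × Fin invHList.length → S := fun p => ⟨p.1 * c p.2, by
    rw [key]; exact (invH_spec hf p.2.2).1.2⟩
  have hfi : Function.Injective f := by
    rintro ⟨d, k⟩ ⟨d', k'⟩ e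
    have e' : (d : Cfsg.Spor.threeJ3 F ω) * c k = d' * c k' := congrArg Subtype.val e
    have hk : x k = x k' := by rw [← key d k, e', key d' k']
    obtain rfl := hxinj hk
    rw [mul_left_inj] at e'
    rw [Subtype.ext e']
  have mem : ∀ g : GL F9 F, g ∈ Cfsg.Spor.threeJ3 F ω ↔ InT hf cert g := fun g => by
    rw [threeJ3_eq hf]; exact mem_closure_iff hf cert_ok g
  choose u hu1 hu2 using fun i : Fin oCert.n => reached hf ocert_ok cert_ok i.2
  have hS : ∀ g : S, ∃ p : Fin fixList.length × hGrp hf cert,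
      ∃ hi : nth 0 fixList p.1 < oCert.n,
        ((g.1 : Cfsg.Spor.threeJ3 F ω) : GL F9 F) = u ⟨_, hi⟩ * p.2 := by
    rintro ⟨g, hg⟩
    obtain ⟨i, hi, k, hk, e⟩ := lineTo_exists hf ocert_ok cert_ok ((mem _).1 g.2)
    have hfix : Nat.beq (appM tCode (oCert.code i)) (oCert.code i) = true := by
      obtain ⟨m, hm, em⟩ := hGrp_fix hf ocert_ok cert_ok hg
      have e1 : ((g : GL F9 F) : Matrix F9 F9 F).mulVec
          ((((g⁻¹ * tG hf * g : Cfsg.Spor.threeJ3 F ω) : GL F9 F) : Matrix F9 F9 F).mulVec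
            (Pi.single (0 : F9) 1)) =
          ((snd hf).den tCode : Matrix F9 F9 F).mulVec
            (((g : GL F9 F) : Matrix F9 F9 F).mulVec (Pi.single (0 : F9) 1)) := by
        rw [Matrix.mulVec_mulVec, Matrix.mulVec_mulVec, ← Units.val_mul, ← Units.val_mul]
        congr 2
        show (g : GL F9 F) * ((g : GL F9 F)⁻¹ * (snd hf).den tCode * g) = _
        group
      rw [em, Matrix.mulVec_smul, e, Matrix.mulVec_smul, smul_smul, mul_comm, ← smul_smul] at e1
      have e2 := (smul_right_injective _ hk) e1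
      have hsq : ((snd hf).den tCode : Matrix F9 F9 F).mulVec
          (((snd hf).den tCode : Matrix F9 F9 F).mulVec (dec ω (oCert.code i))) =
            dec ω (oCert.code i) := by
        rw [Matrix.mulVec_mulVec, ← Units.val_mul, (t_spec hf).2.2.1, Units.val_one,
          Matrix.one_mulVec]
      rw [← e2, Matrix.mulVec_smul, ← e2, smul_smul] at hsq
      have hne : dec ω (oCert.code i) ≠ 0 := fun h0 => by
        rw [h0, smul_zero] at e
        have h := congrArg ((↑(g : GL F9 F)⁻¹ : Matrix F9 F9 F).mulVec) e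
        rw [Matrix.mulVec_mulVec, Units.inv_mul, Matrix.one_mulVec, Matrix.mulVec_zero] at h
        exact one_ne_zero (α := F) (by simpa using congrFun h (0 : F9))
      have hm1 : (m - 1) * (m - 1) = 0 := by
        have h1 : (m * m - 1) • dec ω (oCert.code i) = 0 := by
          rw [sub_smul, hsq, one_smul, sub_self]
        have h2 := (smul_eq_zero.1 h1).resolve_right hne
        linear_combination h2 + (1 - m) * hf.two
      rw [sub_eq_zero.1 (mul_self_eq_zero.1 hm1), one_smul, ← dec_appM_den hf (t_spec hf).1] at e2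
      exact Nat.beq_eq.symm ▸ dec_inj ω hf.two hf.root (appM_lt _ _)
        (code_spec hf ocert_ok hi).1 e2.symm
    have h := (allB_iff _ _).1 fix_ok i hi
    rw [hfix, Bool.not_true, Bool.false_or] at h
    obtain ⟨q, hq⟩ := Option.isSome_iff_exists.1 h
    obtain ⟨hqm, hqi⟩ := lfind_some hq
    rw [Nat.beq_eq] at hqi
    subst hqi
    obtain ⟨n, hn, en⟩ := List.getElem_of_mem hqm
    have en' : nth 0 fixList n = q := by rw [nth_eq_getElem _ _ _ hn, en]
    subst en'
    obtain ⟨k', hk', e'⟩ := hu2 ⟨_, hi⟩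
    have hfl : FixLine hf ((u ⟨_, hi⟩)⁻¹ * (g : GL F9 F)) := by
      refine ⟨k * k'⁻¹, mul_ne_zero hk (inv_ne_zero hk'), ?_⟩
      rw [Units.val_mul, ← Matrix.mulVec_mulVec, e, Matrix.mulVec_smul]
      have h2 := congrArg ((↑(u ⟨_, hi⟩)⁻¹ : Matrix F9 F9 F).mulVec) e'
      rw [Matrix.mulVec_mulVec, Units.inv_mul, Matrix.one_mulVec, Matrix.mulVec_smul] at h2
      rw [← smul_smul]
      congr 1
      conv_rhs => rw [h2, inv_smul_smul₀ hk']
    have hmem := mem_hGrp_of_fix hf ocert_ok cert_ok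
      ((mem _).1 (mul_mem (inv_mem ((mem _).2 (hu1 _))) g.2)) hfl
    exact ⟨⟨⟨n, hn⟩, ⟨_, hmem⟩⟩, hi, (mul_inv_cancel_left _ _).symm⟩
  choose p hp1 hp2 using hS
  have hpi : Function.Injective p := by
    intro a b e
    apply Subtype.ext
    apply Subtype.ext
    rw [hp2 a, hp2 b]
    congr 2 <;> simp [e]
  have h1 := Nat.card_le_card_of_injective f hfi
  have h2 := Nat.card_le_card_of_injective p hpi
  rw [Nat.card_prod, Nat.card_fin, invH_len] at h1
  rw [Nat.card_prod, Nat.card_fin, fix_len, card_hGrp hf] at h2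
  show Nat.card C ≤ 5760
  omega

end

end Cfsg.Agent.H95.J3Inv
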