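import Cfsg.Agent.H44.J3.Simple

/-!
Checkers for finite subgroups of 3·J₃ given by lists of coded matrices.
-/

set_option autoImplicit false

namespace Cfsg.Agent.H95.J3Inv

open Cfsg.Agent.Compute
open Cfsg.Agent.H44.J3

/-- A coded matrix with the witness that it lies in 3·J₃. -/
abbrev MemCert : Type := (ℕ × ℕ) × ℕ × ℕ

noncomputable def dMem : MemCert := ((oneM, oneM), oneM, 0)

/-- A finite subgroup: generators, elements, tree, action of the generators. -/
structure LCert where
  gens : List MemCert
  elts : List ℕ
  tree : List (ℕ × ℕ)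
  tab : List (List ℕ)

noncomputable def LCert.gen (l : LCert) (g : ℕ) : ℕ := (nth dMem l.gens g).1.1
noncomputable def LCert.gInv (l : LCert) (g : ℕ) : ℕ := (nth dMem l.gens g).1.2
noncomputable def LCert.elt (l : LCert) (i : ℕ) : ℕ := nth oneM l.elts i
noncomputable def LCert.gi (l : LCert) (i : ℕ) : ℕ := (nth (0, 0) l.tree i).1
noncomputable def LCert.par (l : LCert) (i : ℕ) : ℕ := (nth (0, 0) l.tree i).2
noncomputable def LCert.act (l : LCert) (g i : ℕ) : ℕ := nth 0 (nth [] l.tab g) i

/-- The generators lie in 3·J₃. -/
noncomputable def LCert.memOK (l : LCert) : Bool := lall l.gens (fun p => cert.inT p)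

/-- The elements form a Schreier tree. -/
noncomputable def LCert.treeChk (l : LCert) : Bool :=
  Nat.ble 1 l.elts.length && allN l.elts.length (fun i => cond (Nat.beq i 0)
    (Nat.beq (l.elt i) oneM)
    (Nat.ble (Nat.add (l.gi i) 1) l.gens.length && Nat.ble (Nat.add (l.par i) 1) i &&
      Nat.beq (l.elt i) (mulM (l.gen (l.gi i)) (l.elt (l.par i)))))

/-- The generators permute the elements as tabulated. -/
noncomputable def LCert.closeChk (l : LCert) : Bool :=
  allN l.gens.length (fun g => allN l.elts.length (fun i =>
    Nat.ble (Nat.add (l.act g i) 1) l.elts.length &&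
      Nat.beq (mulM (l.gen g) (l.elt i)) (l.elt (l.act g i))))

/-- The elements are distinct. -/
noncomputable def LCert.distChk (l : LCert) : Bool :=
  allN l.elts.length (fun i => allN i (fun j => !Nat.beq (l.elt i) (l.elt j)))

/-- The only scalar is the identity. -/
noncomputable def LCert.scalChk (l : LCert) : Bool :=
  allN l.elts.length (fun i =>
    !Nat.beq (l.elt i) scalM && !Nat.beq (l.elt i) (mulM scalM scalM))

end Cfsg.Agent.H95.J3Inv
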