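import Cfsg.Agent.H95.J3InvDefs

/-!
A checked list of coded matrices is a finite subgroup of 3·J₃.
-/

set_option autoImplicit false

namespace Cfsg.Agent.H95.J3Inv

open Cfsg.Agent.Compute
open Cfsg.Agent.H44.J3
open Cfsg.Spor (F9)

attribute [local irreducible] validM invM mulM appM oneM wmul sift checkChain normOK scalM
  denM

/-- The checks of a list. -/
structure LOK (l : LCert) : Prop where
  mem : l.memOK = true
  tree : l.treeChk = true
  close : l.closeChk = true
  dist : l.distChk = true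

section
variable {F : Type*} [Field F] [Fintype F] {ω : F} (hf : Four F ω) {l : LCert}

/-- The element with index `i`. -/
noncomputable def el (l : LCert) (i : ℕ) : GL F9 F := (snd hf).den (l.elt i)

include hf

theorem mem_of_inT {p : MemCert} (h : cert.inT p = true) :
    (snd hf).ok p.1.1 ∧ (snd hf).den p.1.1 ∈ Cfsg.Spor.threeJ3 F ω := by
  obtain ⟨o, hT⟩ := inT_sound hf cert_ok h
  exact ⟨o, by rw [threeJ3_eq hf]; exact (mem_closure_iff hf cert_ok _).2 hT⟩

theorem inT_inv {p : MemCert} (h : cert.inT p = true) :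
    (snd hf).ok p.1.2 ∧ (snd hf).den p.1.2 = ((snd hf).den p.1.1)⁻¹ := by
  simp only [GCert.inT, Bool.and_eq_true] at h
  obtain ⟨-, h2, h3⟩ := (snd hf).okInv_sound (a := p.1.1) (b := p.1.2) h.1.1.1.1
  exact ⟨h2, h3⟩

variable (hl : LOK l)
include hl

theorem gen_spec {g : ℕ} (hg : g < l.gens.length) :
    ((snd hf).ok (l.gen g) ∧ (snd hf).den (l.gen g) ∈ Cfsg.Spor.threeJ3 F ω) ∧
      ((snd hf).ok (l.gInv g) ∧ (snd hf).den (l.gInv g) = ((snd hf).den (l.gen g))⁻¹) := by
  have h := (lall_iff _ _).1 (show lall l.gens (fun p => cert.inT p) = true from hl.mem) _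
    (nth_mem dMem l.gens g hg)
  exact ⟨mem_of_inT hf h, inT_inv hf h⟩

theorem pos : 0 < l.elts.length := by
  have h := hl.tree
  simp only [LCert.treeChk, Bool.and_eq_true, Nat.ble_eq] at h
  exact h.1

theorem tree_spec {i : ℕ} (hi : i < l.elts.length) : (i = 0 ∧ l.elt i = oneM) ∨
    (l.gi i < l.gens.length ∧ l.par i < i ∧ l.elt i = mulM (l.gen (l.gi i)) (l.elt (l.par i))) := by
  have h := hl.tree
  simp only [LCert.treeChk, Bool.and_eq_true, allN_iff] at h
  have h2 := h.2 i hi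
  cases e : Nat.beq i 0 with
  | true =>
    rw [e, cond_true, Nat.beq_eq] at h2
    exact Or.inl ⟨Nat.eq_of_beq_eq_true e, h2⟩
  | false =>
    rw [e, cond_false] at h2
    simp only [Bool.and_eq_true, Nat.ble_eq, Nat.beq_eq] at h2
    exact Or.inr ⟨h2.1.1, h2.1.2, h2.2⟩

theorem elt_spec : ∀ {i : ℕ}, i < l.elts.length →
    (snd hf).ok (l.elt i) ∧ el hf l i ∈ Cfsg.Spor.threeJ3 F ω := by
  intro i
  induction i using Nat.strong_induction_on with
  | _ i ih =>
    intro hi
    rcases tree_spec hf hl hi with ⟨-, e⟩ | ⟨hg, hp, e⟩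
    · have ee : l.elt i = mOps.one := e
      rw [el, ee, (snd hf).den_one]
      exact ⟨(snd hf).ok_one, one_mem _⟩
    · obtain ⟨op, mp⟩ := ih _ hp (lt_trans hp hi)
      obtain ⟨⟨og, mg⟩, -⟩ := gen_spec hf hl hg
      have ee : l.elt i = mOps.mul (l.gen (l.gi i)) (l.elt (l.par i)) := e
      rw [el, ee, (snd hf).den_mul og op]
      exact ⟨(snd hf).ok_mul og op, mul_mem mg mp⟩

theorem el_zero : el hf l 0 = 1 := by
  rcases tree_spec hf hl (pos hf hl) with ⟨-, e⟩ | ⟨-, hp, -⟩
  · rw [el, show l.elt 0 = mOps.one from e, (snd hf).den_one]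
  · omega

theorem el_succ {i : ℕ} (hi : i < l.elts.length) (h0 : i ≠ 0) :
    l.gi i < l.gens.length ∧ l.par i < i ∧
      el hf l i = (snd hf).den (l.gen (l.gi i)) * el hf l (l.par i) := by
  rcases tree_spec hf hl hi with ⟨e0, -⟩ | ⟨hg, hp, e⟩
  · exact absurd e0 h0
  · refine ⟨hg, hp, ?_⟩
    rw [el, show l.elt i = mOps.mul (l.gen (l.gi i)) (l.elt (l.par i)) from e,
      (snd hf).den_mul (gen_spec hf hl hg).1.1 (elt_spec hf hl (lt_trans hp hi)).1]
    rfl

theorem act_spec {g i : ℕ} (hg : g < l.gens.length) (hi : i < l.elts.length) :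
    l.act g i < l.elts.length ∧ (snd hf).den (l.gen g) * el hf l i = el hf l (l.act g i) := by
  have h := hl.close
  simp only [LCert.closeChk, allN_iff, Bool.and_eq_true, Nat.ble_eq, Nat.beq_eq] at h
  obtain ⟨h1, h2⟩ := h g hg i hi
  refine ⟨h1, ?_⟩
  rw [el, el, ← h2]
  exact ((snd hf).den_mul (gen_spec hf hl hg).1.1 (elt_spec hf hl hi).1).symm

theorem el_mul : ∀ {i : ℕ}, i < l.elts.length → ∀ {j : ℕ}, j < l.elts.length →
    ∃ k < l.elts.length, el hf l i * el hf l j = el hf l k := by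
  intro i
  induction i using Nat.strong_induction_on with
  | _ i ih =>
    intro hi j hj
    by_cases h0 : i = 0
    · exact ⟨j, hj, by rw [h0, el_zero hf hl, one_mul]⟩
    · obtain ⟨hg, hp, e⟩ := el_succ hf hl hi h0
      obtain ⟨k, hk, ek⟩ := ih _ hp (lt_trans hp hi) hj
      obtain ⟨hm, em⟩ := act_spec hf hl hg hk
      exact ⟨_, hm, by rw [e, mul_assoc, ek, em]⟩

theorem el_inj {i j : ℕ} (hi : i < l.elts.length) (hj : j < l.elts.length)
    (h : el hf l i = el hf l j) : i = j := by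
  have e : l.elt i = l.elt j :=
    Nat.eq_of_beq_eq_true (((snd hf).eqv_iff (elt_spec hf hl hi).1 (elt_spec hf hl hj).1).2 h)
  have hd := hl.dist
  simp only [LCert.distChk, allN_iff, Bool.not_eq_true'] at hd
  rcases lt_trichotomy i j with q | q | q
  · have := hd j hj i q
    rw [e, Nat.beq_refl] at this
    exact absurd this (by simp)
  · exact q
  · have := hd i hi j q
    rw [e, Nat.beq_refl] at this
    exact absurd this (by simp)

/-- The subgroup listed. -/
noncomputable def grp : Subgroup (GL F9 F) where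
  carrier := {g | ∃ i < l.elts.length, g = el hf l i}
  one_mem' := ⟨0, pos hf hl, (el_zero hf hl).symm⟩
  mul_mem' := by
    rintro _ _ ⟨i, hi, rfl⟩ ⟨j, hj, rfl⟩
    exact el_mul hf hl hi hj
  inv_mem' := by
    rintro x ⟨i, hi, rfl⟩
    have hpow : ∀ n : ℕ, ∃ k < l.elts.length, el hf l i ^ n = el hf l k := by
      intro n
      induction n with
      | zero => exact ⟨0, pos hf hl, by rw [pow_zero, el_zero hf hl]⟩
      | succ n ihn =>
        obtain ⟨k, hk, e⟩ := ihn
        obtain ⟨m, hm, e'⟩ := el_mul hf hl hi hk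
        exact ⟨m, hm, by rw [pow_succ', e, e']⟩
    obtain ⟨k, hk, e⟩ := hpow (orderOf (el hf l i) - 1)
    refine ⟨k, hk, ?_⟩
    rw [← e]
    refine inv_eq_of_mul_eq_one_right ?_
    rw [← pow_succ', Nat.sub_add_cancel (orderOf_pos _), pow_orderOf_eq_one]

theorem mem_grp {g : GL F9 F} : g ∈ grp hf hl ↔ ∃ i < l.elts.length, g = el hf l i := Iff.rfl

theorem el_mem {i : ℕ} (hi : i < l.elts.length) : el hf l i ∈ grp hf hl := ⟨i, hi, rfl⟩

theorem grp_le : grp hf hl ≤ Cfsg.Spor.threeJ3 F ω := by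
  rintro _ ⟨i, hi, rfl⟩
  exact (elt_spec hf hl hi).2

/-- The subgroup inside 3·J₃. -/
noncomputable def sub : Subgroup (Cfsg.Spor.threeJ3 F ω) :=
  (grp hf hl).subgroupOf (Cfsg.Spor.threeJ3 F ω)

theorem mem_sub {x : Cfsg.Spor.threeJ3 F ω} :
    x ∈ sub hf hl ↔ (x : GL F9 F) ∈ grp hf hl :=
  Subgroup.mem_subgroupOf

/-- The element with index `i`, in 3·J₃. -/
noncomputable def elG (i : Fin l.elts.length) : sub hf hl :=
  ⟨⟨el hf l i, (elt_spec hf hl i.2).2⟩, (mem_sub hf hl).2 (el_mem hf hl i.2)⟩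

theorem elG_bijective : Function.Bijective (elG hf hl) := by
  constructor
  · intro i j h
    exact Fin.ext (el_inj hf hl i.2 j.2 (congrArg (fun u : sub hf hl =>
      ((u : Cfsg.Spor.threeJ3 F ω) : GL F9 F)) h))
  · rintro ⟨⟨g, hg⟩, hx⟩
    obtain ⟨i, hi, e⟩ := (mem_grp hf hl).1 ((mem_sub hf hl).1 hx)
    exact ⟨⟨i, hi⟩, Subtype.ext (Subtype.ext e.symm)⟩

theorem card_sub : Nat.card (sub hf hl) = l.elts.length := by
  rw [← Nat.card_congr (Equiv.ofBijective _ (elG_bijective hf hl)), Nat.card_fin]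

/-- A property of the generators closed under products holds for the whole list. -/
theorem el_induction {P : GL F9 F → Prop} (h1 : P 1)
    (hm : ∀ a b, P a → P b → P (a * b)) (hg : ∀ g < l.gens.length, P ((snd hf).den (l.gen g))) :
    ∀ {i : ℕ}, i < l.elts.length → P (el hf l i) := by
  intro i
  induction i using Nat.strong_induction_on with
  | _ i ih =>
    intro hi
    by_cases h0 : i = 0
    · rw [h0, el_zero hf hl]; exact h1
    · obtain ⟨hgi, hp, e⟩ := el_succ hf hl hi h0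
      rw [e]
      exact hm _ _ (hg _ hgi) (ih _ hp (lt_trans hp hi))

theorem sub_inf_center (hs : l.scalChk = true) :
    sub hf hl ⊓ Subgroup.center (Cfsg.Spor.threeJ3 F ω) = ⊥ := by
  rw [Subgroup.eq_bot_iff_forall]
  rintro ⟨g, hgG⟩ ⟨hx, hz⟩
  obtain ⟨i, hi, e⟩ := (mem_grp hf hl).1 ((mem_sub hf hl).1 hx)
  have e' : g = el hf l i := e
  obtain ⟨k, hk⟩ := Subgroup.mem_zpowers_iff.1 ((mem_center_iff hf ⟨g, hgG⟩).1 hz)
  have hk' : scEl hf ^ (k % 3) = g := by
    refine Eq.trans ?_ hk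
    conv_rhs => rw [← zpow_mod_orderOf, orderOf_scEl hf]
    norm_num
  have h := (allN_iff _ _).1 hs i hi
  simp only [Bool.and_eq_true, Bool.not_eq_true'] at h
  have k3 : k % 3 = 0 ∨ k % 3 = 1 ∨ k % 3 = 2 := by omega
  apply Subtype.ext
  show g = 1
  rcases k3 with q | q | q <;> rw [q] at hk'
  · rw [← hk', zpow_zero]
  · exfalso
    rw [zpow_one, e'] at hk'
    have := ((snd hf).eqv_iff (elt_spec hf hl hi).1 (scal_ok' hf)).2 hk'.symm
    rw [show Nat.beq (l.elt i) scalM = mOps.eqv (l.elt i) scalM from rfl, this] at h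
    exact absurd h.1 (by simp)
  · exfalso
    rw [zpow_two, e'] at hk'
    have := ((snd hf).eqv_iff (elt_spec hf hl hi).1
      ((snd hf).ok_mul (scal_ok' hf) (scal_ok' hf))).2
      (hk'.symm.trans ((snd hf).den_mul (scal_ok' hf) (scal_ok' hf)).symm)
    rw [show Nat.beq (l.elt i) (mulM scalM scalM) = mOps.eqv (l.elt i) (mOps.mul scalM scalM)
      from rfl, this] at h
    exact absurd h.2 (by simp)

end

end Cfsg.Agent.H95.J3Inv
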