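import Cfsg.Agent.H94.Mult.Derived
import Cfsg.Agent.Linear.Mult.Killed

/-!
A certificate that a 2-subgroup of any group is killed in every central extension with kernel of
order two: collection with unknown tails, associativity and fusion of involutions.
-/

set_option autoImplicit false

namespace Cfsg.Agent.H95.KilledTwo

open Cfsg.Agent.H94.Mult Cfsg.Agent.Linear.Mult
open scoped commutatorElement

/-- The certificate. -/
structure Cert where
  /-- The rules. -/
  R : Rules
  /-- Number of generators not defined from earlier ones. -/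
  nb : ℕ
  /-- Defining rules of the later generators. -/
  defs : List (ℕ × ℕ × ℕ)
  /-- The rule of each unknown. -/
  vars : List (ℕ × ℕ × ℕ)
  /-- Associativity equations. -/
  tri : List (ℕ × ℕ × ℕ)
  /-- Conjugate involutions. -/
  sqEqs : List (ℕ × ℕ)
  /-- Conjugate pairs of commuting elements. -/
  cmEqs : List ((ℕ × ℕ) × (ℕ × ℕ)) := []
  /-- Unknowns proved to vanish. -/
  Z : ℕ
  /-- For each of them, the equations adding up to it. -/
  proofs : List (ℕ × List ℕ)

namespace Cert

variable (C : Cert)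

/-- Bound on the recursion depth of collection. -/
def fuel : ℕ := 100

/-- An associativity equation. -/
def triEq : ℕ × ℕ × ℕ → Option ℕ
  | (k, j, i) =>
    match mulList (mulGen C.R fuel) [k, j, i] 0, mulList (mulGen C.R fuel) [j, i] 0 with
    | some (r, f), some (p, g) =>
      match mulList (mulGen C.R fuel) (k :: bitsOf C.R.n p) 0 with
      | some (r', g') => if r == r' then some (f ^^^ (g ^^^ g')) else none
      | none => none
    | _, _ => none

/-- An equation from conjugate involutions. -/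
def sqEq : ℕ × ℕ → Option ℕ
  | (u, w) =>
    match mulList (mulGen C.R fuel) (bitsOf C.R.n u) u, mulList (mulGen C.R fuel) (bitsOf C.R.n w) w with
    | some (r, f), some (r', g) => if (r == 0) && (r' == 0) then some (f ^^^ g) else none
    | _, _ => none

/-- An equation from conjugate commuting pairs. -/
def cmEq : (ℕ × ℕ) × (ℕ × ℕ) → Option ℕ
  | ((u, v), (a, b)) =>
    match mulList (mulGen C.R fuel) (bitsOf C.R.n v) u, mulList (mulGen C.R fuel) (bitsOf C.R.n u) v,
      mulList (mulGen C.R fuel) (bitsOf C.R.n b) a, mulList (mulGen C.R fuel) (bitsOf C.R.n a) b with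
    | some (r, f), some (r', f'), some (t, g), some (t', g') =>
      if (r == r') && (t == t') then some (f ^^^ f' ^^^ (g ^^^ g')) else none
    | _, _, _, _ => none

/-- All equations. -/
def eqs : List (Option ℕ) :=
  C.tri.map C.triEq ++ C.sqEqs.map C.sqEq ++ C.cmEqs.map C.cmEq

/-- The forms of the equations. -/
def eqForms : List ℕ := C.eqs.map fun o => o.getD 0

/-- A rule's tail form. -/
def formOf : ℕ × ℕ × ℕ → ℕ
  | (0, j, _) => (C.R.sqRule j).2
  | (_, j, i) => (C.R.cmRule j i).2

/-- A rule's word. -/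
def wordOf : ℕ × ℕ × ℕ → ℕ
  | (0, j, _) => (C.R.sqRule j).1
  | (_, j, i) => (C.R.cmRule j i).1

/-- A rule has either a defining or an unknown tail. -/
def ruleOK (r : ℕ × ℕ × ℕ) : Bool :=
  (C.formOf r == 0 && C.defs.contains r) ||
    (List.range C.vars.length).any fun v => C.formOf r == 2 ^ v && C.vars.getD v (0, 0, 0) == r

/-- All rules. -/
def allRules : List (ℕ × ℕ × ℕ) :=
  (List.range C.R.n).flatMap fun j =>
    (0, j, 0) :: (List.range j).map fun i => (1, j, i)

/-- The shape of the rules. -/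
def checkRules : Bool :=
  decide (C.nb ≤ C.R.n) && (C.allRules.all fun r => C.ruleOK r) &&
    ((List.range C.defs.length).all fun d =>
      match C.defs.getD d (0, 0, 0) with
      | (t, j, i) => (C.wordOf (t, j, i) == 2 ^ (C.nb + d)) && decide (j < C.nb + d) &&
          ((t == 0 && i == 0) || (t == 1 && decide (i < j)))) &&
    (C.defs.length + C.nb == C.R.n)

/-- Mask of the defined generators. -/
def inDer (w : ℕ) : Bool := (w >>> C.nb) <<< C.nb == w

/-- The normal forms are closed. -/
def checkClosed : Bool :=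
  (List.range (2 ^ C.nb)).all fun m => (List.range C.nb).all fun i =>
    match mulGen C.R fuel m i with
    | some (r, _) => decide (r < 2 ^ C.R.n)
    | none => false

/-- The equations hold and suffice. -/
def checkForms : Bool :=
  (C.eqs.all Option.isSome) &&
  ((List.range C.vars.length).all fun v => !C.Z.testBit v ||
    C.proofs.any fun p => p.1 == v && p.2.foldl (fun acc e => acc ^^^ C.eqForms.getD e 0) 0 == 2 ^ v) &&
  ((List.range C.R.n).all fun j => (List.range j).all fun i =>
    C.inDer (C.R.cmRule j i).1 && ((C.R.cmRule j i).2 &&& C.Z == (C.R.cmRule j i).2)) &&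
  ((List.range (2 ^ (C.R.n - C.nb))).all fun m => (List.range (C.R.n - C.nb)).all fun i =>
    match mulGen C.R fuel (m <<< C.nb) (C.nb + i) with
    | some (r, f) => C.inDer r && decide (r < 2 ^ C.R.n) && (f &&& C.Z == f)
    | none => false)

theorem above_of_inDer {w : ℕ} (h : C.inDer w = true) : Above C.nb w := by
  rw [inDer, beq_iff_eq] at h
  exact h ▸ above_shift _ _

theorem comm_mem {X : Type*} [Group X] {Y P : Subgroup X}
    (hP : P ≤ Subgroup.normalizer (Y : Set X)) {s : Set X} (hs : Subgroup.closure s = P) {g : X}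
    (h : ∀ a ∈ s, ⁅a, g⁆ ∈ Y) : ∀ x ∈ P, ⁅x, g⁆ ∈ Y := by
  intro x hx
  have hx' : x ∈ Subgroup.closure s := hs.symm ▸ hx
  clear hx
  induction hx' using Subgroup.closure_induction with
  | mem a ha => exact h a ha
  | one => rw [commutatorElement_one_left]; exact one_mem _
  | mul a b ha hb iha ihb =>
    rw [show ⁅a * b, g⁆ = a * ⁅b, g⁆ * a⁻¹ * ⁅a, g⁆ by
      simp only [commutatorElement_def]; group]
    exact mul_mem ((Subgroup.mem_normalizer_iff.1 (hP (hs ▸ ha)) _).1 ihb) iha
  | inv a ha iha =>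
    rw [show ⁅a⁻¹, g⁆ = a⁻¹ * ⁅a, g⁆⁻¹ * a⁻¹⁻¹ by simp only [commutatorElement_def]; group]
    exact (Subgroup.mem_normalizer_iff.1 (hP (inv_mem (hs ▸ ha))) _).1 (inv_mem iha)

/-- The subgroup generated by the generators of a model. -/
def grp {G : Type*} [Group G] (PM : Model C.R G) : Subgroup G :=
  Subgroup.closure {x | ∃ k, k < C.R.n ∧ PM.G k = x}

theorem killed {X G₀ : Type*} [Group X] [Finite X] [Group G₀] [Finite G₀] (E : LExt 2 X G₀)
    (PM : Model C.R G₀) (hV : ∀ f, PM.V f = 1) (hr : C.checkRules = true)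
    (hg : C.checkClosed = true) (hf : C.checkForms = true)
    (hfus : ∀ p ∈ C.sqEqs, ∃ g : G₀, g * PM.nf p.1 * g⁻¹ = PM.nf p.2)
    (hfus₂ : ∀ p ∈ C.cmEqs, ∃ g : G₀, g * PM.nf p.1.1 * g⁻¹ = PM.nf p.2.1 ∧
      g * PM.nf p.1.2 * g⁻¹ = PM.nf p.2.2)
    (hcard : 2 ^ C.R.n ≤ Nat.card (C.grp PM)) :
    E.Killed (C.grp PM) ∧ Nat.card (C.grp PM) = 2 ^ C.R.n := by
  classical
  set ρ : X →* G₀ := E.proj with hρdef
  have hcen : ∀ x, ρ x = 1 → ∀ y : X, y * x = x * y := fun x hx y => E.ker_central hx y
  have hsurj : ∀ g : G₀, ∃ x, ρ x = g := fun g => E.surj g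
  have hsq : ∀ x, ρ x = 1 → x * x = 1 := fun x hx => by
    have := E.ker_pow hx
    rwa [pow_two] at this
  simp only [checkRules, Bool.and_eq_true, List.all_eq_true, decide_eq_true_eq, beq_iff_eq,
    List.mem_range] at hr
  obtain ⟨⟨⟨hnb, hrules⟩, hdefs⟩, hdlen⟩ := hr
  -- lifts, obeying the defining rules
  obtain ⟨G, hG1, hG2⟩ : ∃ G : ℕ → X, (∀ k < C.R.n, ρ (G k) = PM.G k) ∧
      ∀ d < C.defs.length, ∀ t j i, C.defs.getD d (0, 0, 0) = (t, j, i) →
        (t = 0 → G j * G j = G (C.nb + d)) ∧
        (t = 1 → G j * G i = G i * G j * G (C.nb + d)) := by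
    suffices ∀ f ≤ C.defs.length, ∃ G : ℕ → X, (∀ k < C.R.n, ρ (G k) = PM.G k) ∧
        ∀ d < f, ∀ t j i, C.defs.getD d (0, 0, 0) = (t, j, i) →
          (t = 0 → G j * G j = G (C.nb + d)) ∧
          (t = 1 → G j * G i = G i * G j * G (C.nb + d)) from this _ le_rfl
    intro f
    induction f with
    | zero =>
      intro _
      have hex : ∀ k, ∃ x, k < C.R.n → ρ x = PM.G k := fun k => by
        by_cases hk : k < C.R.n
        · obtain ⟨x, hx⟩ := hsurj (PM.G k)
          exact ⟨x, fun _ => hx⟩
        · exact ⟨1, fun h => absurd h hk⟩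
      choose s hs using hex
      exact ⟨s, hs, fun d hd => absurd hd (Nat.not_lt_zero d)⟩
    | succ f ih =>
      intro hf'
      obtain ⟨G, h1, h2⟩ := ih (Nat.le_of_succ_le hf')
      have hspec := hdefs f hf'
      generalize hd : C.defs.getD f (0, 0, 0) = d at hspec
      obtain ⟨t, j, i⟩ := d
      simp only [Bool.and_eq_true, Bool.or_eq_true, decide_eq_true_eq, beq_iff_eq] at hspec
      obtain ⟨⟨hw, hj⟩, hti⟩ := hspec
      have hkn : C.nb + f < C.R.n := by omega
      let x := if t = 0 then G j * G j else (G i * G j)⁻¹ * (G j * G i)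
      have hx : ρ x = PM.G (C.nb + f) := by
        have hjn : j < C.R.n := by omega
        rcases hti with ⟨rfl, rfl⟩ | ⟨rfl, hij⟩
        · simp only [x, if_pos, map_mul, h1 j hjn]
          rw [PM.sq_rule j hjn, hV, mul_one]
          simp only [wordOf] at hw
          rw [show (C.R.sqRule j).1 = 2 ^ (C.nb + f) from hw]
          exact PM.nf_two_pow hkn
        · simp only [x, Nat.one_ne_zero, if_false, map_mul, map_inv, h1 j hjn,
            h1 i (hij.trans hjn)]
          rw [PM.cm_rule i j hij hjn, hV, mul_one, inv_mul_cancel_left]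
          simp only [wordOf] at hw
          rw [show (C.R.cmRule j i).1 = 2 ^ (C.nb + f) from hw]
          exact PM.nf_two_pow hkn
      refine ⟨Function.update G (C.nb + f) x, fun k hk => ?_, fun d hd' t' j' i' he => ?_⟩
      · by_cases hkf : k = C.nb + f
        · subst hkf; rw [Function.update_self, hx]
        · rw [Function.update_of_ne hkf, h1 k hk]
      rcases Nat.lt_succ_iff_lt_or_eq.1 hd' with hlt | rfl
      · have hspec' := hdefs d (by omega)
        rw [he] at hspec'
        simp only [Bool.and_eq_true, Bool.or_eq_true, decide_eq_true_eq, beq_iff_eq] at hspec'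
        obtain ⟨⟨-, hj'⟩, hti'⟩ := hspec'
        rw [Function.update_of_ne (show j' ≠ C.nb + f by omega),
          Function.update_of_ne (show C.nb + d ≠ C.nb + f by omega)]
        obtain ⟨e1, e2⟩ := h2 d hlt t' j' i' he
        refine ⟨e1, fun ht1 => ?_⟩
        have hi' : i' < j' := by rcases hti' with h | h <;> omega
        rw [Function.update_of_ne (show i' ≠ C.nb + f by omega)]
        exact e2 ht1
      · rw [hd] at he
        simp only [Prod.mk.injEq] at he
        obtain ⟨rfl, rfl, rfl⟩ := he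
        rw [Function.update_of_ne (show j ≠ C.nb + d by omega), Function.update_self]
        refine ⟨fun h0 => by simp [x, h0], fun h1' => ?_⟩
        have hi : i < j := by rcases hti with h | h <;> omega
        rw [Function.update_of_ne (show i ≠ C.nb + d by omega)]
        simp only [x, h1', Nat.one_ne_zero, if_false]
        rw [mul_inv_cancel_left]
  -- normal forms and tails
  let NF : ℕ → X := fun w => ((bitsOf C.R.n w).map G).prod
  have hρNF : ∀ w, ρ (NF w) = PM.nf w := fun w => by
    simp only [NF, Model.nf, map_list_prod, List.map_map]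
    congr 1
    exact List.map_congr_left fun k hk => hG1 k (Model.bitsOf_mem.1 hk).1
  let disc : ℕ × ℕ × ℕ → X := fun r =>
    if r.1 = 0 then (NF (C.wordOf r))⁻¹ * (G r.2.1 * G r.2.1)
    else (G r.2.2 * G r.2.1 * NF (C.wordOf r))⁻¹ * (G r.2.1 * G r.2.2)
  let Dv : ℕ → X := fun v => if ρ (disc (C.vars.getD v (0, 0, 0))) = 1 then
    disc (C.vars.getD v (0, 0, 0)) else 1
  have hDv : ∀ v, ρ (Dv v) = 1 := fun v => by
    simp only [Dv]; split_ifs with h
    exacts [h, map_one ρ]
  let Vn : ℕ → ℕ → X := fun N f => ((List.range N).map fun v =>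
    if f.testBit v then Dv v else 1).prod
  have hVρ : ∀ N f, ρ (Vn N f) = 1 := fun N f => by
    simp only [Vn, map_list_prod, List.map_map]
    refine List.prod_eq_one fun y hy => ?_
    obtain ⟨v, -, rfl⟩ := List.mem_map.1 hy
    simp only [Function.comp]
    split_ifs
    exacts [hDv v, map_one ρ]
  have hVsucc : ∀ N f, Vn (N + 1) f = Vn N f * if f.testBit N then Dv N else 1 := fun N f => by
    simp [Vn, List.range_succ]
  have hVxor : ∀ N a b, Vn N (a ^^^ b) = Vn N a * Vn N b := by
    intro N
    induction N with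
    | zero => intro a b; simp [Vn]
    | succ N ih =>
      intro a b
      rw [hVsucc, hVsucc, hVsucc, ih, Nat.testBit_xor]
      have hc : ∀ y, y * (if a.testBit N then Dv N else 1) = (if a.testBit N then Dv N else 1) * y :=
        fun y => by split_ifs <;> [exact hcen _ (hDv N) y; simp]
      rw [mul_assoc (Vn N a) (if a.testBit N then Dv N else 1), ← mul_assoc _ (Vn N b),
        ← hc (Vn N b)]
      simp only [mul_assoc]
      congr 2
      cases a.testBit N <;> cases b.testBit N <;> simp [hsq _ (hDv N)]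
  have hVzero : ∀ N, Vn N 0 = 1 := fun N => by
    simp [Vn]
  have hVpow : ∀ N v, v < N → Vn N (2 ^ v) = Dv v := by
    intro N
    induction N with
    | zero => intro v hv; omega
    | succ N ih =>
      intro v hv
      rw [hVsucc, Nat.testBit_two_pow]
      rcases Nat.lt_succ_iff_lt_or_eq.1 hv with hlt | rfl
      · rw [ih v hlt]; simp [hlt.ne]
      · have : Vn v (2 ^ v) = 1 := by
          refine List.prod_eq_one fun y hy => ?_
          obtain ⟨w, hw, rfl⟩ := List.mem_map.1 hy
          simp [Nat.testBit_two_pow, (List.mem_range.1 hw).ne']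
        rw [this]; simp
  let V : ℕ → X := Vn C.vars.length
  have hrule : ∀ r ∈ C.allRules, ρ (disc r) = 1 → V (C.formOf r) = disc r := by
    intro r hr hρr
    have hok := (hrules r hr)
    simp only [ruleOK, Bool.or_eq_true, Bool.and_eq_true, beq_iff_eq, List.contains_iff_mem,
      List.any_eq_true, List.mem_range] at hok
    rcases hok with ⟨h0, hd⟩ | ⟨v, hv, hfv, hvr⟩
    · rw [h0, show V 0 = 1 from hVzero _]
      obtain ⟨d, hdl, hde⟩ := List.getElem_of_mem hd
      have hgd : C.defs.getD d (0, 0, 0) = r := by rw [List.getD_eq_getElem _ _ hdl, hde]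
      obtain ⟨t, j, i⟩ := r
      have hspec := hdefs d hdl
      rw [hgd] at hspec
      simp only [Bool.and_eq_true, Bool.or_eq_true, decide_eq_true_eq, beq_iff_eq] at hspec
      obtain ⟨⟨hw, -⟩, hti⟩ := hspec
      have hnfd : NF (C.wordOf (t, j, i)) = G (C.nb + d) := by
        rw [hw]
        show ((bitsOf C.R.n (2 ^ (C.nb + d))).map G).prod = _
        rw [Model.bitsOf_split (n := C.R.n) (j := C.nb + d) (by omega) (by simp)
          (fun k hk _ => by rw [Nat.testBit_two_pow]; simp [hk.ne]), Nat.xor_self]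
        simp [bitsOf]
      obtain ⟨e0, e1⟩ := hG2 d hdl t j i hgd
      rcases hti with ⟨rfl, rfl⟩ | ⟨rfl, -⟩
      · simp only [disc, if_pos]
        rw [hnfd, e0 rfl, inv_mul_cancel]
      · simp only [disc, Nat.one_ne_zero, if_false]
        rw [hnfd, e1 rfl, inv_mul_cancel]
    · rw [hfv, show V (2 ^ v) = Dv v from hVpow _ v hv]
      simp only [Dv, hvr, hρr, if_true]
  have hmem0 : ∀ j < C.R.n, (0, j, 0) ∈ C.allRules := fun j hj => by
    simp only [allRules, List.mem_flatMap, List.mem_range, List.mem_cons]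
    exact ⟨j, hj, .inl rfl⟩
  have hmem1 : ∀ j i, i < j → j < C.R.n → (1, j, i) ∈ C.allRules := fun j i hij hj => by
    simp only [allRules, List.mem_flatMap, List.mem_range, List.mem_cons, List.mem_map]
    exact ⟨j, hj, .inr ⟨i, hij, rfl⟩⟩
  let M : Model C.R X :=
    { G := G
      V := V
      V_zero := hVzero _
      V_xor := hVxor _
      V_central := fun a x => hcen _ (hVρ _ a) x
      sq_rule := fun i hi => by
        have hd : ρ (disc (0, i, 0)) = 1 := by
          simp only [disc, if_pos, map_mul, map_inv, hG1 i hi, hρNF, wordOf]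
          rw [PM.sq_rule i hi, hV, mul_one]
          exact inv_mul_cancel _
        have := hrule _ (hmem0 i hi) hd
        simp only [disc, if_pos, formOf, wordOf] at this
        rw [this]
        exact (mul_inv_cancel_left _ _).symm
      cm_rule := fun i j hij hj => by
        have hd : ρ (disc (1, j, i)) = 1 := by
          simp only [disc, Nat.one_ne_zero, if_false, map_mul, map_inv, hG1 j hj,
            hG1 i (hij.trans hj), hρNF, wordOf]
          rw [PM.cm_rule i j hij hj, hV, mul_one]
          exact inv_mul_cancel _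
        have := hrule _ (hmem1 j i hij hj) hd
        simp only [disc, Nat.one_ne_zero, if_false, formOf, wordOf] at this
        rw [this]
        exact (mul_inv_cancel_left _ _).symm }
  have hρnf : ∀ w, ρ (M.nf w) = PM.nf w := hρNF
  have hρV : ∀ f, ρ (M.V f) = 1 := hVρ _
  have hmul : ∀ u v a f, mulList (mulGen C.R fuel) (bitsOf C.R.n v) u = some (a, f) →
      M.nf u * M.nf v = M.nf a * M.V f :=
    fun u v a f h => M.mulList_spec (fun a b c d e => M.mulGen_spec fuel a b c d e) _ _ _ _ h
  have hmul0 : ∀ (ks : List ℕ) a f, mulList (mulGen C.R fuel) ks 0 = some (a, f) →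
      (ks.map M.G).prod = M.nf a * M.V f := fun ks a f h => by
    have := M.mulList_spec (fun a b c d e => M.mulGen_spec fuel a b c d e) _ _ _ _ h
    rwa [M.nf_zero, one_mul] at this
  have hconj : ∀ u a (g : G₀), g * PM.nf u * g⁻¹ = PM.nf a →
      ∀ H, ρ H = g → ∃ c, ρ c = 1 ∧ H * M.nf u * H⁻¹ = M.nf a * c := by
    intro u a g hc H hH
    refine ⟨(M.nf a)⁻¹ * (H * M.nf u * H⁻¹), ?_, (mul_inv_cancel_left _ _).symm⟩
    simp only [map_mul, map_inv, hρnf, hH, hc, inv_mul_cancel]
  -- the equations hold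
  have htri : ∀ x e, C.triEq x = some e → M.V e = 1 := by
    rintro ⟨k, j, i⟩ e h
    simp only [triEq] at h
    split at h
    · next a f₁ p g₁ h₁ h₂ =>
      split at h
      · next a' g₂ h₃ =>
        split at h
        · next hab =>
          simp only [Option.some.injEq] at h
          rw [beq_iff_eq] at hab
          subst hab
          subst h
          have e1 := hmul0 _ _ _ h₁
          have e2 := hmul0 _ _ _ h₂
          have e3 := hmul0 _ _ _ h₃
          rw [List.map_cons, List.prod_cons] at e3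
          change M.G k * M.nf p = _ at e3
          rw [List.map_cons, List.prod_cons, e2, ← mul_assoc, e3, mul_assoc,
            mul_left_cancel_iff] at e1
          rw [M.V_xor, M.V_xor, ← e1, ← mul_assoc, mul_assoc (M.V g₂), ← M.V_xor, Nat.xor_self,
            M.V_zero, mul_one, ← M.V_xor, Nat.xor_self, M.V_zero]
        · simp at h
      · simp at h
    · simp at h
  have hsqe : ∀ x ∈ C.sqEqs, ∀ e, C.sqEq x = some e → M.V e = 1 := by
    rintro ⟨u, w⟩ hx e h
    simp only [sqEq] at h
    split at h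
    · next a f₁ b g₁ h₁ h₂ =>
      split at h
      · next hc =>
        simp only [Bool.and_eq_true, beq_iff_eq] at hc
        obtain ⟨rfl, rfl⟩ := hc
        simp only [Option.some.injEq] at h
        subst h
        obtain ⟨g, hg'⟩ := hfus _ hx
        obtain ⟨H, hH⟩ := hsurj g
        obtain ⟨c, hc1, hce⟩ := hconj u w g hg' H hH
        have e1 := hmul u u _ f₁ h₁
        have e2 := hmul w w _ g₁ h₂
        rw [M.nf_zero, one_mul] at e1 e2
        have : H * (M.nf u * M.nf u) * H⁻¹ = M.nf w * M.nf w := by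
          calc H * (M.nf u * M.nf u) * H⁻¹ = (H * M.nf u * H⁻¹) * (H * M.nf u * H⁻¹) := by group
            _ = M.nf w * (c * M.nf w) * c := by rw [hce]; simp only [mul_assoc]
            _ = M.nf w * M.nf w * (c * c) := by rw [← hcen c hc1 (M.nf w)]; simp only [mul_assoc]
            _ = M.nf w * M.nf w := by rw [hsq c hc1, mul_one]
        rw [e1, e2, M.V_central f₁ H, mul_inv_cancel_right] at this
        rw [M.V_xor, this, ← M.V_xor, Nat.xor_self, M.V_zero]
      · simp at h
    · simp at h
  have hcme : ∀ x ∈ C.cmEqs, ∀ e, C.cmEq x = some e → M.V e = 1 := by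
    rintro ⟨⟨u, v⟩, a, b⟩ hx e h
    simp only [cmEq] at h
    split at h
    · next r f r' f' t g t' g' h₁ h₂ h₃ h₄ =>
      split at h
      · next hc =>
        simp only [Bool.and_eq_true, beq_iff_eq] at hc
        obtain ⟨rfl, rfl⟩ := hc
        simp only [Option.some.injEq] at h
        subst h
        obtain ⟨g₀, hgu, hgv⟩ := hfus₂ _ hx
        obtain ⟨H, hH⟩ := hsurj g₀
        obtain ⟨c, hc1, hce⟩ := hconj u a g₀ hgu H hH
        obtain ⟨d, hd1, hde⟩ := hconj v b g₀ hgv H hH
        have hcom : ∀ p q w : ℕ, ∀ k k' : ℕ, M.nf p * M.nf q = M.nf w * M.V k →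
            M.nf q * M.nf p = M.nf w * M.V k' →
            M.nf p * M.nf q * (M.nf q * M.nf p)⁻¹ = M.V (k ^^^ k') := by
          intro p q w k k' e1 e2
          rw [e1, e2]
          have hi : (M.V k')⁻¹ = M.V k' := inv_eq_of_mul_eq_one_right (by
            rw [← M.V_xor, Nat.xor_self, M.V_zero])
          rw [M.V_xor, mul_inv_rev, hi, ← mul_assoc, mul_assoc (M.nf w), ← M.V_xor,
            M.V_central (k ^^^ k'), mul_inv_cancel_right]
        have e1 := hcom u v _ f f' (hmul u v _ f h₁) (hmul v u _ f' h₂)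
        have e2 := hcom a b _ g g' (hmul a b _ g h₃) (hmul b a _ g' h₄)
        have : H * (M.nf u * M.nf v * (M.nf v * M.nf u)⁻¹) * H⁻¹ =
            M.nf a * M.nf b * (M.nf b * M.nf a)⁻¹ := by
          calc H * (M.nf u * M.nf v * (M.nf v * M.nf u)⁻¹) * H⁻¹
              = (H * M.nf u * H⁻¹) * (H * M.nf v * H⁻¹) *
                  ((H * M.nf v * H⁻¹) * (H * M.nf u * H⁻¹))⁻¹ := by group
            _ = M.nf a * (c * M.nf b) * d * (M.nf b * (d * M.nf a) * c)⁻¹ := by
              rw [hce, hde]; simp only [mul_assoc]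
            _ = M.nf a * M.nf b * (c * d) * (M.nf b * M.nf a * (d * c))⁻¹ := by
              rw [← hcen c hc1 (M.nf b), ← hcen d hd1 (M.nf a)]; simp only [mul_assoc]
            _ = M.nf a * M.nf b * (M.nf b * M.nf a)⁻¹ := by rw [hcen c hc1 d]; group
        rw [e1, e2, M.V_central (f ^^^ f') H, mul_inv_cancel_right] at this
        rw [M.V_xor, this, ← M.V_xor, Nat.xor_self, M.V_zero]
      · simp at h
    · simp at h
  simp only [checkForms, Bool.and_eq_true, List.all_eq_true, List.mem_range] at hf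
  obtain ⟨⟨⟨hsome, hproofs⟩, hcmZ⟩, hclosed⟩ := hf
  have heq : ∀ n, M.V (C.eqForms.getD n 0) = 1 := by
    intro n
    by_cases hn : n < C.eqs.length
    · have hn' : n < C.eqForms.length := by simpa [eqForms] using hn
      have hm := List.getElem_mem hn
      obtain ⟨e, he⟩ := Option.isSome_iff_exists.1 (hsome _ hm)
      have : C.eqForms.getD n 0 = e := by
        rw [List.getD_eq_getElem _ _ hn']
        simp [eqForms, he]
      rw [this]
      rw [he] at hm
      simp only [eqs, List.mem_append, List.mem_map] at hm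
      rcases hm with (⟨x, -, hx⟩ | ⟨x, hxm, hx⟩) | ⟨x, hxm, hx⟩
      exacts [htri x e hx, hsqe x hxm e hx, hcme x hxm e hx]
    · rw [List.getD_eq_default _ _ (by simpa [eqForms] using Nat.le_of_not_lt hn)]
      exact M.V_zero
  have hfold : ∀ (l : List ℕ) acc,
      M.V (l.foldl (fun acc e => acc ^^^ C.eqForms.getD e 0) acc) = M.V acc := by
    intro l
    induction l with
    | nil => intro acc; rfl
    | cons a t ih => intro acc; rw [List.foldl_cons, ih, M.V_xor, heq, mul_one]
  have hZ : ∀ f, f &&& C.Z = f → M.V f = 1 := by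
    intro f hfZ
    refine List.prod_eq_one fun y hy => ?_
    obtain ⟨v, hv, rfl⟩ := List.mem_map.1 hy
    split_ifs with hb
    · have hv' := List.mem_range.1 hv
      have hz : C.Z.testBit v = true := by
        rw [← hfZ, Nat.testBit_and, Bool.and_eq_true] at hb
        exact hb.2
      have hp := hproofs v hv'
      rw [hz, Bool.not_true, Bool.false_or, List.any_eq_true] at hp
      obtain ⟨⟨v', l⟩, -, hpe⟩ := hp
      simp only [Bool.and_eq_true, beq_iff_eq] at hpe
      have := hfold l 0
      rw [hpe.2, M.V_zero] at this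
      rw [← hVpow C.vars.length v hv']
      exact this
    · rfl
  -- the later generators
  have hcl : ∀ m i, Above C.nb m → m < 2 ^ C.R.n → C.nb ≤ i → i < C.R.n →
      ∃ r f, Above C.nb r ∧ r < 2 ^ C.R.n ∧ mulGen C.R fuel m i = some (r, f) ∧
        f &&& C.Z = f := by
    intro m i hm hmn hi1 hi2
    have hs : m >>> C.nb < 2 ^ (C.R.n - C.nb) := by
      rw [Nat.shiftRight_eq_div_pow, Nat.div_lt_iff_lt_mul (Nat.two_pow_pos _), ← pow_add,
        Nat.sub_add_cancel hnb]
      exact hmn
    have := hclosed _ hs (i - C.nb) (by omega)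
    rw [← eq_shift_of_above hm, Nat.add_sub_cancel' hi1] at this
    split at this
    · next r f he =>
      simp only [Bool.and_eq_true, decide_eq_true_eq, beq_iff_eq] at this
      exact ⟨r, f, C.above_of_inDer this.1.1, this.1.2, he, this.2⟩
    · simp at this
  have hcmPM : ∀ a b, a < b → b < C.R.n → C.nb ≤ b →
      Above C.nb (C.R.cmRule b a).1 ∧ PM.V (C.R.cmRule b a).2 = 1 := fun a b hab hb _ => by
    have := hcmZ b hb a hab
    exact ⟨C.above_of_inDer this.1, hV _⟩
  have hcmM : ∀ a b, a < b → b < C.R.n →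
      Above C.nb (C.R.cmRule b a).1 ∧ M.V (C.R.cmRule b a).2 = 1 := fun a b hab hb => by
    have := hcmZ b hb a hab
    simp only [beq_iff_eq] at this
    exact ⟨C.above_of_inDer this.1, hZ _ this.2⟩
  -- the Sylow subgroup
  set Qp : Subgroup G₀ := C.grp PM with hQp
  have hGQ : ∀ k < C.R.n, PM.G k ∈ Qp := fun k hk => Subgroup.subset_closure ⟨k, hk, rfl⟩
  have hnfQ : ∀ w, PM.nf w ∈ Qp := fun w => list_prod_mem fun x hx => by
    obtain ⟨k, hk, rfl⟩ := List.mem_map.1 hx
    exact hGQ k (Model.bitsOf_mem.1 hk).1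
  have hderPM : ∀ x ∈ PM.derSub C.nb, ∃ m, Above C.nb m ∧ m < 2 ^ C.R.n ∧ PM.nf m = x :=
    PM.derSub_normalForm fun m i h1 h2 h3 h4 => by
      obtain ⟨r, f, hr1, hr2, he, -⟩ := hcl m i h1 h2 h3 h4
      have := PM.mulGen_spec _ _ _ _ _ he
      exact ⟨r, hr1, hr2, by rw [this, hV, mul_one]⟩
  have hQnf : ∀ x ∈ Qp, ∃ m < 2 ^ C.R.n, PM.nf m = x := by
    intro x hx
    suffices ∃ a < 2 ^ C.nb, ∃ y ∈ PM.derSub C.nb, PM.nf a * y = x by
      obtain ⟨a, ha, y, hy, rfl⟩ := this
      obtain ⟨m, hm1, hm2, rfl⟩ := hderPM y hy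
      refine ⟨a ||| m, Nat.or_lt_two_pow (ha.trans_le (Nat.pow_le_pow_right (by norm_num) hnb)) hm2,
        ?_⟩
      rw [PM.nf_low_high C.nb (a ||| m) hnb]
      congr 2
      · apply Nat.eq_of_testBit_eq
        intro k
        rw [Nat.testBit_mod_two_pow, Nat.testBit_or]
        by_cases hk : k < C.nb
        · rw [hm1 k hk]; simp [hk]
        · rw [Nat.testBit_lt_two_pow (ha.trans_le (Nat.pow_le_pow_right (by norm_num)
            (Nat.le_of_not_lt hk)))]
          simp [hk]
      · rw [Nat.shiftRight_or_distrib, Nat.shiftRight_eq_div_pow a, Nat.div_eq_of_lt ha,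
          Nat.zero_or, ← eq_shift_of_above hm1]
    have hx' : x ∈ Submonoid.closure {x | ∃ k, k < C.R.n ∧ PM.G k = x} := by
      rw [← Subgroup.closure_toSubmonoid_of_finite]; exact hx
    clear hx
    induction hx' using Submonoid.closure_induction_right with
    | one => exact ⟨0, Nat.two_pow_pos _, 1, one_mem _, by rw [PM.nf_zero, one_mul]⟩
    | mul_right y hy z hz ih =>
      obtain ⟨i, hi, rfl⟩ := hz
      obtain ⟨a, ha, y', hy', rfl⟩ := ih
      by_cases hib : i < C.nb
      · have hg' := hg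
        simp only [checkClosed, List.all_eq_true, List.mem_range] at hg'
        have := hg' a ha i hib
        split at this
        · next w f he =>
          have hw : PM.nf a * PM.G i = PM.nf w := by
            rw [PM.mulGen_spec _ _ _ _ _ he, hV, mul_one]
          have hn := PM.G_mem_normalizer (d := C.nb) hi hcmPM
          have hconj' : (PM.G i)⁻¹ * y' * PM.G i ∈ PM.derSub C.nb := by
            have := (Subgroup.mem_normalizer_iff.1 (inv_mem hn) y').1 hy'
            rwa [inv_inv] at this
          refine ⟨w % 2 ^ C.nb, Nat.mod_lt _ (Nat.two_pow_pos _),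
            PM.nf ((w >>> C.nb) <<< C.nb) * ((PM.G i)⁻¹ * y' * PM.G i),
            mul_mem (PM.nf_mem_derSub (above_shift _ _)) hconj', ?_⟩
          rw [← mul_assoc, ← PM.nf_low_high _ _ hnb, ← hw]
          group
        · simp at this
      · exact ⟨a, ha, y' * PM.G i, mul_mem hy' (PM.G_mem_derSub (Nat.le_of_not_lt hib) hi),
          by rw [mul_assoc]⟩
  let nfQ : Fin (2 ^ C.R.n) → Qp := fun m => ⟨PM.nf m, hnfQ m⟩
  have hnfs : Function.Surjective nfQ := fun ⟨x, hx⟩ => by
    obtain ⟨m, hm, rfl⟩ := hQnf x hx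
    exact ⟨⟨m, hm⟩, rfl⟩
  have hcardQ : Nat.card Qp = 2 ^ C.R.n :=
    le_antisymm ((Nat.card_le_card_of_surjective _ hnfs).trans (Nat.card_fin _).le) hcard
  have hnfi : Function.Injective nfQ :=
    ((Nat.bijective_iff_surjective_and_card nfQ).2 ⟨hnfs, by rw [hcardQ, Nat.card_fin]⟩).1
  refine ⟨fun z hzP hz => ?_, hcardQ⟩
  set P0 := E.pre Qp with hP0
  have hmemP0 : ∀ x, x ∈ P0 ↔ ρ x ∈ Qp := fun x => Iff.rfl
  have hgenP0 : Subgroup.closure ({x | ∃ k, k < C.R.n ∧ M.G k = x} ∪ {x | ρ x = 1}) = P0 := by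
    refine le_antisymm ?_ fun x hx => ?_
    · rw [Subgroup.closure_le]
      rintro x (⟨k, hk, rfl⟩ | hx)
      · exact (hmemP0 _).2 (by rw [show ρ (M.G k) = PM.G k from hG1 k hk]; exact hGQ k hk)
      · exact (hmemP0 _).2 (by rw [show ρ x = 1 from hx]; exact one_mem _)
    · obtain ⟨m, hm, he⟩ := hQnf _ ((hmemP0 x).1 hx)
      have h1 : M.nf m ∈ Subgroup.closure ({x | ∃ k, k < C.R.n ∧ M.G k = x} ∪ {x | ρ x = 1}) :=
        list_prod_mem fun y hy => by
          obtain ⟨k, hk, rfl⟩ := List.mem_map.1 hy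
          exact Subgroup.subset_closure (.inl ⟨k, (Model.bitsOf_mem.1 hk).1, rfl⟩)
      have h2' : (M.nf m)⁻¹ * x ∈
          Subgroup.closure ({x | ∃ k, k < C.R.n ∧ M.G k = x} ∪ {x | ρ x = 1}) :=
        Subgroup.subset_closure (.inr (by
          show ρ ((M.nf m)⁻¹ * x) = 1
          rw [map_mul, map_inv, hρnf, he, inv_mul_cancel]))
      simpa using mul_mem h1 h2'
  set Y := M.derSub C.nb with hY
  have hGn : ∀ k < C.R.n, M.G k ∈ Subgroup.normalizer (Y : Set X) := fun k hk =>
    M.G_mem_normalizer hk fun a b hab hb _ => hcmM a b hab hb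
  have hPn : P0 ≤ Subgroup.normalizer (Y : Set X) := by
    rw [← hgenP0, Subgroup.closure_le]
    rintro x (⟨k, hk, rfl⟩ | hx)
    · exact hGn k hk
    · refine Subgroup.mem_normalizer_iff.2 fun y => ?_
      rw [show x * y * x⁻¹ = y by rw [← hcen x hx y, mul_inv_cancel_right]]
  have hgens : ∀ a ∈ ({x | ∃ k, k < C.R.n ∧ M.G k = x} ∪ {x | ρ x = 1} : Set X),
      ∀ b ∈ ({x | ∃ k, k < C.R.n ∧ M.G k = x} ∪ {x | ρ x = 1} : Set X), ⁅a, b⁆ ∈ Y := by
    have hzero : ∀ a b : X, ρ a = 1 → ⁅a, b⁆ ∈ Y := fun a b h => by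
      rw [commutatorElement_eq_one_iff_mul_comm.2 (hcen a h b).symm]; exact one_mem _
    have hlt : ∀ i j, i < j → j < C.R.n → ⁅M.G j, M.G i⁆ ∈ Y := by
      intro i j hij hj
      obtain ⟨hw, hv⟩ := hcmM i j hij hj
      have e : ⁅M.G j, M.G i⁆
          = (M.G i * M.G j) * M.nf (C.R.cmRule j i).1 * (M.G i * M.G j)⁻¹ := by
        rw [commutatorElement_def, M.cm_rule i j hij hj, hv, mul_one]
        simp only [Model.nf, mul_inv_rev, mul_assoc]
      rw [e]
      exact (Subgroup.mem_normalizer_iff.1 (mul_mem (hGn i (hij.trans hj)) (hGn j hj)) _).1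
        (M.nf_mem_derSub hw)
    rintro a (⟨i, hi, rfl⟩ | ha) b (⟨j, hj, rfl⟩ | hb)
    · rcases lt_trichotomy i j with h | rfl | h
      · rw [← commutatorElement_inv]; exact inv_mem (hlt i j h hj)
      · rw [commutatorElement_eq_one_iff_mul_comm.2 rfl]; exact one_mem _
      · exact hlt j i h hi
    · rw [← commutatorElement_inv]; exact inv_mem (hzero b _ hb)
    · exact hzero a _ ha
    · exact hzero a _ ha
  have hcomY : ⁅P0, P0⁆ ≤ Y := by
    rw [Subgroup.commutator_le]
    intro x hx y hy
    rw [← commutatorElement_inv]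
    refine inv_mem (comm_mem hPn hgenP0 (g := x) (fun a ha => ?_) y hy)
    rw [← commutatorElement_inv]
    exact inv_mem (comm_mem hPn hgenP0 (g := a) (fun b hb => hgens b hb a ha) x hx)
  obtain ⟨m, -, hmn, hme⟩ := M.derSub_normalForm (fun m i h1 h2' h3 h4 => by
    obtain ⟨w, f, hw1, hw2, he, hfZ⟩ := hcl m i h1 h2' h3 h4
    exact ⟨w, hw1, hw2, by rw [M.mulGen_spec _ _ _ _ _ he, hZ f hfZ, mul_one]⟩) z (hcomY hzP)
  have hm0 : m = 0 := congrArg Fin.val (hnfi (a₁ := ⟨m, hmn⟩) (a₂ := ⟨0, Nat.two_pow_pos _⟩)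
    (Subtype.ext (by
      show PM.nf m = PM.nf 0
      rw [PM.nf_zero, ← hρnf m, hme]
      exact hz)))
  rw [hm0, M.nf_zero] at hme
  exact hme.symm

end Cert

end Cfsg.Agent.H95.KilledTwo
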