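import Cfsg.Agent.H95.PermIso
import Cfsg.Agent.Unitary.Center

/-!
Recognition of PSU from the permutations induced by some of its elements on coded subspaces.
-/

set_option autoImplicit false

namespace Cfsg.Agent.H95.PSUModel

open Cfsg Cfsg.Agent.Unitary Matrix

variable {K : Type*} [CommRing K] {n k N : ℕ}

/-- A family of subspaces given by bases in reduced echelon form. -/
structure Family (K : Type*) (n k N : ℕ) where
  base : Fin N → Fin k → Fin n → K
  piv : Fin N → Fin k → Fin n

/-- Membership of a vector, through the pivots. -/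
def Family.InSp (L : Family K n k N) (j : Fin N) (v : Fin n → K) : Prop :=
  ∀ c, v c = ∑ s, v (L.piv j s) * L.base j s c

instance [DecidableEq K] (L : Family K n k N) (j : Fin N) (v : Fin n → K) :
    Decidable (L.InSp j v) :=
  inferInstanceAs (Decidable (∀ c, v c = ∑ s, v (L.piv j s) * L.base j s c))

/-- Pivots are unit and the subspaces differ. -/
structure Family.OK (L : Family K n k N) : Prop where
  unit : ∀ i s t, L.base i s (L.piv i t) = if s = t then 1 else 0
  dist : ∀ i j, (∀ s, L.InSp j (L.base i s)) → i = j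

section
variable {F : Type*} [Field F] (φ : K →+* F) (L : Family K n k N)

/-- A vector of the subspace. -/
def comb (i : Fin N) (c : Fin k → F) : Fin n → F := fun z => ∑ s, c s * φ (L.base i s z)

theorem comb_piv (hL : L.OK) (i : Fin N) (c : Fin k → F) (t : Fin k) :
    comb φ L i c (L.piv i t) = c t := by
  simp only [comb, hL.unit i, apply_ite φ, map_one, map_zero, mul_ite, mul_one, mul_zero,
    Finset.sum_ite_eq', Finset.mem_univ, if_true]

theorem comb_basis {i j : Fin N} {s : Fin k} (h : L.InSp j (L.base i s)) :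
    (fun z => φ (L.base i s z)) = comb φ L j (fun t => φ (L.base i s (L.piv j t))) := by
  funext z
  rw [comb, h z, map_sum]
  exact Finset.sum_congr rfl fun t _ => map_mul φ _ _

theorem comb_ofBasis {i j : Fin N} (M : Matrix (Fin n) (Fin n) K)
    (h : ∀ s, L.InSp j (M *ᵥ L.base i s)) (c : Fin k → F) :
    ∃ c', M.map φ *ᵥ comb φ L i c = comb φ L j c' := by
  refine ⟨fun t => ∑ s, c s * φ ((M *ᵥ L.base i s) (L.piv j t)), ?_⟩
  funext z
  have h1 : ∀ s, ∑ y, φ (M z y) * φ (L.base i s y) = φ ((M *ᵥ L.base i s) z) := fun s => by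
    simp [Matrix.mulVec, dotProduct, map_sum]
  calc (M.map φ *ᵥ comb φ L i c) z = ∑ y, φ (M z y) * ∑ s, c s * φ (L.base i s y) := rfl
    _ = ∑ s, c s * φ ((M *ᵥ L.base i s) z) := by
        simp_rw [Finset.mul_sum, ← h1, Finset.mul_sum]
        rw [Finset.sum_comm]
        exact Finset.sum_congr rfl fun s _ => Finset.sum_congr rfl fun y _ => by ring
    _ = ∑ t, (∑ s, c s * φ ((M *ᵥ L.base i s) (L.piv j t))) * φ (L.base j t z) := by
        simp_rw [Finset.sum_mul]
        rw [Finset.sum_comm]
        refine Finset.sum_congr rfl fun s _ => ?_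
        rw [h s z, map_sum, Finset.mul_sum]
        exact Finset.sum_congr rfl fun t _ => by rw [map_mul, mul_assoc]

end

/-- Element `A` induces the permutation on the subspaces. -/
def Induces {F : Type*} [Field F] {q : ℕ} (φ : K →+* F) (L : Family K n k N) (A : SU n F q)
    (σ : Equiv.Perm (Fin N)) : Prop :=
  ∀ i c, ∃ c', ap A (comb φ L i c) = comb φ L (σ i) c'

/-- A coded element of SU inducing a coded permutation. -/
structure GenOK (L : Family K n k N) (q : ℕ) (M : Matrix (Fin n) (Fin n) K)
    (σ : Equiv.Perm (Fin N)) : Prop where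
  form : Mᵀ * M.map (· ^ q) = 1
  det : M.det = 1
  maps : ∀ i s, L.InSp (σ i) (M *ᵥ L.base i s)

theorem psu_iso {F : Type*} [Field F] [Fintype F] {q : ℕ} (hF : Fintype.card F = q ^ 2)
    (hn : 2 ≤ n) (φ : K →+* F) (hφ : Function.Injective φ) (L : Family K n k N) (hL : L.OK)
    (P : Subgroup (Equiv.Perm (Fin N))) {s : Set (Equiv.Perm (Fin N))}
    (hP : P ≤ Subgroup.closure s) (hs : ∀ σ ∈ s, ∃ M, GenOK L q M σ)
    (hcard : Nat.card (PSU n F q) ≤ Nat.card P) : Nonempty (PSU n F q ≃* P) := by
  classical
  haveI : Finite (SU n F q) := inferInstance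
  refine PermIso.quotient_iso (Subgroup.center (SU n F q)) (Induces φ L) ?_ ?_ ?_ P hP ?_ ?_ hcard
  · exact fun i c => ⟨c, by rw [ap_def]; simp [mat]⟩
  · intro g h σ τ hg hh i c
    obtain ⟨c', e⟩ := hh i c
    obtain ⟨c'', e'⟩ := hg (τ i) c'
    exact ⟨c'', by rw [ap_mul, e, e']; rfl⟩
  · intro g σ τ hg hg'
    refine Equiv.ext fun i => ?_
    have hinjc : ∀ j, Function.Injective (comb φ L j) := fun j a b e => funext fun t => by
      rw [← comb_piv φ L hL j a t, e, comb_piv φ L hL j b t]
    have hap : Function.Injective (ap g) := fun x y e => by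
      have e' := congrArg (ap g⁻¹) e
      rwa [← ap_mul, ← ap_mul, inv_mul_cancel, ap_def, ap_def,
        show mat (1 : SU n F q) = 1 by simp [mat], one_mulVec, one_mulVec] at e'
    choose f hf using hg i
    choose f' hf' using hg' i
    have hfi : Function.Injective f := fun a b e =>
      hinjc i (hap (by rw [hf a, hf b, e]))
    have hfs := Finite.injective_iff_surjective.1 hfi
    refine hL.dist _ _ fun r => ?_
    obtain ⟨c, hc⟩ := hfs (Pi.single r 1)
    have e1 : comb φ L (σ i) (Pi.single r 1) = fun z => φ (L.base (σ i) r z) := by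
      funext z
      simp [comb, Pi.single_apply]
    have e2 : (fun z => φ (L.base (σ i) r z)) = comb φ L (τ i) (f' c) := by
      rw [← e1, ← hc, ← hf c, hf' c]
    intro z
    refine hφ ?_
    have h2 := congrFun e2 z
    rw [h2, map_sum]
    refine Finset.sum_congr rfl fun t _ => ?_
    rw [map_mul]
    congr 1
    rw [congrFun e2 (L.piv (τ i) t), comb_piv φ L hL]
  · intro σ hσ
    obtain ⟨M, hM⟩ := hs σ hσ
    have hpres : Preserves q (M.map φ) := by
      refine (preserves_iff_transpose_mul hF).2 ?_
      have h := congrArg (fun X : Matrix (Fin n) (Fin n) K => X.map φ) hM.form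
      simp only [Matrix.map_mul, Matrix.map_map, Matrix.transpose_map,
        Matrix.map_one φ (map_zero φ) (map_one φ)] at h
      rw [← h]
      congr 1
      ext a b
      simp [Matrix.map_apply, map_pow]
    have hdet : (M.map φ).det = 1 := by
      rw [← RingHom.mapMatrix_apply, ← RingHom.map_det, hM.det, map_one]
    refine ⟨toSU hpres hdet, fun i c => ?_⟩
    obtain ⟨c', e⟩ := comb_ofBasis φ L M (hM.maps i) c
    exact ⟨c', e⟩
  · intro z hz i c
    obtain ⟨l, hl⟩ := eq_smul_of_mem_center hF hn hz
    refine ⟨fun s => l * c s, ?_⟩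
    rw [hl]
    funext y
    simp [comb, Finset.mul_sum, mul_assoc]

end Cfsg.Agent.H95.PSUModel
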