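import Cfsg.Agent.H95.PermIso

/-!
A lower bound for the order of a permutation group from orbit trees along a sequence of points.
-/

set_option autoImplicit false

namespace Cfsg.Agent.H95.PermLower

open Cfsg.Agent.Compute

/-- A point, some elements fixing the earlier points and part of the orbit of the point:
entries are image, index of the element in `gens` and position of the parent. -/
structure Step where
  base : ℕ
  gens : List ℕ
  orb : List (ℕ × ℕ × ℕ)

/-- The code of an entry of the program. -/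
noncomputable def codeAt (P : List ((ℕ × ℕ) × ℕ × ℕ)) (k : ℕ) : ℕ := (nth ((0, 0), 0, 0) P k).1.1

/-- Check of one step. -/
noncomputable def stepOK (w n : ℕ) (P : List ((ℕ × ℕ) × ℕ × ℕ)) (fixed : List ℕ) (s : Step) :
    Bool :=
  Nat.ble (Nat.add s.base 1) n &&
    lall s.gens (fun g => Nat.ble (Nat.add g 1) P.length &&
      lall fixed (fun p => Nat.beq (getP w (codeAt P g) p) p)) &&
    Nat.beq (nth (0, 0, 0) s.orb 0).1 s.base &&
    allN s.orb.length (fun i => Nat.beq i 0 ||
      (Nat.ble (Nat.add (nth (0, 0, 0) s.orb i).2.2 1) i &&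
        Nat.ble (Nat.add (nth (0, 0, 0) s.orb i).2.1 1) s.gens.length &&
        Nat.beq (nth (0, 0, 0) s.orb i).1
          (getP w (codeAt P (nth 0 s.gens (nth (0, 0, 0) s.orb i).2.1))
            (nth (0, 0, 0) s.orb (nth (0, 0, 0) s.orb i).2.2).1))) &&
    distinct (s.orb.map Prod.fst) 0

/-- Check of all steps. -/
noncomputable def lowOK (w n : ℕ) (P : List ((ℕ × ℕ) × ℕ × ℕ)) (ls : List Step) : List ℕ → Bool :=
  List.rec (fun _ => true) (fun s _ ih fixed => stepOK w n P fixed s && ih (s.base :: fixed)) ls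

/-- The bound. -/
def bound (ls : List Step) : ℕ := List.rec 1 (fun s _ ih => s.orb.length * ih) ls

/-- The permutations fixing some points. -/
def fixing (n : ℕ) (fixed : List ℕ) : Subgroup (Equiv.Perm (Fin n)) where
  carrier := {σ | ∀ p : Fin n, p.1 ∈ fixed → σ p = p}
  one_mem' := fun _ _ => rfl
  mul_mem' := fun {a b} ha hb p hp => by rw [Equiv.Perm.mul_apply, hb p hp, ha p hp]
  inv_mem' := fun {a} ha p hp => Equiv.Perm.inv_eq_iff_eq.2 (ha p hp).symm

variable {w n m : ℕ} {P : List ((ℕ × ℕ) × ℕ × ℕ)}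

/-- The group generated by the first `m` entries. -/
noncomputable def genGrp (w n m : ℕ) (P : List ((ℕ × ℕ) × ℕ × ℕ)) :
    Subgroup (Equiv.Perm (Fin n)) :=
  Subgroup.closure {σ | ∃ k < m, σ = permDen w n (nth ((0, 0), 0, 0) P k).1.1}

theorem entry_mem (hn : n ≤ 2 ^ w) (h : PermIso.slpOK w n m (P.map Prod.fst) P = true) {k : ℕ}
    (hk : k < P.length) :
    PermOK w n (codeAt P k) ∧ permDen w n (codeAt P k) ∈ genGrp w n m P := by
  refine ⟨?_, PermIso.grp_le hn (ls := [⟨0, P.map Prod.fst, []⟩]) h (Subgroup.subset_closure ?_)⟩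
  · simp only [PermIso.slpOK, Bool.and_eq_true, allN_iff] at h
    exact ((permSound w n hn).okInv_sound (h.1 k hk).1).1
  · exact ⟨_, ⟨(nth ((0, 0), 0, 0) P k).1, List.mem_map.2 ⟨_, nth_mem _ _ _ hk, rfl⟩, rfl⟩, rfl⟩

theorem orbit_mem (hn : n ≤ 2 ^ w) (h : PermIso.slpOK w n m (P.map Prod.fst) P = true)
    {s : Step} {fixed : List ℕ} (hs : stepOK w n P fixed s = true) :
    ∃ hb : s.base < n, (s.orb.map Prod.fst).Nodup ∧ ∀ i < s.orb.length,
      ∃ u ∈ genGrp w n m P ⊓ fixing n fixed, (u ⟨s.base, hb⟩ : ℕ) = (nth (0, 0, 0) s.orb i).1 := by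
  simp only [stepOK, Bool.and_eq_true, Nat.ble_eq, Nat.beq_eq, lall_iff, allN_iff,
    Bool.or_eq_true] at hs
  obtain ⟨⟨⟨⟨hb, hg⟩, h0⟩, htree⟩, hd⟩ := hs
  refine ⟨hb, (distinct_sound _ _ hd).1, fun i => ?_⟩
  set H := genGrp w n m P ⊓ fixing n fixed
  induction i using Nat.strong_induction_on with
  | _ i ih =>
    intro hi
    rcases htree i hi with h1 | ⟨⟨hp, hgi⟩, he⟩
    · subst h1
      exact ⟨1, H.one_mem, h0.symm⟩
    · obtain ⟨u, huH, hup⟩ := ih _ hp (lt_trans hp hi)
      obtain ⟨hgl, hgf⟩ := hg _ (nth_mem 0 s.gens _ hgi)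
      obtain ⟨ok, hmem⟩ := entry_mem hn h hgl
      refine ⟨_, H.mul_mem (x := permDen w n (codeAt P (nth 0 s.gens _))) ⟨hmem, ?_⟩ huH, ?_⟩
      · intro p hp'
        exact Fin.ext ((permDen_apply ok p).trans (hgf p hp'))
      · rw [Equiv.Perm.mul_apply, permDen_apply ok, hup, he]

theorem step_bound (hn : n ≤ 2 ^ w) (h : PermIso.slpOK w n m (P.map Prod.fst) P = true)
    {s : Step} {fixed : List ℕ} (hs : stepOK w n P fixed s = true) :
    s.orb.length * Nat.card (genGrp w n m P ⊓ fixing n (s.base :: fixed) : Subgroup _) ≤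
      Nat.card (genGrp w n m P ⊓ fixing n fixed : Subgroup _) := by
  obtain ⟨hb, hd, hu⟩ := orbit_mem hn h hs
  set H := genGrp w n m P ⊓ fixing n fixed
  choose u huH hub using hu
  let f : Fin s.orb.length × (genGrp w n m P ⊓ fixing n (s.base :: fixed) : Subgroup _) → H :=
    fun x => ⟨u x.1 x.1.2 * x.2.1, H.mul_mem (huH _ _)
      ⟨x.2.2.1, fun p hp => x.2.2.2 p (List.mem_cons_of_mem _ hp)⟩⟩
  have hf : Function.Injective f := by
    rintro ⟨i, a⟩ ⟨j, b⟩ e
    have e' : u i i.2 * a.1 = u j j.2 * b.1 := congrArg Subtype.val e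
    have e1 := congrArg (fun σ : Equiv.Perm (Fin n) => (σ ⟨s.base, hb⟩ : ℕ)) e'
    simp only [Equiv.Perm.mul_apply, a.2.2 ⟨s.base, hb⟩ (List.mem_cons_self ..),
      b.2.2 ⟨s.base, hb⟩ (List.mem_cons_self ..)] at e1
    rw [hub, hub, nth_eq_getElem _ _ _ i.2, nth_eq_getElem _ _ _ j.2] at e1
    have hij : i = j := by
      refine Fin.ext ((List.Nodup.getElem_inj_iff (hi := ?_) (hj := ?_)
        hd).1 ?_)
      · simp
      · simp
      · simpa using e1
    subst hij
    exact Prod.ext rfl (Subtype.ext (mul_left_cancel e'))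
  have := Nat.card_le_card_of_injective f hf
  simpa [Nat.card_prod] using this

theorem lower (hn : n ≤ 2 ^ w) (h : PermIso.slpOK w n m (P.map Prod.fst) P = true) :
    ∀ {ls : List Step} {fixed : List ℕ}, lowOK w n P ls fixed = true →
      bound ls ≤ Nat.card (genGrp w n m P ⊓ fixing n fixed : Subgroup _) := by
  intro ls
  induction ls with
  | nil => exact fun _ => Nat.card_pos
  | cons s t ih =>
    intro fixed hl
    have hl' : (stepOK w n P fixed s && lowOK w n P t (s.base :: fixed)) = true := hl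
    rw [Bool.and_eq_true] at hl'
    calc bound (s :: t) = s.orb.length * bound t := rfl
      _ ≤ _ := Nat.mul_le_mul_left _ (ih hl'.2)
      _ ≤ _ := step_bound hn h hl'.1

/-- The generated group has at least the product of the orbit lengths as order. -/
theorem transitive (hn : n ≤ 2 ^ w) (h : PermIso.slpOK w n m (P.map Prod.fst) P = true)
    {s : Step} {t : List Step} (hl : lowOK w n P (s :: t) [] = true) (hlen : s.orb.length = n)
    (i : Fin n) : ∃ σ ∈ genGrp w n m P, (σ i : ℕ) = s.base := by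
  have hl' : (stepOK w n P [] s && lowOK w n P t [s.base]) = true := hl
  rw [Bool.and_eq_true] at hl'
  obtain ⟨hb, hd, hu⟩ := orbit_mem hn h hl'.1
  choose u huH hub using hu
  let f : Fin s.orb.length → Fin n := fun j => u j j.2 ⟨s.base, hb⟩
  have hf : Function.Injective f := by
    intro a b e
    have e1 := congrArg Fin.val e
    simp only [f, hub, nth_eq_getElem _ _ _ a.2, nth_eq_getElem _ _ _ b.2] at e1
    refine Fin.ext ((List.Nodup.getElem_inj_iff (hi := ?_) (hj := ?_) hd).1 ?_)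
    · simp
    · simp
    · simpa using e1
  obtain ⟨j, hj⟩ := (Fintype.bijective_iff_injective_and_card f).2 ⟨hf, by simp [hlen]⟩ |>.2 i
  refine ⟨(u j j.2)⁻¹, inv_mem (huH j j.2).1, ?_⟩
  simp [← hj, f]

theorem card_ge (hn : n ≤ 2 ^ w) (h : PermIso.slpOK w n m (P.map Prod.fst) P = true)
    {ls : List Step} (hl : lowOK w n P ls [] = true) : bound ls ≤ Nat.card (genGrp w n m P) :=
  (lower hn h hl).trans (Nat.card_mono (Set.toFinite _) inf_le_left)

end Cfsg.Agent.H95.PermLower
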