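import Mathlib

/-!
A lower bound on the sum of the ranks `1 - x`, `1 - y`, `1 - x y` in the permutation module when
two permutations fix a point and generate a group transitive on the others (Ree, Scott).
-/

set_option autoImplicit false

namespace Cfsg.Agent.H95

open Module

variable {α : Type*} [Fintype α] [DecidableEq α]

set_option linter.unusedSectionVars false

/-- A permutation on functions. -/
noncomputable def permLin (σ : Equiv.Perm α) : (α → ℚ) →ₗ[ℚ] (α → ℚ) :=
  LinearMap.funLeft ℚ ℚ (σ.symm : α → α)

omit [DecidableEq α] [Fintype α] in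
lemma permLin_apply (σ : Equiv.Perm α) (v : α → ℚ) (a : α) : permLin σ v a = v (σ.symm a) := rfl

omit [DecidableEq α] [Fintype α] in
lemma permLin_mul (σ τ : Equiv.Perm α) (v : α → ℚ) :
    permLin (σ * τ) v = permLin σ (permLin τ v) := by
  ext a
  simp [permLin_apply, Equiv.Perm.mul_def]

/-- The rank of `1 - σ`. -/
noncomputable def moveRank (σ : Equiv.Perm α) : ℕ :=
  finrank ℚ (LinearMap.range (LinearMap.id - permLin σ))

theorem moveRank_bound {σ : Equiv.Perm α} {p f : ℕ} (hp : p.Prime) (h : orderOf σ = p)
    (hf : f ≤ (Finset.univ.filter fun a => σ a = a).card) :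
    p * moveRank σ + (p - 1) * f ≤ (p - 1) * Fintype.card α := by
  classical
  set H := Subgroup.zpowers σ
  let mk : α → MulAction.orbitRel.Quotient H α := Quotient.mk''
  have hker : Fintype.card (MulAction.orbitRel.Quotient H α)
      ≤ finrank ℚ (LinearMap.ker (LinearMap.id - permLin σ)) := by
    let i : (MulAction.orbitRel.Quotient H α → ℚ) →ₗ[ℚ]
        LinearMap.ker (LinearMap.id - permLin σ) :=
      (LinearMap.funLeft ℚ ℚ mk).codRestrict _ fun v => by
        rw [LinearMap.mem_ker]
        refine funext fun a => ?_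
        show v (mk a) - v (mk (σ.symm a)) = 0
        rw [sub_eq_zero]
        refine congrArg v (Quotient.sound' ?_)
        exact ⟨⟨σ, Subgroup.mem_zpowers σ⟩, Equiv.apply_symm_apply σ a⟩
    have hi : Function.Injective i := fun v w hvw =>
      LinearMap.funLeft_injective_of_surjective ℚ ℚ mk Quotient.mk''_surjective
        (congrArg Subtype.val hvw)
    have := LinearMap.finrank_le_finrank_of_injective hi
    rwa [Module.finrank_fintype_fun_eq_card] at this
  have hrn := LinearMap.finrank_range_add_finrank_ker (LinearMap.id - permLin σ)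
  rw [Module.finrank_fintype_fun_eq_card] at hrn
  have hburn := MulAction.sum_card_fixedBy_eq_card_orbits_mul_card_group H α
  have hcard : Fintype.card H = p := by
    rw [← h, ← Nat.card_eq_fintype_card, Nat.card_zpowers]
  rw [hcard] at hburn
  have hsum : Fintype.card α + (p - 1) * f ≤ ∑ g : H, Fintype.card (MulAction.fixedBy α g) := by
    rw [← Finset.add_sum_erase _ _ (Finset.mem_univ (1 : H))]
    refine add_le_add (le_of_eq ?_) ?_
    · exact (Fintype.card_congr (Equiv.subtypeUnivEquiv fun a => one_smul H a)).symm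
    · rw [show (p - 1) = (Finset.univ.erase (1 : H)).card by
        rw [Finset.card_erase_of_mem (Finset.mem_univ _), Finset.card_univ, hcard], ← smul_eq_mul]
      refine Finset.card_nsmul_le_sum _ _ _ fun g _ => hf.trans ?_
      rw [← Set.toFinset_card]
      refine Finset.card_le_card fun a ha => ?_
      rw [Finset.mem_filter] at ha
      obtain ⟨k, hk⟩ := Subgroup.mem_zpowers_iff.1 g.2
      rw [Set.mem_toFinset, MulAction.mem_fixedBy, Subgroup.smul_def, ← hk, Equiv.Perm.smul_def]
      exact Equiv.Perm.zpow_apply_eq_self_of_apply_eq_self ha.2 k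
  rw [hburn] at hsum
  have h1 : moveRank σ + Fintype.card (MulAction.orbitRel.Quotient H α) ≤ Fintype.card α := by
    rw [moveRank]; omega
  obtain ⟨q, rfl⟩ : ∃ q, p = q + 1 := ⟨p - 1, (Nat.sub_add_cancel hp.one_le).symm⟩
  simp only [Nat.add_sub_cancel] at hsum ⊢
  nlinarith

/-- A space containing the images of `1 - x` and `1 - y` has codimension at most two. -/
lemma move_span_bound {x y : Equiv.Perm α} {o b : α}
    (htr : ∀ a, a ≠ o → ∃ g ∈ Subgroup.closure {x, y}, g b = a) (K : Submodule ℚ (α → ℚ))
    (hA : ∀ v, v - permLin x v ∈ K) (hB : ∀ v, v - permLin y v ∈ K) :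
    Fintype.card α ≤ finrank ℚ K + 2 := by
  let S : Subgroup (Equiv.Perm α) :=
    { carrier := {σ | ∀ v, v - permLin σ v ∈ K}
      one_mem' := fun v => by
        rw [show permLin 1 v = v from rfl, sub_self]; exact zero_mem _
      mul_mem' := fun {σ τ} hσ hτ v => by
        rw [permLin_mul, ← sub_add_sub_cancel v (permLin τ v) (permLin σ (permLin τ v))]
        exact add_mem (hτ v) (hσ _)
      inv_mem' := fun {σ} hσ v => by
        have e : permLin σ (permLin σ⁻¹ v) = v := by
          rw [← permLin_mul, mul_inv_cancel]; rfl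
        have h := hσ (permLin σ⁻¹ v)
        rw [e] at h
        rw [← neg_sub]
        exact neg_mem h }
  have hS : Subgroup.closure {x, y} ≤ S := by
    rw [Subgroup.closure_le]
    rintro σ (rfl | rfl)
    · exact hA
    · exact hB
  let T : Submodule ℚ (α → ℚ) := Submodule.span ℚ {Pi.single o (1 : ℚ), Pi.single b (1 : ℚ)}
  have hspan : K ⊔ T = ⊤ := by
    rw [eq_top_iff, ← (Pi.basisFun ℚ α).span_eq, Submodule.span_le]
    rintro _ ⟨a, rfl⟩
    rw [Pi.basisFun_apply]
    by_cases ha : a = o
    · subst ha
      exact Submodule.mem_sup_right (Submodule.subset_span (by simp))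
    obtain ⟨g, hg, hga⟩ := htr a ha
    have h := hS hg (Pi.single b 1)
    have e : permLin g (Pi.single b (1 : ℚ)) = Pi.single a 1 := by
      ext c
      rw [permLin_apply, Pi.single_apply, Pi.single_apply]
      exact if_congr (by rw [Equiv.symm_apply_eq, hga]) rfl rfl
    rw [e] at h
    have hb : Pi.single b (1 : ℚ) ∈ T := Submodule.subset_span (by simp)
    have := Submodule.sub_mem _ (Submodule.mem_sup_right (S := K) hb)
      (Submodule.mem_sup_left (T := T) h)
    rwa [sub_sub_cancel] at this
  have h := Submodule.finrank_add_le_finrank_add_finrank K T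
  rw [hspan, finrank_top, Module.finrank_fintype_fun_eq_card] at h
  have h2 : finrank ℚ T ≤ 2 := by
    refine (finrank_span_le_card _).trans ?_
    rw [Set.toFinset_insert, Set.toFinset_singleton]
    exact (Finset.card_insert_le _ _).trans (by simp)
  omega

/-- The common fixed functions form a space of dimension at most two. -/
lemma fixed_fun_bound {x y : Equiv.Perm α} {o b : α}
    (htr : ∀ a, a ≠ o → ∃ g ∈ Subgroup.closure {x, y}, g b = a) (K : Submodule ℚ (α → ℚ))
    (hA : ∀ v ∈ K, ∀ a, v (x a) = v a) (hB : ∀ v ∈ K, ∀ a, v (y a) = v a) : finrank ℚ K ≤ 2 := by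
  let ev : K →ₗ[ℚ] ℚ × ℚ :=
    ((LinearMap.proj o).comp K.subtype).prod ((LinearMap.proj b).comp K.subtype)
  have hev : Function.Injective ev := by
    rw [← LinearMap.ker_eq_bot, Submodule.eq_bot_iff]
    rintro ⟨v, hv⟩ hz
    have h0 : v o = 0 := congrArg Prod.fst hz
    have h1 : v b = 0 := congrArg Prod.snd hz
    let T : Subgroup (Equiv.Perm α) :=
      { carrier := {σ | ∀ a, v (σ a) = v a}
        one_mem' := fun a => rfl
        mul_mem' := fun {σ τ} hσ hτ a => by rw [Equiv.Perm.mul_apply, hσ, hτ]
        inv_mem' := fun {σ} hσ a => by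
          rw [← hσ (σ⁻¹ a), Equiv.Perm.coe_inv, Equiv.apply_symm_apply] }
    have hT : Subgroup.closure {x, y} ≤ T := by
      rw [Subgroup.closure_le]
      rintro σ (rfl | rfl)
      · exact hA v hv
      · exact hB v hv
    refine Subtype.ext (funext fun a => ?_)
    by_cases ha : a = o
    · subst ha; exact h0
    · obtain ⟨g, hg, hga⟩ := htr a ha
      show v a = 0
      rw [← hga, hT hg b, h1]
  have := LinearMap.finrank_le_finrank_of_injective hev
  simpa using this

lemma finrank_range_add_le {V W U : Type*} [AddCommGroup V] [Module ℚ V] [AddCommGroup W]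
    [Module ℚ W] [FiniteDimensional ℚ W] [AddCommGroup U] [Module ℚ U] (f : V →ₗ[ℚ] W)
    (g : W →ₗ[ℚ] U) (h : g.comp f = 0) :
    finrank ℚ (LinearMap.range f) + finrank ℚ (LinearMap.range g) ≤ finrank ℚ W := by
  rw [← LinearMap.finrank_range_add_finrank_ker g, add_comm]
  exact Nat.add_le_add_left (Submodule.finrank_mono (LinearMap.range_le_ker_iff.2 h)) _

/-- Two permutations fixing `o` whose group is transitive off `o`. -/
theorem scott_bound (x y : Equiv.Perm α) (o b : α)
    (htr : ∀ a, a ≠ o → ∃ g ∈ Subgroup.closure {x, y}, g b = a) :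
    2 * Fintype.card α ≤ moveRank x + moveRank y + moveRank (x * y) + 4 := by
  let A : (α → ℚ) →ₗ[ℚ] (α → ℚ) := LinearMap.id - permLin x
  let B : (α → ℚ) →ₗ[ℚ] (α → ℚ) := LinearMap.id - permLin y
  let C : (α → ℚ) →ₗ[ℚ] (α → ℚ) := LinearMap.id - permLin (x * y)
  let down : (α → ℚ) →ₗ[ℚ] LinearMap.range A × LinearMap.range B × LinearMap.range C :=
    A.rangeRestrict.prod (B.rangeRestrict.prod C.rangeRestrict)
  let up : LinearMap.range A × LinearMap.range B × LinearMap.range C →ₗ[ℚ] (α → ℚ) :=
    LinearMap.coprod (LinearMap.range A).subtype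
      (LinearMap.coprod ((permLin x).comp (LinearMap.range B).subtype)
        (-(LinearMap.range C).subtype))
  have hzero : up.comp down = 0 := by
    refine LinearMap.ext fun v => ?_
    show (v - permLin x v) + (permLin x (v - permLin y v) + -(v - permLin (x * y) v)) = 0
    rw [map_sub, permLin_mul]
    abel
  have hA : ∀ v, v - permLin x v ∈ LinearMap.range up := fun v =>
    ⟨(⟨A v, v, rfl⟩, 0, 0), by
      show A v + (permLin x 0 + -0) = v - permLin x v
      rw [map_zero, neg_zero, add_zero, add_zero]; rfl⟩
  have hB : ∀ v, v - permLin y v ∈ LinearMap.range up := fun v => by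
    have h1 : permLin x (B v) ∈ LinearMap.range up := ⟨(0, ⟨B v, v, rfl⟩, 0), by
      show (0 : α → ℚ) + (permLin x (B v) + -0) = _
      rw [neg_zero, zero_add, add_zero]⟩
    have h2 := Submodule.add_mem _ h1 (hA (B v))
    rw [add_sub_cancel] at h2
    exact h2
  have hup := move_span_bound htr _ hA hB
  have hdown : finrank ℚ (LinearMap.ker down) ≤ 2 := by
    refine fixed_fun_bound htr _ (fun v hv a => ?_) (fun v hv a => ?_)
    · have h : v - permLin x v = 0 :=
        congrArg Subtype.val (congrArg Prod.fst (LinearMap.mem_ker.1 hv))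
      have h' := congrFun h (x a)
      simpa [permLin_apply, sub_eq_zero] using h'
    · have h : v - permLin y v = 0 :=
        congrArg Subtype.val (congrArg Prod.fst (congrArg Prod.snd (LinearMap.mem_ker.1 hv)))
      have h' := congrFun h (y a)
      simpa [permLin_apply, sub_eq_zero] using h'
  have h1 := LinearMap.finrank_range_add_finrank_ker down
  rw [Module.finrank_fintype_fun_eq_card] at h1
  have h2 := finrank_range_add_le down up hzero
  rw [Module.finrank_prod, Module.finrank_prod] at h2
  show 2 * Fintype.card α ≤ finrank ℚ (LinearMap.range A) + finrank ℚ (LinearMap.range B) +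
    finrank ℚ (LinearMap.range C) + 4
  omega

end Cfsg.Agent.H95
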