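import Cfsg.Agent.H95.ReeThreeGenCheck
import Cfsg.Agent.H95.GolayOrbit

/-!
The smallest small Ree group as permutations of 56 vectors.
-/

set_option autoImplicit false
set_option maxRecDepth 100000

namespace Cfsg.Agent.H95.ReeThree

open Cfsg.Lie Matrix

/-- A combination of vectors. -/
def spanVal : List (ℕ × ℕ) → ℕ
  | [] => 0
  | p :: l => addT (bif p.2 == 1 then vecCode p.1 else negT (vecCode p.1)) (spanVal l)

lemma vec_checks :
    (ixList.all fun a => (spanData.getD (pos a) []).all (fun p => Nat.blt p.1 56) &&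
      ixList.all fun b =>
        decide (decode (spanVal (spanData.getD (pos a) [])) b = if b = a then 1 else 0)) = true ∧
    (List.range 56).all (fun k => addT 0 (vecCode k) == vecCode k) = true ∧
    distinctB vecData = true ∧ vecData.length = 56 := by
  decide +kernel

/-- The code of a vector. -/
def encode (v : Ix → ZMod 3) : ℕ :=
  ((List.range 14).map fun i => if i < 2 then
      (if h : i < 2 then
        (match (v (Sum.inl ⟨i, h⟩)).val with | 0 => 0 | 1 => 2 ^ i | _ => 2 ^ (14 + i))
      else 0)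
    else if h : i - 2 < 12 then
        (match (v (Sum.inr ⟨i - 2, h⟩)).val with | 0 => 0 | 1 => 2 ^ i | _ => 2 ^ (14 + i))
      else 0).sum

lemma encode_vec : ∀ k : Fin 56, encode (vec k) = vecCode k.val := by decide +kernel

lemma vec_injective : Function.Injective vec := by
  intro a b h
  have e : vecCode a.val = vecCode b.val := by rw [← encode_vec, h, encode_vec]
  obtain ⟨-, -, hd, hl⟩ := vec_checks
  refine Fin.ext ((nodup_of_distinctB hd).getElem_inj_iff (hi := by omega) (hj := by omega) |>.1 ?_)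
  simpa [vecCode, List.getD_eq_getElem?_getD, hl, a.2, b.2] using e

/-- Elements moving each vector to one of the vectors. -/
def Stab56 : Subgroup (GL Ix (ZMod 3)) where
  carrier := {g | ∀ k, ∃ j, (g : Matrix Ix Ix (ZMod 3)) *ᵥ vec k = vec j}
  one_mem' := fun k => ⟨k, by rw [Units.val_one, Matrix.one_mulVec]⟩
  mul_mem' := fun {g h} hg hh k => by
    obtain ⟨j, hj⟩ := hh k
    obtain ⟨i, hi⟩ := hg j
    exact ⟨i, by rw [Units.val_mul, ← Matrix.mulVec_mulVec, hj, hi]⟩
  inv_mem' := fun {g} hg k => by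
    choose f hf using hg
    have hinj : Function.Injective f := fun a b e => vec_injective <| by
      have h := congrArg ((↑g⁻¹ : Matrix Ix Ix (ZMod 3)) *ᵥ ·)
        ((hf a).trans ((congrArg vec e).trans (hf b).symm))
      simpa [Matrix.mulVec_mulVec] using h
    obtain ⟨j, rfl⟩ := (Finite.injective_iff_surjective.1 hinj) k
    refine ⟨j, ?_⟩
    rw [← hf, Matrix.mulVec_mulVec, Units.inv_mul, Matrix.one_mulVec]

/-- The group. -/
abbrev G3 : Subgroup (GL Ix (ZMod 3)) := twistedG2 (ZMod 3) 1

lemma word_act (t u v : ZMod 3) (b : Bool) :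
    (∀ p ∈ genWord t u v b, p.1 < 12) ∧ ∀ k : Fin 56,
      ∃ h : app6 (genData.getD (genIdx t u v b) 0) k.val < 56,
        chevG2.wordMat (ZMod 3) (genWord t u v b) *ᵥ vec k = vec ⟨_, h⟩ := by
  have hb : b ∈ [false, true] := by cases b <;> simp
  have h := List.all_eq_true.1 (List.all_eq_true.1 (List.all_eq_true.1
    (List.all_eq_true.1 gen_checks t (List.mem_finRange t)) u (List.mem_finRange u)) v
      (List.mem_finRange v)) b hb
  rw [Bool.and_eq_true] at h
  have hw : ∀ p ∈ genWord t u v b, p.1 < 12 := fun p hp =>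
    Nat.ble_eq.mp (List.all_eq_true.1 h.1 p hp)
  refine ⟨hw, fun k => ?_⟩
  have h' := List.all_eq_true.1 h.2 k.val (List.mem_range.2 k.2)
  simp only [Bool.and_eq_true, beq_iff_eq] at h'
  refine ⟨Nat.ble_eq.mp h'.1, ?_⟩
  rw [vec, wordMat_mulVec _ hw]
  exact congrArg decode h'.2

lemma exists_word {g : GL Ix (ZMod 3)} (hg : ∃ w ∈ g2Words (ZMod 3) 1,
    (g : Matrix Ix Ix (ZMod 3)) = chevG2.wordMat (ZMod 3) w) :
    ∃ t u v b, (g : Matrix Ix Ix (ZMod 3)) = chevG2.wordMat (ZMod 3) (genWord t u v b) := by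
  obtain ⟨w, ⟨t, u, v, rfl | rfl⟩, he⟩ := hg
  · exact ⟨t, u, v, false, he⟩
  · exact ⟨t, u, v, true, he⟩

lemma G3_le : G3 ≤ Stab56 := by
  refine (Subgroup.closure_le _).2 fun g hg k => ?_
  obtain ⟨t, u, v, b, he⟩ := exists_word hg
  obtain ⟨h, e⟩ := (word_act t u v b).2 k
  exact ⟨⟨_, h⟩, by rw [he, e]⟩

lemma exists_image (g : G3) (k : Fin 56) :
    ∃ j, ((g : GL Ix (ZMod 3)) : Matrix Ix Ix (ZMod 3)) *ᵥ vec k = vec j :=
  G3_le g.2 k

/-- The image of a vector. -/
noncomputable def move (g : G3) (k : Fin 56) : Fin 56 := (exists_image g k).choose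

lemma vec_move (g : G3) (k : Fin 56) :
    vec (move g k) = ((g : GL Ix (ZMod 3)) : Matrix Ix Ix (ZMod 3)) *ᵥ vec k :=
  (exists_image g k).choose_spec.symm

/-- The permutation action. -/
noncomputable instance : MulAction G3 (Fin 56) where
  smul := move
  one_smul k := vec_injective <| by
    show vec (move 1 k) = _
    rw [vec_move, Subgroup.coe_one, Units.val_one, Matrix.one_mulVec]
  mul_smul g h k := vec_injective <| by
    show vec (move (g * h) k) = vec (move g (move h k))
    rw [vec_move, vec_move, vec_move, Subgroup.coe_mul, Units.val_mul, Matrix.mulVec_mulVec]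

/-- The representation. -/
noncomputable def perm56 : G3 →* Equiv.Perm (Fin 56) := MulAction.toPermHom G3 (Fin 56)

lemma vec_perm56 (g : G3) (k : Fin 56) :
    vec (perm56 g k) = ((g : GL Ix (ZMod 3)) : Matrix Ix Ix (ZMod 3)) *ᵥ vec k :=
  vec_move g k

theorem perm56_injective : Function.Injective perm56 := by
  rw [injective_iff_map_eq_one]
  intro g hg
  have hfix : ∀ k, ((g : GL Ix (ZMod 3)) : Matrix Ix Ix (ZMod 3)) *ᵥ vec k = vec k := fun k => by
    rw [← vec_perm56, hg]; rfl
  have hneg : ∀ c, decode (negT c) = -decode c := decode_negT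
  set M := ((g : GL Ix (ZMod 3)) : Matrix Ix Ix (ZMod 3))
  have hspan : ∀ l : List (ℕ × ℕ), (∀ p ∈ l, p.1 < 56) →
      M *ᵥ decode (spanVal l) = decode (spanVal l) := by
    intro l
    induction l with
    | nil => intro; simp [spanVal, decode_zero]
    | cons p l ih =>
      intro hl
      have hp := hfix ⟨p.1, hl p (List.mem_cons_self ..)⟩
      rw [spanVal, decode_addT, Matrix.mulVec_add, ih fun q hq => hl q (List.mem_cons_of_mem _ hq)]
      refine congrArg (· + _) ?_
      cases p.2 == 1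
      · rw [cond_false, hneg, Matrix.mulVec_neg]
        exact congrArg Neg.neg hp
      · exact hp
  refine Subtype.ext (Units.ext (Matrix.ext fun a b => ?_))
  have h := List.all_eq_true.1 vec_checks.1 b (ixList_facts.2 b)
  rw [Bool.and_eq_true] at h
  have e : decode (spanVal (spanData.getD (pos b) [])) = Pi.single b 1 := funext fun c => by
    rw [Pi.single_apply]
    exact of_decide_eq_true (List.all_eq_true.1 h.2 c (ixList_facts.2 c))
  have hb := congrFun (hspan _ fun p hp => Nat.ble_eq.mp (List.all_eq_true.1 h.1 p hp)) a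
  rw [e, Matrix.mulVec_single_one, Pi.single_apply] at hb
  simpa [Matrix.one_apply] using hb

/-- A permutation has the values of a table. -/
def Rep (σ : Equiv.Perm (Fin 56)) (t : ℕ) : Prop := ∀ k, (σ k).val = app6 t k.val

theorem gen_image (t u v : ZMod 3) (b : Bool) :
    ∃ g : G3, Rep (perm56 g) (genData.getD (genIdx t u v b) 0) := by
  obtain ⟨hw, hk⟩ := word_act t u v b
  let x : GL Ix (ZMod 3) := (wordMat_isUnit _ hw).unit
  have hx : x ∈ G3 := Subgroup.subset_closure ⟨genWord t u v b, by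
    cases b
    · exact ⟨t, u, v, Or.inl rfl⟩
    · exact ⟨t, u, v, Or.inr rfl⟩, rfl⟩
  refine ⟨⟨x, hx⟩, fun k => ?_⟩
  obtain ⟨h, e⟩ := hk k
  exact congrArg Fin.val (show perm56 ⟨x, hx⟩ k = ⟨_, h⟩ from
    vec_injective ((vec_perm56 _ k).trans e))

theorem gen_cover {g : G3} (hg : ∃ w ∈ g2Words (ZMod 3) 1,
    ((g : GL Ix (ZMod 3)) : Matrix Ix Ix (ZMod 3)) = chevG2.wordMat (ZMod 3) w) :
    ∃ i < 54, Rep (perm56 g) (genData.getD i 0) := by
  obtain ⟨t, u, v, b, he⟩ := exists_word hg
  refine ⟨genIdx t u v b, ?_, fun k => ?_⟩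
  · have h1 := ZMod.val_lt t
    have h2 := ZMod.val_lt u
    have h3 := ZMod.val_lt v
    cases b <;> simp only [genIdx, cond_true, cond_false] <;> omega
  · obtain ⟨h, e⟩ := (word_act t u v b).2 k
    refine congrArg Fin.val (show perm56 g k = ⟨_, h⟩ from vec_injective ?_)
    rw [vec_perm56, he, e]

end Cfsg.Agent.H95.ReeThree
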