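import Cfsg.Agent.H95.ReeThreeMat

/-!
Checks: the generators of the smallest small Ree group permute the 56 vectors as tabulated.
-/

set_option autoImplicit false
set_option maxRecDepth 100000
set_option Elab.async false

namespace Cfsg.Agent.H95.ReeThree

open Cfsg.Lie

/-- Entry of a table of 56 values. -/
def app6 (t k : ℕ) : ℕ := Nat.land (Nat.shiftRight t (6 * k)) 63

/-- The `k`-th vector. -/
def vecCode (k : ℕ) : ℕ := vecData.getD k 0

/-- The `k`-th vector as a function. -/
def vec (k : Fin 56) : Ix → ZMod 3 := decode (vecCode k.val)

/-- The generating words. -/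
def genWord (t u v : ZMod 3) (b : Bool) : List (ℕ × ZMod 3) :=
  bif b then reeWordV 1 t u v else reeWordU 1 t u v

/-- Position of a generating word in the list. -/
def genIdx (t u v : ZMod 3) (b : Bool) : ℕ :=
  2 * ((t.val * 3 + u.val) * 3 + v.val) + (bif b then 1 else 0)

lemma gen_checks0 :
    ((List.finRange 3).all fun u : ZMod 3 =>
      (List.finRange 3).all fun v : ZMod 3 => [false, true].all fun b =>
        (genWord 0 u v b).all (fun p => Nat.blt p.1 12) &&
        (List.range 56).all fun k =>
          let g := genData.getD (genIdx 0 u v b) 0
          Nat.blt (app6 g k) 56 && applyWord (genWord 0 u v b) (vecCode k) == vecCode (app6 g k))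
      = true := by
  decide +kernel

lemma gen_checks1 :
    ((List.finRange 3).all fun u : ZMod 3 =>
      (List.finRange 3).all fun v : ZMod 3 => [false, true].all fun b =>
        (genWord 1 u v b).all (fun p => Nat.blt p.1 12) &&
        (List.range 56).all fun k =>
          let g := genData.getD (genIdx 1 u v b) 0
          Nat.blt (app6 g k) 56 && applyWord (genWord 1 u v b) (vecCode k) == vecCode (app6 g k))
      = true := by
  decide +kernel

lemma gen_checks2 :
    ((List.finRange 3).all fun u : ZMod 3 =>
      (List.finRange 3).all fun v : ZMod 3 => [false, true].all fun b =>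
        (genWord 2 u v b).all (fun p => Nat.blt p.1 12) &&
        (List.range 56).all fun k =>
          let g := genData.getD (genIdx 2 u v b) 0
          Nat.blt (app6 g k) 56 && applyWord (genWord 2 u v b) (vecCode k) == vecCode (app6 g k))
      = true := by
  decide +kernel

lemma gen_checks :
    ((List.finRange 3).all fun t : ZMod 3 => (List.finRange 3).all fun u : ZMod 3 =>
      (List.finRange 3).all fun v : ZMod 3 => [false, true].all fun b =>
        (genWord t u v b).all (fun p => Nat.blt p.1 12) &&
        (List.range 56).all fun k =>
          let g := genData.getD (genIdx t u v b) 0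
          Nat.blt (app6 g k) 56 && applyWord (genWord t u v b) (vecCode k) == vecCode (app6 g k))
      = true := by
  refine List.all_eq_true.2 fun t _ => ?_
  rcases (show ∀ t : ZMod 3, t = 0 ∨ t = 1 ∨ t = 2 by decide) t with rfl | rfl | rfl
  · exact gen_checks0
  · exact gen_checks1
  · exact gen_checks2

end Cfsg.Agent.H95.ReeThree
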