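import Cfsg.Agent.H95.ReeThreeTreeCheck
import Cfsg.Agent.H38.Ree.Group

/-!
The derived subgroup of the smallest small Ree group: order 504 and simplicity.
-/

set_option autoImplicit false
set_option maxRecDepth 100000

namespace Cfsg.Agent.H95.ReeThree

open Cfsg.Lie
open scoped commutatorElement

lemma conj_checks :
    ((List.range 54).all fun g =>
      let p := conjData.getD g (0, 0)
      let t := genData.getD g 0
      Nat.blt p.1 504 && Nat.blt p.2 504 && sqB t (el iA) (el p.1) t &&
        sqB t (el iB) (el p.2) t) = true ∧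
    ((List.range 2).all fun j =>
      let p := commData.getD j (0, 0)
      let a := genData.getD p.1 0
      let b := genData.getD p.2 0
      Nat.blt p.1 54 && Nat.blt p.2 54 &&
        (List.range 56).all fun k => app6 (pickAB j) (app6 b (app6 a k)) == app6 a (app6 b k))
      = true := by
  decide +kernel

lemma class_checks :
    ((List.range 504).all fun i =>
      let p := classData.getD i (0, 0)
      Nat.blt p.1 9 && Nat.blt p.2 504 && Nat.blt (repData.getD p.1 0) 504 &&
        sqB (el i) (el p.2) (el p.2) (el (repData.getD p.1 0))) = true ∧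
    clsOf 0 = 0 ∧ repData.getD 0 0 = 0 ∧
    ((List.range 9).all fun k =>
      ((List.range 504).filter fun i => clsOf i == k).length == sizeData.getD k 0) = true := by
  decide +kernel

lemma union_checks : ∀ f : Finset (Fin 9), 0 ∈ f →
    (∑ k ∈ f, sizeData.getD k.val 0) ∣ 504 → f = {0} ∨ f = Finset.univ := by
  decide +kernel

lemma sizes_total :
    (∑ k : Fin 9, sizeData.getD k.val 0) = 504 ∧ sizeData.getD 0 0 = 1 := by decide +kernel

lemma rep_ext {σ τ : Equiv.Perm (Fin 56)} {t : ℕ} (h : Rep σ t) (h' : Rep τ t) : σ = τ :=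
  Equiv.ext fun k => Fin.ext ((h k).trans (h' k).symm)

lemma rep_mul {σ τ : Equiv.Perm (Fin 56)} {a b c : ℕ} (ha : Rep σ a) (hb : Rep τ b)
    (hc : mulB a b c = true) : Rep (σ * τ) c := by
  intro k
  simp only [mulB, List.all_eq_true, List.mem_range, beq_iff_eq] at hc
  rw [Equiv.Perm.mul_apply, ha, hb, hc k.val k.2]

lemma rep_eq {σ τ ρ υ : Equiv.Perm (Fin 56)} {a b c d : ℕ} (ha : Rep σ a) (hb : Rep τ b)
    (hc : Rep ρ c) (hd : Rep υ d) (h : sqB a b c d = true) : σ * τ = ρ * υ := by
  refine Equiv.ext fun k => Fin.ext ?_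
  simp only [sqB, List.all_eq_true, List.mem_range, beq_iff_eq] at h
  rw [Equiv.Perm.mul_apply, Equiv.Perm.mul_apply, ha, hb, hc, hd, h k.val k.2]

lemma rep_code {σ : Equiv.Perm (Fin 56)} {a b : ℕ} (ha : Rep σ a) (hb : Rep σ b) :
    code56 a = code56 b := by
  refine congrArg sumU (List.map_congr_left fun k hk => ?_)
  rw [List.mem_range] at hk
  rw [← ha ⟨k, hk⟩, ← hb ⟨k, hk⟩]

lemma eq_of_perm {g h : G3} {a : ℕ} (hg : Rep (perm56 g) a) (hh : Rep (perm56 h) a) : g = h :=
  perm56_injective (rep_ext hg hh)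

lemma rep_one : Rep (perm56 (1 : G3)) (el 0) := fun k => by
  have h0 := tree_checks.1
  simp only [idB, List.all_eq_true, List.mem_range, beq_iff_eq] at h0
  rw [map_one, h0 k.val k.2]
  rfl

/-- An element from a generator position. -/
lemma exists_gen {i : ℕ} (hi : i < 54) : ∃ g : G3, Rep (perm56 g) (genData.getD i 0) := by
  obtain ⟨t, u, v, b, e⟩ : ∃ (t u v : ZMod 3) (b : Bool), genIdx t u v b = i :=
    (show ∀ j : Fin 54, ∃ (t u v : ZMod 3) (b : Bool), genIdx t u v b = j.val by decide +kernel)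
      ⟨i, hi⟩
  exact e ▸ gen_image t u v b

/-- A listed element. -/
def InList (g : G3) : Prop := ∃ i < 504, Rep (perm56 g) (el i)

lemma exists_commutators : ∃ a b : G3, Rep (perm56 a) (el iA) ∧ Rep (perm56 b) (el iB) ∧
    a ∈ commutator G3 ∧ b ∈ commutator G3 := by
  have mk : ∀ j < 2, ∃ x : G3, Rep (perm56 x) (pickAB j) ∧ x ∈ commutator G3 := by
    intro j hj
    have h := List.all_eq_true.1 conj_checks.2 j (List.mem_range.2 hj)
    simp only [Bool.and_eq_true, List.all_eq_true, List.mem_range, beq_iff_eq] at h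
    obtain ⟨⟨h1, h2⟩, h3⟩ := h
    obtain ⟨p, hp⟩ := exists_gen (Nat.ble_eq.mp h1)
    obtain ⟨q, hq⟩ := exists_gen (Nat.ble_eq.mp h2)
    refine ⟨p * q * (q * p)⁻¹, ?_, ?_⟩
    · intro k
      obtain ⟨l, rfl⟩ := (perm56 (q * p)).surjective k
      rw [map_mul _ (p * q), map_inv, Equiv.Perm.mul_apply]
      rw [show (perm56 (q * p))⁻¹ (perm56 (q * p) l) = l from Equiv.symm_apply_apply _ _]
      rw [map_mul, map_mul, Equiv.Perm.mul_apply, Equiv.Perm.mul_apply, hp, hq, hq, hp,
        h3 l.val l.2]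
    · rw [show p * q * (q * p)⁻¹ = ⁅p, q⁆ by rw [commutatorElement_def]; group, commutator_def]
      exact Subgroup.commutator_mem_commutator (Subgroup.mem_top p) (Subgroup.mem_top q)
  obtain ⟨a, ha, ha'⟩ := mk 0 (by norm_num)
  obtain ⟨b, hb, hb'⟩ := mk 1 (by norm_num)
  exact ⟨a, b, ha, hb, ha', hb'⟩

/-- The subgroup of order 504 generated by two commutators, normal and simple. -/
theorem exists_derived : ∃ S : Subgroup G3, S ≤ commutator G3 ∧ S.Normal ∧ Nat.card S = 504 ∧
    IsSimpleGroup S := by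
  obtain ⟨a, b, ha, hb, hac, hbc⟩ := exists_commutators
  obtain ⟨-, htree, hnext, hlen, hdist, hiA, hiB⟩ := tree_checks
  set S : Subgroup G3 := Subgroup.closure {a, b} with hS
  have hmemA : a ∈ S := Subgroup.subset_closure (by simp)
  have hmemB : b ∈ S := Subgroup.subset_closure (by simp)
  have hex : ∀ i < 504, ∃ g ∈ S, Rep (perm56 g) (el i) := by
    intro i
    induction i using Nat.strong_induction_on with
    | _ i ih =>
      intro hi
      rcases i with _ | i
      · exact ⟨1, one_mem _, rep_one⟩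
      have h := List.all_eq_true.1 htree i (List.mem_range.2 (by omega))
      simp only [Bool.and_eq_true, Nat.ble_eq] at h
      obtain ⟨g, hg, hr⟩ := ih (treeData.getD i (0, 0)).1 (by omega) (by omega)
      rcases Bool.eq_false_or_eq_true ((treeData.getD i (0, 0)).2 == 0) with e | e
      · refine ⟨g * a, mul_mem hg hmemA, ?_⟩
        rw [map_mul]
        have h2 := h.2
        rw [pickAB, e] at h2
        exact rep_mul hr ha h2
      · refine ⟨g * b, mul_mem hg hmemB, ?_⟩
        rw [map_mul]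
        have h2 := h.2
        rw [pickAB, e] at h2
        exact rep_mul hr hb h2
  have hright : ∀ g, InList g → InList (g * a) ∧ InList (g * b) := by
    rintro g ⟨i, hi, hr⟩
    have h := List.all_eq_true.1 hnext i (List.mem_range.2 hi)
    simp only [Bool.and_eq_true] at h
    obtain ⟨⟨⟨h1, h2⟩, h3⟩, h4⟩ := h
    exact ⟨⟨_, Nat.ble_eq.mp h1, by rw [map_mul]; exact rep_mul hr ha h3⟩,
      ⟨_, Nat.ble_eq.mp h2, by rw [map_mul]; exact rep_mul hr hb h4⟩⟩
  let R : Subgroup G3 :=
    { carrier := {h | ∀ g, InList g → InList (g * h)}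
      one_mem' := fun g hg => by rwa [mul_one]
      mul_mem' := fun {x y} hx hy g hg => by rw [← mul_assoc]; exact hy _ (hx g hg)
      inv_mem' := fun {x} hx g hg => by
        have hp : ∀ n : ℕ, ∀ g, InList g → InList (g * x ^ n) := by
          intro n
          induction n with
          | zero => intro g hg; rwa [pow_zero, mul_one]
          | succ n ihn => intro g hg; rw [pow_succ, ← mul_assoc]; exact hx _ (ihn g hg)
        have e : x⁻¹ = x ^ (orderOf x - 1) := inv_eq_of_mul_eq_one_right <| by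
          rw [← pow_succ', Nat.sub_add_cancel (orderOf_pos x), pow_orderOf_eq_one]
        rw [e]; exact hp _ g hg }
  have hle : S ≤ R := (Subgroup.closure_le R).2 (by
    rintro x (rfl | rfl)
    · exact fun g hg => (hright g hg).1
    · exact fun g hg => (hright g hg).2)
  have hin : ∀ g ∈ S, InList g := fun g hg => by
    simpa using hle hg 1 ⟨0, by norm_num, rep_one⟩
  choose f hfS hfR using hex
  have hinj : ∀ i j (hi : i < 504) (hj : j < 504), f i hi = f j hj → i = j := by
    intro i j hi hj e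
    have h1 := rep_code (e ▸ hfR i hi) (hfR j hj)
    have hnd := nodup_of_distinctB hdist
    refine (hnd.getElem_inj_iff (hi := by simp [hlen, hi]) (hj := by simp [hlen, hj])).1 ?_
    simpa [el, List.getD_eq_getElem?_getD, hlen, hi, hj] using h1
  have hcard : Nat.card S = 504 := by
    refine (Nat.card_congr (Equiv.ofBijective (fun i : Fin 504 => (⟨f i.val i.2, hfS _ _⟩ : S))
      ⟨fun i j e => Fin.ext (hinj _ _ i.2 j.2 (congrArg Subtype.val e)), ?_⟩)).symm.trans
        (Nat.card_fin 504)
    rintro ⟨g, hg⟩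
    obtain ⟨i, hi, hr⟩ := hin g hg
    exact ⟨⟨i, hi⟩, Subtype.ext (eq_of_perm (hfR i hi) hr)⟩
  have hnormal : S.Normal := by
    let Nn : Subgroup G3 :=
      { carrier := {g | ∀ s ∈ S, g * s * g⁻¹ ∈ S}
        one_mem' := fun s hs => by simpa using hs
        mul_mem' := fun {x y} hx hy s hs => by
          rw [show x * y * s * (x * y)⁻¹ = x * (y * s * y⁻¹) * x⁻¹ by group]
          exact hx _ (hy s hs)
        inv_mem' := fun {x} hx s hs => by
          let F : S → S := fun s => ⟨x * s.1 * x⁻¹, hx s.1 s.2⟩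
          have hF : Function.Injective F := fun s t e => Subtype.ext (by
            simpa [F] using congrArg Subtype.val e)
          obtain ⟨⟨t, ht⟩, e⟩ := (Finite.injective_iff_surjective.1 hF) ⟨s, hs⟩
          have e' : x * t * x⁻¹ = s := congrArg Subtype.val e
          rw [← e', show x⁻¹ * (x * t * x⁻¹) * x⁻¹⁻¹ = t by group]
          exact ht }
    have htop : ∀ g : GL Ix (ZMod 3), ∀ hg : g ∈ G3, (⟨g, hg⟩ : G3) ∈ Nn := by
      intro g hg
      have : G3 ≤ Nn.map G3.subtype := (Subgroup.closure_le _).2 fun x hx => by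
        refine ⟨⟨x, Subgroup.subset_closure hx⟩, ?_, rfl⟩
        obtain ⟨i, hi, hr⟩ := gen_cover (g := ⟨x, Subgroup.subset_closure hx⟩) hx
        have h := List.all_eq_true.1 conj_checks.1 i (List.mem_range.2 hi)
        simp only [Bool.and_eq_true] at h
        obtain ⟨⟨⟨h1, h2⟩, h3⟩, h4⟩ := h
        set y : G3 := ⟨x, Subgroup.subset_closure hx⟩
        have ea : y * a = f _ (Nat.ble_eq.mp h1) * y := perm56_injective (by
          rw [map_mul, map_mul]; exact rep_eq hr ha (hfR _ _) hr h3)
        have eb : y * b = f _ (Nat.ble_eq.mp h2) * y := perm56_injective (by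
          rw [map_mul, map_mul]; exact rep_eq hr hb (hfR _ _) hr h4)
        intro s hs
        have hsub : S ≤ S.comap (MulAut.conj y).toMonoidHom := (Subgroup.closure_le _).2 (by
          rintro z (rfl | rfl)
          · show y * z * y⁻¹ ∈ S
            rw [ea, mul_inv_cancel_right]; exact hfS _ _
          · show y * z * y⁻¹ ∈ S
            rw [eb, mul_inv_cancel_right]; exact hfS _ _)
        exact hsub hs
      obtain ⟨z, hz, e⟩ := this hg
      have e' : z = ⟨g, hg⟩ := Subtype.ext e
      exact e' ▸ hz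
    exact ⟨fun s hs g => htop g.1 g.2 s hs⟩
  refine ⟨S, (Subgroup.closure_le _).2 (by rintro x (rfl | rfl) <;> assumption), hnormal, hcard, ?_⟩
  have hnt : Nontrivial S := by
    rw [← Finite.one_lt_card_iff_nontrivial, hcard]; norm_num
  refine { eq_bot_or_eq_top_of_normal := fun N hN => ?_ }
  classical
  obtain ⟨hcls, hcls0, hrep0, hsize⟩ := class_checks
  have hc : ∀ i < 504, clsOf i < 9 ∧ (classData.getD i (0, 0)).2 < 504 ∧
      repData.getD (clsOf i) 0 < 504 ∧ sqB (el i) (el (classData.getD i (0, 0)).2)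
        (el (classData.getD i (0, 0)).2) (el (repData.getD (clsOf i) 0)) = true := by
    intro i hi
    have h := List.all_eq_true.1 hcls i (List.mem_range.2 hi)
    simp only [Bool.and_eq_true] at h
    exact ⟨Nat.ble_eq.mp h.1.1.1, Nat.ble_eq.mp h.1.1.2, Nat.ble_eq.mp h.1.2, h.2⟩
  let F : Finset (Fin 9) := Finset.univ.filter fun k =>
    ∃ h : repData.getD k.val 0 < 504, (⟨f _ h, hfS _ h⟩ : S) ∈ N
  have hiff : ∀ i (hi : i < 504), (⟨f i hi, hfS i hi⟩ : S) ∈ N ↔
      (⟨clsOf i, (hc i hi).1⟩ : Fin 9) ∈ F := by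
    intro i hi
    obtain ⟨-, h2, h3, h4⟩ := hc i hi
    set c : S := ⟨f _ h2, hfS _ h2⟩
    set r : S := ⟨f _ h3, hfS _ h3⟩
    have e : (⟨f i hi, hfS i hi⟩ : S) * c = c * r := Subtype.ext (perm56_injective (by
      show perm56 (f i hi * f _ h2) = perm56 (f _ h2 * f _ h3)
      rw [map_mul, map_mul]; exact rep_eq (hfR _ _) (hfR _ _) (hfR _ _) (hfR _ _) h4))
    rw [eq_mul_inv_of_mul_eq e, Finset.mem_filter]
    constructor
    · intro hx
      refine ⟨Finset.mem_univ _, h3, ?_⟩
      have := hN.conj_mem _ hx c⁻¹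
      rwa [inv_inv, show c⁻¹ * (c * r * c⁻¹) * c = r by group] at this
    · rintro ⟨-, _, hx⟩
      exact hN.conj_mem r hx c
  have hcardN : Nat.card N = ∑ k ∈ F, sizeData.getD k.val 0 := by
    set T : Finset (Fin 504) := Finset.univ.filter fun i : Fin 504 =>
      (⟨clsOf i.val, (hc _ i.2).1⟩ : Fin 9) ∈ F with hT
    have hTN : ∀ i ∈ T, (⟨f i.val i.2, hfS _ _⟩ : S) ∈ N := fun i hi =>
      (hiff _ _).2 (Finset.mem_filter.1 hi).2
    have e1 : Nat.card N = T.card := by
      rw [← Nat.card_eq_finsetCard]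
      refine (Nat.card_congr (Equiv.ofBijective
        (fun i : T => (⟨⟨f i.1.val i.1.2, hfS _ _⟩, hTN i.1 i.2⟩ : N))
        ⟨fun i j e => ?_, ?_⟩)).symm
      · exact Subtype.ext (Fin.ext (hinj _ _ i.1.2 j.1.2
          (congrArg (fun z : N => ((z : S) : G3)) e)))
      · rintro ⟨⟨g, hg⟩, hgN⟩
        obtain ⟨i, hi, hr⟩ := hin g hg
        have e := eq_of_perm (hfR i hi) hr
        have hm : (⟨i, hi⟩ : Fin 504) ∈ T := Finset.mem_filter.2 ⟨Finset.mem_univ _,
          (hiff i hi).1 (by simpa only [e] using hgN)⟩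
        exact ⟨⟨_, hm⟩, Subtype.ext (Subtype.ext e)⟩
    rw [e1, Finset.card_eq_sum_card_fiberwise (s := T) (f := fun i : Fin 504 =>
      (⟨clsOf i.val, (hc _ i.2).1⟩ : Fin 9)) (t := F)
      (fun i (hi : i ∈ T) => Finset.mem_coe.2 (Finset.mem_filter.1 hi).2)]
    refine Finset.sum_congr rfl fun k hk => ?_
    have hs := List.all_eq_true.1 hsize k.val (List.mem_range.2 k.2)
    rw [beq_iff_eq] at hs
    rw [← hs, ← List.toFinset_card_of_nodup (List.nodup_range.filter _)]
    refine Finset.card_bij (fun i _ => i.val) (fun i hi => ?_) (fun i _ j _ h => Fin.ext h) ?_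
    · simp only [Finset.mem_filter, Fin.ext_iff] at hi
      simp [hi.2]
    · intro j hj
      simp only [List.mem_toFinset, List.mem_filter, List.mem_range, beq_iff_eq] at hj
      exact ⟨⟨j, hj.1⟩, by simpa [hT, Fin.ext_iff, hj.2] using hk, rfl⟩
  have h0F : (0 : Fin 9) ∈ F := by
    have h := (hiff 0 (by norm_num)).1 (by
      convert N.one_mem
      exact eq_of_perm (hfR 0 (by norm_num)) rep_one)
    simpa [hcls0] using h
  have hdvd : (∑ k ∈ F, sizeData.getD k.val 0) ∣ 504 := by
    rw [← hcardN, ← hcard]; exact Subgroup.card_subgroup_dvd_card N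
  rcases union_checks F h0F hdvd with e | e
  · refine Or.inl (Subgroup.card_eq_one.1 ?_)
    rw [hcardN, e, Finset.sum_singleton]
    exact sizes_total.2
  · refine Or.inr (Subgroup.eq_top_of_card_eq _ ?_)
    rw [hcardN, e, hcard]
    exact sizes_total.1

theorem derived_facts : Nat.card (commutator G3) = 504 ∧ IsSimpleGroup (commutator G3) := by
  obtain ⟨S, hle, hnormal, hcard, hsimple⟩ := exists_derived
  haveI : Fact (Nat.Prime 3) := ⟨Nat.prime_three⟩
  have hG : Nat.card G3 = 1512 := by
    obtain ⟨P, he⟩ := H38.Ree.exists_par (K := ZMod 3) (m := 0) (by simp)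
    have h := P.card_T
    rw [he, pow_zero] at h
    rw [h, Nat.card_zmod]
    rfl
  have hidx : Nat.card (G3 ⧸ S) = 3 := by
    have h := Subgroup.card_eq_card_quotient_mul_card_subgroup S
    rw [hcard, hG] at h
    omega
  haveI : IsCyclic (G3 ⧸ S) := isCyclic_of_prime_card hidx
  have hge : commutator G3 ≤ S := by
    rw [commutator_def, Subgroup.commutator_le]
    intro x _ y _
    rw [← QuotientGroup.eq_one_iff, commutatorElement_def]
    simp only [QuotientGroup.mk_mul, QuotientGroup.mk_inv]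
    letI := IsCyclic.commGroup (α := G3 ⧸ S)
    rw [mul_comm (x : G3 ⧸ S)]
    group
  rw [le_antisymm hge hle]
  exact ⟨hcard, hsimple⟩

end Cfsg.Agent.H95.ReeThree
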