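import Cfsg.Agent.H95.ReeThreeData
import Cfsg.Prelude.Def_LieTwisted

/-!
Kernel-friendly arithmetic on vectors over three elements for the root matrices of type G2, and
the action of the smallest small Ree group on 56 vectors.
-/

set_option autoImplicit false
set_option maxRecDepth 100000

namespace Cfsg.Agent.H95.ReeThree

open Cfsg.Lie Matrix

/-- Fourteen ones. -/
def full : ℕ := 16383

/-- Positions of value one. -/
def onePart (c : ℕ) : ℕ := Nat.land c full

/-- Positions of value two. -/
def twoPart (c : ℕ) : ℕ := Nat.land (Nat.shiftRight c 14) (Nat.xor (Nat.land c full) full)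

/-- The vector with given parts. -/
def pack (p n : ℕ) : ℕ := Nat.lor p (Nat.shiftLeft n 14)

/-- Sum. -/
def addT (a b : ℕ) : ℕ :=
  let p₁ := onePart a
  let n₁ := twoPart a
  let p₂ := onePart b
  let n₂ := twoPart b
  let z := Nat.xor (Nat.lor p₁ n₁) full
  let w := Nat.xor (Nat.lor p₂ n₂) full
  pack (Nat.lor (Nat.lor (Nat.land p₁ w) (Nat.land p₂ z)) (Nat.land n₁ n₂))
    (Nat.lor (Nat.lor (Nat.land n₁ w) (Nat.land n₂ z)) (Nat.land p₁ p₂))

/-- Negative. -/
def negT (a : ℕ) : ℕ := pack (twoPart a) (onePart a)

/-- Value at a position. -/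
def dval (c i : ℕ) : ZMod 3 :=
  if (onePart c).testBit i then 1 else if (twoPart c).testBit i then 2 else 0

lemma testBit_full (i : ℕ) (hi : i < 14) : full.testBit i = true := by
  rw [show full = 2 ^ 14 - 1 from rfl, Nat.testBit_two_pow_sub_one, decide_eq_true hi]

lemma testBit_onePart (c i : ℕ) (hi : i < 14) : (onePart c).testBit i = c.testBit i := by
  show (c &&& full).testBit i = _
  rw [Nat.testBit_and, testBit_full i hi, Bool.and_true]

lemma testBit_twoPart (c i : ℕ) (hi : i < 14) :
    (twoPart c).testBit i = (c.testBit (14 + i) && !c.testBit i) := by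
  show ((c >>> 14) &&& ((c &&& full) ^^^ full)).testBit i = _
  rw [Nat.testBit_and, Nat.testBit_shiftRight, Nat.testBit_xor, Nat.testBit_and, testBit_full i hi,
    Bool.and_true, Bool.xor_true]

lemma dval_pack {p n : ℕ} (hp : p < 2 ^ 14) (i : ℕ) (hi : i < 14) :
    dval (pack p n) i = if p.testBit i then 1 else if n.testBit i then 2 else 0 := by
  have h1 : (pack p n).testBit i = p.testBit i := by
    show (p ||| n <<< 14).testBit i = _
    rw [Nat.testBit_or, Nat.testBit_shiftLeft, decide_eq_false (by omega : ¬ i ≥ 14)]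
    simp
  have h2 : (pack p n).testBit (14 + i) = n.testBit i := by
    show (p ||| n <<< 14).testBit (14 + i) = _
    rw [Nat.testBit_or, Nat.testBit_shiftLeft, Nat.testBit_lt_two_pow
      (lt_of_lt_of_le hp (Nat.pow_le_pow_right two_pos (by omega))),
      decide_eq_true (by omega : 14 + i ≥ 14), show 14 + i - 14 = i by omega]
    simp
  rw [dval, testBit_onePart _ _ hi, testBit_twoPart _ _ hi, h1, h2]
  rcases Bool.eq_false_or_eq_true (p.testBit i) with h | h <;> simp [h]

lemma onePart_lt (c : ℕ) : onePart c < 2 ^ 14 :=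
  Nat.lt_succ_of_le (Nat.and_le_right : c &&& full ≤ full)

lemma twoPart_lt (c : ℕ) : twoPart c < 2 ^ 14 :=
  Nat.lt_of_le_of_lt (Nat.and_le_right : (c >>> 14) &&& ((c &&& full) ^^^ full) ≤ _)
    (Nat.xor_lt_two_pow (onePart_lt c) (by decide))

theorem dval_addT (a b i : ℕ) (hi : i < 14) : dval (addT a b) i = dval a i + dval b i := by
  have hlt : ∀ {x y : ℕ}, x < 2 ^ 14 → y < 2 ^ 14 → x ||| y < 2 ^ 14 := fun hx hy =>
    Nat.or_lt_two_pow hx hy
  refine (dval_pack ?_ i hi).trans ?_
  · exact hlt (hlt (Nat.lt_of_le_of_lt Nat.and_le_left (onePart_lt a))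
      (Nat.lt_of_le_of_lt Nat.and_le_left (onePart_lt b)))
      (Nat.lt_of_le_of_lt Nat.and_le_left (twoPart_lt a))
  show (if ((((onePart a) &&& ((onePart b ||| twoPart b) ^^^ full)) |||
      ((onePart b) &&& ((onePart a ||| twoPart a) ^^^ full))) |||
      (twoPart a &&& twoPart b)).testBit i = true then (1 : ZMod 3) else
    if ((((twoPart a) &&& ((onePart b ||| twoPart b) ^^^ full)) |||
      ((twoPart b) &&& ((onePart a ||| twoPart a) ^^^ full))) |||
      (onePart a &&& onePart b)).testBit i = true then 2 else 0) = _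
  simp only [dval, Nat.testBit_or, Nat.testBit_and, Nat.testBit_xor, testBit_full i hi,
    testBit_onePart _ _ hi, testBit_twoPart _ _ hi]
  cases a.testBit i <;> cases a.testBit (14 + i) <;> cases b.testBit i <;>
    cases b.testBit (14 + i) <;> decide

theorem dval_negT (a i : ℕ) (hi : i < 14) : dval (negT a) i = -dval a i := by
  show dval (pack _ _) i = _
  rw [dval_pack (twoPart_lt a) i hi]
  simp only [dval, testBit_onePart _ _ hi, testBit_twoPart _ _ hi]
  cases a.testBit i <;> cases a.testBit (14 + i) <;> decide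

/-! ### Coordinates -/

/-- Index of the coordinates. -/
abbrev Ix : Type := chevG2.Idx

/-- Position of a coordinate. -/
def pos : Ix → ℕ
  | Sum.inl i => i.val
  | Sum.inr s => 2 + s.val

/-- All coordinates in order. -/
def ixList : List Ix := (List.finRange 2).map Sum.inl ++ (List.finRange 12).map Sum.inr

lemma pos_lt : ∀ a : Ix, pos a < 14 := by decide

lemma pos_injective : ∀ a b : Ix, pos a = pos b → a = b := by decide

lemma ixList_facts : ixList.Nodup ∧ ∀ a : Ix, a ∈ ixList := by
  refine ⟨List.Nodup.append ((List.nodup_finRange 2).map Sum.inl_injective)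
    ((List.nodup_finRange 12).map Sum.inr_injective) ?_, ?_⟩
  · intro x hx hx'
    obtain ⟨i, -, rfl⟩ := List.mem_map.1 hx
    obtain ⟨j, -, hj⟩ := List.mem_map.1 hx'
    exact Sum.inr_ne_inl hj
  · rintro (i | i)
    · exact List.mem_append_left _ (List.mem_map_of_mem (List.mem_finRange i))
    · exact List.mem_append_right _ (List.mem_map_of_mem (List.mem_finRange i))

/-- The vector of a code. -/
def decode (c : ℕ) : Ix → ZMod 3 := fun a => dval c (pos a)

lemma decode_addT (a b : ℕ) : decode (addT a b) = decode a + decode b :=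
  funext fun x => dval_addT a b _ (pos_lt x)

lemma decode_negT (a : ℕ) : decode (negT a) = -decode a :=
  funext fun x => dval_negT a _ (pos_lt x)

lemma decode_zero : decode 0 = 0 := funext fun x => by simp [decode, dval, onePart, twoPart]

/-- Column of a root matrix. -/
def col (r t i : ℕ) : ℕ := colData.getD ((r * 3 + t) * 14 + i) 0

/-- One term of a combination. -/
def step (p n r t acc i : ℕ) : ℕ :=
  bif p.testBit i then addT acc (col r t i)
  else bif n.testBit i then addT acc (negT (col r t i)) else acc

/-- A root matrix applied to a vector. -/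
def applyX (r t c : ℕ) : ℕ := (List.range 14).foldl (step (onePart c) (twoPart c) r t) 0

lemma col_checks : ((List.range 12).all fun r => (List.finRange 3).all fun t : ZMod 3 =>
    ixList.all fun a => ixList.all fun b =>
      decide (chevG2.x (ZMod 3) r t a b = decode (col r t.val (pos b)) a)) = true := by
  decide +kernel

lemma x_entry {r : ℕ} (hr : r < 12) (t : ZMod 3) (a b : Ix) :
    chevG2.x (ZMod 3) r t a b = decode (col r t.val (pos b)) a := by
  exact of_decide_eq_true (List.all_eq_true.1 (List.all_eq_true.1 (List.all_eq_true.1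
    (List.all_eq_true.1 col_checks r (List.mem_range.2 hr)) t (List.mem_finRange t)) a
    (ixList_facts.2 a)) b (ixList_facts.2 b))

lemma decode_foldl (p n r t : ℕ) : ∀ (l : List ℕ) (acc : ℕ),
    decode (l.foldl (step p n r t) acc) = decode acc + (l.map fun i =>
      (if p.testBit i then (1 : ZMod 3) else if n.testBit i then 2 else 0) •
        decode (col r t i)).sum
  | [], acc => by simp
  | i :: l, acc => by
    rw [List.foldl_cons, decode_foldl p n r t l, List.map_cons, List.sum_cons, ← add_assoc]
    refine congrArg (· + _) ?_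
    rw [step]
    rcases Bool.eq_false_or_eq_true (p.testBit i) with h | h
    · simp [h, decode_addT]
    · rcases Bool.eq_false_or_eq_true (n.testBit i) with h' | h'
      · simp only [h, h', cond_true, cond_false, if_true, if_false, decode_addT, decode_negT,
          Bool.false_eq_true]
        rw [show (2 : ZMod 3) = -1 by decide, neg_smul, one_smul]
      · simp [h, h']

lemma pos_ixList : ixList.map pos = List.range 14 := by decide

theorem x_mulVec {r : ℕ} (hr : r < 12) (t : ZMod 3) (c : ℕ) :
    chevG2.x (ZMod 3) r t *ᵥ decode c = decode (applyX r t.val c) := by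
  rw [applyX, decode_foldl, decode_zero, zero_add, ← pos_ixList, List.map_map]
  funext a
  rw [Pi.list_sum_apply, List.map_map]
  show ∑ b, chevG2.x (ZMod 3) r t a b * decode c b = _
  rw [show (Finset.univ : Finset Ix) = ixList.toFinset from
    (Finset.eq_univ_of_forall fun x => List.mem_toFinset.2 (ixList_facts.2 x)).symm,
    List.sum_toFinset _ ixList_facts.1]
  refine congrArg List.sum (List.map_congr_left fun b _ => ?_)
  show _ = ((if (onePart c).testBit (pos b) then (1 : ZMod 3) else
    if (twoPart c).testBit (pos b) then 2 else 0) • decode (col r t.val (pos b))) a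
  rw [Pi.smul_apply, smul_eq_mul, x_entry hr, mul_comm]
  rfl

/-- A word applied to a vector. -/
def applyWord : List (ℕ × ZMod 3) → ℕ → ℕ
  | [], c => c
  | p :: w, c => applyX p.1 p.2.val (applyWord w c)

theorem wordMat_mulVec : ∀ (w : List (ℕ × ZMod 3)), (∀ p ∈ w, p.1 < 12) → ∀ c : ℕ,
    chevG2.wordMat (ZMod 3) w *ᵥ decode c = decode (applyWord w c)
  | [], _, c => by simp [ChevalleyDatum.wordMat, applyWord]
  | p :: w, h, c => by
    rw [ChevalleyDatum.wordMat, List.map_cons, List.prod_cons, ← Matrix.mulVec_mulVec]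
    rw [show (List.map (fun p => chevG2.x (ZMod 3) p.1 p.2) w).prod *ᵥ decode c
      = decode (applyWord w c) from wordMat_mulVec w (fun q hq => h q (List.mem_cons_of_mem _ hq)) c,
      x_mulVec (h p (List.mem_cons_self ..)), applyWord]

lemma inverse_checks : ((List.range 12).all fun r => (List.finRange 3).all fun t : ZMod 3 =>
    (List.range 14).all fun i => applyX r t.val (col r (-t).val i) == 2 ^ i) = true ∧
    (ixList.all fun a => ixList.all fun b =>
      decide (decode (2 ^ pos b) a = if a = b then 1 else 0)) = true := by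
  decide +kernel

theorem x_isUnit {r : ℕ} (hr : r < 12) (t : ZMod 3) : IsUnit (chevG2.x (ZMod 3) r t) := by
  refine IsUnit.of_mul_eq_one (chevG2.x (ZMod 3) r (-t)) ?_
  ext a b
  obtain ⟨h1, h2⟩ := inverse_checks
  have h1' := eq_of_beq (List.all_eq_true.1 (List.all_eq_true.1 (List.all_eq_true.1 h1 r
    (List.mem_range.2 hr)) t (List.mem_finRange t)) (pos b) (List.mem_range.2 (pos_lt b)))
  have h2' := of_decide_eq_true
    (List.all_eq_true.1 (List.all_eq_true.1 h2 a (ixList_facts.2 a)) b (ixList_facts.2 b))
  have hc : (fun j => chevG2.x (ZMod 3) r (-t) j b) = decode (col r (-t).val (pos b)) :=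
    funext fun j => x_entry hr (-t) j b
  show (chevG2.x (ZMod 3) r t *ᵥ fun j => chevG2.x (ZMod 3) r (-t) j b) a = _
  rw [hc, x_mulVec hr, h1', h2', Matrix.one_apply]

theorem wordMat_isUnit : ∀ (w : List (ℕ × ZMod 3)), (∀ p ∈ w, p.1 < 12) →
    IsUnit (chevG2.wordMat (ZMod 3) w)
  | [], _ => by simp [ChevalleyDatum.wordMat]
  | p :: w, h => by
    rw [ChevalleyDatum.wordMat, List.map_cons, List.prod_cons]
    exact (x_isUnit (h p (List.mem_cons_self ..)) p.2).mul
      (wordMat_isUnit w fun q hq => h q (List.mem_cons_of_mem _ hq))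

end Cfsg.Agent.H95.ReeThree
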