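import Cfsg.Agent.H95.ReeThreeAct

/-!
Checks: the tree and multiplication table of the derived subgroup.
-/

set_option autoImplicit false
set_option maxRecDepth 100000
set_option Elab.async false

namespace Cfsg.Agent.H95.ReeThree

/-- Element of the list. -/
def el (i : ℕ) : ℕ := elData.getD i 0

/-- The first two elements to multiply with. -/
def iA : ℕ := (nextData.getD 0 (0, 0)).1

/-- See `iA`. -/
def iB : ℕ := (nextData.getD 0 (0, 0)).2

/-- Pick by the second component. -/
def pickAB (j : ℕ) : ℕ := bif j == 0 then el iA else el iB

/-- `a ∘ b = c ∘ d`. -/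
def sqB (a b c d : ℕ) : Bool :=
  (List.range 56).all fun k => app6 a (app6 b k) == app6 c (app6 d k)

/-- `a ∘ b = c`. -/
def mulB (a b c : ℕ) : Bool :=
  (List.range 56).all fun k => app6 a (app6 b k) == app6 c k

/-- Identity. -/
def idB (t : ℕ) : Bool := (List.range 56).all fun k => app6 t k == k

/-- Values as one number. -/
def code56 (t : ℕ) : ℕ :=
  sumU ((List.range 56).map fun k => Nat.mul (app6 t k) (Nat.pow 64 k))

/-- Class of an element. -/
def clsOf (i : ℕ) : ℕ := (classData.getD i (0, 0)).1

lemma treeA : ((List.range 503).all fun i =>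
      let p := treeData.getD i (0, 0)
      Nat.ble p.1 i && mulB (el p.1) (pickAB p.2) (el (i + 1))) = true := by
  decide +kernel

lemma nextA : ((List.range 504).all fun i =>
      let p := nextData.getD i (0, 0)
      Nat.blt p.1 504 && Nat.blt p.2 504 && mulB (el i) (el iA) (el p.1) &&
        mulB (el i) (el iB) (el p.2)) = true := by
  decide +kernel

lemma distA : elData.length = 504 ∧ distinctB (elData.map code56) = true ∧ iA < 504 ∧ iB < 504 := by
  decide +kernel

lemma tree_checks :
    idB (el 0) = true ∧
    ((List.range 503).all fun i =>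
      let p := treeData.getD i (0, 0)
      Nat.ble p.1 i && mulB (el p.1) (pickAB p.2) (el (i + 1))) = true ∧
    ((List.range 504).all fun i =>
      let p := nextData.getD i (0, 0)
      Nat.blt p.1 504 && Nat.blt p.2 504 && mulB (el i) (el iA) (el p.1) &&
        mulB (el i) (el iB) (el p.2)) = true ∧
    elData.length = 504 ∧ distinctB (elData.map code56) = true ∧ iA < 504 ∧ iB < 504 := by
  exact ⟨by decide +kernel, treeA, nextA, distA⟩

end Cfsg.Agent.H95.ReeThree
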