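/-
Binary codes of length 24, dimension 12 and minimum weight at least 8: the perfect count of coset
leaders, the Steiner system of words of weight 8, induction on weight.
-/
import Mathlib
import Cfsg.Prelude.Def_Sporadic_a

set_option autoImplicit false

namespace Cfsg.Agent.H95

open Finset

abbrev V24 : Type := Fin 24 → ZMod 2

/-- Indicator word of a set of coordinates. -/
def ind24 (s : Finset (Fin 24)) : V24 := fun i => if i ∈ s then 1 else 0

/-- Support of a word. -/
def sup24 (v : V24) : Finset (Fin 24) := univ.filter fun i => v i ≠ 0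

lemma card_sup24 (v : V24) : (sup24 v).card = hammingNorm v := rfl

lemma sup24_ind24 (s : Finset (Fin 24)) : sup24 (ind24 s) = s := by
  ext i; simp [sup24, ind24]

lemma zmod2_cases : ∀ a : ZMod 2, a = 0 ∨ a = 1 := by decide

lemma ind24_sup24 (v : V24) : ind24 (sup24 v) = v := by
  ext i
  rcases zmod2_cases (v i) with h | h <;> simp [sup24, ind24, h]

lemma sup24_add (u v : V24) : sup24 (u + v) = symmDiff (sup24 u) (sup24 v) := by
  ext i
  rcases zmod2_cases (u i) with h | h <;> rcases zmod2_cases (v i) with h' | h' <;>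
    simp [sup24, Finset.mem_symmDiff, h, h']
  decide

lemma wt_add (u v : V24) :
    hammingNorm (u + v) + 2 * (sup24 u ∩ sup24 v).card = hammingNorm u + hammingNorm v := by
  rw [← card_sup24, ← card_sup24, ← card_sup24, sup24_add]
  have h1 := Finset.card_sdiff_add_card_inter (sup24 u) (sup24 v)
  have h2 := Finset.card_sdiff_add_card_inter (sup24 v) (sup24 u)
  rw [Finset.inter_comm (sup24 v)] at h2
  rw [symmDiff_def, Finset.sup_eq_union, Finset.card_union_of_disjoint disjoint_sdiff_sdiff]
  omega

lemma neg24 (v : V24) : -v = v := funext fun i => ZMod.neg_eq_self_mod_two (v i)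

lemma sub24 (u v : V24) : u - v = u + v := by rw [sub_eq_add_neg, neg24]

variable (C : Submodule (ZMod 2) V24) (hdim : Module.finrank (ZMod 2) C = 12)
  (hmin : ∀ w ∈ C, w ≠ 0 → 8 ≤ hammingNorm w)

/-- Coset of a set of coordinates. -/
def cls (s : Finset (Fin 24)) : V24 ⧸ C := Submodule.Quotient.mk (ind24 s)

include hmin

omit hmin in
lemma cls_eq_iff (s t : Finset (Fin 24)) : cls C s = cls C t ↔ ind24 s + ind24 t ∈ C := by
  rw [cls, cls, Submodule.Quotient.eq, sub24]

lemma cls_eq_weight {s t : Finset (Fin 24)} (h : cls C s = cls C t) (hne : s ≠ t) :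
    8 + 2 * (s ∩ t).card ≤ s.card + t.card := by
  have h1 := hmin _ ((cls_eq_iff C s t).1 h) (fun h0 => hne (by
    have : ind24 s = ind24 t := by rw [← sub_eq_zero, sub24, h0]
    rw [← sup24_ind24 s, this, sup24_ind24]))
  have h2 := wt_add (ind24 s) (ind24 t)
  rw [sup24_ind24, sup24_ind24] at h2
  rw [← card_sup24 (ind24 s), ← card_sup24 (ind24 t), sup24_ind24, sup24_ind24] at h2
  omega

/-- Sets of at most three coordinates. -/
def small : Finset (Finset (Fin 24)) :=
  (range 4).biUnion fun i => powersetCard i univ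

omit hmin in
lemma mem_small {s : Finset (Fin 24)} : s ∈ small ↔ s.card ≤ 3 := by
  simp only [small, mem_biUnion, mem_range, mem_powersetCard, subset_univ, true_and]
  exact ⟨fun ⟨i, hi, h⟩ => by omega, fun h => ⟨s.card, by omega, rfl⟩⟩

omit hmin in
lemma card_small : small.card = 2325 := by
  rw [small, card_biUnion]
  · simp [sum_range_succ, card_powersetCard, Nat.choose]
  · intro i _ j _ hij
    exact (univ : Finset (Fin 24)).pairwise_disjoint_powersetCard hij

/-- Sets of four coordinates. -/
def quads : Finset (Finset (Fin 24)) := powersetCard 4 univ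

omit hmin in
lemma mem_quads {s : Finset (Fin 24)} : s ∈ quads ↔ s.card = 4 := by simp [quads]

omit hmin in
lemma card_quads : quads.card = 10626 := by
  rw [quads, card_powersetCard, card_univ, Fintype.card_fin]
  decide

lemma quads_disjoint {s t : Finset (Fin 24)} (hs : s.card = 4) (ht : t.card = 4)
    (h : cls C s = cls C t) (hne : s ≠ t) : Disjoint s t := by
  have := cls_eq_weight C hmin h hne
  rw [disjoint_iff_inter_eq_empty, ← card_eq_zero]
  omega

include hdim

/-- Every coset either has a leader of weight at most 3 and none of weight 4, or exactly six of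
weight 4 with disjoint supports covering everything. -/
lemma coset_cases (x : V24 ⧸ C) :
    (∃ t ∈ small, cls C t = x) ∨
      ((∀ t ∈ small, cls C t ≠ x) ∧
        haveI : DecidableEq (V24 ⧸ C) := Classical.decEq _
        (quads.filter fun t => cls C t = x).card = 6 ∧
        (quads.filter fun t => cls C t = x).biUnion id = univ) := by
  classical
  by_cases hx : ∃ t ∈ small, cls C t = x
  · exact Or.inl hx
  refine Or.inr ⟨fun t ht h => hx ⟨t, ht, h⟩, ?_⟩
  haveI : Finite (V24 ⧸ C) := Finite.of_surjective _ (Submodule.Quotient.mk_surjective C)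
  letI : Fintype (V24 ⧸ C) := Fintype.ofFinite _
  have hcardQ : Fintype.card (V24 ⧸ C) = 4096 := by
    have h1 := Submodule.finrank_quotient_add_finrank C
    rw [hdim, Module.finrank_fin_fun] at h1
    rw [Module.card_eq_pow_finrank (K := ZMod 2), ZMod.card,
      show Module.finrank (ZMod 2) (V24 ⧸ C) = 12 by omega]
    norm_num
  have hsmallinj : Set.InjOn (cls C) small := by
    intro s hs t ht h
    by_contra hne
    have := cls_eq_weight C hmin h hne
    have := mem_small.1 hs
    have := mem_small.1 ht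
    omega
  set A := small.image (cls C) with hA
  set B := quads.image (cls C) with hB
  have hAcard : A.card = 2325 := by rw [hA, card_image_of_injOn hsmallinj, card_small]
  have hAB : Disjoint A B := by
    rw [disjoint_left]
    intro y hy hy'
    obtain ⟨s, hs, rfl⟩ := mem_image.1 hy
    obtain ⟨t, ht, h⟩ := mem_image.1 hy'
    have h3 := mem_small.1 hs
    have h4 := mem_quads.1 ht
    rcases eq_or_ne t s with rfl | hne
    · omega
    have := cls_eq_weight C hmin h hne
    omega
  have hBcard : B.card ≤ 1771 := by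
    have := card_union_of_disjoint hAB
    have := card_le_univ (A ∪ B)
    omega
  have hsix : ∀ y, (quads.filter fun t => cls C t = y).card ≤ 6 ∧
      ((quads.filter fun t => cls C t = y).biUnion id).card =
        4 * (quads.filter fun t => cls C t = y).card := by
    intro y
    have h1 : ((quads.filter fun t => cls C t = y).biUnion id).card =
        4 * (quads.filter fun t => cls C t = y).card := by
      rw [card_biUnion]
      · simp only [id]
        rw [sum_const_nat (m := 4) (fun t ht => mem_quads.1 (mem_filter.1 ht).1), mul_comm]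
      · intro s hs t ht hne
        obtain ⟨hs1, hs2⟩ := mem_filter.1 hs
        obtain ⟨ht1, ht2⟩ := mem_filter.1 ht
        exact quads_disjoint C hmin (mem_quads.1 hs1) (mem_quads.1 ht1) (hs2.trans ht2.symm) hne
    have h2 := card_le_univ ((quads.filter fun t => cls C t = y).biUnion id)
    rw [h1, Fintype.card_fin] at h2
    exact ⟨by omega, h1⟩
  have hsum : quads.card = ∑ y ∈ B, (quads.filter fun t => cls C t = y).card :=
    card_eq_sum_card_fiberwise fun t ht => mem_image_of_mem _ ht
  rw [card_quads] at hsum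
  have hle : ∑ y ∈ B, (quads.filter fun t => cls C t = y).card ≤ B.card * 6 :=
    sum_le_card_nsmul B _ 6 fun y _ => (hsix y).1
  have hB2 : B.card = 1771 := by omega
  have huniv : A ∪ B = univ := eq_univ_of_card _ (by rw [card_union_of_disjoint hAB]; omega)
  have hxB : x ∈ B := by
    rcases mem_union.1 (huniv ▸ mem_univ x) with h | h
    · obtain ⟨t, ht, h⟩ := mem_image.1 h
      exact absurd ⟨t, ht, h⟩ hx
    · exact h
  have h6 : (quads.filter fun t => cls C t = x).card = 6 := by
    by_contra hne
    have hlt : ∑ y ∈ B, (quads.filter fun t => cls C t = y).card < ∑ _y ∈ B, 6 :=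
      sum_lt_sum (fun y _ => (hsix y).1) ⟨x, hxB, lt_of_le_of_ne (hsix x).1 hne⟩
    rw [sum_const, smul_eq_mul] at hlt
    omega
  refine ⟨?_, ?_⟩
  · convert h6
  · refine eq_univ_of_card _ ?_
    have := (hsix x).2
    rw [h6] at this
    rw [Fintype.card_fin]
    convert this

/-- Every five coordinates lie in exactly one word of weight 8. -/
lemma existsUnique_octad (s : Finset (Fin 24)) (hs : s.card = 5) :
    ∃! b, b ∈ Cfsg.wordsOfWeight (C : Set V24) 8 ∧ s ⊆ b := by
  classical
  have hsup : ∀ b, b ∈ Cfsg.wordsOfWeight (C : Set V24) 8 ↔ ind24 b ∈ C ∧ b.card = 8 := by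
    intro b
    refine ⟨?_, fun ⟨h1, h2⟩ => ⟨⟨ind24 b, h1, ?_⟩, h2⟩⟩
    · rintro ⟨⟨w, hw, rfl⟩, h2⟩
      refine ⟨?_, h2⟩
      show ind24 (sup24 w) ∈ C
      rwa [ind24_sup24]
    · exact sup24_ind24 b
  obtain ⟨b, hb, hb8, hsb⟩ : ∃ b, ind24 b ∈ C ∧ b.card = 8 ∧ s ⊆ b := by
    rcases coset_cases C hdim hmin (cls C s) with ⟨t, ht, h⟩ | ⟨-, -, hcov⟩
    · have ht3 := mem_small.1 ht
      have hne : s ≠ t := fun e => by rw [e] at hs; omega
      have h1 := cls_eq_weight C hmin h.symm hne
      have hd : Disjoint s t := by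
        rw [disjoint_iff_inter_eq_empty, ← card_eq_zero]; omega
      refine ⟨s ∪ t, ?_, ?_, subset_union_left⟩
      · convert (cls_eq_iff C s t).1 h.symm using 1
        rw [← ind24_sup24 (ind24 s + ind24 t), sup24_add, sup24_ind24, sup24_ind24]
        rw [(disjoint_iff_inter_eq_empty.1 hd ▸ symmDiff_eq_sup_sdiff_inf (a := s) (b := t) :
          symmDiff s t = (s ⊔ t) \ ∅)]
        simp
      · rw [card_union_of_disjoint hd]; omega
    · exfalso
      obtain ⟨i, hi⟩ := card_pos.1 (show 0 < s.card by omega)
      have hi' := hcov ▸ mem_univ i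
      simp only [mem_biUnion, mem_filter, id_eq] at hi'
      obtain ⟨t, ⟨ht, htc⟩, hit⟩ := hi'
      have ht4 := mem_quads.1 ht
      have hne : t ≠ s := fun e => by rw [e] at ht4; omega
      have h1 := cls_eq_weight C hmin htc hne
      have : 0 < (t ∩ s).card := card_pos.2 ⟨i, mem_inter.2 ⟨hit, hi⟩⟩
      omega
  refine ⟨b, ⟨(hsup b).2 ⟨hb, hb8⟩, hsb⟩, ?_⟩
  rintro b' ⟨hb', hsb'⟩
  obtain ⟨hb', hb'8⟩ := (hsup b').1 hb'
  by_contra hne
  have h1 := cls_eq_weight C hmin ((cls_eq_iff C b' b).2 (C.add_mem hb' hb)) hne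
  have : s.card ≤ (b' ∩ b).card := card_le_card (subset_inter hsb' hsb)
  omega

/-- Peel an octad from a non-zero word. -/
lemma exists_peel (horth : ∀ v ∈ C, ∀ w ∈ C, ∑ i, v i * w i = 0) {w : V24} (hw : w ∈ C)
    (hw0 : w ≠ 0) : ∃ b ∈ C, hammingNorm b = 8 ∧
      (hammingNorm w = hammingNorm (w + b) + 4 ∨ hammingNorm w = hammingNorm (w + b) + 8) := by
  have h8 := hmin w hw hw0
  obtain ⟨s, hsw, hs⟩ := exists_subset_card_eq (s := sup24 w) (n := 5) (by rw [card_sup24]; omega)
  obtain ⟨o, ⟨⟨⟨b, hb, rfl⟩, hb8⟩, hsb⟩, -⟩ := existsUnique_octad C hdim hmin s hs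
  have hb8' : (sup24 b).card = 8 := hb8
  refine ⟨b, hb, hb8, ?_⟩
  have h5 : 5 ≤ (sup24 w ∩ sup24 b).card :=
    hs ▸ card_le_card (subset_inter hsw hsb)
  have hle : (sup24 w ∩ sup24 b).card ≤ 8 := hb8' ▸ card_le_card inter_subset_right
  have heven : ((sup24 w ∩ sup24 b).card : ZMod 2) = 0 := by
    rw [← horth w hw b hb, card_eq_sum_ones, Nat.cast_sum, ← sum_filter_add_sum_filter_not univ
      (fun i => i ∈ sup24 w ∩ sup24 b) (fun i => w i * b i)]
    rw [sum_eq_zero (s := univ.filter fun i => ¬ i ∈ sup24 w ∩ sup24 b), add_zero, filter_univ_mem]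
    · refine sum_congr rfl fun i hi => ?_
      simp only [mem_inter, sup24, mem_filter, mem_univ, true_and] at hi
      rw [(zmod2_cases (w i)).resolve_left hi.1, (zmod2_cases (b i)).resolve_left hi.2]
      simp
    · intro i hi
      simp only [mem_filter, mem_univ, true_and, mem_inter, sup24] at hi
      by_contra h
      exact hi ⟨left_ne_zero_of_mul h, right_ne_zero_of_mul h⟩
  have hev := (ZMod.natCast_eq_zero_iff_even).1 heven
  have h := wt_add w b
  rw [show hammingNorm b = 8 from hb8] at h
  obtain ⟨c, hc⟩ := hev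
  omega

end Cfsg.Agent.H95
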