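import Cfsg.Agent.H95.CertTriples
import Cfsg.Agent.H95.GolayFive
import Cfsg.Agent.H95.ReeBound
import Cfsg.Agent.Golay.Mathieu

/-!
Generation of the point stabiliser of the group of the code by elements of prime orders with
product of prime order.
-/

set_option autoImplicit false
set_option maxRecDepth 100000

namespace Cfsg.Agent.H95

open Cfsg Cfsg.Agent.Golay
open scoped Pointwise

lemma tblPow_spec {t : ℕ} (ht : validT t = true) :
    ∀ n, validT (tblPow t n) = true ∧ mkPerm (tblPow t n) = mkPerm t ^ n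
  | 0 => by rw [pow_zero]; exact idTbl_spec
  | n + 1 => by
    obtain ⟨h1, h2⟩ := tblPow_spec ht n
    obtain ⟨h3, h4⟩ := tblMul_spec h1 ht
    exact ⟨h3, by rw [pow_succ, ← h2]; exact h4⟩

lemma prime_mem_of_dvd_m23 {p : ℕ} (hp : p.Prime) (h : p ∣ 10200960) :
    p ∈ [2, 3, 5, 7, 11, 23] := by
  rw [show (10200960 : ℕ) = 2 ^ 7 * 3 ^ 2 * 5 * 7 * 11 * 23 by norm_num] at h
  simp only [List.mem_cons, List.not_mem_nil, or_false]
  rcases (Nat.Prime.dvd_mul hp).1 h with h | h
  · rcases (Nat.Prime.dvd_mul hp).1 h with h | h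
    · rcases (Nat.Prime.dvd_mul hp).1 h with h | h
      · rcases (Nat.Prime.dvd_mul hp).1 h with h | h
        · rcases (Nat.Prime.dvd_mul hp).1 h with h | h
          · exact Or.inl ((Nat.prime_dvd_prime_iff_eq hp Nat.prime_two).1 (hp.dvd_of_dvd_pow h))
          · exact Or.inr (Or.inl ((Nat.prime_dvd_prime_iff_eq hp Nat.prime_three).1
              (hp.dvd_of_dvd_pow h)))
        · exact Or.inr (Or.inr (Or.inl ((Nat.prime_dvd_prime_iff_eq hp Nat.prime_five).1 h)))
      · exact Or.inr (Or.inr (Or.inr (Or.inl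
          ((Nat.prime_dvd_prime_iff_eq hp (by norm_num)).1 h))))
    · exact Or.inr (Or.inr (Or.inr (Or.inr (Or.inl
        ((Nat.prime_dvd_prime_iff_eq hp (by norm_num)).1 h)))))
  · exact Or.inr (Or.inr (Or.inr (Or.inr (Or.inr
      ((Nat.prime_dvd_prime_iff_eq hp (by norm_num)).1 h)))))

/-- Excluded types. -/
def badType (p q r : ℕ) : Prop :=
  (p = 2 ∧ q = 3) ∨ (p = 2 ∧ q = 5 ∧ r = 5) ∨ (p = 2 ∧ q = 5 ∧ r = 7) ∨ (p = 3 ∧ q = 3 ∧ r ≤ 7)

lemma triples_complete :
    ∀ p ∈ [2, 3, 5, 7, 11, 23], ∀ q ∈ [2, 3, 5, 7, 11, 23], ∀ r ∈ [2, 3, 5, 7, 11, 23],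
      p ≤ q → q ≤ r → ¬(p = 2 ∧ q = 2) →
      ¬((p = 2 ∧ q = 3) ∨ (p = 2 ∧ q = 5 ∧ r = 5) ∨ (p = 2 ∧ q = 5 ∧ r = 7) ∨
        (p = 3 ∧ q = 3 ∧ r ≤ 7)) → (p, q, r) ∈ m23Triples.map fun c => c.1 := by
  decide +kernel

/-- The checked triples generate. -/
theorem exists_generating_triple {p q r : ℕ} (hp : p.Prime) (hq : q.Prime) (hr : r.Prime)
    (h : (p, q, r) ∈ m23Triples.map fun c => c.1) :
    ∃ x y z : Spor.M23, orderOf x = p ∧ orderOf y = q ∧ orderOf z = r ∧ x * y * z = 1 ∧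
      Subgroup.closure {x, y} = ⊤ := by
  obtain ⟨⟨_, ⟨tx, ty, tz⟩, prog⟩, hc, rfl⟩ := List.mem_map.1 h
  have hcert := List.all_eq_true.1 triples_cert _ hc
  simp only [tripleCert, List.all_cons, List.all_nil, Bool.and_true, Bool.and_eq_true,
    Bool.not_eq_true'] at hcert
  obtain ⟨⟨⟨⟨⟨⟨hxm, hxp⟩, hxn⟩, ⟨⟨hym, hyp⟩, hyn⟩, ⟨⟨hzm, hzp⟩, hzn⟩⟩, hprod⟩, hslp⟩, hs, hg⟩ := hcert
  have mk : ∀ {t n : ℕ}, n.Prime → inStab [] (0 ||| 2 ^ 23) t = true →
      tblEq (tblPow t n) idTbl = true → tblEq t idTbl = false →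
      ∃ x : Spor.M23, (x : Equiv.Perm GolayPt) = mkPerm t ∧ validT t = true ∧ orderOf x = n := by
    intro t n hn hm hpw hne
    have hmem : mkPerm t ∈ Spor.M23 := by rw [spor_M23_eq]; exact mem_stabGrp_of_inStab hm
    have hv : validT t = true := by
      simp only [inStab, Bool.and_eq_true] at hm
      exact validT_of_inM24 hm.1.1
    haveI := Fact.mk hn
    refine ⟨⟨_, hmem⟩, rfl, hv, orderOf_eq_prime (Subtype.ext ?_) fun e => ?_⟩
    · rw [SubgroupClass.coe_pow, Subgroup.coe_one, ← (tblPow_spec hv n).2, ← idTbl_spec.2]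
      exact mkPerm_eq_of_tblEq (tblPow_spec hv n).1 idTbl_spec.1 hpw
    · have e' : mkPerm t = 1 := congrArg Subtype.val e
      rw [← idTbl_spec.2, ← tblEq_iff hv idTbl_spec.1, hne] at e'
      exact Bool.false_ne_true e'
  obtain ⟨x, ex, hxv, ox⟩ := mk hp hxm hxp hxn
  obtain ⟨y, ey, hyv, oy⟩ := mk hq hym hyp hyn
  obtain ⟨z, ez, hzv, oz⟩ := mk hr hzm hzp hzn
  refine ⟨x, y, z, ox, oy, oz, Subtype.ext ?_, ?_⟩
  · have h1 := tblMul_spec hxv hyv
    have h2 := tblMul_spec h1.1 hzv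
    rw [Subgroup.coe_mul, Subgroup.coe_mul, ex, ey, ez, ← h1.2, ← h2.2, Subgroup.coe_one,
      ← idTbl_spec.2]
    exact mkPerm_eq_of_tblEq h2.1 idTbl_spec.1 hprod
  · set H := (Subgroup.closure {x, y}).map Spor.M23.subtype with hH
    have hk : ∀ A ∈ [tx, ty, idTbl], validT A = true ∧ mkPerm A ∈ H := by
      intro A hA
      simp only [List.mem_cons, List.not_mem_nil, or_false] at hA
      rcases hA with rfl | rfl | rfl
      · exact ⟨hxv, x, Subgroup.subset_closure (by simp), ex⟩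
      · exact ⟨hyv, y, Subgroup.subset_closure (by simp), ey⟩
      · exact ⟨idTbl_spec.1, by rw [idTbl_spec.2]; exact one_mem _⟩
    have hk' : ∀ A ∈ [m23Cyc, m23Aux, idTbl], validT A = true ∧ mkPerm A ∈ H := by
      intro A hA
      simp only [List.mem_cons, List.not_mem_nil, or_false] at hA
      rcases hA with rfl | rfl | rfl
      · exact checkSLP_mem _ _ hslp hk _ (List.contains_iff_mem.1 hs)
      · exact checkSLP_mem _ _ hslp hk _ (List.contains_iff_mem.1 hg)
      · exact hk _ (by simp)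
    have hle : H ≤ stabGrp [] (0 ||| 2 ^ 23) := by
      rw [← spor_M23_eq, hH]
      exact Subgroup.map_subtype_le _
    have hb := base_cert
    simp only [Bool.and_eq_true, List.all_eq_true, List.contains_iff_mem] at hb
    have htop : H = stabGrp [] (0 ||| 2 ^ 23) :=
      eq_stabGrp_of_mem m24_levels.2.1 hle fun l hl t ht =>
        (checkSLP_mem _ _ hb.1 hk' t (hb.2 l hl t ht)).2
    rw [← spor_M23_eq, hH] at htop
    refine Subgroup.map_injective Spor.M23.subtype_injective (htop.trans ?_)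
    rw [← MonoidHom.range_eq_map, Subgroup.range_subtype]

lemma m23Cyc_checks :
    (inStab [] (0 ||| 2 ^ 23) m23Cyc &&
      (List.range 23).all fun i => (List.range 23).any fun k => app (tblPow m23Cyc k) 0 == i)
      = true := by
  decide +kernel

lemma m23_transitive {a : GolayPt} (ha : a ≠ none) : ∃ g ∈ Spor.M23, g (pt 0) = a := by
  have h := m23Cyc_checks
  simp only [Bool.and_eq_true, List.all_eq_true, List.any_eq_true, List.mem_range,
    beq_iff_eq] at h
  have hi : idx a < 23 := by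
    have h1 := idx_lt a
    rcases Nat.lt_or_ge (idx a) 23 with h2 | h2
    · exact h2
    · exact absurd (idx_injective (show idx a = idx none by
        rw [show idx (none : GolayPt) = 23 from rfl]; omega)) ha
  obtain ⟨k, -, hk⟩ := h.2 _ hi
  have hv : validT m23Cyc = true := by
    have h' := h.1
    simp only [inStab, Bool.and_eq_true] at h'
    exact validT_of_inM24 h'.1.1
  have hmem : mkPerm m23Cyc ∈ Spor.M23 := by
    rw [spor_M23_eq]
    exact mem_stabGrp_of_inStab h.1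
  refine ⟨mkPerm m23Cyc ^ k, Subgroup.pow_mem _ hmem _, ?_⟩
  rw [← (tblPow_spec hv k).2, mkPerm_pt (tblPow_spec hv k).1 (by norm_num), hk, pt_idx]

/-- The largest possible rank of `1 - x` for each order. -/
def rankCap : ℕ → ℕ
  | 2 => 8
  | 3 => 12
  | 5 => 16
  | 7 => 18
  | 11 => 20
  | _ => 22

lemma moveRank_le_cap {x : Spor.M23} {p : ℕ} (hp : p ∈ [2, 3, 5, 7, 11, 23]) (h : orderOf x = p) :
    moveRank (x : Equiv.Perm GolayPt) ≤ rankCap p := by
  have hpp : p.Prime := (show ∀ n ∈ [2, 3, 5, 7, 11, 23], Nat.Prime n by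
    intro n hn
    simp only [List.mem_cons, List.not_mem_nil, or_false] at hn
    rcases hn with rfl | rfl | rfl | rfl | rfl | rfl <;> norm_num) p hp
  haveI := Fact.mk hpp
  set σ := (x : Equiv.Perm GolayPt)
  have ho : orderOf σ = p := by rw [← h]; exact Subgroup.orderOf_coe x
  have hpow : σ ^ p = 1 := ho ▸ pow_orderOf_eq_one σ
  have hne : σ ≠ 1 := fun e => by rw [e, orderOf_one] at ho; exact hpp.ne_one ho.symm
  have hM : σ ∈ M24 := x.2.1
  have h0 : σ none = none := x.2.2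
  have hpos : 0 < (Finset.univ.filter fun a => σ a = a).card :=
    Finset.card_pos.2 ⟨none, by simp [h0]⟩
  have hmod := card_fix_mod hpow
  have hb := fun f hf => moveRank_bound (f := f) hpp ho hf
  rw [show Fintype.card GolayPt = 24 from rfl] at hb
  simp only [List.mem_cons, List.not_mem_nil, or_false] at hp
  rcases hp with rfl | rfl | rfl | rfl | rfl | rfl
  · have h2 := hb 8 (by rcases fixed_eight_order_two hM hpow hne with e | e <;> omega)
    simp only [rankCap]; omega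
  · have h2 := hb 6 (by rcases fixed_six_order_three hM hpow hne with e | e <;> omega)
    simp only [rankCap]; omega
  · have h2 := hb 4 (by unfold Nat.ModEq at hmod; omega)
    simp only [rankCap]; omega
  · have h2 := hb 3 (by unfold Nat.ModEq at hmod; omega)
    simp only [rankCap]; omega
  · have h2 := hb 2 (by unfold Nat.ModEq at hmod; omega)
    simp only [rankCap]; omega
  · have h2 := hb 1 (by omega)
    simp only [rankCap]; omega

lemma bad_types_small :
    ∀ p ∈ [2, 3, 5, 7, 11, 23], ∀ q ∈ [2, 3, 5, 7, 11, 23], ∀ r ∈ [2, 3, 5, 7, 11, 23],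
      (p = 2 ∧ q = 3) ∨ (p = 2 ∧ q = 5 ∧ r = 5) ∨ (p = 2 ∧ q = 5 ∧ r = 7) ∨
        (p = 3 ∧ q = 3 ∧ r ≤ 7) → rankCap p + rankCap q + rankCap r < 44 := by
  decide

/-- A generating pair moves enough. -/
theorem rankCap_of_generating {x y z : Spor.M23} {p q r : ℕ} (hp : p ∈ [2, 3, 5, 7, 11, 23])
    (hq : q ∈ [2, 3, 5, 7, 11, 23]) (hr : r ∈ [2, 3, 5, 7, 11, 23]) (ox : orderOf x = p)
    (oy : orderOf y = q) (oz : orderOf z = r) (hxyz : x * y * z = 1)
    (htop : Subgroup.closure {x, y} = ⊤) : 44 ≤ rankCap p + rankCap q + rankCap r := by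
  have htr : ∀ a : GolayPt, a ≠ none →
      ∃ g ∈ Subgroup.closure {(x : Equiv.Perm GolayPt), (y : Equiv.Perm GolayPt)}, g (pt 0) = a := by
    intro a ha
    obtain ⟨g, hg, hga⟩ := m23_transitive ha
    refine ⟨g, ?_, hga⟩
    have hh : (⟨g, hg⟩ : Spor.M23) ∈ Subgroup.closure {x, y} := by rw [htop]; trivial
    have h2 := Subgroup.mem_map_of_mem Spor.M23.subtype hh
    rwa [MonoidHom.map_closure, Set.image_pair] at h2
  have hb := scott_bound (x : Equiv.Perm GolayPt) (y : Equiv.Perm GolayPt) none (pt 0) htr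
  have oxy : orderOf (x * y) = r := by
    rw [eq_inv_of_mul_eq_one_left hxyz, orderOf_inv, oz]
  have h1 := moveRank_le_cap hp ox
  have h2 := moveRank_le_cap hq oy
  have h3 := moveRank_le_cap hr oxy
  rw [show Fintype.card GolayPt = 24 from rfl, ← Subgroup.coe_mul] at hb
  omega

end Cfsg.Agent.H95
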