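import Cfsg.Agent.H95.USixTwoDefs

/-!
Kernel checks of the planes and of the matrices.
-/

set_option autoImplicit false
set_option Elab.async false
set_option maxRecDepth 100000

namespace Cfsg.Agent.H95.USixTwo

open Cfsg.Agent.Compute

theorem ops_ok : ∀ a b : Fin 4, fOps.add a b < 4 ∧ fOps.mul a b < 4 ∧
    dK (fOps.add a b) = dK a + dK b ∧ dK (fOps.mul a b) = dK a * dK b ∧ (dK a = dK b → a = b) := by
  decide +kernel

theorem bound_ok : PSUCoded.boundOK fOps fam 6 3 891 = true := by decide +kernel

theorem unit_ok : allN 891 (fun i => allN 3 (fun s => allN 3 (fun t =>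
    Nat.beq (fam.base i s (fam.piv i t)) (cond (Nat.beq s t) 1 0)))) = true := by
  decide +kernel

theorem root_ok : allN 891 (fun j => Nat.beq 1 j ||
    !allN 3 (fun s => PSUCoded.inSpC fOps fam 6 3 j (fun c => fam.base 1 s c))) = true := by
  decide +kernel

theorem form_ok : ∀ g : Fin 2, (mat6 g).transpose * (mat6 g).map (· ^ 2) = 1 := by
  decide +kernel

theorem det_ok : ∀ g : Fin 2, (mat6 g).det = 1 := by
  decide +kernel

theorem maps_ok : allN 2 (fun g => PSUCoded.mapsOK fOps fam 6 3 891 (matC g)
    (fun i => getP 10 (pCode g) i)) = true := by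
  decide +kernel

end Cfsg.Agent.H95.USixTwo
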