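import Cfsg.Agent.H95.USixTwoPerms
import Cfsg.Agent.H95.PSUCoded
import Mathlib.Algebra.QuadraticAlgebra.Basic

/-!
The field with four elements and the coded planes.
-/

set_option autoImplicit false

namespace Cfsg.Agent.H95.USixTwo

open Cfsg.Agent.Compute

/-- The field with four elements. -/
abbrev K4 : Type := QuadraticAlgebra (ZMod 2) 1 1

/-- Decode a field element. -/
def dK (v : ℕ) : K4 := ⟨(v : ZMod 2), ((v / 2 : ℕ) : ZMod 2)⟩

/-- Coded operations. -/
noncomputable def fOps : PSUCoded.Ops where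
  size := 4
  add a b := getP 2 0x1b4eb1e4 (Nat.add (Nat.mul 4 a) b)
  mul a b := getP 2 0x9c78e400 (Nat.add (Nat.mul 4 a) b)

/-- The coded planes. -/
noncomputable def fam : PSUCoded.Fam where
  base i s z := getP 2 u62Base (Nat.add (Nat.mul (Nat.add (Nat.mul i 3) s) 6) z)
  piv i s := getP 3 u62Piv (Nat.add (Nat.mul i 3) s)

/-- The planes. -/
noncomputable def planes : PSUModel.Family K4 6 3 891 := PSUCoded.family dK fam 6 3 891

/-- The coded matrices. -/
noncomputable def matC (g r c : ℕ) : ℕ := nth 0 (nth [] u62Mats g) (Nat.add (Nat.mul 6 r) c)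

/-- The matrices. -/
noncomputable def mat6 (g : ℕ) : Matrix (Fin 6) (Fin 6) K4 :=
  Matrix.of fun r c => dK (matC g r.1 c.1)

/-- The permutation codes. -/
noncomputable def pCode (g : ℕ) : ℕ := (nth ((0, 0), 0, 0) u62Slp g).1.1

end Cfsg.Agent.H95.USixTwo
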