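import Cfsg.Agent.H95.UThreeFiveCheck
import Cfsg.Agent.H95.UThreeFiveCert
import Cfsg.Agent.H95.LeechPermIso
import Cfsg.Agent.H92.CoThreeFrames
import Cfsg.Agent.Golay.HigmanSims
import Cfsg.Agent.Unitary.Order

/-!
The stabiliser in HS of one of the 352 vectors is U3(5).
-/

set_option autoImplicit false

namespace Cfsg.Agent.H95.UThreeFive

open Cfsg Cfsg.Agent.Compute Cfsg.Agent.H92.LeechOrbit
open scoped Pointwise

attribute [local irreducible] checkChain PermIso.slpOK chk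

theorem two_pow_seven : (126 : ℕ) ≤ 2 ^ 7 := by norm_num

/-- The permutation group on 126 points. -/
noncomputable def chainGrp : Subgroup (Equiv.Perm (Fin 126)) :=
  (permSound 7 126 two_pow_seven).grp u35Chain

theorem card_chainGrp : Nat.card chainGrp = 126000 := by
  rw [chainGrp, (checkChain_sound _ chain_ok).card, order_eq]

theorem pCode_spec {g : ℕ} (hg : g < 3) (i : Fin 126) :
    (permDen 7 126 (pCode g) i : ℕ) = getP 7 (pCode g) i := by
  have h := (allN_iff _ _).1 gen_perm_ok g hg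
  obtain ⟨o, -, -⟩ := (permSound 7 126 two_pow_seven).okInv_sound h
  exact permDen_apply o i

theorem sound_ops : fOps.Sound dK := by
  refine ⟨by norm_num [fOps], rfl, ?_, ?_, ?_, ?_, ?_⟩ <;> intro a ha b hb
  · exact (ops_ok ⟨a, ha⟩ ⟨b, hb⟩).1
  · exact (ops_ok ⟨a, ha⟩ ⟨b, hb⟩).2.1
  · exact (ops_ok ⟨a, ha⟩ ⟨b, hb⟩).2.2.1
  · exact (ops_ok ⟨a, ha⟩ ⟨b, hb⟩).2.2.2.1
  · intro h
    exact congrArg Fin.val ((ops_ok ⟨a, ha⟩ ⟨b, hb⟩).2.2.2.2 h)

theorem points_ok : points.OK := PSUCoded.family_ok sound_ops bound_ok dist_ok unit_ok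

theorem dK_surj (x : K25) : ∃ a : Fin 25, dK a = x := by
  have h1 : x.re.val < 5 := ZMod.val_lt _
  have h2 : x.im.val < 5 := ZMod.val_lt _
  refine ⟨⟨x.re.val + 5 * x.im.val, by omega⟩, ?_⟩
  have h5 : (5 : ZMod 5) = 0 := rfl
  refine QuadraticAlgebra.ext ?_ ?_
  · show ((x.re.val + 5 * x.im.val : ℕ) : ZMod 5) = x.re
    rw [Nat.cast_add, Nat.cast_mul, Nat.cast_ofNat, h5, zero_mul, add_zero, ZMod.natCast_zmod_val]
  · show (((x.re.val + 5 * x.im.val) / 5 : ℕ) : ZMod 5) = x.im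
    rw [show (x.re.val + 5 * x.im.val) / 5 = x.im.val by omega, ZMod.natCast_zmod_val]

section
variable {F : Type} [Field F] [Fintype F]

theorem exists_hom (hF : Fintype.card F = 25) : ∃ φ : K25 →+* F, Function.Injective φ := by
  classical
  have h5 : (5 : F) = 0 := by
    have h := FiniteField.cast_card_eq_zero F
    rw [hF, show (25 : ℕ) = 5 * 5 from rfl, Nat.cast_mul, mul_self_eq_zero] at h
    exact_mod_cast h
  have hp : Nat.Prime 5 := by norm_num
  haveI : CharP F 5 := (CharP.charP_iff_prime_eq_zero hp).2 (by exact_mod_cast h5)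
  letI : Algebra (ZMod 5) F := ZMod.algebra F 5
  obtain ⟨u, hu⟩ : ∃ u : F, u * u = 2 := by
    have hsq : IsSquare (2 : F) := by
      rw [FiniteField.isSquare_iff (by rw [ringChar.eq F 5]; norm_num)
        (by intro h; apply (one_ne_zero (α := F)); linear_combination h5 - 2 * h)]
      rw [hF, show (25 : ℕ) / 2 = 12 from rfl]
      linear_combination (819 : F) * h5
    obtain ⟨u, hu⟩ := hsq
    exact ⟨u, hu.symm⟩
  let φ : K25 →ₐ[ZMod 5] F := QuadraticAlgebra.lift ⟨u, by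
    rw [zero_smul, add_zero, hu, Algebra.smul_def, mul_one]
    exact (map_ofNat (algebraMap (ZMod 5) F) 2).symm⟩
  refine ⟨φ.toRingHom, (injective_iff_map_eq_zero φ).2 fun x hx => ?_⟩
  obtain ⟨a, rfl⟩ := dK_surj x
  by_contra hne
  have ha : a.1 ≠ 0 := fun e => hne (by rw [e]; exact sound_ops.zero)
  obtain ⟨b, hb⟩ := unit_elts a ha
  have h1 : dK a * dK b = 1 := by
    rw [← sound_ops.mul_eq a a.2 b b.2, hb]
    rfl
  have := congrArg φ h1
  rw [map_mul, hx, zero_mul, map_one] at this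
  exact zero_ne_one this

theorem card_psu_three (hF : Fintype.card F = 25) : Nat.card (Cfsg.PSU 3 F 5) = 126000 := by
  have hF' : Fintype.card F = 5 ^ 2 := hF
  have h1 := Unitary.card_PSU (n := 3) hF' (by norm_num)
  have h2 := Unitary.card_GU_eq_mul_card_SU (n := 3) hF' (by norm_num)
  rw [Unitary.card_GU hF'] at h2
  norm_num [Finset.prod_range_succ, Unitary.guFactor] at h1 h2
  omega

theorem psu_chain (hF : Fintype.card F = 25) : Nonempty (Cfsg.PSU 3 F 5 ≃* chainGrp) := by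
  obtain ⟨φ, hφ⟩ := exists_hom hF
  refine PSUModel.psu_iso (q := 5) hF (by norm_num) φ hφ points points_ok chainGrp
    (PermIso.grp_le two_pow_seven slp_ok) ?_ (by rw [card_psu_three hF, card_chainGrp])
  rintro σ ⟨g, hg, rfl⟩
  obtain ⟨hform, hdet⟩ := form_ok ⟨g, hg⟩
  exact ⟨mat3 g, hform, hdet, fun i s =>
    PSUCoded.maps_of_check sound_ops bound_ok ((allN_iff _ _).1 maps_ok g hg)
      (pCode_spec hg) i s⟩

end

theorem point_N : hsPointCert.N = 252 ∧ hsPointCert.gens.length = 3 := ⟨rfl, rfl⟩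

/-- The pair of a vector. -/
noncomputable def blockOf (i : Fin hsPointCert.N) : Fin 126 :=
  ⟨getP 7 u35Block i,
    Nat.le_of_ble_eq_true ((allN_iff _ _).1 block_ok i (lt_of_lt_of_eq i.2 point_N.1))⟩

theorem fixer_chain (hcard : Nat.card (fixer hsPointCert) = 126000) :
    Nonempty (fixer hsPointCert ≃* chainGrp) := by
  refine LeechPermIso.fixer_iso_blocks pointCert_ok blockOf (fun y => ?_) chainGrp
    (PermIso.grp_le two_pow_seven slp_ok) ?_ (le_of_eq (hcard.trans card_chainGrp.symm))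
  · obtain ⟨i, hi⟩ := block_surj y
    exact ⟨⟨i, lt_of_lt_of_eq i.2 point_N.1.symm⟩, Fin.ext hi⟩
  rintro σ ⟨g, hg, rfl⟩
  refine ⟨nth [] hsPointCert.gens g, nth_mem _ _ _ (point_N.2 ▸ hg), ?_⟩
  have h : ∀ i < 252, getP 8 (nth 0 u35Big g) i < 252 ∧
      chk (nth [] hsPointCert.gens g) (hsPointCert.code i)
        (hsPointCert.code (getP 8 (nth 0 u35Big g) i)) = true ∧
      getP 7 u35Block (getP 8 (nth 0 u35Big g) i) = getP 7 (pCode g) (getP 7 u35Block i) := by
    intro i hi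
    have h := (allN_iff _ _).1 ((allN_iff _ _).1 chk_ok g hg) i hi
    simp only [Bool.and_eq_true, Nat.beq_eq] at h
    exact ⟨Nat.le_of_ble_eq_true h.1.1, h.1.2, h.2⟩
  let f : Fin hsPointCert.N → Fin hsPointCert.N := fun i =>
    ⟨getP 8 (nth 0 u35Big g) i, lt_of_lt_of_eq (h i (lt_of_lt_of_eq i.2 point_N.1)).1 point_N.1.symm⟩
  have hfi : Function.Injective f := by
    intro a b e
    have hn := (distinct_sound _ _ ((allN_iff _ _).1 big_inj g hg)).1
    refine Fin.ext ((List.inj_on_of_nodup_map hn) (List.mem_range.2 (lt_of_lt_of_eq a.2 point_N.1))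
      (List.mem_range.2 (lt_of_lt_of_eq b.2 point_N.1)) ?_)
    exact congrArg Fin.val e
  refine ⟨Equiv.ofBijective f (Finite.injective_iff_bijective.1 hfi),
    fun i => (h i (lt_of_lt_of_eq i.2 point_N.1)).2.1, fun i => Fin.ext ?_⟩
  exact (h i (lt_of_lt_of_eq i.2 point_N.1)).2.2.trans (pCode_spec hg (blockOf i)).symm

theorem statement (v w : ↥Cfsg.leechLattice) (hv : Cfsg.sqNorm (v : Cfsg.GolayPt → ℤ) = 48)
    (hw : Cfsg.sqNorm (w : Cfsg.GolayPt → ℤ) = 48)
    (hvw : Cfsg.dotInt (v : Cfsg.GolayPt → ℤ) (w : Cfsg.GolayPt → ℤ) = -32)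
    (F : Type) [Field F] [Fintype F] (hF : Fintype.card F = 25) :
    (atSet [(v, 16), (w, -24)]).ncard = 352 ∧
    (∀ x ∈ atSet [(v, 16), (w, -24)], -w - x ∈ atSet [(v, 16), (w, -24)]) ∧
    (∀ x ∈ atSet [(v, 16), (w, -24)], ∀ x' ∈ atSet [(v, 16), (w, -24)],
      ∃ g : ↥Cfsg.Co0, g • v = v ∧ g • w = w ∧ g • x = x') ∧
    ∀ x ∈ atSet [(v, 16), (w, -24)],
      Nonempty (↥(MulAction.stabilizer ↥Cfsg.Co0 v ⊓ MulAction.stabilizer ↥Cfsg.Co0 w ⊓
        MulAction.stabilizer ↥Cfsg.Co0 x) ≃* Cfsg.PSU 3 F 5) := by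
  have := Golay.finite_co0
  obtain ⟨k, hv', hw'⟩ := exists_move_pair v w hv hw hvw
  have hFr : Frame hsPairCert [(v, 16), (w, -24)] k := by
    show [((k • v : Cfsg.leechLattice).1, (16 : ℤ)), ((k • w : Cfsg.leechLattice).1, (-24 : ℤ))] = _
    rw [hv', hw']
    rfl
  refine ⟨by rw [hFr.ncard pairCert_ok pairCert_cover]; rfl, fun x hx => ?_, fun x hx x' hx' => ?_,
    fun x hx => ?_⟩
  · obtain ⟨h1, h2⟩ := hx
    have a : Cfsg.dotInt v.1 x.1 = 16 := h2 (v, 16) (by simp)
    have b : Cfsg.dotInt w.1 x.1 = -24 := h2 (w, -24) (by simp)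
    have hc : ∀ z : Cfsg.leechLattice,
        Cfsg.dotInt z.1 (-w - x : Cfsg.leechLattice).1 =
          -Cfsg.dotInt z.1 w.1 - Cfsg.dotInt z.1 x.1 := fun z => by
      show Cfsg.dotInt z.1 (-(w.1) - x.1) = _
      simp [Cfsg.dotInt, mul_sub, Finset.sum_sub_distrib]
    refine ⟨?_, ?_⟩
    · have e : Cfsg.sqNorm (-w - x : Cfsg.leechLattice).1 =
          Cfsg.sqNorm w.1 + Cfsg.sqNorm x.1 + 2 * Cfsg.dotInt w.1 x.1 := by
        show Cfsg.sqNorm (-(w.1) - x.1) = _
        simp only [Cfsg.sqNorm, Cfsg.dotInt, Finset.mul_sum, ← Finset.sum_add_distrib]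
        exact Finset.sum_congr rfl fun i _ => by simp only [Pi.sub_apply, Pi.neg_apply]; ring
      rw [e, hw, h1, b]; norm_num
    · intro p hp
      simp only [List.mem_cons, List.not_mem_nil, or_false] at hp
      rcases hp with rfl | rfl
      · rw [hc, hvw, a]; norm_num
      · rw [hc, b, dotInt_self, hw]; norm_num
  · obtain ⟨g, hg, he⟩ := hFr.transitive pairCert_ok pairCert_cover hx hx'
    exact ⟨g, hg (v, 16) (by simp), hg (w, -24) (by simp), he⟩
  · have hroot : Nat.beq (hsPairCert.code hsPairCert.root) 47536896881368741091456030619 = true := by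
      decide +kernel
    obtain ⟨k', hN⟩ := hFr.extend pairCert_ok pairCert_cover
      (C' := { hsPairCert with
        refs := hsPairCert.refs ++ [(47536896881368741091456030619, 0)] }) (d := 0) hroot rfl hx
    have hN' : Frame hsPointCert [(v, 24), (w, -16), (x, 8)] k' := by
      have e : [((k' • v : Cfsg.leechLattice).1, (16 : ℤ)),
          ((k' • w : Cfsg.leechLattice).1, (-24 : ℤ)), ((k' • x : Cfsg.leechLattice).1, (0 : ℤ))] =
          [(dec 67343938137124686954512357785, (16 : ℤ)),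
            (dec 36973142506656690876987176819, (-24 : ℤ)),
            (dec 47536896881368741091456030619, (0 : ℤ))] := hN
      simp only [List.cons.injEq, Prod.mk.injEq, and_true] at e
      show [((k' • v : Cfsg.leechLattice).1, (24 : ℤ)),
        ((k' • w : Cfsg.leechLattice).1, (-16 : ℤ)), ((k' • x : Cfsg.leechLattice).1, (8 : ℤ))] = _
      rw [e.1, e.2.1, e.2.2]
      rfl
    set H2 := MulAction.stabilizer Cfsg.Co0 v ⊓ MulAction.stabilizer Cfsg.Co0 w
    have hH2 : ∀ g : Cfsg.Co0, g ∈ H2 ↔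
        ∀ p ∈ ([(v, 16), (w, -24)] : List (leechLattice × ℤ)), g • p.1 = p.1 := fun g => by
      simp [H2, Subgroup.mem_inf, MulAction.mem_stabilizer_iff]
    have hH3 : ∀ g : Cfsg.Co0, g ∈ H2 ⊓ MulAction.stabilizer Cfsg.Co0 x ↔
        ∀ p ∈ ([(v, 24), (w, -16), (x, 8)] : List (leechLattice × ℤ)), g • p.1 = p.1 := fun g => by
      simp [H2, Subgroup.mem_inf, MulAction.mem_stabilizer_iff, and_assoc]
    have hc2 : Nat.card H2 = 44352000 := (Golay.isHS_stabilizer hv hw hvw).2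
    have horb : (MulAction.orbit H2 x).ncard = 352 := by
      rw [hFr.orbit pairCert_ok pairCert_cover hH2 hx, hFr.ncard pairCert_ok pairCert_cover]
      rfl
    have hc3 : Nat.card (H2 ⊓ MulAction.stabilizer Cfsg.Co0 x : Subgroup Cfsg.Co0) = 126000 := by
      have h := Golay.card_eq_orbit_mul H2 x
      rw [hc2, horb] at h
      omega
    obtain ⟨e1⟩ := LeechPermIso.stab_equiv hN' hH3
    obtain ⟨e2⟩ := fixer_chain (by rw [← Nat.card_congr e1.toEquiv, hc3])
    obtain ⟨e3⟩ := psu_chain hF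
    exact ⟨(e1.trans e2).trans e3.symm⟩

end Cfsg.Agent.H95.UThreeFive
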