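import Cfsg.Agent.H95.UThreeFiveData
import Cfsg.Agent.H95.UThreeFivePerms
import Cfsg.Agent.H95.PSUCoded
import Mathlib.Algebra.QuadraticAlgebra.Basic

/-!
Kernel checks: U3(5) on 126 isotropic points and the stabiliser in Co0 on 126 pairs of vectors
induce the same permutations.
-/

set_option autoImplicit false
set_option Elab.async false
set_option maxRecDepth 100000

namespace Cfsg.Agent.H95.UThreeFive

open Cfsg.Agent.Compute Cfsg.Agent.H92.LeechOrbit

/-- The field with 25 elements. -/
abbrev K25 : Type := QuadraticAlgebra (ZMod 5) 2 0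

/-- Decode a field element. -/
def dK (v : ℕ) : K25 := ⟨(v : ZMod 5), ((v / 5 : ℕ) : ZMod 5)⟩

/-- Coded operations. -/
noncomputable def fOps : PSUCoded.Ops where
  size := 25
  add a b := getP 5 0x128c1f36b16a720e62a46208097b56988c1f39316a734e62a50208083b5698bc1f39456a735862a5070808315698bd9f39460a7358b2a5073008310698bdab39460f7358b525073148310418bdab46b16a720e62a46208097b56989460f9b16a734e62a50208083b5698bc60f9c96a735862a5070808315698bda0f9ca2a7358b2a5073008310698bdaaf9ca307358b525073148310418bdab49ca307a0e62a46208097b56989460f9b58b538e62a50208083b5698bc60f9c98b539a62a5070808315698bda0f9ca2b539ac2a5073008310698bdaaf9ca30539ac5a5073148310418bdab49ca307b9ac5a86208097b56989460f9b58b539073152208083b5698bc60f9c98b539a7315280808315698bda0f9ca2b539ac315283808310698bdaaf9ca30539ac595283988310418bdab49ca307b9ac5a928398b7b56989460f9b58b539073152310404b5698bc60f9c98b539a731528104041d698bda0f9ca2b539ac315283840418a98bdaaf9ca30539ac595283980418838bdab49ca307b9ac5a928398a418820 (Nat.add (Nat.mul 25 a) b)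
  mul a b := getP 5 0xd9d0277d44875869540855c6e664b009d4656050a8e1afb10d4125723ba17050667458fb85243aa55860456a173b002574ad7119537e0675b2142212d8d407646c24ba7821970a850d95c6553e80785974e0b01346ea1a27911555d9130550f138b122ef30b6871aac9833069004ab9a70232882c82eb60ef1adb54c4088855812e89954b31b1e46d8ceb9e0076133236e890d963c44ba9a01550af059a4798732d589a2c5250628c40f77006f3e16e0c8b6a309041aea14e29ab409b2870a34333ac912dc4f455d23618051247a9a8e1c4502e1b7605e99a2cb040d558627b305245da39a70e23cb450094831071e1eb518579c9c50dab16a4051620d928e4a86ef625c61d2369ad005a454912cf69a2a407051d66cbc1c70456525d491da08155ee0d26d3e24c302f26a07582cc1c4dc925a2c38a8f514063a1255b1ae542329beb6be28110c806396d55b15bd0e9320b19c24f1102304a138bd0649cb7ae2d46adcc50c2410317b56939460f7358b525073148310400000000000000000000000000000000 (Nat.add (Nat.mul 25 a) b)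

/-- The coded points. -/
noncomputable def fam : PSUCoded.Fam where
  base i s z := getP 5 u35Base (Nat.add (Nat.mul (Nat.add i s) 3) z)
  piv i s := getP 2 u35Piv (Nat.add i s)

/-- The isotropic points. -/
noncomputable def points : PSUModel.Family K25 3 1 126 := PSUCoded.family dK fam 3 1 126

/-- The matrices. -/
noncomputable def mat3 (g : ℕ) : Matrix (Fin 3) (Fin 3) K25 :=
  Matrix.of fun r c => dK (nth 0 (nth [] u35Mats g) (Nat.add (Nat.mul 3 r.1) c.1))

/-- The permutation codes. -/
noncomputable def pCode (g : ℕ) : ℕ := (nth ((0, 0), 0, 0) u35Slp g).1.1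

theorem chain_ok : checkChain (permOps 7 126) u35Chain = true := by decide +kernel

theorem order_eq : order u35Chain = 126000 := by decide +kernel

theorem slp_ok : PermIso.slpOK 7 126 3 (nextGens u35Chain) u35Slp = true := by decide +kernel

theorem gen_perm_ok : allN 3 (fun g => invPerm 7 126 (pCode g)
    (nth ((0, 0), 0, 0) u35Slp g).1.2) = true := by decide +kernel

theorem ops_ok : ∀ a b : Fin 25, fOps.add a b < 25 ∧ fOps.mul a b < 25 ∧
    dK (fOps.add a b) = dK a + dK b ∧ dK (fOps.mul a b) = dK a * dK b ∧ (dK a = dK b → a = b) := by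
  decide +kernel

theorem unit_elts : ∀ a : Fin 25, a.1 ≠ 0 → ∃ b : Fin 25, fOps.mul a b = 1 := by decide +kernel

theorem bound_ok : PSUCoded.boundOK fOps fam 3 1 126 = true := by decide +kernel

theorem dist_ok : PSUCoded.distOK fOps fam 3 1 126 = true := by decide +kernel

theorem unit_ok : ∀ (i : Fin 126) (s t : Fin 1),
    points.base i s (points.piv i t) = if s = t then 1 else 0 := by
  decide +kernel

theorem form_ok : ∀ g : Fin 3,
    (mat3 g).transpose * (mat3 g).map (· ^ 5) = 1 ∧ (mat3 g).det = 1 := by
  decide +kernel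

theorem maps_ok : allN 3 (fun g => PSUCoded.mapsOK fOps fam 3 1 126
    (fun r c => nth 0 (nth [] u35Mats g) (Nat.add (Nat.mul 3 r) c))
    (fun i => getP 7 (pCode g) i)) = true := by
  decide +kernel

theorem chk_ok : allN 3 (fun g => allN 252 (fun i =>
    Nat.ble (Nat.add (getP 8 (nth 0 u35Big g) i) 1) 252 &&
      chk (nth [] hsPointCert.gens g) (hsPointCert.code i)
        (hsPointCert.code (getP 8 (nth 0 u35Big g) i)) &&
      Nat.beq (getP 7 u35Block (getP 8 (nth 0 u35Big g) i))
        (getP 7 (pCode g) (getP 7 u35Block i)))) = true := by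
  decide +kernel

theorem big_inj : allN 3 (fun g => distinct ((List.range 252).map fun i => getP 8 (nth 0 u35Big g) i) 0)
    = true := by
  decide +kernel

theorem block_ok : allN 252 (fun i => Nat.ble (Nat.add (getP 7 u35Block i) 1) 126) = true := by
  decide +kernel

theorem block_surj : ∀ y : Fin 126, ∃ i : Fin 252, getP 7 u35Block i = y := by decide +kernel

end Cfsg.Agent.H95.UThreeFive
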